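import Cfsg.Agent.H48.Co0

/-! Explicit vectors and matrices: a kernel-checkable way to write down elements of `Co0`. -/

set_option autoImplicit false

namespace Cfsg.Agent.H48

open Cfsg Finset
open scoped Pointwise symmDiff

/-- The index of a point: residues are numbered `0, …, 22` and the extra point is `23`. -/
def ix : GolayPt → ℕ
  | none => 23
  | some t => t.val

/-- The point with a given index. -/
def pt (k : ℕ) : GolayPt := if k < 23 then some (k : ZMod 23) else none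

theorem pt_ix (i : GolayPt) : pt (ix i) = i := by revert i; decide

theorem ix_lt (i : GolayPt) : ix i < 24 := by revert i; decide

theorem ix_pt (k : ℕ) (hk : k < 24) : ix (pt k) = k := by
  revert k; decide

theorem ix_injective : Function.Injective ix := Function.LeftInverse.injective pt_ix

theorem sum_ix {M : Type*} [AddCommMonoid M] (f : ℕ → M) :
    ∑ i : GolayPt, f (ix i) = ∑ k ∈ range 24, f k := by
  apply Finset.sum_bij (fun i _ => ix i)
  · intro i _; exact Finset.mem_range.2 (ix_lt i)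
  · intro i _ j _ h; exact ix_injective h
  · intro k hk; exact ⟨pt k, Finset.mem_univ _, ix_pt k (Finset.mem_range.1 hk)⟩
  · intro i _; rfl

/-- The integer vector with a given list of coordinates. -/
def vec (l : List ℤ) : GolayPt → ℤ := fun i => l.getD (ix i) 0

/-- Dot product of two lists. -/
noncomputable def ldot (a : List ℤ) : List ℤ → ℤ :=
  List.rec (fun _ => 0) (fun x _ ih b => List.rec 0 (fun y ys _ => Int.add (Int.mul x y) (ih ys)) b) a

theorem ldot_nil (b : List ℤ) : ldot [] b = 0 := rfl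
theorem ldot_cons_nil (x : ℤ) (a : List ℤ) : ldot (x :: a) [] = 0 := rfl
theorem ldot_cons (x y : ℤ) (a b : List ℤ) : ldot (x :: a) (y :: b) = x * y + ldot a b := rfl

theorem sum_range_getD_mul (a : List ℤ) : ∀ (b : List ℤ) (n : ℕ), a.length ≤ n →
    ∑ k ∈ range n, a.getD k 0 * b.getD k 0 = ldot a b := by
  induction a with
  | nil => intro b n _; simp [ldot_nil]
  | cons x a ih =>
    intro b n hn
    cases b with
    | nil => simp [ldot_cons_nil]
    | cons y b =>
      obtain ⟨n, rfl⟩ : ∃ m, n = m + 1 := ⟨n - 1, by simp at hn; omega⟩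
      rw [Finset.sum_range_succ', ldot_cons, ← ih b n (by simpa using hn)]
      simp [add_comm]

theorem dot_vec (a b : List ℤ) (ha : a.length = 24) : dotInt (vec a) (vec b) = ldot a b := by
  rw [← sum_range_getD_mul a b 24 ha.le, ← sum_ix]; rfl

theorem sqNorm_vec (a : List ℤ) (ha : a.length = 24) : sqNorm (vec a) = ldot a a := by
  rw [sqNorm_eq_dot, dot_vec a a ha]

/-- `s • a + b` for lists of equal length. -/
noncomputable def laxpy (s : ℤ) (a : List ℤ) : List ℤ → List ℤ :=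
  List.rec (fun _ => []) (fun x _ ih b => List.rec [] (fun y ys _ => Int.add (Int.mul s x) y :: ih ys) b) a

theorem laxpy_spec (s : ℤ) (a : List ℤ) : ∀ (b : List ℤ), a.length = b.length →
    (laxpy s a b).length = a.length ∧ ∀ k, (laxpy s a b).getD k 0 = s * a.getD k 0 + b.getD k 0 := by
  induction a with
  | nil => intro b hb; cases b with
    | nil => exact ⟨rfl, fun k => by simp [laxpy]⟩
    | cons y b => simp at hb
  | cons x a ih =>
    intro b hb
    cases b with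
    | nil => simp at hb
    | cons y b =>
      obtain ⟨h1, h2⟩ := ih b (by simpa using hb)
      have e : laxpy s (x :: a) (y :: b) = (s * x + y) :: laxpy s a b := rfl
      rw [e]
      refine ⟨by simp [h1], fun k => ?_⟩
      cases k with
      | zero => simp
      | succ k => simpa using h2 k

/-- The zero list of length 24. -/
def lzero : List ℤ := [0, 0, 0, 0, 0, 0, 0, 0, 0, 0, 0, 0, 0, 0, 0, 0, 0, 0, 0, 0, 0, 0, 0, 0]

/-- The all-ones list of length 24. -/
def lones : List ℤ := [1, 1, 1, 1, 1, 1, 1, 1, 1, 1, 1, 1, 1, 1, 1, 1, 1, 1, 1, 1, 1, 1, 1, 1]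

/-- The linear combination of the rows `R` with coefficients `y`. -/
noncomputable def lcomb (y : List ℤ) : List (List ℤ) → List ℤ :=
  List.rec (fun _ => lzero) (fun s _ ih R => List.rec lzero (fun r rs _ =>
    Bool.rec (laxpy s r (ih rs)) (ih rs) (Int.decEq s 0).decide) R) y

theorem lcomb_spec (y : List ℤ) : ∀ (R : List (List ℤ)) (n : ℕ), y.length ≤ n →
    (∀ r ∈ R, r.length = 24) → (lcomb y R).length = 24 ∧
      ∀ j, (lcomb y R).getD j 0 = ∑ k ∈ range n, y.getD k 0 * (R.getD k []).getD j 0 := by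
  have hz : ∀ j, lzero.getD j 0 = 0 := by
    intro j
    have : lzero = List.replicate 24 0 := rfl
    rw [this, List.getD_eq_getElem?_getD, List.getElem?_replicate]
    split_ifs <;> rfl
  induction y with
  | nil => intro R n _ _; exact ⟨rfl, fun j => (hz j).trans (by simp)⟩
  | cons s y ih =>
    intro R n hn hR
    cases R with
    | nil => exact ⟨rfl, fun j => (hz j).trans (by simp)⟩
    | cons r R =>
      obtain ⟨n, rfl⟩ : ∃ m, n = m + 1 := ⟨n - 1, by simp at hn; omega⟩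
      obtain ⟨h1, h2⟩ := ih R n (by simpa using hn) (fun r hr => hR r (List.mem_cons_of_mem _ hr))
      have hr : r.length = 24 := hR r List.mem_cons_self
      have e : lcomb (s :: y) (r :: R) =
          Bool.rec (laxpy s r (lcomb y R)) (lcomb y R) (Int.decEq s 0).decide := rfl
      rw [e]
      by_cases hs : s = 0
      · have : (Int.decEq s 0).decide = true := by simpa using hs
        rw [this]
        refine ⟨h1, fun j => ?_⟩
        rw [Finset.sum_range_succ', h2 j]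
        simp [hs]
      · have : (Int.decEq s 0).decide = false := by simpa using hs
        rw [this]
        obtain ⟨h3, h4⟩ := laxpy_spec s r (lcomb y R) (hr.trans h1.symm)
        refine ⟨h3.trans hr, fun j => ?_⟩
        rw [Finset.sum_range_succ', h4 j, h2 j]
        simp [add_comm]

/-- The `i`-th row of a matrix given as a list of lists. -/
def row (R : List (List ℤ)) (i : GolayPt) : GolayPt → ℤ := vec (R.getD (ix i) [])

theorem vec_lcomb (y : List ℤ) (R : List (List ℤ)) (hy : y.length = 24)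
    (hR : ∀ r ∈ R, r.length = 24) (j : GolayPt) :
    vec (lcomb y R) j = ∑ i, vec y i * row R i j := by
  unfold vec
  rw [(lcomb_spec y R 24 hy.le hR).2, ← sum_ix]; rfl

/-- The characteristic vectors of the translates of the squares. -/
def qrTab : List (List ℤ) :=
  [[1, 1, 1, 1, 1, 0, 1, 0, 1, 1, 0, 0, 1, 1, 0, 0, 1, 0, 1, 0, 0, 0, 0, 0],
   [0, 1, 1, 1, 1, 1, 0, 1, 0, 1, 1, 0, 0, 1, 1, 0, 0, 1, 0, 1, 0, 0, 0, 0],
   [0, 0, 1, 1, 1, 1, 1, 0, 1, 0, 1, 1, 0, 0, 1, 1, 0, 0, 1, 0, 1, 0, 0, 0],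
   [0, 0, 0, 1, 1, 1, 1, 1, 0, 1, 0, 1, 1, 0, 0, 1, 1, 0, 0, 1, 0, 1, 0, 0],
   [0, 0, 0, 0, 1, 1, 1, 1, 1, 0, 1, 0, 1, 1, 0, 0, 1, 1, 0, 0, 1, 0, 1, 0],
   [1, 0, 0, 0, 0, 1, 1, 1, 1, 1, 0, 1, 0, 1, 1, 0, 0, 1, 1, 0, 0, 1, 0, 0],
   [0, 1, 0, 0, 0, 0, 1, 1, 1, 1, 1, 0, 1, 0, 1, 1, 0, 0, 1, 1, 0, 0, 1, 0],
   [1, 0, 1, 0, 0, 0, 0, 1, 1, 1, 1, 1, 0, 1, 0, 1, 1, 0, 0, 1, 1, 0, 0, 0],
   [0, 1, 0, 1, 0, 0, 0, 0, 1, 1, 1, 1, 1, 0, 1, 0, 1, 1, 0, 0, 1, 1, 0, 0],
   [0, 0, 1, 0, 1, 0, 0, 0, 0, 1, 1, 1, 1, 1, 0, 1, 0, 1, 1, 0, 0, 1, 1, 0],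
   [1, 0, 0, 1, 0, 1, 0, 0, 0, 0, 1, 1, 1, 1, 1, 0, 1, 0, 1, 1, 0, 0, 1, 0],
   [1, 1, 0, 0, 1, 0, 1, 0, 0, 0, 0, 1, 1, 1, 1, 1, 0, 1, 0, 1, 1, 0, 0, 0],
   [0, 1, 1, 0, 0, 1, 0, 1, 0, 0, 0, 0, 1, 1, 1, 1, 1, 0, 1, 0, 1, 1, 0, 0],
   [0, 0, 1, 1, 0, 0, 1, 0, 1, 0, 0, 0, 0, 1, 1, 1, 1, 1, 0, 1, 0, 1, 1, 0],
   [1, 0, 0, 1, 1, 0, 0, 1, 0, 1, 0, 0, 0, 0, 1, 1, 1, 1, 1, 0, 1, 0, 1, 0],
   [1, 1, 0, 0, 1, 1, 0, 0, 1, 0, 1, 0, 0, 0, 0, 1, 1, 1, 1, 1, 0, 1, 0, 0],
   [0, 1, 1, 0, 0, 1, 1, 0, 0, 1, 0, 1, 0, 0, 0, 0, 1, 1, 1, 1, 1, 0, 1, 0],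
   [1, 0, 1, 1, 0, 0, 1, 1, 0, 0, 1, 0, 1, 0, 0, 0, 0, 1, 1, 1, 1, 1, 0, 0],
   [0, 1, 0, 1, 1, 0, 0, 1, 1, 0, 0, 1, 0, 1, 0, 0, 0, 0, 1, 1, 1, 1, 1, 0],
   [1, 0, 1, 0, 1, 1, 0, 0, 1, 1, 0, 0, 1, 0, 1, 0, 0, 0, 0, 1, 1, 1, 1, 0],
   [1, 1, 0, 1, 0, 1, 1, 0, 0, 1, 1, 0, 0, 1, 0, 1, 0, 0, 0, 0, 1, 1, 1, 0],
   [1, 1, 1, 0, 1, 0, 1, 1, 0, 0, 1, 1, 0, 0, 1, 0, 1, 0, 0, 0, 0, 1, 1, 0],
   [1, 1, 1, 1, 0, 1, 0, 1, 1, 0, 0, 1, 1, 0, 0, 1, 0, 1, 0, 0, 0, 0, 1, 0]]

theorem qrTab_spec : ∀ t : ZMod 23, qrTab.getD t.val [] ∈ qrTab ∧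
    ∀ i, vec (qrTab.getD t.val []) i = if i ∈ qrSet t then 1 else 0 := by
  decide +kernel

/-- `List.all` written with the recursor. -/
noncomputable def lall {α : Type} (p : α → Bool) (l : List α) : Bool :=
  List.rec true (fun x _ ih => Bool.rec false ih (p x)) l

theorem lall_iff {α : Type} (p : α → Bool) (l : List α) : lall p l = true ↔ ∀ x ∈ l, p x = true := by
  induction l with
  | nil => simp [lall]
  | cons x l ih =>
    have e : lall p (x :: l) = Bool.rec false (lall p l) (p x) := rfl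
    rw [e]
    cases h : p x <;> simp [h, ih]

/-- Boolean divisibility test. -/
def dvdB (d a : ℤ) : Bool := (Int.decEq (Int.emod a d) 0).decide

theorem dvdB_iff (d a : ℤ) : dvdB d a = true ↔ d ∣ a := by
  unfold dvdB
  rw [Int.dvd_iff_emod_eq_zero]
  exact decide_eq_true_iff

/-- A sufficient (and necessary) test for membership in the lattice on generators of the dual. -/
theorem mem_of_gens (x : GolayPt → ℤ) (h1 : ∀ i, 2 ∣ x i - x none) (h2 : 8 ∣ ∑ i, x i - 4 * x none)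
    (h3 : ∀ t, 4 ∣ ∑ i ∈ qrSet t, x i) : x ∈ leechLattice := by
  have hA : IsWord (univ.filter fun i => x i ≡ x none + 2 [ZMOD 4]) := by
    apply isWord_of_even_qr
    · have h4 := four_dvd_sum_sub x _ h1 univ
      rw [Finset.univ_inter, Finset.card_univ, card_golayPt] at h4
      omega
    · intro t
      have h4 := four_dvd_sum_sub x _ h1 (qrSet t)
      obtain ⟨k, hk⟩ := (isWord_qrSet t).four_dvd_card
      have := h3 t
      rw [hk] at h4
      push_cast at h4
      have : x none * (4 * (k : ℤ)) = 4 * (x none * k) := by ring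
      omega
  rw [mem_leech_iff_lin]
  refine ⟨x none, h1, h2, fun c hc => ?_⟩
  have h4 := four_dvd_sum_sub x _ h1 c
  obtain ⟨k, hk⟩ := hc.four_dvd_card
  have := hc.even_inter hA
  rw [hk] at h4
  push_cast at h4
  have : x none * (4 * (k : ℤ)) = 4 * (x none * k) := by ring
  omega

/-- The list `(1, …, 1, -3)`. -/
def lv : List ℤ := [1, 1, 1, 1, 1, 1, 1, 1, 1, 1, 1, 1, 1, 1, 1, 1, 1, 1, 1, 1, 1, 1, 1, -3]

theorem dot_vec_lv (x : GolayPt → ℤ) : dotInt x (vec lv) = ∑ i, x i - 4 * x none := by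
  have e : vec lv = (fun _ => 1) + Pi.single none (-4) := by decide
  rw [e, dotInt_add_right, dotInt_single_right]
  simp only [dotInt, mul_one]; ring

theorem dot_vec_qr (x : GolayPt → ℤ) (t : ZMod 23) :
    dotInt x (vec (qrTab.getD t.val [])) = ∑ i ∈ qrSet t, x i := by
  simp only [dotInt, (qrTab_spec t).2, mul_ite, mul_one, mul_zero]
  rw [Finset.sum_ite_mem, Finset.univ_inter]

/-- Boolean membership test for the lattice. -/
noncomputable def memL (l : List ℤ) : Bool :=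
  Nat.beq l.length 24 && lall (fun a => dvdB 2 (Int.sub a (l.getD 23 0))) l && dvdB 8 (ldot l lv) &&
    lall (fun q => dvdB 4 (ldot l q)) qrTab

theorem getD_mem {α : Type} (l : List α) (d : α) (k : ℕ) (hk : k < l.length) : l.getD k d ∈ l := by
  rw [List.getD_eq_getElem _ _ hk]; exact List.getElem_mem hk

theorem memL_length {l : List ℤ} (h : memL l = true) : l.length = 24 := by
  simp only [memL, Bool.and_eq_true, Nat.beq_eq] at h
  exact h.1.1.1

theorem vec_mem {l : List ℤ} (h : memL l = true) : vec l ∈ leechLattice := by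
  simp only [memL, Bool.and_eq_true, Nat.beq_eq, lall_iff, dvdB_iff] at h
  obtain ⟨⟨⟨h0, h1⟩, h2⟩, h3⟩ := h
  apply mem_of_gens
  · intro i
    exact h1 _ (getD_mem l 0 _ (h0 ▸ ix_lt i))
  · rwa [← dot_vec_lv, dot_vec _ _ h0]
  · intro t
    rw [← dot_vec_qr, dot_vec _ _ h0]
    exact h3 _ (qrTab_spec t).1

/-- The lattice vector given by a list passing the membership test. -/
def lam (l : List ℤ) (h : memL l = true) : Lam := ⟨vec l, vec_mem h⟩

theorem lam_val (l : List ℤ) (h : memL l = true) : (lam l h).1 = vec l := rfl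

/-- Divide every entry of a list. -/
noncomputable def ldiv (d : ℤ) (l : List ℤ) : List ℤ :=
  List.rec [] (fun x _ ih => Int.ediv x d :: ih) l

theorem ldiv_eq (d : ℤ) (l : List ℤ) : ldiv d l = l.map (· / d) := by
  induction l with
  | nil => rfl
  | cons x l ih => rw [List.map_cons, ← ih]; rfl

/-- Test that a list is `d` times a lattice vector. -/
noncomputable def memDiv (d : ℤ) (l : List ℤ) : Bool := lall (dvdB d) l && memL (ldiv d l)

theorem vec_ldiv {d : ℤ} {l : List ℤ} (h : lall (dvdB d) l = true) : vec l = d • vec (ldiv d l) := by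
  simp only [lall_iff, dvdB_iff] at h
  funext i
  simp only [vec, Pi.smul_apply, smul_eq_mul, ldiv_eq]
  by_cases hi : ix i < l.length
  · rw [List.getD_eq_getElem _ _ hi, List.getD_eq_getElem _ _ (by simpa using hi), List.getElem_map]
    exact (Int.mul_ediv_cancel' (h _ (List.getElem_mem hi))).symm
  · rw [List.getD_eq_default _ _ (by omega), List.getD_eq_default _ _ (by simp; omega)]; simp

theorem memDiv_dvd {d : ℤ} {l : List ℤ} (h : memDiv d l = true) {x : GolayPt → ℤ}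
    (hx : x ∈ leechLattice) : d * 8 ∣ dotInt (vec l) x := by
  simp only [memDiv, Bool.and_eq_true] at h
  rw [vec_ldiv h.1, dotInt_smul_left]
  exact mul_dvd_mul_left d (eight_dvd_dot (vec_mem h.2) hx)

/-- Orthogonality test: the rows have norm 64 and are pairwise orthogonal. -/
noncomputable def orthB (R : List (List ℤ)) : Bool :=
  List.rec true (fun r rs ih => (Int.decEq (ldot r r) 64).decide &&
    lall (fun s => (Int.decEq (ldot r s) 0).decide) rs && ih) R

theorem orthB_spec (R : List (List ℤ)) (h : orthB R = true) :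
    (∀ r ∈ R, ldot r r = 64) ∧ R.Pairwise (fun r s => ldot r s = 0) := by
  induction R with
  | nil => simp
  | cons r R ih =>
    have e : orthB (r :: R) = ((Int.decEq (ldot r r) 64).decide &&
      lall (fun s => (Int.decEq (ldot r s) 0).decide) R && orthB R) := rfl
    rw [e] at h
    simp only [Bool.and_eq_true, lall_iff, decide_eq_true_iff] at h
    obtain ⟨h1, h2⟩ := ih h.2
    refine ⟨?_, List.Pairwise.cons h.1.2 h2⟩
    intro s hs
    rcases List.mem_cons.1 hs with rfl | hs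
    · exact h.1.1
    · exact h1 s hs

/-- The test that a list of rows is eight times the matrix of a lattice automorphism. -/
noncomputable def matB (R : List (List ℤ)) : Bool :=
  Nat.beq R.length 24 && lall memL R && orthB R &&
    lall (fun r => memDiv 2 (laxpy (-1) (R.getD 23 []) r)) R && memDiv 8 (lcomb lv R) &&
    lall (fun q => memDiv 4 (lcomb q R)) qrTab

structure MatSpec (R : List (List ℤ)) : Prop where
  len : ∀ r ∈ R, r.length = 24
  mem : ∀ i, row R i ∈ leechLattice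
  orth : ∀ i j, dotInt (row R i) (row R j) = if i = j then 64 else 0
  img : ∀ x ∈ leechLattice, (fun i => dotInt (row R i) x / 8) ∈ leechLattice

theorem dot_lcomb (y : List ℤ) (R : List (List ℤ)) (hy : y.length = 24)
    (hR : ∀ r ∈ R, r.length = 24) (x : GolayPt → ℤ) :
    dotInt (vec (lcomb y R)) x = ∑ i, vec y i * dotInt (row R i) x := by
  simp only [dotInt, vec_lcomb y R hy hR, Finset.sum_mul, Finset.mul_sum]
  rw [Finset.sum_comm]
  simp only [mul_assoc]

theorem matSpec_of {R : List (List ℤ)} (h : matB R = true) : MatSpec R := by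
  simp only [matB, Bool.and_eq_true, Nat.beq_eq, lall_iff] at h
  obtain ⟨⟨⟨⟨⟨h0, h1⟩, h2⟩, h3⟩, h4⟩, h5⟩ := h
  have hlen : ∀ r ∈ R, r.length = 24 := fun r hr => memL_length (h1 r hr)
  have hrow : ∀ i, R.getD (ix i) [] ∈ R := fun i => getD_mem R [] _ (h0 ▸ ix_lt i)
  have hmem : ∀ i, row R i ∈ leechLattice := fun i => vec_mem (h1 _ (hrow i))
  obtain ⟨o1, o2⟩ := orthB_spec R h2
  refine ⟨hlen, hmem, fun i j => ?_, fun x hx => ?_⟩
  · have key : ∀ i j : GolayPt, ix i < ix j → dotInt (row R i) (row R j) = 0 := by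
      intro i j hij
      unfold row
      rw [dot_vec _ _ (hlen _ (hrow i)), List.getD_eq_getElem _ _ (h0 ▸ ix_lt i),
        List.getD_eq_getElem _ _ (h0 ▸ ix_lt j)]
      exact List.pairwise_iff_getElem.1 o2 _ _ _ _ hij
    split_ifs with hij
    · subst hij
      unfold row
      rw [dot_vec _ _ (hlen _ (hrow i))]
      exact o1 _ (hrow i)
    · rcases lt_trichotomy (ix i) (ix j) with h | h | h
      · exact key i j h
      · exact absurd (ix_injective h) hij
      · rw [dotInt_comm]; exact key j i h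
  · have hd : ∀ i, 8 * (dotInt (row R i) x / 8) = dotInt (row R i) x :=
      fun i => Int.mul_ediv_cancel' (eight_dvd_dot (hmem i) hx)
    have key : ∀ y : List ℤ, y.length = 24 → dotInt (vec (lcomb y R)) x =
        8 * dotInt (fun i => dotInt (row R i) x / 8) (vec y) := by
      intro y hy
      rw [dot_lcomb y R hy hlen]
      conv_rhs => unfold dotInt
      rw [Finset.mul_sum]
      apply Finset.sum_congr rfl
      intro i _
      change _ = 8 * (dotInt (row R i) x / 8 * _)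
      rw [← mul_assoc, hd i, mul_comm]
    apply mem_of_gens
    · intro i
      have h6 := memDiv_dvd (h3 _ (hrow i)) hx
      have h7 : vec (laxpy (-1) (R.getD 23 []) (R.getD (ix i) [])) = row R i - row R none := by
        funext j
        have := (laxpy_spec (-1) (R.getD 23 []) (R.getD (ix i) [])
          ((hlen _ (hrow none)).trans (hlen _ (hrow i)).symm)).2 (ix j)
        simp only [vec, row, Pi.sub_apply, this]
        change _ = _ - (R.getD 23 []).getD (ix j) 0
        ring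
      rw [h7, dotInt_sub_left] at h6
      have := hd i
      have := hd none
      omega
    · have h6 := memDiv_dvd h4 hx
      rw [key lv rfl, dot_vec_lv] at h6
      omega
    · intro t
      have h6 := memDiv_dvd (h5 _ (qrTab_spec t).1) hx
      have hl : (qrTab.getD t.val []).length = 24 := by
        have : ∀ q ∈ qrTab, q.length = 24 := by decide
        exact this _ (qrTab_spec t).1
      rw [key _ hl, dot_vec_qr] at h6
      omega

theorem sum_sq_dot_of_orth (r : GolayPt → GolayPt → ℤ)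
    (h : ∀ i j, dotInt (r i) (r j) = if i = j then 64 else 0) (x : GolayPt → ℤ) :
    ∑ i, dotInt (r i) x ^ 2 = 64 * sqNorm x := by
  let A : Matrix GolayPt GolayPt ℚ := Matrix.of fun i j => (r i j : ℚ) / 8
  have h1 : A * A.transpose = 1 := by
    ext i j
    have := h i j
    simp only [Matrix.mul_apply, Matrix.transpose_apply, A, Matrix.one_apply, Matrix.of_apply]
    have h2 : ∑ k, (r i k : ℚ) / 8 * ((r j k : ℚ) / 8) = (dotInt (r i) (r j) : ℚ) / 64 := by
      simp only [dotInt, Int.cast_sum, Int.cast_mul, Finset.sum_div]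
      apply Finset.sum_congr rfl; intro k _; ring
    rw [h2, this]
    split_ifs <;> norm_num
  have h2 : A.transpose * A = 1 := mul_eq_one_comm.1 h1
  have h3 : ∀ j k, ∑ i, r i j * r i k = if j = k then 64 else 0 := by
    intro j k
    have := congrFun (congrFun h2 j) k
    simp only [Matrix.mul_apply, Matrix.transpose_apply, A, Matrix.one_apply, Matrix.of_apply] at this
    have h4 : ∑ i, (r i j : ℚ) / 8 * ((r i k : ℚ) / 8) = ((∑ i, r i j * r i k : ℤ) : ℚ) / 64 := by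
      simp only [Int.cast_sum, Int.cast_mul, Finset.sum_div]
      apply Finset.sum_congr rfl; intro k _; ring
    rw [h4] at this
    have h5 : ((∑ i, r i j * r i k : ℤ) : ℚ) = ((if j = k then 64 else 0 : ℤ) : ℚ) := by
      split_ifs at this ⊢ <;> push_cast <;> push_cast at this <;> linarith
    exact_mod_cast h5
  calc ∑ i, dotInt (r i) x ^ 2 = ∑ i, ∑ j, ∑ k, x j * x k * (r i j * r i k) := by
        apply Finset.sum_congr rfl; intro i _
        rw [sq, dotInt, Finset.sum_mul_sum]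
        apply Finset.sum_congr rfl; intro j _
        apply Finset.sum_congr rfl; intro k _
        ring
    _ = ∑ j, ∑ k, x j * x k * ∑ i, r i j * r i k := by
        rw [Finset.sum_comm]
        apply Finset.sum_congr rfl; intro j _
        rw [Finset.sum_comm]
        apply Finset.sum_congr rfl; intro k _
        rw [Finset.mul_sum]
    _ = 64 * sqNorm x := by
        simp only [h3, mul_ite, mul_zero, Finset.sum_ite_eq, Finset.mem_univ, if_true, sqNorm,
          Finset.mul_sum]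
        apply Finset.sum_congr rfl; intro j _; ring

/-- The element of `Co0` whose matrix (times eight) has the given rows. -/
noncomputable def rowEl (R : List (List ℤ)) (h : MatSpec R) : Co0 :=
  mkCo (fun v => ⟨fun i => dotInt (row R i) v.1 / 8, h.img _ v.2⟩)
    (fun v w => by
      apply Subtype.ext; funext i
      have h1 := eight_dvd_dot (h.mem i) v.2
      have h2 := eight_dvd_dot (h.mem i) w.2
      simp only [AddSubgroup.coe_add, Pi.add_apply, dotInt_add_right]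
      omega)
    (fun v => by
      have h1 := sum_sq_dot_of_orth _ h.orth v.1
      have h2 : ∑ i, dotInt (row R i) v.1 ^ 2 = 64 * ∑ i, (dotInt (row R i) v.1 / 8) ^ 2 := by
        rw [Finset.mul_sum]
        apply Finset.sum_congr rfl; intro i _
        conv_lhs => rw [← Int.mul_ediv_cancel' (eight_dvd_dot (h.mem i) v.2)]
        ring
      change ∑ i, (dotInt (row R i) v.1 / 8) ^ 2 = _
      omega)

theorem rowEl_apply (R : List (List ℤ)) (h : MatSpec R) (v : Lam) (i : GolayPt) :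
    8 * (rowEl R h • v).1 i = dotInt (row R i) v.1 :=
  Int.mul_ediv_cancel' (eight_dvd_dot (h.mem i) v.2)

/-- The element of `Co0` sending `8 e_i` to the `i`-th of the given lists. -/
noncomputable def colEl (R : List (List ℤ)) (h : matB R = true) : Co0 := (rowEl R (matSpec_of h))⁻¹

theorem colEl_e8 (R : List (List ℤ)) (h : matB R = true) (i : GolayPt) :
    (colEl R h • e8 i).1 = row R i := by
  have hs := matSpec_of h
  have : colEl R h • e8 i = ⟨row R i, hs.mem i⟩ := by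
    unfold colEl
    rw [inv_smul_eq_iff]
    apply Subtype.ext; funext j
    have h1 := rowEl_apply R hs ⟨row R i, hs.mem i⟩ j
    rw [hs.orth] at h1
    rw [e8_val, Pi.single_apply]
    split_ifs at h1 ⊢ <;> omega
  rw [this]

theorem colEl_apply (R : List (List ℤ)) (h : matB R = true) (v : Lam) (j : GolayPt) :
    8 * (colEl R h • v).1 j = ∑ i, v.1 i * row R i j := by
  rw [eight_mul_smul]
  simp only [colEl_e8]

/-- The image of a list under a matrix given by the images of the `8 e_i`. -/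
noncomputable def lact (R : List (List ℤ)) (l : List ℤ) : List ℤ := ldiv 8 (lcomb l R)

theorem vec_ldiv_apply (d : ℤ) (l : List ℤ) (j : GolayPt) : vec (ldiv d l) j = vec l j / d := by
  simp only [vec, ldiv_eq]
  by_cases hi : ix j < l.length
  · rw [List.getD_eq_getElem l _ hi, List.getD_eq_getElem _ _ (by simpa using hi), List.getElem_map]
  · rw [List.getD_eq_default _ _ (by simp; omega), List.getD_eq_default _ _ (by omega)]; simp

theorem smul_of_cols {g : Co0} {R : List (List ℤ)} (hR : ∀ r ∈ R, r.length = 24)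
    (hg : ∀ i, (g • e8 i).1 = row R i) (v : Lam) (l : List ℤ) (hl : l.length = 24)
    (hv : v.1 = vec l) : (g • v).1 = vec (lact R l) := by
  funext j
  have h1 := eight_mul_smul g v j
  simp only [hg, hv] at h1
  rw [← vec_lcomb l R hl hR] at h1
  rw [lact, vec_ldiv_apply]
  omega

theorem colEl_smul (R : List (List ℤ)) (h : matB R = true) (v : Lam) (l : List ℤ)
    (hl : l.length = 24) (hv : v.1 = vec l) : (colEl R h • v).1 = vec (lact R l) :=
  smul_of_cols (matSpec_of h).len (colEl_e8 R h) v l hl hv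

/-- Conway's extra automorphism attached to the sextet of the tetrad `{0, 1, 2, ∞}`. -/
def xiMat : List (List ℤ) :=
  [[4, -4, -4, 0, 0, 0, 0, 0, 0, 0, 0, 0, 0, 0, 0, 0, 0, 0, 0, 0, 0, 0, 0, -4],
   [-4, 4, -4, 0, 0, 0, 0, 0, 0, 0, 0, 0, 0, 0, 0, 0, 0, 0, 0, 0, 0, 0, 0, -4],
   [-4, -4, 4, 0, 0, 0, 0, 0, 0, 0, 0, 0, 0, 0, 0, 0, 0, 0, 0, 0, 0, 0, 0, -4],
   [0, 0, 0, 4, 0, -4, 0, 0, 0, 0, 0, 0, 0, 0, -4, 0, 0, -4, 0, 0, 0, 0, 0, 0],
   [0, 0, 0, 0, 4, 0, 0, 0, 0, 0, 0, 0, 0, -4, 0, 0, -4, 0, 0, 0, 0, 0, -4, 0],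
   [0, 0, 0, -4, 0, 4, 0, 0, 0, 0, 0, 0, 0, 0, -4, 0, 0, -4, 0, 0, 0, 0, 0, 0],
   [0, 0, 0, 0, 0, 0, 4, -4, 0, 0, 0, 0, 0, 0, 0, 0, 0, 0, 0, -4, 0, -4, 0, 0],
   [0, 0, 0, 0, 0, 0, -4, 4, 0, 0, 0, 0, 0, 0, 0, 0, 0, 0, 0, -4, 0, -4, 0, 0],
   [0, 0, 0, 0, 0, 0, 0, 0, 4, 0, 0, -4, -4, 0, 0, 0, 0, 0, -4, 0, 0, 0, 0, 0],
   [0, 0, 0, 0, 0, 0, 0, 0, 0, -4, 4, 0, 0, 0, 0, 4, 0, 0, 0, 0, 4, 0, 0, 0],
   [0, 0, 0, 0, 0, 0, 0, 0, 0, 4, -4, 0, 0, 0, 0, 4, 0, 0, 0, 0, 4, 0, 0, 0],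
   [0, 0, 0, 0, 0, 0, 0, 0, -4, 0, 0, 4, -4, 0, 0, 0, 0, 0, -4, 0, 0, 0, 0, 0],
   [0, 0, 0, 0, 0, 0, 0, 0, -4, 0, 0, -4, 4, 0, 0, 0, 0, 0, -4, 0, 0, 0, 0, 0],
   [0, 0, 0, 0, -4, 0, 0, 0, 0, 0, 0, 0, 0, 4, 0, 0, -4, 0, 0, 0, 0, 0, -4, 0],
   [0, 0, 0, -4, 0, -4, 0, 0, 0, 0, 0, 0, 0, 0, 4, 0, 0, -4, 0, 0, 0, 0, 0, 0],
   [0, 0, 0, 0, 0, 0, 0, 0, 0, 4, 4, 0, 0, 0, 0, -4, 0, 0, 0, 0, 4, 0, 0, 0],
   [0, 0, 0, 0, -4, 0, 0, 0, 0, 0, 0, 0, 0, -4, 0, 0, 4, 0, 0, 0, 0, 0, -4, 0],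
   [0, 0, 0, -4, 0, -4, 0, 0, 0, 0, 0, 0, 0, 0, -4, 0, 0, 4, 0, 0, 0, 0, 0, 0],
   [0, 0, 0, 0, 0, 0, 0, 0, -4, 0, 0, -4, -4, 0, 0, 0, 0, 0, 4, 0, 0, 0, 0, 0],
   [0, 0, 0, 0, 0, 0, -4, -4, 0, 0, 0, 0, 0, 0, 0, 0, 0, 0, 0, 4, 0, -4, 0, 0],
   [0, 0, 0, 0, 0, 0, 0, 0, 0, 4, 4, 0, 0, 0, 0, 4, 0, 0, 0, 0, -4, 0, 0, 0],
   [0, 0, 0, 0, 0, 0, -4, -4, 0, 0, 0, 0, 0, 0, 0, 0, 0, 0, 0, -4, 0, 4, 0, 0],
   [0, 0, 0, 0, -4, 0, 0, 0, 0, 0, 0, 0, 0, -4, 0, 0, -4, 0, 0, 0, 0, 0, 4, 0],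
   [-4, -4, -4, 0, 0, 0, 0, 0, 0, 0, 0, 0, 0, 0, 0, 0, 0, 0, 0, 0, 0, 0, 0, 4]]

theorem xiMat_ok : matB xiMat = true := by decide +kernel

/-- Conway's element `ξ`. -/
noncomputable def xi : Co0 := rowEl xiMat (matSpec_of xiMat_ok)

theorem xi_apply (v : Lam) (i : GolayPt) (hi : i = none ∨ i = some 0 ∨ i = some 1 ∨ i = some 2) :
    2 * (xi • v).1 i = 2 * v.1 i - (v.1 none + v.1 (some 0) + v.1 (some 1) + v.1 (some 2)) := by
  have h1 := rowEl_apply xiMat (matSpec_of xiMat_ok) v i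
  have h2 : row xiMat i = Pi.single i 8 - (Pi.single none 4 + Pi.single (some 0) 4 +
      Pi.single (some 1) 4 + Pi.single (some 2) 4) := by
    rcases hi with rfl | rfl | rfl | rfl <;> decide +kernel
  rw [h2] at h1
  simp only [dotInt_sub_left, dotInt_add_left, dotInt_single_left] at h1
  unfold xi
  omega

end Cfsg.Agent.H48
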