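import Cfsg.Agent.H95.ParC2
import Cfsg.Agent.H95.ParTheta
import Cfsg.Agent.H49.MonS4
import Cfsg.Agent.H49.RkH
import Cfsg.Prelude.Def_CaseTheorems

/-! Maximal 2-local subgroups of the Monster: data and statements. -/

set_option autoImplicit false

namespace Cfsg.Agent.H48.M2

open Cfsg Subgroup Cfsg.Agent.H48 Cfsg.Agent.H48.Rec Cfsg.Agent.H49 Cfsg.Agent.H95.Par
open Cfsg.Agent.H97.Gr (DD ZZ)
open Cfsg.Agent.H97.Yt (M)

/-! ### Data -/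

/-- exponent two -/
def El (V : Subgroup M) : Prop := ∀ x ∈ V, x * x = 1

/-- a singular subgroup -/
def Sng (U : Subgroup M) : Prop := ∀ u ∈ U, u ≠ 1 → u ∈ ZZ ∧ U ≤ Qz u

/-- the centralizer -/
abbrev CP (A : Subgroup M) : Subgroup M := centralizer (A : Set M)

/-- the normalizer -/
abbrev NN (A : Subgroup M) : Subgroup M := normalizer (A : Set M)

/-- `y` acts on `Q_u` as a sign change on an octad -/
def TA (u y : M) : Prop := ∃ θ R, Ch u θ R ∧ Ass θ zt y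

/-- `y` acts on `Q_u` as a sign change on a dodecad -/
def TC (u y : M) : Prop := ∃ θ R, Ch u θ R ∧ Ass θ ut y

/-- the elements of `Q_u` centralizing `y` modulo `u` -/
noncomputable def Jh (u y : M) : Subgroup M := Qz u ⊓ normalizer ({y, y * u} : Set M)

/-- the ark through `u` in the direction `y` -/
noncomputable def Ak (u y : M) : Subgroup M := (Qz u ⊔ zpowers y) ⊓ CP (Jh u y)

/-- an ark -/
def Ark (A : Subgroup M) : Prop := ∃ u y, TA u y ∧ A = Ak u y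

/-- a chart in which the group `A` is in standard position -/
structure Std (A : Subgroup M) (u b : M) (θ : Th u) (R : Lam → M → Prop) : Prop where
  ch : Ch u θ R
  ten : Ten (Qz u) A u b
  pre : ∀ x, x ∈ A ⊓ Qz u ↔ ∃ v ∈ W8, R v x
  ass : Ass θ zt b
  nrm : ∀ g k, Ass θ g k → g * zt = zt * g → k ∈ NN A

/-- the singular subspace of `A` attached to `p` -/
noncomputable def Us (A : Subgroup M) (p : M) : Subgroup M :=
  closure {u | u ∈ A ∧ u ∈ ZZ ∧ p ∈ Qz u ⊔ A}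

/-- an involution of `C(A)` outside `A` lying in `Q_w A` -/
structure Sp (A : Subgroup M) (w p : M) : Prop where
  qa : p ∈ Qz w ⊔ A
  cp : p ∈ CP A
  sq : p * p = 1
  out : p ∉ A

/-- the common perp of two involutions -/
noncomputable def U0 (w w' : M) : Subgroup M := closure {u | u ∈ ZZ ∧ w ∈ Qz u ∧ w' ∈ Qz u}

/-- the centralizer of `w'` in `Q_w` -/
noncomputable def JJ (w w' : M) : Subgroup M := Qz w ⊓ centralizer {w'}

/-- the part of `JJ` in the ark extended by `w'` -/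
noncomputable def TT (w w' : M) : Subgroup M := JJ w w' ⊓ (Ak w w' ⊔ zpowers w')

/-- the line attached to `y` -/
noncomputable def WW (w w' y : M) : Subgroup M := U0 w w' ⊓ Us (Ak w w') y

/-- a pure four-group of the second kind -/
structure Bp (w w' : M) : Prop where
  z1 : w ∈ ZZ
  z2 : w' ∈ ZZ
  z3 : w * w' ∈ ZZ
  t1 : TA w w'
  t2 : TA w' w

/-- an involution of `JJ` outside `TT` -/
structure Ln (w w' y : M) : Prop where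
  mem : y ∈ JJ w w'
  out : y ∉ TT w w'
  sq : y * y = 1

/-- `V` is the group of the elements of order at most two in the centre of `R`, `C(R) ≤ R` -/
structure VS (R V : Subgroup M) : Prop where
  p2 : IsPGroup 2 R
  el : El V
  ce : V ≤ CP R
  fx : ∀ x, x * x = 1 → x ∈ CP R → x ∈ V
  fp : ∀ X : Subgroup M, El X → X ≠ ⊥ → R ≤ NN X → ∃ u ∈ X, u ∈ V ∧ u ≠ 1

/-- an element of class 2B of `V` with the largest intersection -/
structure Mx (V : Subgroup M) (w : M) : Prop where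
  mem : w ∈ V
  zz : w ∈ ZZ
  max : ∀ u ∈ V, u ∈ ZZ → Nat.card ↥(V ⊓ Qz u) ≤ Nat.card ↥(V ⊓ Qz w)

/-- the setting of the second case -/
structure Bs (R V : Subgroup M) (w w' : M) : Prop where
  vs : VS R V
  m1 : Mx V w
  m2 : Mx V w'
  bp : Bp w w'

/-- the setting of the hyperbolic case -/
structure Hs (R V A : Subgroup M) (w w' : M) : Prop where
  vs : VS R V
  m1 : Mx V w
  m2 : Mx V w'
  ark : Ark A
  a1 : w ∈ A
  a2 : w' ∈ A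
  np : w' ∉ Qz w

/-- coordinates on an ark -/
structure Frm (A : Subgroup M) (ν : (Fin 10 → ZMod 2) → M)
    (q : QuadraticForm (ZMod 2) (Fin 10 → ZMod 2)) : Prop where
  add : ∀ a b, ν (a + b) = ν a * ν b
  inj : Function.Injective ν
  mem : ∀ y, y ∈ A ↔ ∃ a, ν a = y
  nd : (QuadraticMap.polarBilin q).Nondegenerate
  sing : ∀ a, q a = 0 ↔ a = 0 ∨ ν a ∈ ZZ
  perp : ∀ a, ν a ∈ ZZ → ∀ b, ν b ∈ Qz (ν a) ↔ QuadraticMap.polar q a b = 0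

/-- the centralizer of an ark -/
structure PFa (A : Subgroup M) : Prop where
  el : El A
  card : Nat.card A = 2 ^ 10
  cm : ∀ p ∈ CP A, ∀ p' ∈ CP A, p * p' * p⁻¹ * p'⁻¹ ∈ A
  c9 : ∀ u ∈ A, u ∈ ZZ → Nat.card ↥(A ⊓ Qz u) = 2 ^ 9
  c17 : ∀ u ∈ A, u ∈ ZZ → Nat.card ↥(Qz u ⊓ CP A) = 2 ^ 17
  d1 : ∀ u ∈ A, u ∈ ZZ → Qz u ⊓ CP (A ⊓ Qz u) = Qz u ⊓ CP A
  d2 : ∀ u ∈ A, u ∈ ZZ → Qz u ⊓ CP (Qz u ⊓ CP A) = A ⊓ Qz u
  ix : ∀ u ∈ A, u ∈ ZZ → ∀ x ∈ Qz u ⊔ A, ∀ y ∈ Qz u ⊔ A, x ∉ Qz u → y ∉ Qz u → x * y ∈ Qz u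
  pd : ∀ w ∈ A, w ∈ ZZ → ∀ w' ∈ A, w' ∈ ZZ → w' ∉ Qz w → ∀ p ∈ CP A,
    ∃ p1 ∈ Qz w ⊓ CP A, ∃ p2 ∈ Qz w' ⊓ CP A, ∃ a ∈ A, p = p1 * p2 * a
  tr : ∀ w ∈ A, w ∈ ZZ → ∀ w' ∈ A, w' ∈ ZZ → w' ∉ Qz w → Qz w' ⊓ CP A ⊓ (Qz w ⊔ A) ≤ A
  ex : ∃ w ∈ A, w ∈ ZZ
  ex' : ∀ w ∈ A, w ∈ ZZ → ∃ w' ∈ A, w' ∈ ZZ ∧ w' ∉ Qz w

/-! ### Triality -/

/-- the coordinate space -/
abbrev V8 : Type := Fin 8 → ZMod 2

/-- the polar form -/
def B3 (q : V8 → ZMod 2) (a b : V8) : ZMod 2 := q (a + b) + q a + q b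

/-- the perp of the image of the right multiplication -/
def Nb (t : V8 → V8 → V8) (q : V8 → ZMod 2) (β : V8) : Set V8 := {n | ∀ γ, B3 q n (t γ β) = 0}

/-- the perp of the image of the left multiplication -/
def Ng (t : V8 → V8 → V8) (q : V8 → ZMod 2) (γ : V8) : Set V8 := {n | ∀ β, B3 q n (t γ β) = 0}

/-- the finite facts on the triality tensor -/
structure Tri (t : V8 → V8 → V8) (q1 q3 : V8 → ZMod 2) : Prop where
  l1 : ∀ β, β ≠ 0 → q1 β = 0 → (Nb t q3 β).ncard = 16 ∧ (∀ n ∈ Nb t q3 β, q3 n = 0) ∧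
    (∀ γ, t γ β ∈ Nb t q3 β) ∧ ∀ n ∈ Nb t q3 β, ∀ n' ∈ Nb t q3 β, n + n' ∈ Nb t q3 β
  l2 : ∀ β β', β ≠ 0 → β' ≠ 0 → β + β' ≠ 0 → q1 β = 0 → q1 β' = 0 → q1 (β + β') = 0 →
    (Nb t q3 β ∩ Nb t q3 β').ncard = 4
  l3 : ∀ β β' β'', β ≠ 0 → β' ≠ 0 → β + β' ≠ 0 → q1 β = 0 → q1 β' = 0 → q1 (β + β') = 0 →
    Nb t q3 β ∩ Nb t q3 β' ⊆ Nb t q3 β'' → β'' = 0 ∨ β'' = β ∨ β'' = β' ∨ β'' = β + β'
  l4 : ∀ β β', β ≠ 0 → β' ≠ 0 → β + β' ≠ 0 → q1 β = 0 → q1 β' = 0 → q1 (β + β') = 0 →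
    {γ | t γ β = 0 ∧ t γ β' = 0}.ncard ≤ 4
  l5 : ∀ β γ, β ≠ 0 → γ ≠ 0 → q1 β = 0 → t γ β = 0 →
    8 ≤ (Nb t q3 β ∩ Ng t q3 γ).ncard

/-- the elements commuting with the sign change and fixing the classes inverted by it -/
def X0 (x : Co0) : Prop := x * zt = zt * x ∧ ∀ n ∈ W8, cong n (x • n)

/-- the tensor on the lattice -/
structure LM (α β : Lam → V8) (γ : Co0 → V8) (t : V8 → V8 → V8) (q1 q3 : V8 → ZMod 2) :
    Prop where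
  a_add : ∀ n ∈ W8, ∀ n' ∈ W8, α (n + n') = α n + α n'
  a_ker : ∀ n ∈ W8, α n = 0 ↔ cong 0 n
  a_sur : ∀ a, ∃ n ∈ W8, α n = a
  a_q : ∀ n ∈ W8, q3 (α n) = 1 ↔ ∃ m, cong n m ∧ sqNorm m.1 = 32
  b_add : ∀ v v', H49.Fix zt v → H49.Fix zt v' → β (v + v') = β v + β v'
  b_ker : ∀ v, H49.Fix zt v → (β v = 0 ↔ v ∈ W8)
  b_sur : ∀ a, ∃ v, H49.Fix zt v ∧ β v = a
  b_q : ∀ v, H49.Fix zt v → (q1 (β v) = 0 ↔ 32 ∣ sqNorm v.1)
  c_mul : ∀ x y, X0 x → X0 y → γ (x * y) = γ x + γ y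
  c_ker : ∀ x, X0 x → (γ x = 0 ↔ x ∈ center Co0 ∨ x * zt ∈ center Co0)
  c_sur : ∀ a, ∃ x, X0 x ∧ γ x = a
  act : ∀ x v, X0 x → H49.Fix zt v → x • v - v ∈ W8 ∧ α (x • v - v) = t (γ x) (β v)

/-- the tensor on the centralizer of an ark -/
structure Md (A : Subgroup M) (w : M) (α β γ : M → V8) (t : V8 → V8 → V8)
    (q1 q3 : V8 → ZMod 2) : Prop where
  a_add : ∀ n ∈ A ⊓ Qz w, ∀ n' ∈ A ⊓ Qz w, α (n * n') = α n + α n'
  a_ker : ∀ n ∈ A ⊓ Qz w, α n = 0 ↔ n = 1 ∨ n = w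
  a_sur : ∀ a, ∃ n ∈ A ⊓ Qz w, α n = a
  a_q : ∀ n ∈ A ⊓ Qz w, q3 (α n) = 0 ↔ n = 1 ∨ n ∈ ZZ
  b_add : ∀ p ∈ Qz w ⊓ CP A, ∀ p' ∈ Qz w ⊓ CP A, β (p * p') = β p + β p'
  b_ker : ∀ p ∈ Qz w ⊓ CP A, β p = 0 ↔ p ∈ A
  b_sur : ∀ a, ∃ p ∈ Qz w ⊓ CP A, β p = a
  b_q : ∀ p ∈ Qz w ⊓ CP A, q1 (β p) = 0 ↔ p * p = 1
  c_mul : ∀ x ∈ CP A, ∀ y ∈ CP A, γ (x * y) = γ x + γ y
  c_ker : ∀ x ∈ CP A, γ x = 0 ↔ x ∈ Qz w ⊔ A
  c_sur : ∀ a, ∃ x ∈ CP A, γ x = a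
  act : ∀ x ∈ CP A, ∀ p ∈ Qz w ⊓ CP A,
    x * p * x⁻¹ * p⁻¹ ∈ A ⊓ Qz w ∧ α (x * p * x⁻¹ * p⁻¹) = t (γ x) (β p)

/-! ### Basic facts -/

theorem El.cm {V : Subgroup M} (h : El V) {x y : M} (hx : x ∈ V) (hy : y ∈ V) : x * y = y * x :=
  H95.Par.comm_of_sq (h x hx) (h y hy) (h _ (mul_mem hx hy))

/-- the third point of a singular line -/
theorem perp {u u' : M} (hu : u ∈ ZZ) (hu' : u' ∈ ZZ) (h : u' ∈ Qz u) (ne : u' ≠ u) :
    u * u' ∈ ZZ ∧ Qz u ⊓ Qz u' ≤ Qz (u * u') := by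
  have p := pair hu hu' h ne
  obtain ⟨q, hq, e⟩ := p.hQ.exists_conj_eq_mul_z p.xQ p.hS.ne p.ne
  rw [← p.hQ.cen u' h, ← e, Qz_cj hu']
  exact ⟨ZZ_cj q hu', p.E_le_cj hq⟩

/-- the intersection of two perpendicular extraspecial groups is self-centralizing -/
theorem self_cent {u u' : M} (hu : u ∈ ZZ) (hu' : u' ∈ ZZ) (h : u' ∈ Qz u) (ne : u' ≠ u) :
    Qz u ⊓ CP (Qz u ⊓ Qz u') = Qz u ⊓ Qz u' := by
  have p := pair hu hu' h ne
  obtain ⟨θ, R, c⟩ := chart hu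
  have h1 := c.hQ.card_mul_card_centralizer_of_mem (U := Qz u ⊓ Qz u') inf_le_left ⟨c.hQ.mem, p.zS⟩
  rw [c.card_E p, c.card] at h1
  have le : Qz u ⊓ Qz u' ≤ CP (Qz u ⊓ Qz u') := fun x hx y hy => p.E_comm hy hx
  refine (eq_of_le_of_card_ge (le_inf inf_le_left le) ?_).symm
  rw [c.card_E p]
  change _ * Nat.card ↥(Qz u ⊓ CP (Qz u ⊓ Qz u')) = _ at h1
  omega

theorem ch_cj {u : M} {θ : Th u} {R : Lam → M → Prop} (h : Ch u θ R) (g : M) :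
    ∃ θ', Ch (g * u * g⁻¹) θ' (fun v x => R v (g⁻¹ * x * g)) ∧
      ∀ k y, Ass θ k y ↔ Ass θ' k (g * y * g⁻¹) := by
  have hc : ∀ c : M, c ∈ centralizer ({g * u * g⁻¹} : Set M) ↔
      (MulAut.conj g).symm c ∈ centralizer ({u} : Set M) := fun c => by
    rw [← cj_centralizer_singleton, mem_cj]; rfl
  have hQ : ∀ x, x ∈ Qz (g * u * g⁻¹) ↔ g⁻¹ * x * g ∈ Qz u := fun x => by
    rw [Qz_cj h.zz, mem_cj]
  obtain ⟨k, g1, g2⟩ := h.wc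
  refine ⟨θ.comp (((MulAut.conj g).symm.toMonoidHom.comp
    (centralizer ({g * u * g⁻¹} : Set M)).subtype).codRestrict _ fun c => (hc c).1 c.2),
    ⟨lx (ZZ_cj g h.zz), by rw [Qz_cj h.zz, card_cj, h.card],
    ⟨g * k * g⁻¹, (hQ _).2 (by simpa [mul_assoc] using g1), fun e' => g2 (by
      rw [show g * k * g⁻¹ * (g * u * g⁻¹) * (g * k * g⁻¹)⁻¹ = g * (k * u * k⁻¹) * g⁻¹ by group] at e'
      simpa using e')⟩, fun c => ?_,
    fun c => (h.ker _).trans (hQ _).symm, fun r => (hQ _).2 (h.mem r),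
    fun x hx => h.ex1 _ ((hQ x).1 hx), fun v => ?_, fun r r' => by
      simpa [mul_assoc] using h.mul r r',
    fun {v x w y} r r' => (h.uniq r r').trans ?_,
    fun r => by simpa [mul_assoc] using h.cls r, fun r c => h.cg r c,
    fun c k hk v x r => by simpa [mul_assoc] using h.act _ k hk r⟩, fun k y => ?_⟩
  · obtain ⟨c, rfl⟩ := h.surj c
    exact ⟨⟨g * c * g⁻¹, (hc _).2 (by simp [mul_assoc])⟩, congrArg θ (Subtype.ext (by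
      simp [mul_assoc]))⟩
  · obtain ⟨x, r⟩ := h.ex2 v
    exact ⟨g * x * g⁻¹, by simpa [mul_assoc] using r⟩
  · refine or_congr (by simp) ?_
    rw [show g⁻¹ * x * g * u = g⁻¹ * (x * (g * u * g⁻¹)) * g by group]
    simp
  · constructor
    · rintro ⟨a, e⟩
      exact ⟨(hc _).2 (by simpa [mul_assoc] using a), e.trans (congrArg θ (Subtype.ext (by
        simp [mul_assoc])))⟩
    · rintro ⟨a, e⟩
      exact ⟨by simpa [mul_assoc] using (hc _).1 a, e.trans (congrArg θ (Subtype.ext (by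
        simp [mul_assoc])))⟩

theorem TA.cj {u y : M} (h : TA u y) (g : M) : TA (g * u * g⁻¹) (g * y * g⁻¹) :=
  let ⟨_, _, c, a⟩ := h
  let ⟨_, c', e⟩ := ch_cj c g
  ⟨_, _, c', (e _ _).1 a⟩

theorem cj_closure (S : Set M) (g : M) :
    cj (closure S) g = closure {x | g⁻¹ * x * g ∈ S} := by
  rw [cj, MonoidHom.map_closure]
  congr 1
  ext x
  exact ⟨fun ⟨y, hy, e⟩ => by subst e; simpa [mul_assoc] using hy,
    fun hx => ⟨_, hx, by simp [mul_assoc]⟩⟩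

theorem ZZ_cj_iff (g x : M) : g⁻¹ * x * g ∈ ZZ ↔ x ∈ ZZ :=
  ⟨fun h => by simpa [mul_assoc] using ZZ_cj g h, fun h => by simpa using ZZ_cj g⁻¹ h⟩

theorem mem_Qz_cj {x : M} (hx : x ∈ ZZ) (g y : M) :
    y ∈ Qz (g⁻¹ * x * g) ↔ g * y * g⁻¹ ∈ Qz x := by
  have := Qz_cj hx g⁻¹
  rw [inv_inv] at this
  rw [this, mem_cj, inv_inv]

theorem cj_Jh {u : M} (hu : u ∈ ZZ) (y g : M) :
    cj (Jh u y) g = Jh (g * u * g⁻¹) (g * y * g⁻¹) := by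
  rw [Jh, Jh, cj_inf, Qz_cj hu]
  congr 1
  have k : ∀ n : M, n ∈ ({g * y * g⁻¹, g * y * g⁻¹ * (g * u * g⁻¹)} : Set M) ↔
      g⁻¹ * n * g ∈ ({y, y * u} : Set M) := fun n => by
    simp only [Set.mem_insert_iff, Set.mem_singleton_iff, conj_mul]
    exact or_congr ⟨fun e => by rw [e]; group, fun e => by rw [← e]; group⟩
      ⟨fun e => by rw [e]; group, fun e => by rw [← e]; group⟩
  ext x
  rw [mem_cj, mem_set_normalizer_iff, mem_set_normalizer_iff]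
  refine ⟨fun h n => ?_, fun h n => ?_⟩
  · rw [k, k, h]; simp [mul_assoc]
  · have := h (g * n * g⁻¹)
    rw [k, k] at this
    simpa [mul_assoc] using this

theorem cj_Ak {u : M} (hu : u ∈ ZZ) (y g : M) :
    cj (Ak u y) g = Ak (g * u * g⁻¹) (g * y * g⁻¹) := by
  rw [Ak, Ak, cj_inf, cj_sup, cj_zpowers, cj_centralizer, cj_Jh hu, Qz_cj hu]

theorem Ark.cj {A : Subgroup M} (h : Ark A) (g : M) : Ark (cj A g) := by
  obtain ⟨u, y, ⟨θ, R, c, a⟩, rfl⟩ := h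
  exact ⟨_, _, TA.cj ⟨θ, R, c, a⟩ g, cj_Ak c.zz y g⟩

theorem cj_Us (A : Subgroup M) (p g : M) : cj (Us A p) g = Us (cj A g) (g * p * g⁻¹) := by
  rw [Us, Us, cj_closure]
  congr 1
  ext x
  simp only [Set.mem_ofPred_eq, mem_cj, ZZ_cj_iff]
  refine and_congr_right fun _ => and_congr_right fun hx => ?_
  have e : Qz x = cj (Qz (g⁻¹ * x * g)) g := by
    rw [← Qz_cj ((ZZ_cj_iff g x).2 hx)]; simp [mul_assoc]
  rw [e, ← cj_sup, mem_cj]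
  simp [mul_assoc]

theorem cj_U0 (w w' g : M) : cj (U0 w w') g = U0 (g * w * g⁻¹) (g * w' * g⁻¹) := by
  rw [U0, U0, cj_closure]
  congr 1
  ext x
  simp only [Set.mem_ofPred_eq, ZZ_cj_iff]
  exact and_congr_right fun hx => by rw [mem_Qz_cj hx, mem_Qz_cj hx]

theorem n_Ak {u y g : M} (hu : u ∈ ZZ) (h1 : g * u = u * g) (h2 : g * y = y * g) :
    g ∈ NN (Ak u y) := by
  rw [← cj_eq_iff, cj_Ak hu, h1, h2, mul_inv_cancel_right, mul_inv_cancel_right]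

theorem n_Us {A : Subgroup M} {p g : M} (h1 : g ∈ NN A) (h2 : g * p = p * g) :
    g ∈ NN (Us A p) := by
  rw [← cj_eq_iff, cj_Us, cj_eq_iff.2 h1, h2, mul_inv_cancel_right]

theorem n_U0 {w w' g : M} (h1 : g * w = w * g) (h2 : g * w' = w' * g) : g ∈ NN (U0 w w') := by
  rw [← cj_eq_iff, cj_U0, h1, h2, mul_inv_cancel_right, mul_inv_cancel_right]

theorem n_inf {A B : Subgroup M} {g : M} (h1 : g ∈ NN A) (h2 : g ∈ NN B) : g ∈ NN (A ⊓ B) := by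
  rw [← cj_eq_iff, cj_inf, cj_eq_iff.2 h1, cj_eq_iff.2 h2]

theorem n_WW {w w' y g : M} (hw : w ∈ ZZ) (h1 : g * w = w * g) (h2 : g * w' = w' * g)
    (h3 : g * y = y * g) : g ∈ NN (WW w w' y) :=
  n_inf (n_U0 h1 h2) (n_Us (n_Ak hw h1 h2) h3)

theorem n_Qz {u g : M} (hu : u ∈ ZZ) (h : g * u = u * g) : g ∈ NN (Qz u) :=
  (lx hu).nz (mem_centralizer_singleton_iff.2 h)

theorem U0_comm (w w' : M) : U0 w' w = U0 w w' := by
  rw [U0, U0]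
  congr 1
  ext x
  exact and_congr_right fun _ => and_comm

theorem TA.ark {u y : M} (h : TA u y) : Ark (Ak u y) := ⟨u, y, h, rfl⟩

theorem TA.comm {u y : M} (h : TA u y) : y * u = u * y := let ⟨_, _, _, a⟩ := h; a.comm

theorem Bp.symm {w w' : M} (h : Bp w w') : Bp w' w :=
  ⟨h.z2, h.z1, h.t1.comm ▸ h.z3, h.t2, h.t1⟩

theorem Bs.symm {R V : Subgroup M} {w w' : M} (h : Bs R V w w') : Bs R V w' w :=
  ⟨h.vs, h.m2, h.m1, h.bp.symm⟩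

theorem Hs.symm {R V A : Subgroup M} {w w' : M} (h : Hs R V A w w') : Hs R V A w' w :=
  ⟨h.vs, h.m2, h.m1, h.ark, h.a2, h.a1, fun e => h.np (sym h.m2.zz h.m1.zz e)⟩

theorem Mx.card_eq {V : Subgroup M} {w w' : M} (h : Mx V w) (h' : Mx V w') :
    Nat.card ↥(V ⊓ Qz w) = Nat.card ↥(V ⊓ Qz w') :=
  le_antisymm (h'.max w h.mem h.zz) (h.max w' h'.mem h'.zz)

/-- the elements of `R` centralize the elements of `V` -/
theorem VS.cm {R V : Subgroup M} (h : VS R V) {r x : M} (hr : r ∈ R) (hx : x ∈ V) :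
    r * x = x * r := h.ce hx r hr

/-- every chart has an ark in standard position -/
theorem exists_std {u : M} {θ : Th u} {R : Lam → M → Prop} (h : Ch u θ R) :
    ∃ A b, Std A u b θ R := by
  obtain ⟨s, r⟩ := h.ex2 (e8 none)
  obtain ⟨A, b, t, e, a, n⟩ := (Ch.ms h r).exists_ten2
  exact ⟨A, b, h, t, fun x => by rw [e]; rfl, a, n⟩

/-! ### Statements: arks -/

/-- SG -/
def SgStmt : Prop := ∃ X : Fin 4 → Subgroup M, (∀ i, IsPGroup 2 (X i) ∧ X i ≠ ⊥) ∧ ∀ U : Subgroup M,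
  U ≠ ⊥ → Sng U → (∃ i g, NN U ≤ NN (cj (X i) g)) ∨ ∃ A, Ark A ∧ NN U ≤ NN A

/-- AK0 -/
def Ak0Stmt : Prop := ∀ (A : Subgroup M) (u b : M) (θ : Th u) (R : Lam → M → Prop),
  Std A u b θ R → ∀ y, Ass θ zt y → Ak u y = A ∧ Jh u y = Qz u ⊓ CP A

/-- ST -/
def StStmt : Prop := ∀ A : Subgroup M, Ark A → ∀ u ∈ A, u ∈ ZZ → ∃ b θ R, Std A u b θ R

/-- AK -/
def AkStmt : Prop := ∀ A : Subgroup M, Ark A → ∀ u ∈ A, u ∈ ZZ → ∀ y ∈ Qz u ⊔ A, y ∉ Qz u →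
  TA u y ∧ Ak u y = A ∧ Jh u y = Qz u ⊓ CP A

/-- TA -/
def TaStmt : Prop := ∀ u y, TA u y → u ∈ ZZ ∧ y * u = u * y ∧ y ∉ Qz u ∧ u ∈ Ak u y ∧
  y ∈ Qz u ⊔ Ak u y ∧ (y * y = 1 → y ∈ CP (Ak u y)) ∧ (y ∈ DD → y ∈ Ak u y) ∧ Ak u (y * u) = Ak u y

/-- AC -/
def AcStmt : Prop := ∃ A₀ : Subgroup M, Ark A₀ ∧ ∀ A, Ark A → ∃ g, A = cj A₀ g

/-- FORM -/
def FormStmt : Prop := ∀ A : Subgroup M, Ark A → ∃ ν q, Frm A ν q

/-- NR -/
def NrStmt : Prop := ∀ A : Subgroup M, Ark A → ∀ g ∈ NN A, ∀ x ∈ A, x ∈ DD →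
  (∀ a ∈ A, g * a * g⁻¹ = a ∨ g * a * g⁻¹ = a * x) → g ∈ CP A

/-- PF -/
def PfStmt : Prop := ∀ A : Subgroup M, Ark A → PFa A

/-- QA -/
def QaStmt : Prop := ∀ A : Subgroup M, Ark A → ∀ u ∈ A, u ∈ ZZ → ∀ p ∈ CP A,
  p ∈ Qz u ⊔ A ↔ ∀ p' ∈ CP A, p' * p * p'⁻¹ * p⁻¹ ∈ Qz u

/-- IDX -/
def IdxStmt : Prop := ∀ A N : Subgroup M, Ark A → N ≤ A → Sng N → ∀ p : M,
  (∀ u ∈ N, u ≠ 1 → p ∈ Qz u ⊔ A) → ∃ N' : Subgroup M, (∀ u, u ∈ N' ↔ u ∈ N ∧ (u = 1 ∨ p ∈ Qz u)) ∧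
    (∀ u ∈ N, ∀ u' ∈ N, u ∉ N' → u' ∉ N' → u * u' ∈ N') ∧ Nat.card N ≤ 2 * Nat.card N'

/-- XE -/
def XeStmt : Prop := (∀ x, X0 x ↔ ∃ (c : Finset GolayPt) (hc : IsWord c) (τ : M24),
    x = signEl c hc * permEl τ ∧ (∀ i ∈ H42.toSet H42.oct0, τ.1 i = i) ∧
      ∀ i ∈ H42.toSet H42.oct0, ∀ j ∈ H42.toSet H42.oct0, (i ∈ c ↔ j ∈ c)) ∧
  ∀ τ : M24, (∀ i ∈ H42.toSet H42.oct0, τ.1 i = i) → τ.1 (some 4) = some 4 → τ = 1

/-- TM -/
def TmStmt : Prop := ∃ α β γ t q1 q3, Tri t q1 q3 ∧ LM α β γ t q1 q3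

/-- GM -/
def GmStmt : Prop := ∀ A : Subgroup M, Ark A → ∀ w ∈ A, w ∈ ZZ →
  ∃ α β γ t q1 q3, Tri t q1 q3 ∧ Md A w α β γ t q1 q3

/-- USM -/
def UsmStmt : Prop := ∀ (A : Subgroup M) (w : M) (α β γ : M → V8) (t : V8 → V8 → V8)
  (q1 q3 : V8 → ZMod 2), Ark A → w ∈ A → w ∈ ZZ → Tri t q1 q3 →
  Md A w α β γ t q1 q3 → ∀ p, Sp A w p → ∃ p₀ ∈ Qz w ⊓ CP A, p₀⁻¹ * p ∈ A ∧ β p₀ ≠ 0 ∧
    q1 (β p₀) = 0 ∧ ∀ a, a ∈ Us A p ↔ a ∈ A ⊓ Qz w ∧ α a ∈ Nb t q3 (β p₀)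

/-- TR1 -/
def Tr1Stmt : Prop := ∀ (A : Subgroup M) (w p : M), Ark A → w ∈ A → w ∈ ZZ → Sp A w p →
  Nat.card (Us A p) = 32 ∧ Us A p ≤ A ∧ Sng (Us A p) ∧ (∀ u ∈ Us A p, u ≠ 1 → p ∈ Qz u ⊔ A) ∧
    ∀ p' ∈ CP A, p' * p * p'⁻¹ * p⁻¹ ∈ Us A p

/-- TR2 -/
def Tr2Stmt : Prop := ∀ (A : Subgroup M) (w p p' : M), Ark A → w ∈ A → w ∈ ZZ → Sp A w p →
  Sp A w p' → p * p' = p' * p → p * p' ∉ A → Nat.card ↥(Us A p ⊓ Us A p') = 8

/-- TR3 -/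
def Tr3Stmt : Prop := ∀ (A : Subgroup M) (w p p' p'' : M), Ark A → w ∈ A → w ∈ ZZ → Sp A w p →
  Sp A w p' → Sp A w p'' → p * p' = p' * p → p * p' ∉ A → Us A p ⊓ Us A p' ≤ Us A p'' →
    p * p'' ∈ A ∨ p' * p'' ∈ A ∨ p * p' * p'' ∈ A

/-- TR4 -/
def Tr4Stmt : Prop := ∀ (A K : Subgroup M) (w p p' : M), Ark A → w ∈ A → w ∈ ZZ → Sp A w p →
  Sp A w p' → p * p' = p' * p → p * p' ∉ A → K ≤ CP A → (∀ k ∈ K, k * p = p * k ∧ k * p' = p' * k) →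
    Nat.card K ≤ 4 * Nat.card ↥(K ⊓ (Qz w ⊔ A))

/-- TR5 -/
def Tr5Stmt : Prop := ∀ (A : Subgroup M) (w w' p p' : M), Ark A → w ∈ A → w ∈ ZZ → w' ∈ A →
  w' ∈ ZZ → w' ∉ Qz w → Sp A w p → Sp A w' p' → p * p' = p' * p →
    8 ≤ Nat.card ↥(Us A p ⊓ Us A p')

/-- TR0 -/
def Tr0Stmt : Prop := ∀ (A : Subgroup M) (p : M), Ark A → p ∈ CP A → p * p = 1 →
  ∃ u ∈ A, u ∈ ZZ ∧ p ∈ Qz u ⊔ A

/-! ### Statements: the second case -/

/-- BU -/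
def BuStmt : Prop := ∀ w w', Bp w w' → Sp (Ak w w') w w' ∧ JJ w w' ≤ CP (Ak w w') ∧
  Nat.card (U0 w w') = 16 ∧ U0 w w' ≤ Us (Ak w w') w' ∧ U0 w w' ≤ Ak w w' ∧ Sng (U0 w w') ∧
  (∀ u ∈ U0 w w', u ≠ 1 → w ∈ Qz u ∧ w' ∈ Qz u) ∧
  ∀ u ∈ Us (Ak w w') w', u ∈ U0 w w' ∨ u * w ∈ U0 w w'

/-- BC -/
def BcStmt : Prop := ∀ w w', Bp w w' → ∀ x ∈ Ak w w' ⊔ zpowers w', ∀ x' ∈ Ak w' w ⊔ zpowers w,
  x * x' = x' * x

/-- BD -/
def BdStmt : Prop := ∀ w w', Bp w w' → Qz w ⊓ Qz w' ≤ TT w w' ∧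
  ∀ u ∈ U0 w w', u ≠ 1 → Qz w ⊓ Qz w' ≤ Qz u ∧ Ak w w' ⊓ Ak w' w ≤ Qz u

/-- BW -/
def BwStmt : Prop := ∀ w w' y, Bp w w' → Ln w w' y → Nat.card (WW w w' y) = 4 ∧
  (∀ u ∈ U0 w w', u ≠ 1 → (u ∈ WW w w' y ↔ y ∈ Qz u ⊔ Ak w w')) ∧
  ∀ y₁, Ln w w' y₁ → y * y₁ = y₁ * y → (WW w w' y = WW w w' y₁ ↔ y * y₁ ∈ TT w w')

/-- BN -/
def BnStmt : Prop := ∀ w w' y, Bp w w' → Ln w w' y → y ∉ CP (Ak w' w)

/-- B5 -/
def B5Stmt : Prop := ∀ w w' y, Bp w w' → Ln w w' y → ∀ a ∈ Ak w' w ⊔ zpowers w,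
  a * y * a⁻¹ * y⁻¹ ∈ WW w w' y ∧
    ∀ u ∈ WW w w' y, u ≠ 1 → a * y * a⁻¹ * y⁻¹ ∈ zpowers u → a ∈ Qz u

/-- BM -/
def BmStmt : Prop := ∀ w w' y y', Bp w w' → Ln w w' y → Ln w' w y' → y * y' = y' * y →
  WW w w' y ⊓ WW w' w y' ≠ ⊥

/-- BL -/
def BlStmt : Prop := ∀ w w' y y', Bp w w' → Ln w w' y → Ln w' w y' → y * y' = y' * y →
  WW w w' y ≠ WW w' w y' → ∀ b ∈ WW w w' y, b ∈ WW w' w y' → b ≠ 1 → y ∈ Qz b

/-- BI -/
def BiStmt : Prop := ∀ R V w w', Bs R V w w' →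
  2 * Nat.card ↥(V ⊓ Qz w ⊓ Qz w') ≤ Nat.card ↥(V ⊓ TT w w') ∧
  ∀ u ∈ U0 w w', u ∈ V → u ≠ 1 → ¬ V ⊓ Qz w ≤ Qz u ∧
    Nat.card ↥(V ⊓ Qz w ⊓ Qz u) * Nat.card ↥(V ⊓ Qz w' ⊓ Qz u) ≤
      Nat.card ↥(V ⊓ Qz w) * Nat.card ↥(V ⊓ Qz w ⊓ Qz w')

/-- BF0 -/
def Bf0Stmt : Prop := ∀ R V w w', Bs R V w w' → V ⊓ Qz w ≤ TT w w' → V ⊓ Qz w' ≤ TT w' w → False

/-- BF1 -/
def Bf1Stmt : Prop := ∀ R V w w', Bs R V w w' → ∀ y ∈ V, Ln w w' y →
  ∃ y₁ ∈ V, ∃ y' ∈ V, Ln w w' y₁ ∧ Ln w' w y' ∧ WW w w' y₁ ≠ WW w' w y'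

/-- BF2 -/
def Bf2Stmt : Prop := ∀ R V w w', Bs R V w w' → ∀ y ∈ V, ∀ y' ∈ V, Ln w w' y → Ln w' w y' →
  WW w w' y ≠ WW w' w y' → ∀ b ∈ WW w w' y, b ∈ WW w' w y' → b ≠ 1 →
    4 * Nat.card ↥(V ⊓ Qz w ⊓ (Qz b ⊔ Ak w w')) ≤ Nat.card ↥(V ⊓ Qz w) ∧
    2 * Nat.card ↥(V ⊓ TT w w') ≤ Nat.card ↥(V ⊓ Qz w ⊓ (Qz b ⊔ Ak w w'))

/-- BF3 -/
def Bf3Stmt : Prop := ∀ R V w w', Bs R V w w' → ∀ y ∈ V, ∀ y' ∈ V, Ln w w' y → Ln w' w y' →
  WW w w' y = WW w' w y'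

/-! ### Statements: the other cases -/

/-- CC -/
def CcStmt : Prop := ∀ R V u y, VS R V → Mx V u → y ∈ V → y ∈ ZZ → ¬ TC u y

/-- H1 -/
def H1Stmt : Prop := ∀ R V A w w', Hs R V A w w' → V ⊓ Qz w ≤ A

/-- H2 -/
def H2Stmt : Prop := ∀ A R : Subgroup M, Ark A → IsPGroup 2 R → R ≤ NN A →
  (∀ u ∈ A ⊓ CP R, u ∈ ZZ → ¬ A ⊓ CP R ≤ Qz u) → R ≤ CP A

/-- H3 -/
def H3Stmt : Prop := ∀ R V A w w', Hs R V A w w' → V = A

/-- CH -/
def ChStmt : Prop := ∀ H : Subgroup M, IsMaximalTwoLocal H → ∃ R V : Subgroup M, H = NN V ∧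
  V ≠ ⊥ ∧ El V ∧ ((∀ x ∈ V, x ≠ 1 → x ∈ DD) ∨ ((∃ x ∈ V, x ∈ ZZ) ∧ VS R V))

/-- AA -/
def AaStmt : Prop := ∃ X : Fin 2 → Subgroup M, (∀ i, IsPGroup 2 (X i) ∧ X i ≠ ⊥) ∧ ∀ V : Subgroup M,
  V ≠ ⊥ → (∀ x ∈ V, x ≠ 1 → x ∈ DD) → ∃ i g, V = cj (X i) g

/-- MN -/
def MnStmt : Prop := ∀ R V : Subgroup M, VS R V → (∃ x ∈ V, x ∈ ZZ) →
  (∃ U : Subgroup M, U ≠ ⊥ ∧ Sng U ∧ NN V ≤ NN U) ∨ Ark V

/-- FN -/
def FnStmt : Prop := ∀ X : Fin 7 → Subgroup M, (∀ i, IsPGroup 2 (X i) ∧ X i ≠ ⊥) →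
  (∀ H : Subgroup M, IsMaximalTwoLocal H → ∃ i g, H ≤ NN (cj (X i) g)) →
  ∃ S : Finset (Subgroup Spor.Monster), S.card = 7 ∧ (∀ H ∈ S, IsTwoLocal H) ∧
    ∀ H : Subgroup Spor.Monster, IsMaximalTwoLocal H →
      ∃ H₀ ∈ S, ∃ g : Spor.Monster, H = H₀.map (MulAut.conj g).toMonoidHom

set_option linter.unusedTactic false in
set_option linter.unreachableTactic false in
theorem eqns_M2Defs : True := by
  first | (have := @Cfsg.Agent.H48.M2.El.eq_def) | skip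
  first | (have := @Cfsg.Agent.H48.M2.El.eq_1) | skip
  first | (have := @Cfsg.Agent.H48.M2.El.eq_unfold) | skip
  first | (have := @Cfsg.Agent.H48.M2.El.congr_simp) | skip
  first | (have := @Cfsg.Agent.H48.M2.Sng.eq_def) | skip
  first | (have := @Cfsg.Agent.H48.M2.Sng.eq_1) | skip
  first | (have := @Cfsg.Agent.H48.M2.Sng.eq_unfold) | skip
  first | (have := @Cfsg.Agent.H48.M2.Sng.congr_simp) | skip
  first | (have := @Cfsg.Agent.H48.M2.CP.eq_def) | skip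
  first | (have := @Cfsg.Agent.H48.M2.CP.eq_1) | skip
  first | (have := @Cfsg.Agent.H48.M2.CP.eq_unfold) | skip
  first | (have := @Cfsg.Agent.H48.M2.CP.congr_simp) | skip
  first | (have := @Cfsg.Agent.H48.M2.NN.eq_def) | skip
  first | (have := @Cfsg.Agent.H48.M2.NN.eq_1) | skip
  first | (have := @Cfsg.Agent.H48.M2.NN.eq_unfold) | skip
  first | (have := @Cfsg.Agent.H48.M2.NN.congr_simp) | skip
  first | (have := @Cfsg.Agent.H48.M2.TA.eq_def) | skip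
  first | (have := @Cfsg.Agent.H48.M2.TA.eq_1) | skip
  first | (have := @Cfsg.Agent.H48.M2.TA.eq_unfold) | skip
  first | (have := @Cfsg.Agent.H48.M2.TA.congr_simp) | skip
  first | (have := @Cfsg.Agent.H48.M2.TC.eq_def) | skip
  first | (have := @Cfsg.Agent.H48.M2.TC.eq_1) | skip
  first | (have := @Cfsg.Agent.H48.M2.TC.eq_unfold) | skip
  first | (have := @Cfsg.Agent.H48.M2.TC.congr_simp) | skip
  first | (have := @Cfsg.Agent.H48.M2.Jh.eq_def) | skip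
  first | (have := @Cfsg.Agent.H48.M2.Jh.eq_1) | skip
  first | (have := @Cfsg.Agent.H48.M2.Jh.eq_unfold) | skip
  first | (have := @Cfsg.Agent.H48.M2.Jh.congr_simp) | skip
  first | (have := @Cfsg.Agent.H48.M2.Ak.eq_def) | skip
  first | (have := @Cfsg.Agent.H48.M2.Ak.eq_1) | skip
  first | (have := @Cfsg.Agent.H48.M2.Ak.eq_unfold) | skip
  first | (have := @Cfsg.Agent.H48.M2.Ak.congr_simp) | skip
  first | (have := @Cfsg.Agent.H48.M2.Ark.eq_def) | skip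
  first | (have := @Cfsg.Agent.H48.M2.Ark.eq_1) | skip
  first | (have := @Cfsg.Agent.H48.M2.Ark.eq_unfold) | skip
  first | (have := @Cfsg.Agent.H48.M2.Ark.congr_simp) | skip
  first | (have := @Cfsg.Agent.H48.M2.Us.eq_def) | skip
  first | (have := @Cfsg.Agent.H48.M2.Us.eq_1) | skip
  first | (have := @Cfsg.Agent.H48.M2.Us.eq_unfold) | skip
  first | (have := @Cfsg.Agent.H48.M2.Us.congr_simp) | skip
  first | (have := @Cfsg.Agent.H48.M2.U0.eq_def) | skip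
  first | (have := @Cfsg.Agent.H48.M2.U0.eq_1) | skip
  first | (have := @Cfsg.Agent.H48.M2.U0.eq_unfold) | skip
  first | (have := @Cfsg.Agent.H48.M2.U0.congr_simp) | skip
  first | (have := @Cfsg.Agent.H48.M2.JJ.eq_def) | skip
  first | (have := @Cfsg.Agent.H48.M2.JJ.eq_1) | skip
  first | (have := @Cfsg.Agent.H48.M2.JJ.eq_unfold) | skip
  first | (have := @Cfsg.Agent.H48.M2.JJ.congr_simp) | skip
  first | (have := @Cfsg.Agent.H48.M2.TT.eq_def) | skip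
  first | (have := @Cfsg.Agent.H48.M2.TT.eq_1) | skip
  first | (have := @Cfsg.Agent.H48.M2.TT.eq_unfold) | skip
  first | (have := @Cfsg.Agent.H48.M2.TT.congr_simp) | skip
  first | (have := @Cfsg.Agent.H48.M2.WW.eq_def) | skip
  first | (have := @Cfsg.Agent.H48.M2.WW.eq_1) | skip
  first | (have := @Cfsg.Agent.H48.M2.WW.eq_unfold) | skip
  first | (have := @Cfsg.Agent.H48.M2.WW.congr_simp) | skip
  first | (have := @Cfsg.Agent.H48.M2.V8.eq_def) | skip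
  first | (have := @Cfsg.Agent.H48.M2.V8.eq_1) | skip
  first | (have := @Cfsg.Agent.H48.M2.V8.eq_unfold) | skip
  first | (have := @Cfsg.Agent.H48.M2.V8.congr_simp) | skip
  first | (have := @Cfsg.Agent.H48.M2.B3.eq_def) | skip
  first | (have := @Cfsg.Agent.H48.M2.B3.eq_1) | skip
  first | (have := @Cfsg.Agent.H48.M2.B3.eq_unfold) | skip
  first | (have := @Cfsg.Agent.H48.M2.B3.congr_simp) | skip
  first | (have := @Cfsg.Agent.H48.M2.Nb.eq_def) | skip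
  first | (have := @Cfsg.Agent.H48.M2.Nb.eq_1) | skip
  first | (have := @Cfsg.Agent.H48.M2.Nb.eq_unfold) | skip
  first | (have := @Cfsg.Agent.H48.M2.Nb.congr_simp) | skip
  first | (have := @Cfsg.Agent.H48.M2.Ng.eq_def) | skip
  first | (have := @Cfsg.Agent.H48.M2.Ng.eq_1) | skip
  first | (have := @Cfsg.Agent.H48.M2.Ng.eq_unfold) | skip
  first | (have := @Cfsg.Agent.H48.M2.Ng.congr_simp) | skip
  first | (have := @Cfsg.Agent.H48.M2.X0.eq_def) | skip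
  first | (have := @Cfsg.Agent.H48.M2.X0.eq_1) | skip
  first | (have := @Cfsg.Agent.H48.M2.X0.eq_unfold) | skip
  first | (have := @Cfsg.Agent.H48.M2.X0.congr_simp) | skip
  first | (have := @Cfsg.Agent.H48.M2.SgStmt.eq_def) | skip
  first | (have := @Cfsg.Agent.H48.M2.SgStmt.eq_1) | skip
  first | (have := @Cfsg.Agent.H48.M2.SgStmt.eq_unfold) | skip
  first | (have := @Cfsg.Agent.H48.M2.SgStmt.congr_simp) | skip
  first | (have := @Cfsg.Agent.H48.M2.Ak0Stmt.eq_def) | skip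
  first | (have := @Cfsg.Agent.H48.M2.Ak0Stmt.eq_1) | skip
  first | (have := @Cfsg.Agent.H48.M2.Ak0Stmt.eq_unfold) | skip
  first | (have := @Cfsg.Agent.H48.M2.Ak0Stmt.congr_simp) | skip
  first | (have := @Cfsg.Agent.H48.M2.StStmt.eq_def) | skip
  first | (have := @Cfsg.Agent.H48.M2.StStmt.eq_1) | skip
  first | (have := @Cfsg.Agent.H48.M2.StStmt.eq_unfold) | skip
  first | (have := @Cfsg.Agent.H48.M2.StStmt.congr_simp) | skip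
  first | (have := @Cfsg.Agent.H48.M2.AkStmt.eq_def) | skip
  first | (have := @Cfsg.Agent.H48.M2.AkStmt.eq_1) | skip
  first | (have := @Cfsg.Agent.H48.M2.AkStmt.eq_unfold) | skip
  first | (have := @Cfsg.Agent.H48.M2.AkStmt.congr_simp) | skip
  first | (have := @Cfsg.Agent.H48.M2.TaStmt.eq_def) | skip
  first | (have := @Cfsg.Agent.H48.M2.TaStmt.eq_1) | skip
  first | (have := @Cfsg.Agent.H48.M2.TaStmt.eq_unfold) | skip
  first | (have := @Cfsg.Agent.H48.M2.TaStmt.congr_simp) | skip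
  first | (have := @Cfsg.Agent.H48.M2.AcStmt.eq_def) | skip
  first | (have := @Cfsg.Agent.H48.M2.AcStmt.eq_1) | skip
  first | (have := @Cfsg.Agent.H48.M2.AcStmt.eq_unfold) | skip
  first | (have := @Cfsg.Agent.H48.M2.AcStmt.congr_simp) | skip
  first | (have := @Cfsg.Agent.H48.M2.FormStmt.eq_def) | skip
  first | (have := @Cfsg.Agent.H48.M2.FormStmt.eq_1) | skip
  first | (have := @Cfsg.Agent.H48.M2.FormStmt.eq_unfold) | skip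
  first | (have := @Cfsg.Agent.H48.M2.FormStmt.congr_simp) | skip
  first | (have := @Cfsg.Agent.H48.M2.NrStmt.eq_def) | skip
  first | (have := @Cfsg.Agent.H48.M2.NrStmt.eq_1) | skip
  first | (have := @Cfsg.Agent.H48.M2.NrStmt.eq_unfold) | skip
  first | (have := @Cfsg.Agent.H48.M2.NrStmt.congr_simp) | skip
  first | (have := @Cfsg.Agent.H48.M2.PfStmt.eq_def) | skip
  first | (have := @Cfsg.Agent.H48.M2.PfStmt.eq_1) | skip
  first | (have := @Cfsg.Agent.H48.M2.PfStmt.eq_unfold) | skip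
  first | (have := @Cfsg.Agent.H48.M2.PfStmt.congr_simp) | skip
  first | (have := @Cfsg.Agent.H48.M2.QaStmt.eq_def) | skip
  first | (have := @Cfsg.Agent.H48.M2.QaStmt.eq_1) | skip
  first | (have := @Cfsg.Agent.H48.M2.QaStmt.eq_unfold) | skip
  first | (have := @Cfsg.Agent.H48.M2.QaStmt.congr_simp) | skip
  first | (have := @Cfsg.Agent.H48.M2.IdxStmt.eq_def) | skip
  first | (have := @Cfsg.Agent.H48.M2.IdxStmt.eq_1) | skip
  first | (have := @Cfsg.Agent.H48.M2.IdxStmt.eq_unfold) | skip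
  first | (have := @Cfsg.Agent.H48.M2.IdxStmt.congr_simp) | skip
  first | (have := @Cfsg.Agent.H48.M2.XeStmt.eq_def) | skip
  first | (have := @Cfsg.Agent.H48.M2.XeStmt.eq_1) | skip
  first | (have := @Cfsg.Agent.H48.M2.XeStmt.eq_unfold) | skip
  first | (have := @Cfsg.Agent.H48.M2.XeStmt.congr_simp) | skip
  first | (have := @Cfsg.Agent.H48.M2.TmStmt.eq_def) | skip
  first | (have := @Cfsg.Agent.H48.M2.TmStmt.eq_1) | skip
  first | (have := @Cfsg.Agent.H48.M2.TmStmt.eq_unfold) | skip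
  first | (have := @Cfsg.Agent.H48.M2.TmStmt.congr_simp) | skip
  first | (have := @Cfsg.Agent.H48.M2.GmStmt.eq_def) | skip
  first | (have := @Cfsg.Agent.H48.M2.GmStmt.eq_1) | skip
  first | (have := @Cfsg.Agent.H48.M2.GmStmt.eq_unfold) | skip
  first | (have := @Cfsg.Agent.H48.M2.GmStmt.congr_simp) | skip
  first | (have := @Cfsg.Agent.H48.M2.UsmStmt.eq_def) | skip
  first | (have := @Cfsg.Agent.H48.M2.UsmStmt.eq_1) | skip
  first | (have := @Cfsg.Agent.H48.M2.UsmStmt.eq_unfold) | skip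
  first | (have := @Cfsg.Agent.H48.M2.UsmStmt.congr_simp) | skip
  first | (have := @Cfsg.Agent.H48.M2.Tr1Stmt.eq_def) | skip
  first | (have := @Cfsg.Agent.H48.M2.Tr1Stmt.eq_1) | skip
  first | (have := @Cfsg.Agent.H48.M2.Tr1Stmt.eq_unfold) | skip
  first | (have := @Cfsg.Agent.H48.M2.Tr1Stmt.congr_simp) | skip
  first | (have := @Cfsg.Agent.H48.M2.Tr2Stmt.eq_def) | skip
  first | (have := @Cfsg.Agent.H48.M2.Tr2Stmt.eq_1) | skip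
  first | (have := @Cfsg.Agent.H48.M2.Tr2Stmt.eq_unfold) | skip
  first | (have := @Cfsg.Agent.H48.M2.Tr2Stmt.congr_simp) | skip
  first | (have := @Cfsg.Agent.H48.M2.Tr3Stmt.eq_def) | skip
  first | (have := @Cfsg.Agent.H48.M2.Tr3Stmt.eq_1) | skip
  first | (have := @Cfsg.Agent.H48.M2.Tr3Stmt.eq_unfold) | skip
  first | (have := @Cfsg.Agent.H48.M2.Tr3Stmt.congr_simp) | skip
  first | (have := @Cfsg.Agent.H48.M2.Tr4Stmt.eq_def) | skip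
  first | (have := @Cfsg.Agent.H48.M2.Tr4Stmt.eq_1) | skip
  first | (have := @Cfsg.Agent.H48.M2.Tr4Stmt.eq_unfold) | skip
  first | (have := @Cfsg.Agent.H48.M2.Tr4Stmt.congr_simp) | skip
  first | (have := @Cfsg.Agent.H48.M2.Tr5Stmt.eq_def) | skip
  first | (have := @Cfsg.Agent.H48.M2.Tr5Stmt.eq_1) | skip
  first | (have := @Cfsg.Agent.H48.M2.Tr5Stmt.eq_unfold) | skip
  first | (have := @Cfsg.Agent.H48.M2.Tr5Stmt.congr_simp) | skip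
  first | (have := @Cfsg.Agent.H48.M2.Tr0Stmt.eq_def) | skip
  first | (have := @Cfsg.Agent.H48.M2.Tr0Stmt.eq_1) | skip
  first | (have := @Cfsg.Agent.H48.M2.Tr0Stmt.eq_unfold) | skip
  first | (have := @Cfsg.Agent.H48.M2.Tr0Stmt.congr_simp) | skip
  first | (have := @Cfsg.Agent.H48.M2.BuStmt.eq_def) | skip
  first | (have := @Cfsg.Agent.H48.M2.BuStmt.eq_1) | skip
  first | (have := @Cfsg.Agent.H48.M2.BuStmt.eq_unfold) | skip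
  first | (have := @Cfsg.Agent.H48.M2.BuStmt.congr_simp) | skip
  first | (have := @Cfsg.Agent.H48.M2.BcStmt.eq_def) | skip
  first | (have := @Cfsg.Agent.H48.M2.BcStmt.eq_1) | skip
  first | (have := @Cfsg.Agent.H48.M2.BcStmt.eq_unfold) | skip
  first | (have := @Cfsg.Agent.H48.M2.BcStmt.congr_simp) | skip
  first | (have := @Cfsg.Agent.H48.M2.BdStmt.eq_def) | skip
  first | (have := @Cfsg.Agent.H48.M2.BdStmt.eq_1) | skip
  first | (have := @Cfsg.Agent.H48.M2.BdStmt.eq_unfold) | skip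
  first | (have := @Cfsg.Agent.H48.M2.BdStmt.congr_simp) | skip
  first | (have := @Cfsg.Agent.H48.M2.BwStmt.eq_def) | skip
  first | (have := @Cfsg.Agent.H48.M2.BwStmt.eq_1) | skip
  first | (have := @Cfsg.Agent.H48.M2.BwStmt.eq_unfold) | skip
  first | (have := @Cfsg.Agent.H48.M2.BwStmt.congr_simp) | skip
  first | (have := @Cfsg.Agent.H48.M2.BnStmt.eq_def) | skip
  first | (have := @Cfsg.Agent.H48.M2.BnStmt.eq_1) | skip
  first | (have := @Cfsg.Agent.H48.M2.BnStmt.eq_unfold) | skip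
  first | (have := @Cfsg.Agent.H48.M2.BnStmt.congr_simp) | skip
  first | (have := @Cfsg.Agent.H48.M2.B5Stmt.eq_def) | skip
  first | (have := @Cfsg.Agent.H48.M2.B5Stmt.eq_1) | skip
  first | (have := @Cfsg.Agent.H48.M2.B5Stmt.eq_unfold) | skip
  first | (have := @Cfsg.Agent.H48.M2.B5Stmt.congr_simp) | skip
  first | (have := @Cfsg.Agent.H48.M2.BmStmt.eq_def) | skip
  first | (have := @Cfsg.Agent.H48.M2.BmStmt.eq_1) | skip
  first | (have := @Cfsg.Agent.H48.M2.BmStmt.eq_unfold) | skip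
  first | (have := @Cfsg.Agent.H48.M2.BmStmt.congr_simp) | skip
  first | (have := @Cfsg.Agent.H48.M2.BlStmt.eq_def) | skip
  first | (have := @Cfsg.Agent.H48.M2.BlStmt.eq_1) | skip
  first | (have := @Cfsg.Agent.H48.M2.BlStmt.eq_unfold) | skip
  first | (have := @Cfsg.Agent.H48.M2.BlStmt.congr_simp) | skip
  first | (have := @Cfsg.Agent.H48.M2.BiStmt.eq_def) | skip
  first | (have := @Cfsg.Agent.H48.M2.BiStmt.eq_1) | skip
  first | (have := @Cfsg.Agent.H48.M2.BiStmt.eq_unfold) | skip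
  first | (have := @Cfsg.Agent.H48.M2.BiStmt.congr_simp) | skip
  first | (have := @Cfsg.Agent.H48.M2.Bf0Stmt.eq_def) | skip
  first | (have := @Cfsg.Agent.H48.M2.Bf0Stmt.eq_1) | skip
  first | (have := @Cfsg.Agent.H48.M2.Bf0Stmt.eq_unfold) | skip
  first | (have := @Cfsg.Agent.H48.M2.Bf0Stmt.congr_simp) | skip
  first | (have := @Cfsg.Agent.H48.M2.Bf1Stmt.eq_def) | skip
  first | (have := @Cfsg.Agent.H48.M2.Bf1Stmt.eq_1) | skip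
  first | (have := @Cfsg.Agent.H48.M2.Bf1Stmt.eq_unfold) | skip
  first | (have := @Cfsg.Agent.H48.M2.Bf1Stmt.congr_simp) | skip
  first | (have := @Cfsg.Agent.H48.M2.Bf2Stmt.eq_def) | skip
  first | (have := @Cfsg.Agent.H48.M2.Bf2Stmt.eq_1) | skip
  first | (have := @Cfsg.Agent.H48.M2.Bf2Stmt.eq_unfold) | skip
  first | (have := @Cfsg.Agent.H48.M2.Bf2Stmt.congr_simp) | skip
  first | (have := @Cfsg.Agent.H48.M2.Bf3Stmt.eq_def) | skip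
  first | (have := @Cfsg.Agent.H48.M2.Bf3Stmt.eq_1) | skip
  first | (have := @Cfsg.Agent.H48.M2.Bf3Stmt.eq_unfold) | skip
  first | (have := @Cfsg.Agent.H48.M2.Bf3Stmt.congr_simp) | skip
  first | (have := @Cfsg.Agent.H48.M2.CcStmt.eq_def) | skip
  first | (have := @Cfsg.Agent.H48.M2.CcStmt.eq_1) | skip
  first | (have := @Cfsg.Agent.H48.M2.CcStmt.eq_unfold) | skip
  first | (have := @Cfsg.Agent.H48.M2.CcStmt.congr_simp) | skip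
  first | (have := @Cfsg.Agent.H48.M2.H1Stmt.eq_def) | skip
  first | (have := @Cfsg.Agent.H48.M2.H1Stmt.eq_1) | skip
  first | (have := @Cfsg.Agent.H48.M2.H1Stmt.eq_unfold) | skip
  first | (have := @Cfsg.Agent.H48.M2.H1Stmt.congr_simp) | skip
  first | (have := @Cfsg.Agent.H48.M2.H2Stmt.eq_def) | skip
  first | (have := @Cfsg.Agent.H48.M2.H2Stmt.eq_1) | skip
  first | (have := @Cfsg.Agent.H48.M2.H2Stmt.eq_unfold) | skip
  first | (have := @Cfsg.Agent.H48.M2.H2Stmt.congr_simp) | skip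
  first | (have := @Cfsg.Agent.H48.M2.H3Stmt.eq_def) | skip
  first | (have := @Cfsg.Agent.H48.M2.H3Stmt.eq_1) | skip
  first | (have := @Cfsg.Agent.H48.M2.H3Stmt.eq_unfold) | skip
  first | (have := @Cfsg.Agent.H48.M2.H3Stmt.congr_simp) | skip
  first | (have := @Cfsg.Agent.H48.M2.ChStmt.eq_def) | skip
  first | (have := @Cfsg.Agent.H48.M2.ChStmt.eq_1) | skip
  first | (have := @Cfsg.Agent.H48.M2.ChStmt.eq_unfold) | skip
  first | (have := @Cfsg.Agent.H48.M2.ChStmt.congr_simp) | skip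
  first | (have := @Cfsg.Agent.H48.M2.AaStmt.eq_def) | skip
  first | (have := @Cfsg.Agent.H48.M2.AaStmt.eq_1) | skip
  first | (have := @Cfsg.Agent.H48.M2.AaStmt.eq_unfold) | skip
  first | (have := @Cfsg.Agent.H48.M2.AaStmt.congr_simp) | skip
  first | (have := @Cfsg.Agent.H48.M2.MnStmt.eq_def) | skip
  first | (have := @Cfsg.Agent.H48.M2.MnStmt.eq_1) | skip
  first | (have := @Cfsg.Agent.H48.M2.MnStmt.eq_unfold) | skip
  first | (have := @Cfsg.Agent.H48.M2.MnStmt.congr_simp) | skip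
  first | (have := @Cfsg.Agent.H48.M2.FnStmt.eq_def) | skip
  first | (have := @Cfsg.Agent.H48.M2.FnStmt.eq_1) | skip
  first | (have := @Cfsg.Agent.H48.M2.FnStmt.eq_unfold) | skip
  first | (have := @Cfsg.Agent.H48.M2.FnStmt.congr_simp) | skip
  trivial

end Cfsg.Agent.H48.M2
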