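import Cfsg.Agent.H48.HsK

/-! A standard subgroup `2.HS`: definitions, basic calculus and the statements of the parts. -/

set_option autoImplicit false
set_option maxRecDepth 100000

namespace Cfsg.Agent.H48.HS

open Cfsg.Agent.H68.DCE Cfsg.Agent.H68.HN Cfsg.Agent.H63 Cfsg.Agent.H67 Subgroup

universe u

variable {Γ : Type*} [Group Γ]

/-- The element centralises the component. -/
def Cn (J : K → Γ) (s : Γ) : Prop := ∀ a ∈ K1, s * J a = J a * s

/-- The element acts on the component as `k`. -/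
def Ac (J : K → Γ) (n : Γ) (k : K) : Prop := ∀ a ∈ K1, n * J a * n⁻¹ = J (k * a * k⁻¹)

/-- The component is normal in the centraliser of its central involution. -/
structure S0 (J : K → Γ) : Prop where
  mul : ∀ a ∈ K1, ∀ b ∈ K1, J (a * b) = J a * J b
  inj : ∀ a ∈ K1, ∀ b ∈ K1, J a = J b → a = b
  dom : ∀ n, n * J eU = J eU * n → ∃ k, Ac J n k

/-- The centraliser of the component is tightly embedded. -/
structure SD (J : K → Γ) : Prop extends S0 J where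
  tight : ∀ s g, s * s = 1 → s ≠ 1 → Cn J s → Cn J (g * s * g⁻¹) → g * J eU = J eU * g

/-- The centraliser of the component has exponent four and one involution. -/
structure SQ (J : K → Γ) : Prop extends S0 J where
  z4 : ∀ z, Cn J z → z * z * (z * z) = 1
  z2 : ∀ z, Cn J z → z * z = 1 → z = 1 ∨ z = J eU

/-- A conjugate of the central involution that acts as an inner automorphism is in the component. -/
def IN (J : K → Γ) : Prop := ∀ c, ∀ σ ∈ K1, c * J eU ≠ J eU * c → Ac J (c * J eU * c⁻¹) σ →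
  ∃ υ ∈ K1, c * J eU * c⁻¹ = J υ

/-- Part A0. -/
def A0Stmt : Prop := ∀ (Γ : Type u) [Group Γ] [Finite Γ] (J : K → Γ), SD J → IN J

/-- Part A1. -/
def A1Stmt : Prop := ∀ (Γ : Type u) [Group Γ] [Finite Γ] (J : K → Γ), SD J →
  (∃ g, g * J eU * g⁻¹ * J eU = J eU * (g * J eU * g⁻¹) ∧ g * J eU * g⁻¹ ≠ J eU) →
  ∃ c τ, (τ = eT ∨ τ = eU * eT) ∧ c * J τ * c⁻¹ = J eU

/-- Part A2. -/
def A2Stmt : Prop := ∀ (Γ : Type u) [Group Γ] [Finite Γ] (J : K → Γ), SD J →
  ∀ c τ, (τ = eT ∨ τ = eU * eT) → c * J τ * c⁻¹ = J eU →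
  (∀ k, Cn J k → Cn J (c * (k * k * (k * k)) * c⁻¹)) ∧
    ∀ s, Cn J s → s * s = 1 → s = 1 ∨ s = J eU

/-- Part B. -/
def BStmt : Prop := ∀ (Γ : Type u) [Group Γ] [Finite Γ] (J : K → Γ), SQ J →
  ¬ IsConj (J (eU * eT)) (J eU) ∧ (IsConj (J eT) (J eU) →
    ∃ E : G →* Γ, Function.Injective E ∧ (∀ a ∈ K1, E (φ a) = J a) ∧
      ((∀ g, g * J eU = J eU * g → ∃ k, g = E (φ k)) ∨ ∃ κ, Cn J κ ∧ κ * κ = J eU ∧
        ∀ g, g * J eU = J eU * g → ∃ k, g = E (φ k) ∨ g = κ * E (φ k)))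

variable {J : K → Γ}

theorem Cn.one : Cn J 1 := fun _ _ => by simp

theorem Cn.mul {s s' : Γ} (h : Cn J s) (h' : Cn J s') : Cn J (s * s') := fun a ha => by
  rw [mul_assoc, h' a ha, ← mul_assoc, h a ha, mul_assoc]

theorem Cn.inv {s : Γ} (h : Cn J s) : Cn J s⁻¹ := fun a ha =>
  (Commute.inv_left (h a ha) :)

theorem Cn.pow {s : Γ} (h : Cn J s) (n : ℕ) : Cn J (s ^ n) := fun a ha =>
  (Commute.pow_left (h a ha) n :)

theorem Cn.t {s : Γ} (h : Cn J s) : s * J eU = J eU * s := h _ eU_K1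

theorem Cn.ac {s : Γ} (h : Cn J s) : Ac J s 1 := fun a ha => by
  rw [h a ha, mul_inv_cancel_right, one_mul, inv_one, mul_one]

theorem Ac.t {n : Γ} {k : K} (h : Ac J n k) : n * J eU = J eU * n :=
  mul_inv_eq_iff_eq_mul.1 ((h _ eU_K1).trans (by rw [conj_eU]))

theorem Ac.mul {n m : Γ} {k l : K} (h : Ac J n k) (h' : Ac J m l) : Ac J (n * m) (k * l) :=
  fun a ha => by rw [conj_conj', h' a ha, h _ (conj_K1.2 ha), conj_conj']

theorem Ac.inv {n : Γ} {k : K} (h : Ac J n k) : Ac J n⁻¹ k⁻¹ := fun a ha =>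
  conj_symm ((h _ (conj_K1.2 ha)).trans (congrArg J (by group)))

theorem Ac.conj {n m : Γ} {k l : K} (h : Ac J n k) (h' : Ac J m l) :
    Ac J (n * m * n⁻¹) (k * l * k⁻¹) := (h.mul h').mul h.inv

theorem Ac.pow {n : Γ} {k : K} (h : Ac J n k) (i : ℕ) : Ac J (n ^ i) (k ^ i) := by
  induction i with
  | zero => rw [pow_zero, pow_zero]; exact Cn.one.ac
  | succ i ih => rw [pow_succ, pow_succ]; exact ih.mul h

theorem Ac.cn {n : Γ} {k : K} (h : Ac J n k) (hk : U2 k) : Cn J n := fun a ha =>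
  mul_inv_eq_iff_eq_mul.1 ((h a ha).trans (by rw [hk.comm, mul_inv_cancel_right]))

theorem Ac.mulU {n : Γ} {k x : K} (h : Ac J n k) (hx : U2 x) : Ac J n (x * k) := fun a ha => by
  rw [h a ha, conj_conj', hx.comm, mul_inv_cancel_right]

theorem Ac.cn_conj {n s : Γ} {k : K} (h : Ac J n k) (hs : Cn J s) : Cn J (n * s * n⁻¹) :=
  (h.conj hs.ac).cn ((U2.conj k).2 U2.one)

namespace S0

variable (h : S0 J)
include h

theorem one : J 1 = 1 :=
  mul_eq_left.1 ((h.mul 1 (one_mem _) 1 (one_mem _)).symm.trans (by rw [mul_one]))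

theorem inv {a : K} (ha : a ∈ K1) : J a⁻¹ = (J a)⁻¹ :=
  eq_inv_of_mul_eq_one_left (by rw [← h.mul _ (inv_mem ha) _ ha, inv_mul_cancel, h.one])

theorem pow {a : K} (ha : a ∈ K1) (n : ℕ) : J (a ^ n) = J a ^ n := by
  induction n with
  | zero => rw [pow_zero, pow_zero, h.one]
  | succ n ih => rw [pow_succ, pow_succ, h.mul _ (pow_mem ha n) _ ha, ih]

theorem eq_one {a : K} (ha : a ∈ K1) (e : J a = 1) : a = 1 :=
  h.inj _ ha _ (one_mem _) (e.trans h.one.symm)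

theorem tt : J eU * J eU = 1 := by rw [← h.mul _ eU_K1 _ eU_K1, f_uu, h.one]

theorem t1 : J eU ≠ 1 := fun e => f_u1 (h.eq_one eU_K1 e)

theorem ac {k : K} (hk : k ∈ K1) : Ac J (J k) k := fun a ha => by
  rw [h.mul _ (mul_mem hk ha) _ (inv_mem hk), h.mul _ hk _ ha, h.inv hk]

theorem comm {a b : K} (ha : a ∈ K1) (hb : b ∈ K1) : J a * J b = J b * J a ↔ a * b = b * a := by
  rw [← h.mul _ ha _ hb, ← h.mul _ hb _ ha]
  exact ⟨h.inj _ (mul_mem ha hb) _ (mul_mem hb ha), congrArg J⟩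

theorem cn_t : Cn J (J eU) := (h.ac eU_K1).cn U2.u

theorem jt {a : K} (ha : a ∈ K1) : J a * J eU = J eU * J a := (h.ac ha).t

theorem u2 {n : Γ} {k : K} (hn : Ac J n k) (c : Cn J n) : U2 k := cent_K1 fun a ha =>
  mul_inv_eq_iff_eq_mul.1 (h.inj _ (conj_K1.2 ha) _ ha
    ((hn a ha).symm.trans (conj_of_mul (c a ha))))

theorem uniq {n : Γ} {k l : K} (hk : Ac J n k) (hl : Ac J n l) : k = l ∨ k = eU * l :=
  (h.u2 (hk.mul hl.inv) (by rw [mul_inv_cancel]; exact Cn.one)).imp mul_inv_eq_one.1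
    mul_inv_eq_iff_eq_mul.1

theorem cn_iff {a : K} (ha : a ∈ K1) : Cn J (J a) ↔ U2 a := ⟨h.u2 (h.ac ha), (h.ac ha).cn⟩

/-- An element that commutes with an element of the component. -/
theorem ac_comm {n : Γ} {k a : K} (hn : Ac J n k) (ha : a ∈ K1) :
    n * J a = J a * n ↔ k * a = a * k := by
  rw [← mul_inv_eq_iff_eq_mul, hn a ha, ← mul_inv_eq_iff_eq_mul (a := k * a)]
  exact ⟨h.inj _ (conj_K1.2 ha) _ ha, congrArg J⟩

theorem comm_or {n m : Γ} {k l : K} (hn : Ac J n k) (hm : Ac J m l) (c : n * m = m * n) :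
    k * l * k⁻¹ = l ∨ k * l * k⁻¹ = eU * l :=
  h.uniq (hn.conj hm) (by rw [conj_of_mul c]; exact hm)

theorem comm_three {n m : Γ} {k l : K} (hn : Ac J n k) (hm : Ac J m l) (c : n * m = m * n)
    (h3 : l * (l * l) = 1) : k * l = l * k := by
  refine mul_inv_eq_iff_eq_mul.1 ((h.comm_or hn hm c).resolve_right fun e => f_u1 ?_)
  have h3 : l ^ 3 = 1 := by rw [pow_three, h3]
  have : (k * l * k⁻¹) ^ 3 = 1 := by rw [conj_pow, h3]; group
  rwa [e, Commute.mul_pow (cU l), h3, mul_one, pow_three, f_uu, mul_one] at this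

theorem exists_three {n : Γ} (hn : n * J eU = J eU * n) (h3 : n * (n * n) = 1) :
    ∃ ρ, Ac J n ρ ∧ ρ * (ρ * ρ) = 1 := by
  obtain ⟨k, hk⟩ := h.dom n hn
  have h1 := h.u2 (hk.mul (hk.mul hk)) (h3 ▸ Cn.one)
  refine ⟨_, hk.mulU h1, ?_⟩
  have c : ∀ a, k * (k * k) * a = a * (k * (k * k)) := h1.comm
  have := h1.sq
  generalize hx : k * (k * k) = x at c this
  calc x * k * (x * k * (x * k)) = x * x * (x * (k * (k * k))) := by
        rw [mul_assoc x k (x * k), ← mul_assoc k x, ← c k, mul_assoc x k, ← mul_assoc k x, ← c k]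
        simp only [mul_assoc]
        rw [← mul_assoc k x, ← c k, mul_assoc x k]
    _ = 1 := by rw [hx, this, mul_one]

/-- Splitting an element that acts as an inner automorphism. -/
theorem split {n : Γ} {k : K} (hn : Ac J n k) (hk : k ∈ K1) : ∃ z, Cn J z ∧ n = J k * z :=
  ⟨(J k)⁻¹ * n, ((h.ac hk).inv.mul hn).cn (Or.inl (inv_mul_cancel k)), by group⟩

theorem sq_u2 {n : Γ} {k : K} (hn : Ac J n k) (h2 : n * n = 1) : U2 (k * k) :=
  h.u2 (hn.mul hn) (h2 ▸ Cn.one)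

theorem sq_out {n : Γ} {k : K} (hn : Ac J n k) (h2 : Cn J (n * n)) (hk : k ∉ K1) : k * k = 1 :=
  (h.u2 (hn.mul hn) h2).resolve_right fun e => hk (K1_of_sq e)

end S0

theorem SQ.toSD (h : SQ J) : SD J :=
  ⟨h.toS0, fun s g h2 h1 hs hg => by
    obtain rfl := (h.z2 s hs h2).resolve_left h1
    exact mul_inv_eq_iff_eq_mul.1 ((h.z2 _ hg (by rw [conj_mul, h2]; group)).resolve_left
      fun e => h1 (conj_eq_one_iff.1 e))⟩

end Cfsg.Agent.H48.HS
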