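import Cfsg.Agent.H48.HsF
import Cfsg.Agent.H68.HRA2

/-! Conjugation invariant facts in the model of `2.HS.2`. -/

set_option autoImplicit false
set_option maxRecDepth 100000

namespace Cfsg.Agent.H48.HS

open Cfsg.Agent.H68.DCE Cfsg.Agent.H68.HN Cfsg.Agent.H63 Cfsg.Agent.H67 Subgroup

/-- The central subgroup of order two. -/
def U2 (x : K) : Prop := x = 1 ∨ x = eU

theorem U2.conj {x : K} (m : K) : U2 (m * x * m⁻¹) ↔ U2 x :=
  or_congr conj_eq_one_iff ⟨fun h => conj_injective (h.trans (conj_eU m).symm),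
    fun h => h ▸ conj_eU m⟩

theorem U2.comm {x : K} (h : U2 x) (a : K) : x * a = a * x := by
  rcases h with rfl | rfl
  exacts [by simp, cU a]

theorem U2.sq {x : K} (h : U2 x) : x * x = 1 := by
  rcases h with rfl | rfl
  exacts [by simp, f_uu]

theorem U2.mul {x y : K} (h : U2 x) (h' : U2 y) : U2 (x * y) := by
  rcases h with rfl | rfl <;> rcases h' with rfl | rfl
  exacts [Or.inl (by simp), Or.inr (by simp), Or.inr (by simp), Or.inl f_uu]

theorem U2.mem {x : K} (h : U2 x) : x ∈ K1 := by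
  rcases h with rfl | rfl
  exacts [one_mem _, eU_K1]

theorem U2.u : U2 eU := Or.inr rfl

theorem U2.one : U2 1 := Or.inl rfl

theorem U2.left {x y : K} (h : U2 x) (h' : U2 (x * y)) : U2 y := by
  have := h.mul h'
  rwa [← mul_assoc, h.sq, one_mul] at this

theorem K1_of_five {k : K} (h : k ^ 5 = 1) : k ∈ K1 := by
  have := mul_mem (mul_mem (sq_K1 k) (sq_K1 k)) (sq_K1 k)
  rwa [show k * k * (k * k) * (k * k) = k ^ 5 * k by simp [pow_succ, mul_assoc], h, one_mul] at this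

theorem f5 : eF5 ^ 5 = 1 := by simpa [pow_succ, mul_assoc] using f_f55

theorem hY_K1 : hY ∈ K1 := K1_of_sq g_y.1

theorem zt_K1 : eZ * eT ∉ K1 := fun h => eZ_K1 ((K1.mul_mem_cancel_right eT_K1).1 h)

theorem zt7 : eZ * eT7 = eT7 * eZ := eq2 (gS_t7 3 (by decide))

theorem conjK1 {m a b z : K} (h : m * a * m⁻¹ = b) (hz : z ∉ K1) (c : z * b = b * z) :
    ∃ m' ∈ K1, m' * a * m'⁻¹ = b := by
  by_cases hm : m ∈ K1
  · exact ⟨m, hm, h⟩
  · exact ⟨z * m, mul_K1.2 (iff_of_false hz hm), by rw [conj_conj', h, conj_of_mul c]⟩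

theorem root_class {a : K} (h : a * a = eU) : ∃ m, m * a * m⁻¹ = hY := by
  obtain ⟨g, -, hg⟩ := exists_conj_mem (n := 2) syl_S2_top (mem_top a) (by
    rw [show 2 ^ 2 = 2 * 2 from rfl, pow_mul, sq a, h, sq, f_uu])
  obtain ⟨b, hb⟩ := s_root hg
  exact ⟨b * g, by rw [conj_conj', conj_of_mul (hb (by rw [conj_mul, h, conj_eU]))]⟩

theorem y_z : hY * eZ * hY⁻¹ = eU * eZ := conj_of_mul (g_y.2.2.2.trans (mul_assoc _ _ _).symm)

theorem z_y : eZ * hY * eZ⁻¹ = eU * hY := by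
  refine conj_of_mul ?_
  rw [mul_assoc, g_y.2.2.2, ← mul_assoc eU, f_uu, one_mul]

theorem root_class1 {a : K} (h : a * a = eU) :
    ∃ m ∈ K1, m * a * m⁻¹ = hY ∨ m * a * m⁻¹ = eU * hY := by
  obtain ⟨m, hm⟩ := root_class h
  by_cases h1 : m ∈ K1
  · exact ⟨m, h1, Or.inl hm⟩
  · exact ⟨eZ * m, mul_K1.2 (iff_of_false eZ_K1 h1), Or.inr (by rw [conj_conj', hm, z_y])⟩

theorem inn_class {a : K} (ha : a ∈ K1) (h : a * a = 1) (n : ¬ U2 a) :
    ∃ m ∈ K1, m * a * m⁻¹ = eT ∨ m * a * m⁻¹ = eU * eT := by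
  obtain ⟨m, e | e | e | e⟩ := ((inv_class h).resolve_left fun e => n (Or.inl e)).resolve_left
    fun e => n (Or.inr e)
  · exact (conjK1 e eZ_K1 f_zt).imp fun _ h => ⟨h.1, Or.inl h.2⟩
  · exact (conjK1 e eZ_K1 (by rw [← mul_assoc, ← cU, mul_assoc, f_zt, mul_assoc])).imp
      fun _ h => ⟨h.1, Or.inr h.2⟩
  · exact absurd (e ▸ conj_K1.2 ha) eZ_K1
  · exact absurd (e ▸ conj_K1.2 ha) zt_K1

theorem out_class {a : K} (ha : a ∉ K1) (h : a * a = 1) :
    ∃ m ∈ K1, m * a * m⁻¹ = eZ ∨ m * a * m⁻¹ = eZ * eT := by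
  obtain ⟨m, e | e | e | e⟩ := ((inv_class h).resolve_left fun e => ha (e ▸ one_mem _)).resolve_left
    fun e => ha (e ▸ eU_K1)
  · exact absurd (conj_K1.1 (e ▸ eT_K1)) ha
  · exact absurd (conj_K1.1 (e ▸ mul_mem eU_K1 eT_K1)) ha
  · exact (conjK1 e eZ_K1 rfl).imp fun _ h => ⟨h.1, Or.inl h.2⟩
  · exact (conjK1 e zt_K1 rfl).imp fun _ h => ⟨h.1, Or.inr h.2⟩

theorem y_zt : hY * (eZ * eT) * hY⁻¹ = eU * (eZ * eT) := by
  rw [← conj_mul, y_z, conj_of_mul g_y.2.2.1, mul_assoc]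

/-- An outer involution is conjugate to its product with the central involution. -/
theorem out_swap {a : K} (ha : a ∉ K1) (h : a * a = 1) : ∃ k ∈ K1, k * a * k⁻¹ = eU * a := by
  obtain ⟨m, hm, e⟩ := out_class ha h
  refine ⟨m⁻¹ * (hY * m), mul_mem (inv_mem hm) (mul_mem hY_K1 hm), ?_⟩
  rw [conj_conj', conj_conj']
  rcases e with e | e <;> rw [e]
  · rw [y_z, conj_Umul, conj_symm e]
  · rw [y_zt, conj_Umul, conj_symm e]

/-- The centraliser of the centraliser of an involution. -/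
def Pr (σ : K) : Prop := ∀ υ, U2 (υ * υ) → (∀ a ∈ K1, a * σ = σ * a → a * υ = υ * a) →
  U2 υ ∨ υ = σ ∨ υ = eU * σ

theorem Pr.of_conj {σ m : K} (h : Pr (m * σ * m⁻¹)) : Pr σ := fun υ h1 h2 => by
  refine (h (m * υ * m⁻¹) (by rwa [conj_mul, U2.conj]) fun a ha e => ?_).imp (U2.conj m).1
    (Or.imp (fun e => conj_injective e) fun e => conj_injective (e.trans (conj_Umul m σ).symm))
  have := comm_conj m (h2 (m⁻¹ * a * m⁻¹⁻¹) (conj_K1.2 ha) (by
    have := comm_conj m⁻¹ e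
    rwa [conj_symm rfl] at this))
  rwa [show m * (m⁻¹ * a * m⁻¹⁻¹) * m⁻¹ = a by group] at this

theorem Pr.mulU {σ : K} (h : Pr σ) : Pr (eU * σ) := fun υ h1 h2 => by
  rcases h υ h1 fun a ha e => h2 a ha (by rw [← mul_assoc, ← cU, mul_assoc, e, mul_assoc]) with
    e | e | e
  exacts [Or.inl e, Or.inr (Or.inr (by rw [← mul_assoc, f_uu, one_mul, e])), Or.inr (Or.inl e)]

theorem or4 {p q r s : Prop} (h : p ∨ q ∨ r ∨ s) : (p ∨ q) ∨ r ∨ s := by tauto

theorem memFT {a : K} (h1 : a * eF5 = eF5 * a) (h2 : a * eT7 = eT7 * a) : a ∈ C1[eF5 * eT7] := by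
  rw [mem_centralizer_singleton_iff, ← mul_assoc, h1, mul_assoc, h2, mul_assoc]

theorem pr_t7 : Pr eT7 := fun υ h1 h2 => by
  obtain ⟨p1, p2⟩ := p_F (memFT (h2 _ (K1_of_five f5) f_f5t).symm (h2 _ eT7_K1 rfl).symm)
  exact or4 (p2 (h1.resolve_right p1))

theorem eR_K1 : eR ∈ K1 := K1_of_cube f_rrr

theorem F1 {σ : K} (h : U2 (σ * σ)) (n : ¬ U2 σ) : Pr σ := by
  have pt : Pr eT := Pr.of_conj (m := eMt) (conj_of_mul f_mt ▸ pr_t7)
  have mr : ∀ {υ : K}, eR * υ = υ * eR → υ ∈ C1[eR] := fun h =>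
    mem_centralizer_singleton_iff.2 h.symm
  rcases h with h | h
  · obtain ⟨m, e | e | e | e⟩ := ((inv_class h).resolve_left fun e => n (Or.inl e)).resolve_left
      fun e => n (Or.inr e) <;> refine Pr.of_conj (m := m) (e ▸ ?_)
    · exact pt
    · exact pt.mulU
    · intro υ _ h2
      have b : ∀ c ∈ [8, 151721479, 269029385, 642745424, 268896784, 189239565],
          υ * S.val c = S.val c * υ := fun c hc => (h2 _ (T8_K1 (val_mem_cl hc))
            (mem_centralizer_singleton_iff.1 (T8_z (val_mem_cl hc)))).symm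
      exact or4 (q_z (mr (h2 _ eR_K1 f_zr.symm)) (b 8 (by decide)) (b 151721479 (by decide))
        (b 642745424 (by decide)))
    · intro υ _ h2
      exact or4 (q_zt (mr (h2 _ eR_K1 (by
        rw [← mul_assoc, ← f_zr, mul_assoc, ← f_tr, mul_assoc])))
        (h2 _ (K1_of_cube g_qz.1) (g_qz.2.trans (mul_assoc _ _ _).symm)).symm)
  · obtain ⟨m, e⟩ := root_class h
    refine Pr.of_conj (m := m) (e ▸ fun υ _ h2 => ?_)
    exact or4 (q_y (mr (h2 _ eR_K1 g_y.2.1.symm)) (h2 _ (K1_of_cube g_qy.1) g_qy.2).symm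
      (h2 _ hY_K1 rfl).symm)

theorem KF1 {ρ η α : K} (h3 : ρ * (ρ * ρ) = 1) (h1 : ρ ≠ 1) (c1 : η * ρ = ρ * η)
    (h4 : U2 (η * η * (η * η))) (h2 : ¬ U2 (η * η)) (c2 : α * ρ = ρ * α)
    (c3 : α * η * α⁻¹ = η ∨ α * η * α⁻¹ = eU * η) :
    α * α * (α * α) = 1 ∨ α * α * (α * α) = ρ ∨ α * α * (α * α) = ρ * ρ := by
  obtain ⟨m, hm⟩ := (three_class h3).resolve_left h1
  have e1 := comm_conj m c1
  rw [hm] at e1
  obtain ⟨b, hb⟩ := q_h (mem_centralizer_singleton_iff.2 e1)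
  obtain ⟨b1, b2⟩ := ((hb (by
    have := (U2.conj m).2 h4
    rwa [← conj_mul, ← conj_mul, mul_assoc] at this)).resolve_left fun e => h2 ((U2.conj m).1
      (Or.inl (by rwa [← conj_mul])))).resolve_left fun e => h2 ((U2.conj m).1
      (Or.inr (by rwa [← conj_mul])))
  have hr : b * m * ρ * (b * m)⁻¹ = eR := by rw [conj_conj', hm, conj_of_mul b1]
  have e2 := comm_conj (b * m) c2
  rw [hr] at e2
  have e3 : ∀ h, b * (m * η * m⁻¹) = h * b → b * m * α * (b * m)⁻¹ * h = h * (b * m * α * (b * m)⁻¹) ∨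
      b * m * α * (b * m)⁻¹ * h = eU * (h * (b * m * α * (b * m)⁻¹)) := fun h e => by
    have e : b * m * η * (b * m)⁻¹ = h := by rw [conj_conj', conj_of_mul e]
    rw [← e, conj_mul, conj_mul, ← conj_Umul]
    refine c3.imp (fun c => ?_) fun c => ?_ <;> rw [mul_inv_eq_iff_eq_mul.1 c]
    rw [mul_assoc eU]
  have fin : ∀ x, b * m * α * (b * m)⁻¹ * (b * m * α * (b * m)⁻¹ * (b * m * α * (b * m)⁻¹ *
      (b * m * α * (b * m)⁻¹))) = b * m * x * (b * m)⁻¹ → α * α * (α * α) = x := fun x e => by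
    rw [conj_mul, conj_mul, conj_mul, ← mul_assoc α] at e
    exact conj_injective e
  have := b2.elim (fun e => q_h0 (mem_centralizer_singleton_iff.2 e2) (e3 _ e))
    fun e => q_h1 (mem_centralizer_singleton_iff.2 e2) (e3 _ e)
  exact this.imp (fun e => fin _ (e.trans (by group))) (Or.imp (fun e => fin _ (e.trans hr.symm))
    fun e => fin _ (e.trans (by rw [← conj_mul, hr])))

theorem KF2 {m τ φ α : K} (hm : m * τ * m⁻¹ = eT) (h5 : φ ^ 5 = 1) (h1 : φ ≠ 1)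
    (c : φ * τ = τ * φ) (c1 : α * φ = φ * α) (c2 : α * τ = τ * α) :
    α * α ≠ eU ∧ (α * α = 1 → U2 α ∨ α = τ ∨ α = eU * τ) ∧ α * α ≠ τ := by
  have : Fact (Nat.Prime 5) := ⟨by decide⟩
  have hm : eMt * m * τ * (eMt * m)⁻¹ = eT7 := by rw [conj_conj', hm, conj_of_mul f_mt]
  generalize eMt * m = m at hm
  have s7 := comm_conj m c
  rw [hm] at s7
  have s5 : orderOf (m * φ * m⁻¹) = 5 := orderOf_eq_prime (by rw [conj_pow, h5]; group)
    fun e => h1 (conj_eq_one_iff.1 e)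
  obtain ⟨n, hn, i, hi⟩ := exists_conj_mem (n := 1) (syl_of_card (p := 5) (n := 1) (m := 6144)
    (zpowers_le.2 (mem_centralizer_singleton_iff.2 s7)) (by rw [Nat.card_zpowers, s5]; rfl)
    (card_cT7.trans (by norm_num)) (by decide)) (mem_centralizer_singleton_iff.2 f_f5t) f5
  have ht : n⁻¹ * m * τ * (n⁻¹ * m)⁻¹ = eT7 := by
    rw [conj_conj', hm, conj_of_mul (mem_centralizer_singleton_iff.1 (inv_mem hn))]
  have h7 : m * α * m⁻¹ * (n * eF5 * n⁻¹) = n * eF5 * n⁻¹ * (m * α * m⁻¹) :=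
    hi ▸ (Commute.zpow_right (comm_conj m c1) i :)
  have h8 : n⁻¹ * m * α * (n⁻¹ * m)⁻¹ ∈ C1[eF5 * eT7] := by
    refine memFT ?_ (ht ▸ comm_conj _ c2)
    have a2 := comm_conj n⁻¹ h7
    rwa [conj_symm rfl, ← conj_conj'] at a2
  generalize n⁻¹ * m = k at ht h8
  obtain ⟨p1, p2⟩ := p_F h8
  have p3 := q_f h8
  rw [conj_mul] at p1 p2 p3
  refine ⟨fun e => p1 (by rw [e, conj_eU]), fun e => ?_, fun e => p3 (by rw [e, ht])⟩
  refine (or4 (p2 (by rw [e]; group))).imp (U2.conj k).1 (Or.imp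
    (fun e => conj_injective (e.trans ht.symm))
    fun e => conj_injective (e.trans ((congrArg (eU * ·) ht.symm).trans (conj_Umul k τ).symm)))

theorem KF3 {ρ τ α β : K} (h3 : ρ * (ρ * ρ) = 1) (h1 : ρ ≠ 1) (hτ : τ ∈ K1) (h2 : τ * τ = 1)
    (n : ¬ U2 τ) (c : τ * ρ = ρ * τ) (a1 : α * ρ = ρ * α) (a2 : α * τ = τ * α)
    (b1 : β * ρ = ρ * β) (b2 : β * τ = τ * β) (a4 : U2 (α * α * (α * α)))
    (b4 : U2 (β * β * (β * β))) (c4 : U2 (α * β * (α * β) * (α * β * (α * β)))) :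
    U2 (α * α) ∨ U2 (β * β) ∨ U2 (α * β * (α * β)) := by
  obtain ⟨m, hm⟩ := (three_class h3).resolve_left h1
  have n' := mt (U2.conj m).1 n
  obtain ⟨k, hk, e⟩ := ((inv_class0 (a := m * τ * m⁻¹) (mem_centralizer_singleton_iff.2
    (hm ▸ comm_conj m c)) (by rw [conj_mul, h2]; group)).resolve_left fun e => n' (Or.inl e)
    ).resolve_left fun e => n' (Or.inr e)
  rw [← conj_conj'] at e
  have hr : k * m * ρ * (k * m)⁻¹ = eR := by rw [conj_conj', hm, conj_of_mul hk]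
  generalize k * m = g at e hr
  have hτ' := (conj_K1 (g := g)).2 hτ
  have key : ∀ {x}, x * ρ = ρ * x → x * τ = τ * x →
      (g * x * g⁻¹ * eT2 = eT2 * (g * x * g⁻¹) ∨ g * x * g⁻¹ * eT2 = eT * (eT2 * (g * x * g⁻¹))) ∧
      (g * x * g⁻¹ * eT2 = eT2 * (g * x * g⁻¹) → U2 (x * x * (x * x)) → U2 (x * x)) ∧
      g * x * g⁻¹ * eT = eT * (g * x * g⁻¹) := fun {x} x1 x2 => by
    have x3 := comm_conj g x2
    have x4 : g * x * g⁻¹ * eT = eT * (g * x * g⁻¹) := by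
      rcases e with e | e | e | e | e <;> rw [e] at x3 hτ'
      exacts [absurd hτ' eZ_K1, x3, by
        rwa [← mul_assoc, ← cU, mul_assoc, mul_assoc eU, mul_right_inj] at x3,
        absurd hτ' zt_K1, absurd hτ' eK2_K1]
    obtain ⟨q1, q2⟩ := q_t (mem_centralizer_singleton_iff.2 (hr ▸ comm_conj g x1)) x4
    refine ⟨q1, fun h h4 => (U2.conj g).1 ?_, x4⟩
    rw [← conj_mul]
    refine q2 h ?_
    have := (U2.conj g).2 h4
    rwa [← conj_mul, ← conj_mul, mul_assoc] at this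
  obtain ⟨p1 | p1, p2, p3⟩ := key a1 a2
  · exact Or.inl (p2 p1 a4)
  obtain ⟨q1 | q1, q2, q3⟩ := key b1 b2
  · exact Or.inr (Or.inl (q2 q1 b4))
  refine Or.inr (Or.inr ((key (Commute.mul_left a1 b1) (Commute.mul_left a2 b2)).2.1 ?_ c4))
  rw [← conj_mul]
  generalize g * α * g⁻¹ = x at p1 p3
  generalize g * β * g⁻¹ = y at q1
  rw [mul_assoc, q1, ← mul_assoc x, p3, mul_assoc, ← mul_assoc x, p1, ← mul_assoc, ← mul_assoc,
    f_tt, one_mul, mul_assoc]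

end Cfsg.Agent.H48.HS
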