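import Cfsg.Agent.H48.MidTri
import Cfsg.Agent.H42.Mathieu
import Cfsg.Agent.H47.BuLat

/-! Lattice facts for the module identifications. -/

set_option autoImplicit false
set_option maxRecDepth 1000000

namespace Cfsg.Agent.H48.Mid

open Cfsg Finset MulAction Cfsg.Agent.H48 Cfsg.Agent.H49 Cfsg.Agent.H42 Cfsg.Agent.H47.Bu
open Cfsg.Agent.H10.Co (Sg)

theorem Sg_sq {s : Co0} (hs : s ∈ Sg) : s * s = 1 := by
  obtain ⟨c, hc, rfl⟩ := hs; exact signEl_mul_self c hc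

theorem Sg_comm {s t : Co0} (hs : s ∈ Sg) (ht : t ∈ Sg) : s * t = t * s := by
  obtain ⟨c, hc, rfl⟩ := hs
  obtain ⟨d, hd, rfl⟩ := ht
  exact signEl_comm c d hc hd

theorem Sg_conj {g s : Co0} (hg : g ∈ Mono) (hs : s ∈ Sg) : g⁻¹ * s * g ∈ Sg := by
  have := conj_mem_Signs (inv_mem hg) (s := s) hs
  rwa [inv_inv] at this

theorem Sg_le_Mono : Sg ≤ Mono := Signs_le_Mono

theorem not_cong_e8 (x : Lam) : ¬ cong x (x + e8 none) := fun h => by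
  have h1 : cong 0 (e8 none) := by
    obtain ⟨u, e⟩ := h
    exact ⟨u, by rw [zero_add]; exact add_left_cancel e⟩
  have := h1.norm_eq (by simp [sqNorm]) (sqNorm_e8 _).le
  rw [sqNorm_e8] at this
  simp [sqNorm] at this

theorem sign_cases {x : Lam} (h4 : ∀ i, 4 ∣ x.1 i) {s : Co0} (hs : s ∈ Sg) :
    cong x (s • x) ∨ cong (x + e8 none) (s • x) := by
  obtain ⟨c, hc, rfl⟩ := hs
  let u : GolayPt → ℤ := fun i => if i ∈ c then -x.1 i else 0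
  have hu : ∀ i, 4 ∣ u i := fun i => by
    have := h4 i
    simp only [u]; split_ifs <;> omega
  have hs : 4 ∣ ∑ i, u i := Finset.dvd_sum fun i _ => hu i
  by_cases h8 : 8 ∣ ∑ i, u i
  · refine Or.inl ⟨⟨u, mem_of_four_dvd _ hu h8⟩, Subtype.ext (funext fun i => ?_)⟩
    simp only [signEl_apply, AddSubgroup.coe_add, Pi.add_apply, u]
    split_ifs <;> omega
  · refine Or.inr ⟨⟨u + Pi.single none (-4), mem_of_four_dvd _ (fun i => ?_) ?_⟩,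
      Subtype.ext (funext fun i => ?_)⟩
    · have := hu i
      simp only [Pi.add_apply, Pi.single_apply]
      split_ifs <;> omega
    · simp only [Pi.add_apply, Finset.sum_add_distrib, Finset.sum_pi_single', Finset.mem_univ,
        if_true]
      omega
    · simp only [signEl_apply, AddSubgroup.coe_add, Pi.add_apply, u, e8_val, Pi.single_apply]
      split_ifs <;> omega

theorem eq_or_neg {r s : Lam} (hr : sqNorm r.1 = 32) (hs : sqNorm s.1 = 32) (h : cong r s) :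
    s = r ∨ s = -r := by
  rcases h.cases with e | e | e
  exacts [Or.inl e, Or.inr e, by omega]

theorem nU : sqNorm vU.1 = 32 := sqNorm_leechU

theorem nU' : sqNorm vU'.1 = 32 := by decide +kernel

theorem dot_of_add {r s : Lam} (hr : sqNorm r.1 = 32) (hs : sqNorm s.1 = 32)
    (h : sqNorm (r + s).1 = 32) : dotInt r.1 s.1 = -16 := by
  rw [AddSubgroup.coe_add, sqNorm_add] at h
  omega

/-- the monomial element with a given code -/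
noncomputable def mo (c p : ℕ) : Co0 := el (monoG c p)

theorem mo_mem {c p : ℕ} (h : (isCode c && inM p) = true) : mo c p ∈ Mono := by
  rw [Bool.and_eq_true] at h
  rw [mo, el_monoG h.1 h.2]
  exact mul_mem (signEl_mem_mono _ _) (permEl_mem_mono _)

theorem mo_smul {c p : ℕ} {x y : Lam} (h : (isCode c && inM p) = true) (hx : sqNorm x.1 ≤ 80)
    (hy : sqNorm y.1 ≤ 80) (e : act (monoG c p) (cd x) = cd y) : mo c p • x = y := by
  rw [Bool.and_eq_true] at h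
  exact (ok_monoG h.1 h.2).smul_eq hx hy e

theorem mo_sign {c : ℕ} (h : isCode c = true) : mo c pid ∈ Sg := by
  rw [mo, el_monoG h inM_pid, toM_pid, permEl_one, mul_one]
  exact ⟨_, _, rfl⟩

/-- a sign change that interchanges `vU` and `vU'` -/
noncomputable def ε0 : Co0 := mo 3277413 pid

theorem ε0_mem : ε0 ∈ Sg := mo_sign (by decide +kernel)

theorem ε0_U : ε0 • vU = vU' :=
  mo_smul (by decide +kernel) (by decide +kernel) (by decide +kernel) (by decide +kernel)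

theorem ε0_ε0 (x : Lam) : ε0 • ε0 • x = x := by rw [← mul_smul, Sg_sq ε0_mem, one_smul]

theorem ε0_U' : ε0 • vU' = vU := by rw [← ε0_U, ε0_ε0]

theorem ε0_dot (x y : Lam) : dotInt (ε0 • x).1 y.1 = dotInt x.1 (ε0 • y).1 := by
  rw [← co_dot ε0 x, ε0_ε0]

theorem ε0_conj {g : Co0} (hg : g ∈ St vU ⊓ St vU') : ε0 * g * ε0 ∈ St vU ⊓ St vU' :=
  ⟨show _ • _ = _ by rw [mul_smul, mul_smul, ε0_U, hg.2, ε0_U'],
    show _ • _ = _ by rw [mul_smul, mul_smul, ε0_U', hg.1, ε0_U]⟩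

theorem E22_le_Mono : St vU ⊓ St vU' ≤ Mono := fun g hg =>
  mem_mono_of_e8 (a := none) (b := none) (Or.inl (by rw [← U_add_U', co_add, hg.1, hg.2]))

/-- the code of a conjugate of Conway's element -/
noncomputable def xi2G : ℕ := mulG (monoG 3277413 pid) (mulG xiG (monoG 3277413 pid))

theorem ok_e0 : Ok (monoG 3277413 pid) := ok_monoG (by decide +kernel) inM_pid

theorem ok_xi2G : Ok xi2G := ok_e0.mul (ok_xiG.mul ok_e0)

/-- a conjugate of Conway's element -/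
noncomputable def xi2 : Co0 := ε0 * xi * ε0

theorem el_xi2G : el xi2G = xi2 := by
  rw [xi2G, el_mulG ok_e0 (ok_xiG.mul ok_e0), el_mulG ok_xiG ok_e0, el_xiG, xi2, mul_assoc]; rfl

theorem xi2_smul {x y : Lam} (hx : sqNorm x.1 ≤ 80) (hy : sqNorm y.1 ≤ 80)
    (e : act xi2G (cd x) = cd y) : xi2 • x = y := el_xi2G ▸ ok_xi2G.smul_eq hx hy e

theorem xi2_mem : xi2 ∈ St vU :=
  show _ • _ = _ by rw [xi2, mul_smul, mul_smul, ε0_U, xi_leechU', ε0_U']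

theorem co2_le {K : Subgroup Co0} (h2 : St vU ⊓ St vU' ≤ K) (hx : xi2 ∈ K) : St vU ≤ K := by
  have ok1 : Ok (monoG 504864 979171567978809510876995449140940992) :=
    ok_monoG (by decide +kernel) (by decide +kernel)
  have m1 : el (monoG 504864 979171567978809510876995449140940992) ∈ St vU ⊓ St vU' :=
    ⟨ok1.smul_eq (by decide +kernel) (by decide +kernel) (by decide +kernel),
      ok1.smul_eq (by decide +kernel) (by decide +kernel) (by decide +kernel)⟩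
  have ok2 := ok1.mul ok_xi2G
  have m2 : el (mulG (monoG 504864 979171567978809510876995449140940992) xi2G) ∈ K ⊓ St vU := by
    rw [el_mulG ok1 ok_xi2G, el_xi2G]
    exact ⟨mul_mem (h2 m1) hx, mul_mem m1.1 xi2_mem⟩
  have : Fact (Nat.Prime 23) := ⟨by norm_num⟩
  have o := orderOf_eq_prime (ok2.pow_eq_one (n := 23) (by decide +kernel))
    fun e => absurd (ok2.el_eq_one_iff.1 e) (by decide +kernel)
  refine (Co2_le_of inf_le_right (le_inf h2 inf_le_left) ?_).trans inf_le_left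
  rw [← o]
  exact Subgroup.orderOf_dvd_natCard _ m2

/-- minimal vectors orthogonal to `vU` -/
def TB (x : Lam) : Prop := sqNorm x.1 = 32 ∧ dotInt x.1 vU.1 = 0

theorem TB_U' : TB vU' := by unfold TB; decide +kernel

theorem TB.smul {x : Lam} (h : TB x) {g : Co0} (hg : g ∈ St vU) : TB (g • x) :=
  ⟨(co_sqNorm _ _).trans h.1, by rw [dotInt_comm, dot_smul_of_fix hg, dotInt_comm, h.2]⟩

theorem TB.pu {x : Lam} (h : TB x) : PU x := by rw [PU, h.2]; exact dvd_zero _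

theorem TB.neg {x : Lam} (h : TB x) : TB (-x) :=
  ⟨by rw [AddSubgroup.coe_neg, sqNorm_neg, h.1],
    by rw [AddSubgroup.coe_neg, H48.dotInt_neg_left, h.2, neg_zero]⟩

theorem TB.add {x y : Lam} (h : TB x) (h' : TB y) (e : sqNorm (x + y).1 = 32) : TB (x + y) :=
  ⟨e, by rw [AddSubgroup.coe_add, H48.dotInt_add_left, h.2, h'.2, add_zero]⟩

theorem TB.trans {x y : Lam} (h : TB x) (h' : TB y) : ∃ g ∈ St vU, g • x = y :=
  trans_cut cls_Co2 h.1 h'.1 (by rw [dotInt_comm, h.2, dotInt_comm, h'.2])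

theorem pairB {r s r' s' : Lam} (hr : TB r) (hs : TB s) (hr' : TB r') (hs' : TB s')
    (e : dotInt r.1 s.1 = -16) (e' : dotInt r'.1 s'.1 = -16) :
    ∃ g ∈ St vU, g • r = r' ∧ g • s = s' := by
  obtain ⟨a, ha, rfl⟩ := TB_U'.trans hr
  obtain ⟨b, hb, rfl⟩ := TB_U'.trans hr'
  have key : ∀ g ∈ St vU, ∀ s, TB s → dotInt (g • vU').1 s.1 = -16 →
      -(ε0 • g⁻¹ • s) ∈ T4600 ∧ dotInt vU'.1 (-(ε0 • g⁻¹ • s)).1 = 0 := fun g hg s hs e => by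
    have h1 := hs.smul (inv_mem hg)
    rw [co_dot_inv] at e
    refine ⟨⟨show sqNorm _ = _ by rw [AddSubgroup.coe_neg, sqNorm_neg, co_sqNorm, h1.1], ?_⟩, ?_⟩
    · rw [dotInt_comm, AddSubgroup.coe_neg, H48.dotInt_neg_left, ε0_dot, ε0_U, dotInt_comm, e]; rfl
    · rw [dotInt_comm, AddSubgroup.coe_neg, H48.dotInt_neg_left, ε0_dot, ε0_U', h1.2]; rfl
  obtain ⟨a1, a2⟩ := key a ha s hs e
  obtain ⟨b1, b2⟩ := key b hb s' hs' e'
  obtain ⟨k, hk, ek⟩ := trans_cut cls_E22 a1 b1 (a2.trans b2.symm)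
  have hk' := ε0_conj hk
  rw [co_neg, neg_inj] at ek
  refine ⟨b * (ε0 * k * ε0) * a⁻¹, mul_mem (mul_mem hb hk'.1) (inv_mem ha), ?_, ?_⟩
  · rw [mul_smul, inv_smul_smul, mul_smul, hk'.2]
  · rw [mul_smul, mul_smul, mul_smul, mul_smul, ek, ε0_ε0, smul_inv_smul]

theorem orb4600 {K : Subgroup Co0} (h : ∀ g ∈ gCo2, el g ∈ K) {x : Lam} (hx : x ∈ T4600) :
    ∃ k ∈ K ⊓ St vU, k • vX = x := by
  have := ((inv_Mn (K ⊓ St vU)).cut inf_le_right 16).orbit_eq (x := vX) (by decide +kernel)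
    (ncard_T4600 ▸ le_orbit ok_gCo2 (H := K ⊓ St vU) (fun g hg => ⟨h g hg, mem_gCo2 g hg⟩)
      (by decide +kernel) orb_Co2_vX)
  exact mem_orbit_iff'.1 (this.ge hx)

theorem transB {K : Subgroup Co0} (h : ∀ g ∈ [gCo2a, gCo2b, gU62a, gU62b], el g ∈ K) {r : Lam}
    (hr : TB r) : ∃ k ∈ K, k • vU' = r := by
  obtain ⟨g, hg, rfl⟩ := TB_U'.trans hr
  have i1 := (inv_Mn (St vU)).cut le_rfl 16
  obtain ⟨k, hk, ek⟩ := orb4600 (K := K) (fun g hg => h g (by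
    simp only [gCo2, List.mem_cons] at hg ⊢; tauto)) (i1.smul g hg vX (by decide +kernel))
  have m : k⁻¹ * g ∈ St vU ⊓ St vX := ⟨mul_mem ((St vU).inv_mem hk.2) hg,
    show _ • _ = _ by rw [mul_smul, ← ek, inv_smul_smul]⟩
  have i2 := fun H (hH : H ≤ St vU ⊓ St vX) =>
    ((inv_Mn H).cut (hH.trans inf_le_left) 16).cut (hH.trans inf_le_right) 16
  have := (i2 (K ⊓ (St vU ⊓ St vX)) inf_le_right).orbit_eq (x := rp15) (by decide +kernel)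
    (ncard_T891 ▸ le_orbit ok_gU62 (H := K ⊓ (St vU ⊓ St vX)) (fun g hg => ⟨h g (by
      simp only [gU62, List.mem_cons] at hg ⊢; tauto), mem_gU62 g hg⟩) (by decide +kernel)
      orb_U62_rp15)
  obtain ⟨l, hl, el⟩ := mem_orbit_iff'.1
    (this.ge ((i2 _ le_rfl).smul _ m rp15 (by decide +kernel)))
  have e : vU' = vX - rp15 := Subtype.ext (by decide +kernel)
  refine ⟨k * l, mul_mem hk.1 hl.1, ?_⟩
  rw [e, mul_smul, co_sub, hl.2.2, el, co_sub, ek, mul_smul, smul_inv_smul, co_sub]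

theorem transM {K : Subgroup Co0} (h : ∀ g ∈ [gCo2a, gCo2b, gAl], el g ∈ K) (hn : negEl ∈ K)
    {r : Lam} (hr : sqNorm r.1 = 32) : ∃ k ∈ K, k • vU = r := by
  have e0 : el gAl • vU = vX :=
    ok_gAl.smul_eq (by decide +kernel) (by decide +kernel) (by decide +kernel)
  have nb : ∀ x y : Lam, Rel K vU x → sqNorm y.1 = 32 → dotInt x.1 y.1 = 16 → Rel K vU y := by
    rintro _ y ⟨k, hk, rfl⟩ hy e
    obtain ⟨l, hl, el'⟩ := orb4600 (K := K) (fun g hg => h g (by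
      simp only [gCo2, List.mem_cons] at hg ⊢; tauto)) (x := k⁻¹ • y)
      ⟨(co_sqNorm _ _).trans hy, by rw [← co_dot_inv, e]⟩
    exact ⟨k * l * el gAl, mul_mem (mul_mem hk hl.1) (h _ (by simp)),
      by rw [mul_smul, mul_smul, e0, el', smul_inv_smul]⟩
  have two : ∀ w x : Lam, sqNorm w.1 = 32 → x ∈ T4600 → dotInt x.1 w.1 = 16 →
      ∀ g ∈ St vU, Rel K vU (g • w) := fun w x hw hx e g hg =>
    nb (g • x) _ (nb vU _ (Rel.refl _ _) ((co_sqNorm _ _).trans hx.1)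
      ((dot_smul_of_fix hg x).trans hx.2)) ((co_sqNorm _ _).trans hw) ((co_dot _ _ _).trans e)
  have ng : ∀ x, Rel K vU x → Rel K vU (-x) := fun x hx => hx.trans ⟨negEl, hn, negEl_smul x⟩
  have one : ∀ g ∈ St vU, Rel K vU (g • vU) := fun g hg => by rw [hg]; exact Rel.refl _ _
  have aX := two vX rp15 (by decide +kernel) (by decide +kernel) (by decide +kernel)
  have aU := two vU' vX (by decide +kernel) (by decide +kernel) (by decide +kernel)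
  have aW := two (-vW) rq1 (by decide +kernel) (by decide +kernel) (by decide +kernel)
  obtain ⟨p, hp, m⟩ := cls_Co2.mem_orbit (x := r) hr
  obtain ⟨g, hg, rfl⟩ := mem_orbit_iff'.1 m
  simp only [List.mem_cons, List.not_mem_nil, or_false] at hp
  rcases hp with rfl | rfl | rfl | rfl | rfl | rfl | rfl
  · rw [co_neg]; exact ng _ (one g hg)
  · rw [co_neg]; exact ng _ (aX g hg)
  · have := ng _ (aW g hg)
    rwa [co_neg, neg_neg] at this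
  · exact aU g hg
  · exact aW g hg
  · exact aX g hg
  · exact one g hg

/-- a basis of commutators -/
def bTF : List (List ℤ) :=
  [[0, 0, 0, 0, 0, 0, 0, -4, 0, 0, 0, 0, 0, 0, -4, 0, 0, 0, 0, 0, 0, 0, 0, 0],
   [0, -2, 2, 0, 0, 0, -6, 0, 2, 2, 0, 0, 0, 2, -2, 0, 2, -2, 2, 0, -2, 2, 0, 0],
   [0, 2, 2, -2, 2, 0, -6, -2, 2, -2, 0, -2, -2, 0, 0, 0, -2, -2, -2, -2, 2, -2, 0, 0],
   [0, -2, 2, 0, -2, 0, -2, 0, -2, 0, 2, 0, 0, 0, 2, 2, 0, -2, -2, 0, 0, 2, 2, 0],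
   [0, 0, 0, -2, 0, 0, 0, 0, -2, -2, 0, 0, 2, 0, -2, 2, 0, 0, 0, 2, 0, 2, 0, 0],
   [0, 0, 0, 0, 0, -2, 2, 2, 0, -2, 2, -2, 0, 0, -2, 0, -2, 0, -2, -2, 0, -2, 2, 0],
   [0, 0, 2, 0, 0, 0, 0, -2, -2, 0, 0, -2, 0, -2, -2, 0, 0, 0, -2, 0, 2, 0, 0, 0],
   [0, 0, 0, 2, 0, 2, 2, -2, 0, 0, 2, 2, 2, -2, 0, 0, 0, 0, 0, -2, -2, -2, -2, 0],
   [0, 0, 0, 0, -4, 0, 0, 0, -4, 0, 0, 0, 0, -4, 0, 0, 4, 0, 0, 0, 0, 0, 0, 0],
   [0, -4, 0, 0, 4, 0, 0, 0, 0, 0, 0, 0, 4, 0, 0, 0, 0, 0, 0, 0, 4, 0, 0, 0],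
   [0, 2, -2, 0, 0, 2, 0, 2, 0, 0, 0, 0, 2, 2, 2, 2, 2, 0, 2, 0, -2, 2, 0, 0],
   [0, 2, 0, 0, 0, 0, 0, 0, 2, -6, 0, 0, 2, 0, 0, 0, 2, 2, 2, 2, 0, 0, 0, 0],
   [0, 0, -2, 0, 2, 0, -2, 0, 0, 2, 2, 0, 2, 0, 2, -2, 2, 0, 0, -2, 0, -2, -2, 0],
   [0, 0, -2, -2, 0, 2, 2, 0, 0, 0, 0, 2, 0, 0, 0, -2, -2, 2, 0, 0, 0, 0, 0, 0],
   [0, 0, 0, -6, -2, -2, 0, 0, 2, -2, -2, -2, 2, -2, 2, -2, 2, 2, 2, 0, 2, 0, -2, 0],
   [0, -4, 4, 0, 0, 0, 0, 0, 0, 0, 0, 0, 0, 0, 0, 0, 0, 0, 0, 0, 0, 0, 0, 0],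
   [0, 2, 2, 2, 0, -2, 0, -2, 6, 0, -2, -2, -2, 0, 0, 0, 0, 0, 2, 0, -2, -2, 0, 0],
   [0, 0, 0, 4, -4, 0, 0, 0, 0, -4, 0, 0, 0, 0, 0, 0, 0, 0, 4, 0, 0, 0, 0, 0],
   [0, 2, 0, 0, 0, 0, 0, 0, 0, 2, -2, 2, 0, 0, -2, -2, 0, 0, 0, 0, 0, 2, -2, 0],
   [0, 0, 0, 0, -2, -2, -2, -2, 0, -2, 0, 2, 0, -2, 0, 2, -2, 2, -2, 0, 0, 0, 2, 0],
   [0, 0, 0, -4, 0, 0, 0, 0, 0, 0, 0, 0, 0, 0, 0, 0, -4, 0, 0, -4, 0, 0, -4, 0],
   [4, 0, 0, 0, 0, 0, 0, 0, 0, 0, 0, 0, 0, 0, 0, 0, 0, 0, 0, 0, 0, 0, 0, 4],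
   [3, -1, -1, -1, -1, 1, -1, 1, -1, -1, 1, 1, -1, -1, 1, 1, -1, 1, -1, 1, 1, 1, 1, 1],
   [3, 1, -1, 1, -1, -1, -1, 1, 1, 1, -1, -1, 1, 1, 1, 1, 1, 1, 1, 1, 1, 1, 1, -1]]

/-- the dual basis -/
def dTF : List (List ℤ) :=
  [[2, 2, -2, 0, 2, 0, 0, -2, 0, 0, 2, -2, -4, 0, 0, -2, 2, 0, 2, -2, 0, 0, 0, 2],
   [0, 0, -4, 0, -2, 0, 0, 0, 2, 0, 0, -2, -2, 2, 0, 0, 2, 0, 2, 4, 0, 0, -2, 0],
   [0, -4, 0, 0, 0, 0, 0, 0, 0, 0, 0, 0, 0, 0, 0, 0, 0, 0, 0, -4, 0, -4, 0, 4],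
   [0, 0, 0, 0, 2, 0, -2, -2, 0, -2, -4, 0, 0, -2, 2, 0, 0, 2, 0, 0, -2, 0, 0, 0],
   [-1, -3, 1, -1, -3, -1, 1, -3, -1, -1, 1, 1, 1, -1, -1, -1, 3, 1, -3, -1, -1, 1, -1, 1],
   [-1, 3, -1, -1, 1, -1, 1, -1, -1, -1, -1, 1, 1, -1, 1, -1, -1, 3, 1, -1, 1, -1, 3, 1],
   [0, -2, -2, 2, 0, 0, 0, -4, -2, 0, 2, 0, 0, 0, 0, 0, 2, 2, 2, -2, 2, 2, -2, 0],
   [-1, 1, -3, 1, 3, -1, 1, -1, 3, -1, 1, -1, 3, 1, 1, -1, -1, -3, 1, 1, -1, 1, -1, 1],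
   [-1, -1, -1, -1, -1, -1, -1, 1, 1, -1, 1, -1, -1, 1, -1, 1, 3, -3, -1, -1, 1, -1, 3, 1],
   [1, -1, -1, 1, -1, -1, 1, -1, -1, -1, -3, 1, 1, -1, 1, 1, 1, 1, -3, -1, -3, -1, -1, -1],
   [2, 2, 2, 2, 0, -2, -2, 2, 0, -2, 2, 0, 0, 0, -2, -2, 0, -2, 0, 2, -2, -2, 0, 2],
   [-2, -2, 2, 0, 0, -2, 0, 2, 0, 0, -2, -2, 2, 0, 2, -2, 0, -4, 0, 0, 0, 2, 0, -2],
   [1, 1, 1, -3, 3, 1, 1, -1, -1, -1, 1, 1, 1, 1, 1, 1, 3, -1, 1, 1, 1, 1, -1, -1],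
   [1, 1, 1, -1, -1, 1, -1, -1, -1, -3, 1, -1, -1, 1, 1, -3, -1, 1, 1, -1, -1, 1, -1, -5],
   [3, 1, -3, -1, 1, -1, 1, -3, -1, -1, 1, 1, 1, -1, 3, -1, -1, 1, -3, -1, -1, 1, -1, 1],
   [1, 1, -1, 1, -3, 1, 1, 1, 3, 1, -1, 3, 1, -1, -1, -3, -1, -1, 1, -1, -1, -1, 1, 3],
   [2, 0, 0, -2, 0, 2, 2, 0, 0, 2, 0, 0, 4, 0, 0, -2, 0, 0, 0, 2, 0, -4, 0, 2],
   [0, 0, 0, 0, -2, -2, 2, 4, 0, 0, 0, 2, 2, -2, -4, 0, 0, -2, 0, 0, 0, 2, 0, 0],
   [0, 2, -2, -2, -2, 0, 0, 0, 0, 0, 2, 2, -2, -2, 0, 0, 0, 2, 0, -2, 2, 2, 0, 0],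
   [2, 0, 0, -2, 0, 2, -2, 0, 0, -2, 0, 0, 4, 0, 0, -2, -4, 0, 0, 2, 0, 0, 0, 2],
   [1, -1, -1, -1, 1, -1, 1, -1, -1, 1, -1, -3, -1, 3, 1, -1, -1, -1, -1, 1, -1, 1, -1, 3],
   [-3, 1, 1, -1, -1, 1, 1, 1, 1, -1, 1, -1, 1, 3, -1, -1, -1, -3, -1, -1, 1, -1, -1, 1],
   [-4, 0, 0, 0, 0, 0, 0, 0, 0, 0, 0, 0, 0, 0, 0, 0, 0, 0, 0, 0, 0, 0, 0, 4],
   [4, 0, 0, 0, 0, 0, 0, 0, 0, 0, 0, 0, 0, 0, 0, 0, 0, 0, 0, 0, 0, 0, 0, 4]]

/-- the vectors whose commutators are taken -/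
def wTF : List (List ℤ) :=
  [[2, 0, 0, 0, 0, -2, 0, 2, 0, 0, 0, 2, 0, 0, 2, 0, 0, 0, -2, 2, 0, 0, 0, 2],
   [1, 1, -1, 1, -1, 1, 3, 1, -1, -1, 1, 1, 1, -1, 1, -1, -1, 1, -1, 1, 1, -1, -1, -1],
   [1, -1, -1, 1, -1, -1, 3, 1, -1, 1, -1, 1, 1, -1, 1, -1, 1, 1, 1, 1, -1, 1, -1, -1],
   [1, 1, -1, -1, 1, 1, 1, 1, 1, 1, -1, -1, -1, -1, -1, -1, 1, 1, 1, -1, 1, -1, -1, 3],
   [1, -3, -1, 1, -1, 1, -1, -1, 1, 1, 1, 1, -1, 1, 1, -1, -1, 1, -1, -1, -1, -1, 1, -1],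
   [1, -1, -3, -1, -1, 1, -1, -1, -1, 1, -1, 1, -1, 1, 1, -1, 1, -1, 1, 1, 1, 1, -1, -1],
   [3, -1, -1, 1, -1, -1, -1, 1, 1, -1, -1, 1, -1, 1, 1, 1, -1, 1, 1, 1, -1, 1, -1, 1],
   [1, 1, 1, -1, 3, -1, -1, 1, 1, -1, -1, -1, -1, 1, 1, -1, 1, -1, -1, 1, 1, 1, 1, -1],
   [0, 0, 0, 0, 2, 0, 0, 0, 2, 0, 0, -2, 2, 2, 0, 0, -2, 0, -2, 0, 0, 0, -2, 0],
   [0, 2, 0, 2, -2, 0, -2, 0, 0, 0, 0, 0, -2, 2, 0, 0, 0, 0, 0, 0, -2, 0, 2, 0],
   [1, -1, 1, 1, -1, -1, -1, -1, -3, -1, 1, 1, -1, -1, -1, -1, -1, 1, -1, -1, 1, -1, -1, -1],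
   [1, -1, -1, 1, -1, 1, 1, -1, -1, 3, -1, 1, -1, 1, 1, -1, -1, -1, -1, -1, 1, -1, -1, -1],
   [1, 1, 1, 1, -1, -3, 1, -1, -1, -1, -1, -1, -1, -1, -1, 1, -1, 1, 1, 1, -1, 1, 1, -1],
   [1, -1, 1, 1, 1, -1, -1, -1, 1, 1, 1, -1, 1, 3, 1, 1, 1, -1, -1, -1, 1, -1, -1, -1],
   [1, 1, 1, 3, 1, 1, -1, 1, -1, 1, 1, 1, -1, 1, -1, 1, -1, -1, -1, -1, -1, -1, 1, -1],
   [0, 2, -2, 2, -2, 0, 0, 0, 0, -2, 0, 0, 0, 0, 0, 0, 2, -2, 0, 0, 2, 0, 0, 0],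
   [1, -1, -1, -1, -1, 1, -1, 1, -3, 1, 1, 1, 1, 1, 1, -1, 1, 1, -1, 1, 1, 1, 1, -1],
   [0, 2, 0, -2, 2, 0, 0, 0, 0, 2, 0, 2, -2, 0, 0, 0, 0, 0, -2, 0, 0, -2, 0, 0],
   [1, -1, -1, -1, 1, 1, -1, -1, -1, -1, 1, -1, 1, -1, 1, 1, 1, 1, -1, 1, -3, -1, 1, -1],
   [1, -1, -1, 1, 1, 1, 1, 1, -1, 1, -1, -1, -1, 1, 1, -1, 1, -1, 1, -3, -1, -1, -1, -1],
   [0, 0, 0, 2, 0, -2, 0, 0, 0, 0, 2, 0, 0, 0, 0, 2, 2, 0, 0, 2, 0, -2, 2, 0]]

/-- the words -/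
def cTF : List ℕ :=
  [1204944, 3629894, 4135902, 6735190, 2675464, 7163616, 1337732, 7879912, 1140602, 1399606, 3535014, 987906, 6936148, 231532, 5766968, 4989254, 3415470, 4605944, 6344194, 4696816, 4927902]

theorem bTF_ok : ∀ i : Fin 24, memL (bTF.getD i []) = true := by decide +kernel

theorem dTF_ok : ∀ i : Fin 24, memL (dTF.getD i []) = true := by decide +kernel

theorem wTF_ok : ∀ i : Fin 24, i.1 < 21 → memL (wTF.getD i []) = true := by decide +kernel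

/-- a basis of commutators -/
def bF (i : Fin 24) : Lam := lam _ (bTF_ok i)

/-- the dual basis -/
def dF (i : Fin 24) : Lam := lam _ (dTF_ok i)

theorem dbF : DB bF dF := fun i j => by
  rw [bF, dF, lam_val, lam_val, dot_vec _ _ (memL_length (bTF_ok i))]
  revert i j
  decide +kernel

theorem F_spec : bF 21 = vU ∧ dF 22 = vU' ∧ dF 23 = vU ∧ PU (bF 22) :=
  ⟨Subtype.ext (by decide +kernel), Subtype.ext (by decide +kernel),
    Subtype.ext (by decide +kernel), by unfold PU; decide +kernel⟩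

theorem F_chk : ∀ i : Fin 24, i.1 < 21 → isCode (cTF.getD i 0) = true ∧
    16 ∣ dotInt (vec (wTF.getD i [])) vU.1 ∧ ∀ p : GolayPt,
      (if (cTF.getD i 0).testBit (idx p) = true then -vU.1 p else vU.1 p) = vU.1 p ∧
      (if (cTF.getD i 0).testBit (idx p) = true then -vec (wTF.getD i []) p
        else vec (wTF.getD i []) p) = vec (wTF.getD i []) p + vec (bTF.getD i []) p := by
  decide +kernel

theorem F_comm (i : Fin 24) (hi : i.1 < 21) :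
    ∃ s ∈ Sg ⊓ St vU, ∃ w, PU w ∧ s • w = w + bF i := by
  obtain ⟨h1, h2, h3⟩ := F_chk i hi
  refine ⟨signEl _ (isWord_toSet h1), ⟨⟨_, _, rfl⟩, Subtype.ext (funext fun p => ?_)⟩,
    lam _ (wTF_ok i hi), h2, Subtype.ext (funext fun p => ?_)⟩
  · rw [signEl_apply]
    simp only [mem_toSet]
    exact (h3 p).1
  · rw [signEl_apply]
    simp only [mem_toSet]
    exact (h3 p).2

theorem cong2.add' {v w v' w' : Lam} (h : cong2 v w) (h' : cong2 v' w') :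
    cong2 (v + v') (w + w') := by
  rcases h with h | h <;> rcases h' with h' | h' <;> have := h.add h'
  · exact Or.inl this
  · exact Or.inr (by rwa [← add_assoc] at this)
  · exact Or.inr (by rwa [add_right_comm] at this)
  · refine Or.inl (cong.trans ⟨vU, by abel⟩ this)

theorem cong2.of_cong {v w w' : Lam} (h : cong2 v w) (h' : cong w w') : cong2 v w' :=
  h.imp (fun a => a.trans h') fun a => a.trans h'

theorem cong2.smul' {v w : Lam} (h : cong2 v w) {g : Co0} (hg : g ∈ St vU) :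
    cong2 (g • v) (g • w) :=
  h.imp (fun a => a.smul g) fun a => by have := a.smul g; rwa [co_add, hg] at this

theorem cong2.dot {v w x : Lam} (h : cong2 v w) (hx : PU x) :
    16 ∣ dotInt w.1 x.1 - dotInt v.1 x.1 := by
  rcases h with h | h
  · exact h.dot_mod x
  · have := h.dot_mod x
    rw [AddSubgroup.coe_add, H48.dotInt_add_left, dotInt_comm vU.1] at this
    unfold PU at hx
    omega

/-- the classes fixed by the sign changes -/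
theorem fixB' {x : Lam} (hx : PU x) (h : ∀ s ∈ Sg ⊓ St vU, cong2 x (s • x)) :
    cong2 0 x ∨ cong2 vU' x := by
  obtain ⟨e1, e2, e3, -⟩ := F_spec
  refine dbF.symm.gen (fun x => cong2 0 x ∨ cong2 vU' x) (fun u => Or.inl (Or.inl ⟨u, by simp⟩))
    ?_ (fun i => i.1 < 22) (fun i hi => ?_) x fun i hi => ?_
  · rintro v w (a | a) (b | b) <;> have := cong2.add' a b
    · exact Or.inl (by simpa using this)
    · exact Or.inr (by simpa using this)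
    · exact Or.inr (by simpa using this)
    · refine Or.inl (this.imp (cong.trans ⟨vU', by abel⟩) (cong.trans ⟨vU', by abel⟩))
  · obtain rfl | rfl : i = 22 ∨ i = 23 := by omega
    · exact Or.inr (Or.inl (e2 ▸ cong.refl _))
    · exact Or.inl (Or.inr (by rw [e3, zero_add]; exact cong.refl _))
  · by_cases h21 : i = 21
    · rw [h21, e1]; exact hx
    obtain ⟨s, hs, w, hw, e⟩ := F_comm i (by omega)
    have h1 := cong2.dot (h s hs) hw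
    have h2 := co_dot s x (s • w)
    rw [← mul_smul, Sg_sq hs.1, one_smul, e, AddSubgroup.coe_add, H48.dotInt_add_right] at h2
    omega

/-- an invariant subgroup that contains a non-trivial class contains a fixed one -/
theorem descent (P : Lam → Prop) (hadd : ∀ x y, P x → P y → P (x + y))
    (hs : ∀ s ∈ Sg ⊓ St vU, ∀ x, P x → P (s • x)) {x : Lam} (hx : P x) (h0 : ¬ cong2 0 x) :
    ∃ y, P y ∧ ¬ cong2 0 y ∧ ∀ s ∈ Sg ⊓ St vU, cong2 y (s • y) := by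
  let F : Lam → Set Co0 := fun y => {s | s ∈ Sg ⊓ St vU ∧ cong2 y (s • y)}
  have hb : ∀ y, (F y).ncard ≤ Nat.card Co0 := fun y => Set.ncard_le_card _
  obtain ⟨y, ⟨hy, y0⟩, hmax⟩ : ∃ y, (P y ∧ ¬ cong2 0 y) ∧
      ∀ y', P y' ∧ ¬ cong2 0 y' → (F y').ncard ≤ (F y).ncard := by
    obtain ⟨y, hy, hm⟩ := WellFounded.has_min (measure fun y => Nat.card Co0 - (F y).ncard).wf
      {y | P y ∧ ¬ cong2 0 y} ⟨x, hx, h0⟩
    refine ⟨y, hy, fun y' hy' => ?_⟩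
    have h1 : ¬ Nat.card Co0 - (F y').ncard < Nat.card Co0 - (F y).ncard := hm y' hy'
    have := hb y
    have := hb y'
    omega
  refine ⟨y, hy, y0, fun s hs' => by_contra fun hn => ?_⟩
  have h1 : ¬ cong2 0 (s • y + y) := fun c => hn (by
    have := cong2.add' c (Or.inl (cong.refl y))
    rw [zero_add] at this
    exact cong2.of_cong this ⟨-y, by abel⟩)
  have h2 := hmax (s • y + y) ⟨hadd _ _ (hs s hs' y hy) hy, h1⟩
  refine absurd (Set.ncard_lt_ncard (show F y ⊂ F (s • y + y) from ⟨fun t ht => ⟨ht.1, ?_⟩,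
    fun c => hn (c ⟨hs', ?_⟩).2⟩) (Set.toFinite _)) (not_lt.2 h2)
  · rw [co_add, ← mul_smul, Sg_comm ht.1.1 hs'.1, mul_smul]
    exact cong2.add' (cong2.smul' ht.2 hs'.2) ht.2
  · rw [co_add, ← mul_smul, Sg_sq hs'.1, one_smul, add_comm]
    exact Or.inl (cong.refl _)

/-- representatives of the `2 ^ 22` classes -/
theorem exists_reps : ∃ F : (Fin 22 → Fin 2) → Lam, (∀ c, PU (F c)) ∧
    ∀ c c', cong2 0 (F c + F c') → c = c' := by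
  obtain ⟨e1, -, e3, -⟩ := F_spec
  let e : Fin 22 → Fin 24 := fun i => if i.1 < 21 then ⟨i.1, by omega⟩ else 22
  have he : Function.Injective e := by decide
  have h1 : ∀ i, e i ≠ 21 ∧ e i ≠ 23 := by decide
  refine ⟨fun c => ∑ i, (c i : ℕ) • bF (e i), fun c => ?_, fun c c' h => funext fun j => ?_⟩
  · refine Finset.sum_induction _ PU (fun _ _ => PU.add) (by simp [PU, dotInt]) fun i _ => ?_
    have := dbF (e i) 23
    rw [if_neg (h1 i).2, e3] at this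
    change 16 ∣ dh vU _
    rw [map_nsmul, nsmul_eq_mul]
    exact Dvd.dvd.mul_left (Int.dvd_of_emod_eq_zero this) _
  · have h2 := dbF 21 (e j)
    rw [if_neg (h1 j).1.symm, e1, dotInt_comm] at h2
    have h3 := cong2.dot h (x := dF (e j)) (Int.dvd_of_emod_eq_zero h2)
    have h4 := dbF.dot_comb he (fun i => c i) j
    have h5 := dbF.dot_comb he (fun i => c' i) j
    beta_reduce at h3 h4 h5
    rw [AddSubgroup.coe_add, H48.dotInt_add_left,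
      show dotInt (0 : Lam).1 (dF (e j)).1 = 0 by simp [dotInt]] at h3
    have := (c j).2
    have := (c' j).2
    apply Fin.ext
    omega

end Cfsg.Agent.H48.Mid
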