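import Cfsg.Agent.H48.RecQ0
import Cfsg.Agent.H48.Order
import Cfsg.Agent.H44.Coset

/-! Codes for elements of `Co1`; the nine letters; orders of two centralisers. -/

set_option autoImplicit false
set_option maxRecDepth 1000000

namespace Cfsg.Agent.H48.Rec

open Cfsg Subgroup
open Cfsg.Agent.H42 (isCode toSet oct0 toM inM allL allL_iff anyL anyL_iff force force_eq pid beq_iff
  Enc orbSize actsOf)

/-- The element of `Co1` given by a code. -/
noncomputable def E1 (g : ℕ) : Spor.Co1 := mk1 (el g)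

theorem E1_mul {a b : ℕ} (ha : Ok a) (hb : Ok b) : E1 (mulG a b) = E1 a * E1 b := by
  rw [E1, el_mulG ha hb, map_mul]; rfl

theorem E1_inv {a : ℕ} (ha : Ok a) : E1 (invG a) = (E1 a)⁻¹ := by
  rw [E1, el_invG ha, map_inv]; rfl

theorem E1_one : E1 oneG = 1 := by rw [E1, el_oneG, map_one]

theorem E1_neg : E1 negG = 1 := by rw [E1, el_negG, mk1_neg]

theorem Q0_all {P : ℕ → Bool} (h : allL (fun c => allL (fun p => force (monoG c p) P) pQ) cQ = true)
    {x : Spor.Co1} (hx : x ∈ Q0) : ∃ g, Ok g ∧ E1 g = x ∧ P g = true :=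
  let ⟨g, a, _, b⟩ := Q0_cases h hx; ⟨g, a, b⟩

theorem ok_nth {l : List ℕ} (hl : ∀ g ∈ l, Ok g) (i : ℕ) : Ok (nthG l i) :=
  (nthG_ok ⊤ (fun g h => ⟨hl g h, trivial⟩) i).1

theorem ok_eval {l : List ℕ} (hl : ∀ g ∈ l, Ok g) (w : List ℕ) : Ok (evalG l w) :=
  (evalG_mem ⊤ (fun g h => ⟨hl g h, trivial⟩) w).1

theorem E1_eval {l : List ℕ} (hl : ∀ g ∈ l, Ok g) (w : List ℕ) :
    E1 (evalG l w) = H44.ev (fun i => E1 (nthG l i)) w := by
  induction w with
  | nil => exact E1_one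
  | cons c w ih =>
    rw [H44.ev_cons, ← ih]
    exact E1_mul (ok_nth hl c) (ok_eval hl w)

/-- Equality up to sign. -/
noncomputable def eqB (a b : ℕ) : Bool :=
  force a fun a => force b fun b => Bool.rec (Nat.beq a (mulG b negG)) true (Nat.beq a b)

theorem eqB_iff {a b : ℕ} (ha : Ok a) (hb : Ok b) : eqB a b = true ↔ E1 a = E1 b := by
  have h1 : el a = el b ↔ Nat.beq a b = true := by
    rw [beq_iff]; exact ⟨ha.el_inj hb, fun e => by rw [e]⟩
  have h2 : el a = el b * negEl ↔ Nat.beq a (mulG b negG) = true := by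
    rw [beq_iff, ← el_negG, ← el_mulG hb ok_negG]
    exact ⟨ha.el_inj (hb.mul ok_negG), fun e => by rw [← e]⟩
  rw [eqB, force_eq, force_eq, E1, E1, mk1_eq, h1, h2]
  cases Nat.beq a b <;> simp

/-- Commutation up to sign. -/
noncomputable def cmB (a b : ℕ) : Bool := eqB (mulG a b) (mulG b a)

theorem cmB_iff {a b : ℕ} (ha : Ok a) (hb : Ok b) : cmB a b = true ↔ E1 a * E1 b = E1 b * E1 a := by
  rw [cmB, eqB_iff (ha.mul hb) (hb.mul ha), E1_mul ha hb, E1_mul hb ha]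

/-- Conjugation. -/
noncomputable def cjG (g x : ℕ) : ℕ := mulG (mulG g x) (invG g)

theorem _root_.Cfsg.Agent.H48.Ok.cj {g x : ℕ} (hg : Ok g) (hx : Ok x) : Ok (cjG g x) := (hg.mul hx).mul hg.inv

theorem E1_cj {g x : ℕ} (hg : Ok g) (hx : Ok x) : E1 (cjG g x) = E1 g * E1 x * (E1 g)⁻¹ := by
  rw [cjG, E1_mul (hg.mul hx) hg.inv, E1_mul hg hx, E1_inv hg]

theorem odd_E1 {g n : ℕ} (hg : Ok g) (hn : Odd n) (h : powG g n = oneG) : Odd (orderOf (E1 g)) :=
  hn.of_dvd_nat (orderOf_dvd_of_pow_eq_one (by rw [E1, ← map_pow, hg.pow_eq_one h, map_one]))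

theorem el_sign {c : ℕ} (hc : isCode c = true) :
    el (monoG c pid) = signEl (toSet c) (isWord_toSet hc) := by
  rw [el_monoG hc H42.inM_pid, H42.toM_pid, H10.Co.permEl_one, mul_one]

noncomputable def zG : ℕ := monoG oct0 pid
noncomputable def sG : ℕ := monoG oct2 pid
noncomputable def qG : ℕ := monoG 0 pq
noncomputable def θG : ℕ := monoG 0 pθ

theorem ok_zG : Ok zG := ok_monoG (by decide +kernel) H42.inM_pid
theorem ok_sG : Ok sG := ok_monoG (by decide +kernel) H42.inM_pid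
theorem ok_qG : Ok qG := ok_monoG (by decide +kernel) inM_pq
theorem ok_θG : Ok θG := ok_monoG (by decide +kernel) inM_pθ
theorem E1_zG : E1 zG = z0 := congrArg mk1 (el_sign (by decide +kernel))
theorem el_sG : el sG = st := el_sign (by decide +kernel)
theorem E1_sG : E1 sG = s0 := congrArg mk1 el_sG
theorem E1_qG : E1 qG = q0 := congrArg mk1 (el_monoG_zero inM_pq)
theorem E1_θG : E1 θG = θ0 := congrArg mk1 (el_monoG_zero inM_pθ)

theorem cm_z {g : ℕ} (hg : Ok g) : cmB g zG = true ↔ E1 g * z0 = z0 * E1 g := by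
  rw [cmB_iff hg ok_zG, E1_zG]

theorem cm_s {g : ℕ} (hg : Ok g) : cmB g sG = true ↔ E1 g * s0 = s0 * E1 g := by
  rw [cmB_iff hg ok_sG, E1_sG]

theorem cm_q {g : ℕ} (hg : Ok g) : cmB g qG = true ↔ E1 g * q0 = q0 * E1 g := by
  rw [cmB_iff hg ok_qG, E1_qG]

theorem cm_θ {g : ℕ} (hg : Ok g) : cmB g θG = true ↔ E1 g * θ0 = θ0 * E1 g := by
  rw [cmB_iff hg ok_θG, E1_θG]

/-- A list of monomial codes. -/
noncomputable def monoL (l : List (ℕ × ℕ)) : List ℕ := mapL (fun a => monoG a.1 a.2) l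

theorem ok_monoL {l : List (ℕ × ℕ)} (h : allL (fun a => isCode a.1 && inM a.2) l = true) :
    ∀ g ∈ monoL l, Ok g ∧ el g ∈ Mono := by
  intro g hg
  rw [monoL, mapL_eq] at hg
  obtain ⟨a, ha, rfl⟩ := List.mem_map.1 hg
  obtain ⟨h1, h2⟩ := Bool.and_eq_true_iff.1 (allL_iff.1 h a ha)
  exact ⟨ok_monoG h1 h2, el_monoG h1 h2 ▸ mul_mem (signEl_mem_mono _ _) (permEl_mem_mono _)⟩

/-- The monomial letters. -/
def mL : List (ℕ × ℕ) := [(0, pid), (2460752, 965128854020860192151391391390468128), (9471495, 28854523491105362182008475499005015), (427666, 984818244535754528103549039458486304), (10557585, 8463373356714737275754106265733175), (11575377, 29395921827946026794865043067537463), (9969957, 29217344650974509451812743540053559), (8946281, 29151034614893663836938031157839927), (0, pid), (11028004, 610891819688408784217528559055410723)]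

/-- The code of the `i`-th letter. -/
noncomputable def lG (i : ℕ) : ℕ := H42.iteB (Nat.beq i 8) xiG (nthG (monoL mL) i)

theorem ok_mL : ∀ g ∈ monoL mL, Ok g ∧ el g ∈ Mono := ok_monoL (by decide +kernel)

theorem lG_mono {i : ℕ} (h : i ≠ 8) : Ok (lG i) ∧ el (lG i) ∈ Mono := by
  rw [lG, H42.iteB_eq, if_neg (mt beq_iff.1 h)]
  exact nthG_ok Mono ok_mL i

theorem lG_eight : lG 8 = xiG := rfl

theorem ok_lG (i : ℕ) : Ok (lG i) := by
  by_cases h : i = 8
  · rw [h, lG_eight]; exact ok_xiG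
  · exact (lG_mono h).1

/-- The value of a word in the letters. -/
noncomputable def evL (w : List ℕ) : ℕ := List.rec oneG (fun c _ ih => mulG (lG c) ih) w

theorem evL_spec (w : List ℕ) : Ok (evL w) ∧ E1 (evL w) = H44.ev (fun i => E1 (lG i)) w := by
  induction w with
  | nil => exact ⟨ok_oneG, E1_one⟩
  | cons c w ih => exact ⟨(ok_lG c).mul ih.1, by rw [H44.ev_cons, ← ih.2]; exact E1_mul (ok_lG c) ih.1⟩

theorem card_comap (H : Subgroup Spor.Co1) : Nat.card (H.comap mk1) = 2 * Nat.card H := by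
  have h1 := card_mul_index (H.comap mk1)
  have h2 := card_mul_index H
  rw [index_comap_of_surjective _ mk1_surj, card_Co0] at h1
  rw [show Nat.card Spor.Co1 = _ from card_Co1] at h2
  exact Nat.eq_of_mul_eq_mul_right (Nat.pos_of_ne_zero (index_ne_zero_of_finite (H := H)))
    (by rw [h1, mul_assoc, h2]; norm_num)

theorem chain1 {gens : List ℕ} (hg : ∀ g ∈ gens, Ok g) (H : Subgroup Spor.Co1)
    (hH : ∀ g ∈ gens, E1 g ∈ H) (ws : List (List ℕ)) (L : List (Lam × List ℕ))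
    (hL : ∀ a ∈ L, sqNorm a.1.1 ≤ 80) (fuel : ℕ) :
    chainN (negG :: gens) ws L fuel ≤ 2 * Nat.card H :=
  card_comap H ▸ chainN_le (List.forall_mem_cons.2 ⟨ok_negG, hg⟩) _
    (List.forall_mem_cons.2 ⟨mem_comap.2 (by rw [el_negG, mk1_neg]; exact one_mem _), hH⟩) ws L hL fuel

/-- Two elements of odd order generating the centraliser of `z0`. -/
noncomputable def gC : List ℕ := [evL [8, 3], evL [9, 2, 6, 5, 2]]

theorem ok_gC : ∀ g ∈ gC, Ok g := by
  simp only [gC, List.forall_mem_cons]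
  exact ⟨(evL_spec _).1, (evL_spec _).1, fun _ h => nomatch h⟩

def progC : List (List ℕ) := [[2, 2, 2], [3, 3, 2, 3, 3, 2, 3, 2, 3, 2, 2, 1], [0, 0, 0, 1, 0, 1, 1, 0], [2, 2], [0], [2, 2], [0, 1, 0, 0, 1, 0, 1, 1], [2, 1, 2, 1, 2, 2, 1, 2, 1], [2, 3, 3, 3, 3, 3, 2], [0], [2, 2, 1], [3, 4, 4, 3, 2, 3, 2, 4, 3], [4, 5, 5, 4, 4, 5, 4, 3, 3], [6, 5, 6, 6, 5, 6], [4, 2, 0, 1, 4, 2, 0], [5, 4, 1, 4, 1, 5], [3], [5, 3, 6, 3, 4, 3, 4], [3, 1, 2, 0, 0], [2], [4, 5], [4, 3, 3, 3, 5, 3], [1, 2, 3, 1, 2], [4]]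

def baseC : List (Lam × List ℕ) := [
  (lam [4, 4, 0, 0, 0, 0, 0, 0, 0, 0, 0, 0, 0, 0, 0, 0, 0, 0, 0, 0, 0, 0, 0, 0] (by decide +kernel), [24, 25, 26]),
  (lam [4, -4, 0, 0, 0, 0, 0, 0, 0, 0, 0, 0, 0, 0, 0, 0, 0, 0, 0, 0, 0, 0, 0, 0] (by decide +kernel), [23, 22]),
  (lam [4, 0, 0, 4, 0, 0, 0, 0, 0, 0, 0, 0, 0, 0, 0, 0, 0, 0, 0, 0, 0, 0, 0, 0] (by decide +kernel), [21, 20]),
  (lam [0, 0, -4, 0, 0, 0, 0, 0, 0, 0, 0, 0, 0, 0, 0, 0, 0, 0, 0, 0, 0, 0, 0, -4] (by decide +kernel), [19, 18]),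
  (lam [0, 0, 0, 0, 0, 0, 0, 0, 0, 0, 0, 0, 0, 0, 4, 0, 0, 0, 0, 0, 0, 0, 0, -4] (by decide +kernel), [17, 16, 15]),
  (lam [0, 0, 0, 0, 0, 0, 0, 0, 0, 4, 4, 0, 0, 0, 0, 0, 0, 0, 0, 0, 0, 0, 0, 0] (by decide +kernel), [14, 13, 12, 11, 10]),
  (lam [2, -2, -2, 2, 0, -2, 0, 0, 0, 0, 0, 0, 0, 0, -2, 0, 0, -2, 0, 0, 0, 0, 0, -2] (by decide +kernel), [9, 8, 7, 6]),
  (lam [0, 0, 0, 0, 0, 0, 0, 0, 0, 0, 0, 0, 0, 4, 0, 0, 0, 0, 0, 0, 0, -4, 0, 0] (by decide +kernel), [5, 4, 3, 2]),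
  (lam [0, 0, 0, 0, 0, 0, 0, 0, 0, 0, 0, 0, 0, 0, 0, -4, 0, 0, 0, 0, -4, 0, 0, 0] (by decide +kernel), [1, 0])]

theorem chainC : chainN (negG :: gC) progC baseC 300 = 178362777600 := by decide +kernel

theorem cardC_le {H : Subgroup Spor.Co1} (hH : ∀ g ∈ gC, E1 g ∈ H) : 89181388800 ≤ Nat.card H := by
  have := chain1 ok_gC H hH progC baseC (by decide +kernel) 300
  rw [chainC] at this
  omega

theorem gC_comm : ∀ g ∈ gC, E1 g * z0 = z0 * E1 g := fun g hg =>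
  (cm_z (ok_gC g hg)).1 (allL_iff.1 (by decide +kernel : allL (cmB · zG) gC = true) g hg)

theorem cardC_ge : 89181388800 ≤ Nat.card (centralizer ({z0} : Set Spor.Co1)) :=
  cardC_le fun g hg => mem_centralizer_singleton_iff.2 (gC_comm g hg)

theorem C_le (hc : Nat.card (centralizer ({z0} : Set Spor.Co1)) = 89181388800)
    {H : Subgroup Spor.Co1} (hH : ∀ g ∈ gC, E1 g ∈ H) : centralizer {z0} ≤ H :=
  (eq_of_le_of_card_ge inf_le_right (hc.trans_le (cardC_le fun g hg =>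
    ⟨hH g hg, mem_centralizer_singleton_iff.2 (gC_comm g hg)⟩))).ge.trans inf_le_left

theorem genC_of (hc : Nat.card (centralizer ({z0} : Set Spor.Co1)) = 89181388800)
    (R : Subgroup Spor.Co1) (h : ∀ c, c * z0 = z0 * c → Odd (orderOf c) → c ∈ R) :
    centralizer {z0} ≤ R :=
  C_le hc fun g hg => h _ (gC_comm g hg) (odd_E1 (ok_gC g hg) (n := 15) (by decide)
    (beq_iff.1 (allL_iff.1 (by decide +kernel : allL (fun g => Nat.beq (powG g 15) oneG) gC = true) g hg)))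

noncomputable def j1G : ℕ := monoG 0 5488550436862671569208542629008419
noncomputable def j2G : ℕ := mulG (monoG 15686835 5486919245237087330081638928909413) xiG
noncomputable def x1G : ℕ := monoG 6889680 972512676110088067912772961567868960
noncomputable def x2G : ℕ := monoG 2702848 984818244535754528103549039458486304
noncomputable def bG : ℕ := mulG (cjG θG x2G) x1G

theorem ok_j1G : Ok j1G := ok_monoG (by decide +kernel) (by decide +kernel)
theorem ok_j2G : Ok j2G := (ok_monoG (by decide +kernel) (by decide +kernel)).mul ok_xiG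
theorem ok_x1G : Ok x1G := ok_monoG (by decide +kernel) (by decide +kernel)
theorem ok_x2G : Ok x2G := ok_monoG (by decide +kernel) (by decide +kernel)
theorem ok_bG : Ok bG := (ok_θG.cj ok_x2G).mul ok_x1G

/-- Three elements of odd order generating the centraliser of the four-group. -/
noncomputable def gK : List ℕ := [j1G, j2G, cjG bG j1G]

theorem ok_gK : ∀ g ∈ gK, Ok g := by
  simp only [gK, List.forall_mem_cons]
  exact ⟨ok_j1G, ok_j2G, ok_bG.cj ok_j1G, fun _ h => nomatch h⟩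

def progK : List (List ℕ) := [[1, 2, 2, 1, 1, 2, 3, 3], [2, 3, 3, 2, 2, 1, 2, 1], [1, 1, 0, 0], [2, 2, 2, 1, 1, 2, 2], [1, 1, 0, 0, 1, 0, 1, 1, 0], [2, 2, 1, 1, 2, 1, 1, 2], [3, 2, 3, 2, 3, 3, 3, 2, 3], [4, 3, 3, 4, 3, 3], [5, 5, 5, 5], [6, 6, 6, 5, 6, 5, 5, 6, 5, 5, 5], [6, 7, 6, 7, 6, 7], [8, 8, 8, 7, 7, 8, 8, 7, 7, 8], [2, 3, 1, 3, 2, 0, 5], [3, 5, 7, 2, 4, 7], [8, 4, 5, 5, 3, 8], [10, 7, 8, 5, 3, 3, 10], [9, 4, 5], [4, 0], [3, 3, 1, 1], [6, 5], [4, 3, 4, 3, 3, 7], [2, 2], [4, 3, 1, 3]]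

def baseK : List (Lam × List ℕ) := [
  (lam [4, 4, 0, 0, 0, 0, 0, 0, 0, 0, 0, 0, 0, 0, 0, 0, 0, 0, 0, 0, 0, 0, 0, 0] (by decide +kernel), [23, 24, 25, 26]),
  (lam [0, 4, 0, 4, 0, 0, 0, 0, 0, 0, 0, 0, 0, 0, 0, 0, 0, 0, 0, 0, 0, 0, 0, 0] (by decide +kernel), [22, 21]),
  (lam [0, 4, 4, 0, 0, 0, 0, 0, 0, 0, 0, 0, 0, 0, 0, 0, 0, 0, 0, 0, 0, 0, 0, 0] (by decide +kernel), [20, 19]),
  (lam [0, 0, 0, 0, 0, 0, 0, 0, 0, 4, 4, 0, 0, 0, 0, 0, 0, 0, 0, 0, 0, 0, 0, 0] (by decide +kernel), [18, 17, 16, 15, 14, 13, 12, 11]),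
  (lam [2, 2, -2, 2, 0, 2, 0, 0, 0, 0, 0, 0, 0, 0, 2, 0, 0, -2, 0, 0, 0, 0, 0, 2] (by decide +kernel), [10, 9, 8, 7, 6]),
  (lam [0, 0, 0, 0, 0, 0, 0, 0, 4, 0, 0, 0, 0, 0, 0, 0, 0, 0, 0, 0, 4, 0, 0, 0] (by decide +kernel), [5, 4, 3, 2]),
  (lam [0, 0, 0, 0, 0, 0, 0, 0, 0, 0, 0, 0, 0, 4, 0, 0, 0, 0, 0, 0, 0, -4, 0, 0] (by decide +kernel), [1, 0])]

theorem chainKK : chainN (negG :: gK) progK baseK 300 = 660602880 := by decide +kernel

theorem cardK_le {H : Subgroup Spor.Co1} (hH : ∀ g ∈ gK, E1 g ∈ H) : 330301440 ≤ Nat.card H := by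
  have := chain1 ok_gK H hH progK baseK (by decide +kernel) 300
  rw [chainKK] at this
  omega

theorem gK_comm : ∀ g ∈ gK, E1 g * z0 = z0 * E1 g ∧ E1 g * s0 = s0 * E1 g := fun g hg => by
  have := allL_iff.1 (by decide +kernel : allL (fun g => cmB g zG && cmB g sG) gK = true) g hg
  rwa [Bool.and_eq_true, cm_z (ok_gK g hg), cm_s (ok_gK g hg)] at this

theorem gK_mem : ∀ g ∈ gK, E1 g ∈ centralizer {z0} ⊓ centralizer {s0} := fun g hg =>
  ⟨mem_centralizer_singleton_iff.2 (gK_comm g hg).1, mem_centralizer_singleton_iff.2 (gK_comm g hg).2⟩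

/-- `Co0` with the action by conjugation. -/
def CJ : Type := Co0

instance instCJ : MulAction Co0 CJ := MulAction.compHom Co0 (MulAut.conj : Co0 →* MulAut Co0)

/-- Conjugation by involutions. -/
noncomputable def encCJ : Enc Co0 CJ where
  ok := fun g => Ok g ∧ el g * el g = 1
  grp := el
  valid := Ok
  dec := el
  act := fun g x => mulG (mulG g x) g
  act_valid := fun _ _ hg hx => (hg.1.mul hx).mul hg.1
  dec_act := fun g x hg hx => by
    rw [el_mulG (hg.1.mul hx) hg.1, el_mulG hg.1 hx]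
    show _ = el g * el x * (el g)⁻¹
    rw [inv_eq_of_mul_eq_one_right hg.2]
  dec_inj := fun _ _ => Ok.el_inj

theorem sq_lG : ∀ i < 10, el (lG i) * el (lG i) = 1 := fun i hi => by
  rw [← el_mulG (ok_lG i) (ok_lG i), beq_iff.1 (H42.of_allB (by decide +kernel :
    H42.allB (fun i => Nat.beq (mulG (lG i) (lG i)) oneG) 10 = true) hi), el_oneG]

theorem lG_comm {i : ℕ} (hi : i < 10) (h : i ≠ 7) : E1 (lG i) * z0 = z0 * E1 (lG i) := by
  have := H42.of_allB (by decide +kernel :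
    H42.allB (fun i => Nat.beq i 7 || cmB (lG i) zG) 10 = true) hi
  rw [Bool.or_eq_true, beq_iff, cm_z (ok_lG i)] at this
  exact this.resolve_left h

theorem orb270 : orbSize (actsOf (fun g x => mulG (mulG g x) g) [lG 3, lG 5, lG 6, lG 8]) sG 300 = 270 := by
  decide +kernel

theorem cardK_of (hc : Nat.card (centralizer ({z0} : Set Spor.Co1)) = 89181388800) :
    Nat.card (centralizer {z0} ⊓ centralizer {s0} : Subgroup Spor.Co1) = 330301440 := by
  refine le_antisymm ?_ (cardK_le gK_mem)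
  have h1 := encCJ.orbSize_le (gens := [lG 3, lG 5, lG 6, lG 8]) (by
      simp only [List.forall_mem_cons]
      exact ⟨⟨ok_lG _, sq_lG _ (by norm_num)⟩, ⟨ok_lG _, sq_lG _ (by norm_num)⟩,
        ⟨ok_lG _, sq_lG _ (by norm_num)⟩, ⟨ok_lG _, sq_lG _ (by norm_num)⟩, fun _ h => nomatch h⟩)
    ((centralizer {z0}).comap mk1) (by
      simp only [List.forall_mem_cons, mem_comap, mem_centralizer_singleton_iff]
      exact ⟨lG_comm (by norm_num) (by norm_num), lG_comm (by norm_num) (by norm_num),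
        lG_comm (by norm_num) (by norm_num), lG_comm (by norm_num) (by norm_num),
        fun _ h => nomatch h⟩) (x0 := sG) ok_sG 300
  have h2 := H42.card_eq_ncard_orbit_mul ((centralizer {z0}).comap mk1) (encCJ.dec sG)
  have h3 : MulAction.stabilizer Co0 (encCJ.dec sG) = (centralizer {s0}).comap mk1 := by
    ext g
    rw [mem_comap, mem_centralizer_singleton_iff, comm_s0, ← el_sG, ← mul_inv_eq_iff_eq_mul]
    rfl
  rw [h3, ← comap_inf, card_comap, card_comap, hc] at h2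
  have h4 := Nat.mul_le_mul_right
    (2 * Nat.card (centralizer {z0} ⊓ centralizer {s0} : Subgroup Spor.Co1)) (orb270.ge.trans h1)
  omega

theorem K_le (hc : Nat.card (centralizer ({z0} : Set Spor.Co1)) = 89181388800)
    {H : Subgroup Spor.Co1} (hH : ∀ g ∈ gK, E1 g ∈ H) : centralizer {z0} ⊓ centralizer {s0} ≤ H :=
  (eq_of_le_of_card_ge inf_le_right ((cardK_of hc).trans_le (cardK_le fun g hg =>
    ⟨hH g hg, gK_mem g hg⟩))).ge.trans inf_le_left

theorem genK_of (hc : Nat.card (centralizer ({z0} : Set Spor.Co1)) = 89181388800)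
    (R : Subgroup Spor.Co1) (h : ∀ c, c * z0 = z0 * c → c * s0 = s0 * c → Odd (orderOf c) → c ∈ R) :
    centralizer {z0} ⊓ centralizer {s0} ≤ R :=
  K_le hc fun g hg => h _ (gK_comm g hg).1 (gK_comm g hg).2 (odd_E1 (ok_gK g hg) (n := 21) (by decide)
    (beq_iff.1 (allL_iff.1 (by decide +kernel : allL (fun g => Nat.beq (powG g 21) oneG) gK = true) g hg)))

end Cfsg.Agent.H48.Rec
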