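import Cfsg.Agent.H47.B6Defs
import Cfsg.Agent.H47.BuGood
import Cfsg.Agent.H74.MonInv
import Cfsg.Agent.S2182

/-! The involutions of the centralizer of a pure four-group of type two in the Monster. -/

set_option autoImplicit false
set_option maxRecDepth 200000

namespace Cfsg.Agent.H48.B6

open Cfsg Subgroup Cfsg.Agent.H48 Cfsg.Agent.H49 Cfsg.Agent.H48.Mid Cfsg.Agent.H34.MidA
  Cfsg.Agent.H47.Bu Cfsg.Agent.H47.B6 Cfsg.Agent.H48.Rec Cfsg.Agent.H74.Mon Cfsg.Agent.H42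

/-- the coordinates of `vU` -/
def lU : List ℤ := [4, 0, 0, 0, 0, 0, 0, 0, 0, 0, 0, 0, 0, 0, 0, 0, 0, 0, 0, 0, 0, 0, 0, 4]

/-- the coordinates of `vX` -/
def lX : List ℤ := [0, 4, 0, 0, 0, 0, 0, 0, 0, 0, 0, 0, 0, 0, 0, 0, 0, 0, 0, 0, 0, 0, 0, 4]

theorem vU_val : vU.1 = vec lU := by decide +kernel

theorem vX_val : vX.1 = vec lX := by decide +kernel

theorem vU_eq : vU = lamD lU := Subtype.ext (vU_val.trans (lamD_val (by decide +kernel)).symm)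

theorem vX_eq : vX = lamD lX := Subtype.ext (vX_val.trans (lamD_val (by decide +kernel)).symm)

theorem kap_vU : kap vU = kapL lU := kap_vec rfl vU_val

theorem kap_vX : kap vX = kapL lX := kap_vec rfl vX_val

/-- the test for a vector orthogonal to `vU` and `vX` modulo two -/
noncomputable def pwB (r : List ℤ) : Bool := memL r && dvdB 16 (ldot r lU) && dvdB 16 (ldot r lX)

/-- the test for a commutator with a sign change -/
noncomputable def sqB (c : ℕ) (r p τ : List ℤ) : Bool :=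
  isCode c && Nat.beq (pc c) 8 && signB (sM c) c && Nat.beq (kapL (lact (sM c) lU)) (kapL lU) &&
    Nat.beq (kapL (lact (sM c) lX)) (kapL lX) && pwB r && pwB p && memL τ && dvdB 32 (ldot r r) &&
    Nat.beq (kapL (lact (sM c) r) ^^^ kapL r) (kapL τ) && !dvdB 16 (ldot p τ)

theorem conj_mul_of_comm' {G : Type*} [Group G] {e u : G} (he : e * u = u * e) (x : G) :
    e * (x * u) * e⁻¹ = e * x * e⁻¹ * u := by
  rw [mul_assoc (e * x), (Commute.inv_left he).eq]; group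

variable {A : Type} [Group A] [Finite A] {Q : Subgroup A} {z : A}
  {θ : centralizer ({z} : Set A) →* Spor.Co1} {R : Lam → A → Prop} (hM : MD Q z θ R)
include hM

theorem can {g : Co0} (hg : IsConj z0 (mk1 g)) :
    ∃ k, Ass θ g k ∧ k * k = 1 ∧ ∀ v q, R v q → H49.Fix g v → q * k = k * q := by
  obtain ⟨c, hc⟩ := isConj_iff.1 hg.symm
  obtain ⟨g₀, rfl⟩ := mk1_surj c
  have h' := hM.twist g₀
  obtain ⟨s, S, p, r⟩ := exists_pair h'
  obtain ⟨k, -, a, kk, H⟩ := exists_can h' p r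
  have a' : Ass θ g k := ⟨a.1, by
    have e := a.2
    change mk1 zt = mk1 g₀ * θ _ * (mk1 g₀)⁻¹ at e
    exact mul_left_cancel (mul_right_cancel (hc.trans e))⟩
  refine ⟨k, a', kk, fun v q rq hv => H (g₀ • v) q (by rwa [inv_smul_smul]) ?_⟩
  have r1 := h'.act' a (v := g₀ • v) (x := q) (by rwa [inv_smul_smul])
  have r2 := hM.act' a' rq
  have c1 : cong (g₀⁻¹ • zt • g₀ • v) (g • v) := (hM.uniq r1 r2).2 (Or.inl rfl)
  have := (hv.trans c1.symm).smul g₀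
  rwa [smul_inv_smul] at this

variable {s y : A} (rx : R vU s) (ry : R vX y)
include rx ry

omit [Finite A] in
theorem mem_pw {r : List ℤ} (h : pwB r = true) {b : A} (rb : R (lamD r) b) :
    b ∈ centralizer ({s, y} : Set A) := by
  simp only [pwB, Bool.and_eq_true, dvdB_iff] at h
  refine mem_c2.2 ⟨(hM.comm_iff rb rx).2 ?_, (hM.comm_iff rb ry).2 ?_⟩
  · rw [lamD_val h.1.1, vU_val, dot_vec _ _ (memL_length h.1.1)]; exact h.1.2
  · rw [lamD_val h.1.1, vX_val, dot_vec _ _ (memL_length h.1.1)]; exact h.2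

theorem sq_of {c : ℕ} {r p τ : List ℤ} (h : sqB c r p τ = true) {x : A} (rτ : R (lamD τ) x) :
    ∃ a ∈ centralizer ({s, y} : Set A), ∃ b ∈ centralizer ({s, y} : Set A), a * a = 1 ∧
      b * b = 1 ∧ a * b * (a * b) = x := by
  simp only [sqB, Bool.and_eq_true, beq_iff, dvdB_iff, Bool.not_eq_true', ← Bool.not_eq_true] at h
  obtain ⟨⟨⟨⟨⟨⟨⟨⟨⟨⟨h1, h2⟩, h3⟩, h4⟩, h5⟩, h6⟩, h7⟩, h8⟩, h9⟩, h10⟩, h11⟩ := h
  have m := isMat_sign (isWord_toSet h1) h3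
  have mr : memL r = true := by simp only [pwB, Bool.and_eq_true] at h6; exact h6.1.1
  have mp : memL p = true := by simp only [pwB, Bool.and_eq_true] at h7; exact h7.1.1
  obtain ⟨a, aa, a2, H⟩ := can hM ((H10.CoI.conj_z0_iff (isWord_toSet h1)).2
    (Or.inl ((card_toSet (isCode_lt h1)).trans h2)))
  have ha : a ∈ centralizer ({s, y} : Set A) := mem_c2.2
    ⟨(H _ _ rx (by rw [H49.Fix, cong_iff_kap, kap_vU, vU_eq, m.kap (by decide +kernel), h4])).symm,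
     (H _ _ ry (by rw [H49.Fix, cong_iff_kap, kap_vX, vX_eq, m.kap (by decide +kernel), h5])).symm⟩
  obtain ⟨b, rb⟩ := hM.ex2 (lamD r)
  obtain ⟨q, rq⟩ := hM.ex2 (lamD p)
  have hb := mem_pw hM rx ry h6 rb
  have hq := mem_pw hM rx ry h7 rq
  have bb : b * b = 1 := (hM.sq_iff rb).2 (by rwa [lamD_val mr, sqNorm_vec _ (memL_length mr)])
  have r1 := hM.mul (hM.act' aa rb) rb
  rw [inv_eq_of_mul_eq_one_right a2, mul_assoc (a * b)] at r1
  rcases (hM.uniq rτ r1).1 (by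
    rw [cong_iff_kap, kap_add, m.kap mr, kap_lamD mr, kap_lamD h8, h10]) with e | e
  · exact ⟨a, ha, b, hb, a2, bb, e⟩
  · have n : q * x ≠ x * q := fun c => h11 (by
      have := (hM.comm_iff rq rτ).1 c
      rwa [lamD_val mp, lamD_val h8, dot_vec _ _ (memL_length mp)] at this)
    have e1 := hM.hQ.conj_of_ne (hM.mem rq) (hM.mem rτ) n
    refine ⟨q⁻¹ * a * q⁻¹⁻¹, mul_mem (mul_mem (inv_mem hq) ha) (inv_mem (inv_mem hq)),
      q⁻¹ * b * q⁻¹⁻¹, mul_mem (mul_mem (inv_mem hq) hb) (inv_mem (inv_mem hq)),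
      by rw [conj_mul, a2]; simp, by rw [conj_mul, bb]; simp, ?_⟩
    rw [conj_mul, conj_mul, e, ← e1]; group

omit rx ry in
theorem cj_of {v : Lam} {x : A} (r : R v x) (l : List ℤ)
    (h : (memL l && Nat.beq (kap v) (kapL l) && (Int.decEq (ldot l l) 64).decide) = true) :
    IsConj z x := by
  simp only [Bool.and_eq_true, beq_iff, decide_eq_true_iff] at h
  have n : sqNorm (lamD l).1 = 64 := by rw [lamD_val h.1.1, sqNorm_vec _ (memL_length h.1.1), h.2]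
  exact ((hM.isConj_iff_norm (hM.cg r (cong_iff_kap.2 (h.1.2.trans (kap_lamD h.1.1).symm)))
    n.le).2 n).1

omit hM rx ry [Finite A] in
/-- three pairwise non-conjugate members of a set of three classes exhaust it -/
theorem three {H : Type*} [Group H] {S : Set H} (h : (ConjClasses.mk '' S).ncard = 3) {a b c x : H}
    (ha : a ∈ S) (hb : b ∈ S) (hc : c ∈ S) (hx : x ∈ S) (n1 : ¬ IsConj a b) (n2 : ¬ IsConj a c)
    (n3 : ¬ IsConj b c) : IsConj x a ∨ IsConj x b ∨ IsConj x c := by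
  rw [← ConjClasses.mk_eq_mk_iff_isConj] at n1 n2 n3
  have e := Set.eq_of_subset_of_ncard_le (s := {ConjClasses.mk a, ConjClasses.mk b, ConjClasses.mk c})
    (t := ConjClasses.mk '' S) (by
      rintro _ (rfl | rfl | rfl)
      exacts [⟨a, ha, rfl⟩, ⟨b, hb, rfl⟩, ⟨c, hc, rfl⟩])
    (h.trans (Set.ncard_eq_three.2 ⟨_, _, _, n1, n2, n3, rfl⟩).symm).le
    (Set.finite_of_ncard_ne_zero (by omega))
  have := e.ge ⟨x, hx, rfl⟩
  simpa only [Set.mem_insert_iff, Set.mem_singleton_iff, ConjClasses.mk_eq_mk_iff_isConj] using this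

/-- a vector of type two -/
def l2 : List ℤ := [0, 0, 4, 4, 0, 0, 0, 0, 0, 0, 0, 0, 0, 0, 0, 0, 0, 0, 0, 0, 0, 0, 0, 0]

/-- a vector of type four -/
def l3 : List ℤ := [0, 0, 4, 4, 4, 4, 0, 0, 0, 0, 0, 0, 0, 0, 0, 0, 0, 0, 0, 0, 0, 0, 0, 0]

omit [Finite A] hM rx ry in
theorem kap2 : kap (lamD l2) = kapL l2 := kap_lamD (by decide +kernel)

omit [Finite A] hM rx ry in
theorem kap3 : kap (lamD l3) = kapL l3 := kap_lamD (by decide +kernel)

theorem cls2 {w : A} (r : R (lamD l2) w) : ¬ IsConj z w ∧ IsConj z (w * s) ∧ IsConj z (w * y) ∧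
    IsConj z (w * (s * y)) :=
  ⟨hM.not_isConj_of_norm r (by rw [lamD_val (by decide +kernel)]; decide +kernel),
    cj_of hM (hM.mul r rx) [0, 0, 0, 0, 4, 0, 0, 0, 4, 4, 0, 0, 0, 0, 0, 0, 0, 0, 0, 0, 0, 4, 0, 0]
      (by rw [kap_add, kap2, kap_vU]; decide +kernel),
    cj_of hM (hM.mul r ry) [0, 0, 0, 0, 4, 0, 4, 0, 0, 0, 0, 0, 0, 0, 0, 4, 0, 0, 4, 0, 0, 0, 0, 0]
      (by rw [kap_add, kap2, kap_vX]; decide +kernel),
    cj_of hM (hM.mul r (hM.mul rx ry))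
      [-4, 4, 4, 4, 0, 0, 0, 0, 0, 0, 0, 0, 0, 0, 0, 0, 0, 0, 0, 0, 0, 0, 0, 0]
      (by rw [kap_add, kap_add, kap2, kap_vU, kap_vX]; decide +kernel)⟩

theorem cls3 {w : A} (r : R (lamD l3) w) : IsConj z w ∧ IsConj z (w * s) ∧ IsConj z (w * y) ∧
    IsConj z (w * (s * y)) :=
  ⟨cj_of hM r l3 (by rw [kap3]; decide +kernel),
    cj_of hM (hM.mul r rx) [-4, 0, 0, 0, 0, 0, 0, 4, 0, 0, 0, 0, 0, 0, 0, 0, 4, 0, 0, 4, 0, 0, 0, 0]
      (by rw [kap_add, kap3, kap_vU]; decide +kernel),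
    cj_of hM (hM.mul r ry) [0, 0, -4, 0, 0, 0, 0, 0, 0, 4, 4, 0, 0, 0, 0, 0, 0, 0, 0, 0, 0, 0, 4, 0]
      (by rw [kap_add, kap3, kap_vX]; decide +kernel),
    cj_of hM (hM.mul r (hM.mul rx ry))
      [4, 0, 0, 0, 0, 0, 0, 0, 4, 0, 0, 4, 0, 4, 0, 0, 0, 0, 0, 0, 0, 0, 0, 0]
      (by rw [kap_add, kap_add, kap3, kap_vU, kap_vX]; decide +kernel)⟩

/-- a fourth power root made of two involutions -/
def Sq (s y x : A) : Prop := ∃ a ∈ centralizer ({s, y} : Set A), ∃ b ∈ centralizer ({s, y} : Set A),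
  a * a = 1 ∧ b * b = 1 ∧ a * b * (a * b) = x

theorem sq2 {w : A} (r : R (lamD l2) w) : Sq s y (w * s) ∧ Sq s y (w * y) :=
  ⟨sq_of hM rx ry (c := 5024896)
      (r := [0, 0, 0, 0, 2, 0, 0, 2, 2, 2, 0, 2, 0, 2, 0, 2, 0, 0, 0, 0, 0, 2, 0, 0])
      (p := [0, 0, 0, 2, 2, 2, 2, 2, 0, 0, 2, 0, 0, 2, 0, 2, 0, 0, 0, 0, 0, 0, 0, 0])
      (τ := [0, 0, 0, 0, 4, 0, 0, 0, 4, 4, 0, 0, 0, 0, 0, 0, 0, 0, 0, 0, 0, 4, 0, 0])
      (by decide +kernel) (hM.cg (hM.mul r rx) (by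
        rw [cong_iff_kap, kap_add, kap2, kap_vU, kap_lamD (by decide +kernel)]; decide +kernel)),
    sq_of hM rx ry (c := 7409024)
      (r := [0, 0, 0, 0, 2, 0, 2, 2, 2, 0, 0, 0, 0, 0, 0, 2, 0, 0, 2, 0, 2, 0, 2, 0])
      (p := [0, 0, 0, 2, 2, 2, 2, 2, 0, 0, 2, 0, 0, 2, 0, 2, 0, 0, 0, 0, 0, 0, 0, 0])
      (τ := [0, 0, 0, 0, 4, 0, 4, 0, 0, 0, 0, 0, 0, 0, 0, 4, 0, 0, 4, 0, 0, 0, 0, 0])
      (by decide +kernel) (hM.cg (hM.mul r ry) (by
        rw [cong_iff_kap, kap_add, kap2, kap_vX, kap_lamD (by decide +kernel)]; decide +kernel))⟩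

theorem sq3 {w : A} (r : R (lamD l3) w) : Sq s y w ∧ Sq s y (w * y) :=
  ⟨sq_of hM rx ry (c := 2512448)
      (r := [0, 0, 2, 2, 2, 2, 2, 0, 0, 2, 0, 0, 2, 0, 2, 0, 0, 0, 0, 0, 0, 0, 0, 0])
      (p := [0, 0, 0, 2, 2, 2, 2, 2, 0, 0, 2, 0, 0, 2, 0, 2, 0, 0, 0, 0, 0, 0, 0, 0])
      (τ := l3) (by decide +kernel) r,
    sq_of hM rx ry (c := 3444840)
      (r := [0, 0, -2, 0, 0, -2, 2, 0, 0, 2, 2, 0, 0, 0, 0, 2, 0, 0, 2, 0, 0, 0, 2, 0])
      (p := [0, 0, 0, 2, 2, 2, 2, 2, 0, 0, 2, 0, 0, 2, 0, 2, 0, 0, 0, 0, 0, 0, 0, 0])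
      (τ := [0, 0, -4, 0, 0, 0, 0, 0, 0, 4, 4, 0, 0, 0, 0, 0, 0, 0, 0, 0, 0, 0, 4, 0])
      (by decide +kernel) (hM.cg (hM.mul r ry) (by
        rw [cong_iff_kap, kap_add, kap3, kap_vX, kap_lamD (by decide +kernel)]; decide +kernel))⟩

/-- The three classes of involutions modulo the four-group. -/
theorem classes {w2 w3 : A} (r2 : R (lamD l2) w2) (r3 : R (lamD l3) w3) {x : A}
    (hx : x ∈ centralizer ({s, y} : Set A)) (xx : x * x ∈ closure ({s, y} : Set A))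
    (xV : x ∉ closure ({s, y} : Set A)) : ∃ k ∈ centralizer ({s, y} : Set A),
      ∃ v ∈ closure ({s, y} : Set A), k * x * k⁻¹ = z * v ∨ k * x * k⁻¹ = w2 * v ∨
        k * x * k⁻¹ = w3 * v := by
  have fl := fl_std hM rx ry
  have f4 := fl_four hM fl
  let _ : Fintype (GaloisField 2 2) := Fintype.ofFinite _
  have hF : Fintype.card (GaloisField 2 2) = 4 := by
    rw [← Nat.card_eq_fintype_card, GaloisField.card 2 2 two_ne_zero]; rfl
  obtain ⟨σ, s1, s2, -⟩ := exists_proj hM fl _ hF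
  have k1 : ∀ a, σ a = 1 ↔ a.1 ∈ closure ({s, y} : Set A) := fun a => by
    rw [← mem_subgroupOf, ← s2, MonoidHom.mem_ker]
  have cj : ∀ a b, IsConj (σ a) (σ b) → ∃ k ∈ centralizer ({s, y} : Set A),
      ∃ v ∈ closure ({s, y} : Set A), k * a * k⁻¹ = b * v := fun a b c => by
    obtain ⟨k, hk⟩ := isConj_iff.1 c
    obtain ⟨k, rfl⟩ := s1 k
    exact ⟨k, k.2, _, (k1 (b⁻¹ * (k * a * k⁻¹))).1 (by
      rw [map_mul, map_mul, map_mul, map_inv, map_inv, hk, inv_mul_cancel]), by simp⟩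
  have ord : ∀ a : centralizer ({s, y} : Set A), a.1 * a.1 ∈ closure ({s, y} : Set A) →
      a.1 ∉ closure ({s, y} : Set A) → σ a ∈ {g | orderOf g = 2} := fun a h1 h2 =>
    orderOf_eq_prime (by rw [sq, ← map_mul]; exact (k1 _).2 h1) fun e => h2 ((k1 a).1 e)
  have mz : z ∈ centralizer ({s, y} : Set A) :=
    mem_c2.2 ⟨(hM.hQ.cen s (hM.mem rx)).symm, (hM.hQ.cen y (hM.mem ry)).symm⟩
  have m2 := mem_pw hM rx ry (r := l2) (by decide +kernel) r2
  have m3 := mem_pw hM rx ry (r := l3) (by decide +kernel) r3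
  have q2 : w2 * w2 = 1 := (hM.sq_iff r2).2 (by rw [lamD_val (by decide +kernel)]; decide +kernel)
  have q3 : w3 * w3 = 1 := (hM.sq_iff r3).2 (by rw [lamD_val (by decide +kernel)]; decide +kernel)
  obtain ⟨a0, a1, a2, a3⟩ := cls2 hM rx ry r2
  obtain ⟨b0, b1, b2, b3⟩ := cls3 hM rx ry r3
  have A2 : ∀ v ∈ closure ({s, y} : Set A), v ≠ 1 → IsConj z (w2 * v) := fun v hv h1 => by
    rcases f4.mem_closure.1 hv with rfl | rfl | rfl | rfl
    exacts [absurd rfl h1, a1, a2, a3]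
  have A3 : ∀ v ∈ closure ({s, y} : Set A), IsConj z (w3 * v) := fun v hv => by
    rcases f4.mem_closure.1 hv with rfl | rfl | rfl | rfl
    exacts [by rwa [mul_one], b1, b2, b3]
  have ms : s ∈ closure ({s, y} : Set A) := subset_closure (by simp)
  have my : y ∈ closure ({s, y} : Set A) := subset_closure (by simp)
  have z1 : ¬ IsConj z 1 := fun c => hM.hQ.ne (isConj_one_left.1 c)
  have tr : ∀ {k a b v : A}, k ∈ centralizer ({s, y} : Set A) → k * a * k⁻¹ = b →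
      v ∈ closure ({s, y} : Set A) → IsConj z (b * v) → IsConj z (a * v) := fun {k a b v} hk e hv c =>
    c.trans (isConj_iff.2 ⟨k, by
      rw [← e, conj_mul_of_comm' (((centralizer_closure _).ge hk : k ∈ centralizer _) v hv).symm]⟩).symm
  have ns : ¬ IsConj z (z * s) := by
    rw [← hM.hQ.cen s (hM.mem rx)]; exact H70.Mid.t2_not_conj hM (H70.Mid.t2_mul_z hM fl.1)
  have ny : ¬ IsConj z (z * y) := by
    rw [← hM.hQ.cen y (hM.mem ry)]; exact H70.Mid.t2_not_conj hM (H70.Mid.t2_mul_z hM fl.2.1)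
  have nV : ∀ v ∈ closure ({s, y} : Set A), ¬ IsConj z v := fun v hv => by
    rcases f4.mem_closure.1 hv with rfl | rfl | rfl | rfl
    exacts [z1, H70.Mid.t2_not_conj hM fl.1, H70.Mid.t2_not_conj hM fl.2.1,
      H70.Mid.t2_not_conj hM fl.2.2]
  rcases three (S2182.result 2 hF) (ord ⟨z, mz⟩ (hM.hQ.zz ▸ one_mem _) fun c => nV _ c (IsConj.refl _))
    (ord ⟨w2, m2⟩ (q2 ▸ one_mem _) fun c => nV _ (mul_mem c ms) a1)
    (ord ⟨w3, m3⟩ (q3 ▸ one_mem _) fun c => nV _ c b0) (ord ⟨x, hx⟩ xx xV)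
    (fun c => by
      obtain ⟨k, hk, v, hv, e⟩ := cj _ _ c
      by_cases e1 : v * s = 1
      · exact ny (tr hk e my (mul_assoc w2 v y ▸ A2 _ (mul_mem hv my) fun e2 =>
          f4.ne (mul_left_cancel (e2.trans e1.symm))))
      · exact ns (tr hk e ms (mul_assoc w2 v s ▸ A2 _ (mul_mem hv ms) e1)))
    (fun c => by
      obtain ⟨k, hk, v, hv, e⟩ := cj _ _ c
      exact ns (tr hk e ms (mul_assoc w3 v s ▸ A3 _ (mul_mem hv ms))))
    (fun c => by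
      obtain ⟨k, hk, v, hv, e⟩ := cj _ _ c
      exact a0 (mul_one w2 ▸ tr hk e (one_mem _) ((mul_one (w3 * v)).symm ▸ A3 _ hv))) with c | c | c
  all_goals obtain ⟨k, hk, v, hv, e⟩ := cj _ _ c
  exacts [⟨k, hk, v, hv, Or.inl e⟩, ⟨k, hk, v, hv, Or.inr (Or.inl e)⟩,
    ⟨k, hk, v, hv, Or.inr (Or.inr e)⟩]

omit hM rx ry [Finite A] in
theorem Sq.of_conj {k x : A} (hk : k ∈ centralizer ({s, y} : Set A)) (h : Sq s y (k * x * k⁻¹)) :
    Sq s y x := by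
  obtain ⟨a, ha, b, hb, aa, bb, e⟩ := h
  refine ⟨k⁻¹ * a * k⁻¹⁻¹, mul_mem (mul_mem (inv_mem hk) ha) (inv_mem (inv_mem hk)),
    k⁻¹ * b * k⁻¹⁻¹, mul_mem (mul_mem (inv_mem hk) hb) (inv_mem (inv_mem hk)),
    by rw [conj_mul, aa]; simp, by rw [conj_mul, bb]; simp, ?_⟩
  rw [conj_mul, conj_mul, e]; group

end Cfsg.Agent.H48.B6

namespace Cfsg.Agent.H48.B6

open Cfsg Subgroup Cfsg.Agent.H48 Cfsg.Agent.H49 Cfsg.Agent.H48.Mid Cfsg.Agent.H34.MidA
  Cfsg.Agent.H47.Bu Cfsg.Agent.H47.B6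

/-- The involutions of the centralizer of a pure four-group. -/
theorem cl : ClStmt := by
  intro A _ _ Q z θ R hM s y rx ry x hx xx
  have fl := fl_std hM rx ry
  have f4 := fl_four hM fl
  have sqV : ∀ v ∈ closure ({s, y} : Set A), v * v = 1 := fun v hv => by
    rcases f4.mem_closure.1 hv with rfl | rfl | rfl | rfl
    exacts [mul_one _, f4.zz, f4.xx, H70.Mid.t2_sq hM fl.2.2]
  by_cases xV : x ∈ closure ({s, y} : Set A)
  · exact ⟨sqV x xV, Or.inl xV⟩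
  obtain ⟨w2, r2⟩ := hM.ex2 (lamD l2)
  obtain ⟨w3, r3⟩ := hM.ex2 (lamD l3)
  obtain ⟨k, hk, v, hv, e⟩ := classes hM rx ry r2 r3 hx xx xV
  have key : ∀ w ∈ centralizer ({s, y} : Set A), w * w = 1 → k * x * k⁻¹ = w * v → x * x = 1 :=
    fun w hw ww e => by
      have c : v * w = w * v := ((centralizer_closure _).ge hw : w ∈ centralizer _) v hv
      rw [← conj_eq_one_iff (a := k), ← conj_mul, e, mul_assoc, ← mul_assoc v, c, mul_assoc,
        sqV v hv, mul_one, ww]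
  have fin : ∀ w, k * x * k⁻¹ = w * v → (Sq s y w ∨ Sq s y (w * s)) → Sq s y (w * y) →
      Sq s y x ∨ Sq s y (x * s) := fun w e h1 h2 => by
    have e' : k * (x * s) * k⁻¹ = w * v * s := by rw [conj_mul_of_comm' (mem_c2.1 hk).1, e]
    refine Or.imp (Sq.of_conj hk) (Sq.of_conj hk) ?_
    rw [e, e']
    rcases f4.mem_closure.1 hv with rfl | rfl | rfl | rfl
    · rwa [mul_one]
    · rw [mul_assoc w, f4.zz, mul_one]; exact h1.symm
    · exact Or.inl h2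
    · refine Or.inr ?_
      rwa [mul_assoc w, (fl_spec hM fl).1, mul_assoc, f4.zz, mul_one]
  have out : Sq s y x ∨ Sq s y (x * s) → ∃ a ∈ centralizer ({s, y} : Set A),
      ∃ b ∈ centralizer ({s, y} : Set A), a * a = 1 ∧ b * b = 1 ∧
        (a * b * (a * b) = x ∨ a * b * (a * b) = x * s) := by
    rintro (⟨a, ha, b, hb, aa, bb, e⟩ | ⟨a, ha, b, hb, aa, bb, e⟩)
    exacts [⟨a, ha, b, hb, aa, bb, Or.inl e⟩, ⟨a, ha, b, hb, aa, bb, Or.inr e⟩]
  rcases e with e | e | e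
  · exact ⟨key z (mem_c2.2 ⟨(hM.hQ.cen s (hM.mem rx)).symm, (hM.hQ.cen y (hM.mem ry)).symm⟩)
      hM.hQ.zz e, Or.inr (Or.inl ⟨k, hk, v, hv, e⟩)⟩
  · exact ⟨key w2 (mem_pw hM rx ry (r := l2) (by decide +kernel) r2) ((hM.sq_iff r2).2 (by
      rw [lamD_val (by decide +kernel)]; decide +kernel)) e, Or.inr (Or.inr (out
        (fin w2 e (Or.inr (sq2 hM rx ry r2).1) (sq2 hM rx ry r2).2)))⟩
  · exact ⟨key w3 (mem_pw hM rx ry (r := l3) (by decide +kernel) r3) ((hM.sq_iff r3).2 (by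
      rw [lamD_val (by decide +kernel)]; decide +kernel)) e, Or.inr (Or.inr (out
        (fin w3 e (Or.inl (sq3 hM rx ry r3).1) (sq3 hM rx ry r3).2)))⟩

end Cfsg.Agent.H48.B6
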