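import Cfsg.Agent.H60.F23D

/-! The Baby Monster from a `3`-centralizer, part A: the group `2^{1+6} . PSp₄(3)` acting on `3^8`. -/

set_option autoImplicit false
set_option linter.style.haveILetI false
set_option linter.unusedSimpArgs false
set_option linter.unusedSectionVars false

universe u

namespace Cfsg.Agent.H48.B3

open Subgroup H95.L3 H40.F23 H60.F23

variable {V : Type} [AddCommGroup V] [Module (ZMod 3) V]
  {X : Type u} [Group X] [Finite X] {R H : Subgroup X} {t s d : X} {a i j : Fin 3 → X}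
  {ρ : X →* Module.End (ZMod 3) V} {x y : X} {α β : Fin 4 → ZMod 3}

/-- `R` is the central product of three quaternion groups `⟨i k, j k⟩`; the element `a k` of order three acts on the
`k`-th factor only; `s` swaps the first two factors and centralizes the third one. -/
structure Dc {X : Type u} [Group X] (R : Subgroup X) (t : X) (a i j : Fin 3 → X) (s : X) : Prop where
  xs : H49.XS R t
  normal : R.Normal
  a3 : ∀ k, a k ^ 3 = 1
  aa : ∀ k l, Commute (a k) (a l)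
  iR : ∀ k, i k ∈ R
  jR : ∀ k, j k ∈ R
  ii : ∀ k, i k * i k = t
  jj : ∀ k, j k * j k = t
  ij : ∀ k, i k * j k = j k * i k * t
  ai : ∀ k, a k * i k * (a k)⁻¹ = j k
  aj : ∀ k, a k * j k * (a k)⁻¹ = i k * j k
  cai : ∀ k l, k ≠ l → Commute (a k) (i l)
  caj : ∀ k l, k ≠ l → Commute (a k) (j l)
  cii : ∀ k l, k ≠ l → Commute (i k) (i l)
  cij : ∀ k l, k ≠ l → Commute (i k) (j l)
  cjj : ∀ k l, k ≠ l → Commute (j k) (j l)
  s_notMem : s ∉ R
  ss : s * s = 1 ∨ s * s = t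
  sa0 : s * a 0 * s⁻¹ = a 1
  sa2 : Commute s (a 2)
  si0 : s * i 0 * s⁻¹ = i 1
  sj0 : s * j 0 * s⁻¹ = j 1
  si2 : Commute s (i 2)
  sj2 : Commute s (j 2)

namespace Dc

variable (h : Dc R t a i j s)
include h

theorem cen (x : X) : Commute x t :=
  mul_inv_eq_iff_eq_mul.1 (h.xs.comm_z_of_conj_mem fun y hy => h.normal.conj_mem y hy x)

theorem ji (k : Fin 3) : j k * i k = i k * j k * t := by rw [h.ij, mul_assoc, h.xs.zz, mul_one]

theorem irr' (r : Rp ρ) (U : Submodule (ZMod 3) V) (hI : ∀ k, ∀ v ∈ U, ρ (i k) v ∈ U)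
    (hJ : ∀ k, ∀ v ∈ U, ρ (j k) v ∈ U) (hT : ∀ v ∈ U, ρ t v = -v) (hU : U ≠ ⊥) : U = ⊤ := by
  haveI := r.finite
  haveI := Submodule.nontrivial_iff_ne_bot.2 hU
  have c : Cl (fun k => (ρ (i k)).restrict (hI k)) fun k => (ρ (j k)).restrict (hJ k) :=
    ⟨fun k v => Subtype.ext (by
        change ρ (i k) (ρ (i k) v) = -v
        rw [← ρ_mul, h.ii, hT v v.2]),
      fun k v => Subtype.ext (by
        change ρ (j k) (ρ (j k) v) = -v
        rw [← ρ_mul, h.jj, hT v v.2]),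
      fun k v => Subtype.ext (by
        change ρ (j k) (ρ (i k) v) = -ρ (i k) (ρ (j k) v)
        rw [← ρ_mul, h.ji, ρ_mul, hT v v.2, map_neg, ρ_mul]),
      fun k l e v => Subtype.ext (ρ_comm (ρ := ρ) (h.cii k l e) v),
      fun k l e v => Subtype.ext (ρ_comm (ρ := ρ) (h.cij k l e) v),
      fun k l e v => Subtype.ext (ρ_comm (ρ := ρ) (h.cjj k l e) v)⟩
  have := c.big
  rw [← r.card] at this
  exact Submodule.toAddSubgroup_injective (AddSubgroup.eq_top_of_le_card _ this)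

theorem ρ_t (r : Rp ρ) (v : V) : ρ t v = -v := by
  have m : ∀ v, v ∈ LinearMap.ker (ρ t + 1) ↔ ρ t v = -v := fun v => by
    rw [LinearMap.mem_ker, ← add_eq_zero_iff_eq_neg]; rfl
  have k : ∀ x, ∀ v ∈ LinearMap.ker (ρ t + 1), ρ x v ∈ LinearMap.ker (ρ t + 1) := fun x v hv => by
    rw [m] at hv ⊢; rw [← ρ_comm (h.cen x), hv, map_neg]
  refine (m v).1 ((h.irr' r _ (fun _ => k _) (fun _ => k _) (fun v => (m v).1) fun e => h.xs.ne (r.inj ?_)).ge trivial)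
  rw [map_one]
  ext w
  have : w - ρ t w ∈ LinearMap.ker (ρ t + 1) := (m _).2 (by
    rw [map_sub, ← ρ_mul, h.xs.zz, map_one, neg_sub]; rfl)
  rw [e, Submodule.mem_bot, sub_eq_zero] at this
  exact this.symm

theorem irr (r : Rp ρ) (U : Submodule (ZMod 3) V) (hI : ∀ k, ∀ v ∈ U, ρ (i k) v ∈ U)
    (hJ : ∀ k, ∀ v ∈ U, ρ (j k) v ∈ U) (hU : U ≠ ⊥) : U = ⊤ :=
  h.irr' r U hI hJ (fun v _ => h.ρ_t r v) hU

theorem cl (r : Rp ρ) : Cl (fun k => ρ (i k)) fun k => ρ (j k) :=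
  ⟨fun k v => by rw [← ρ_mul, h.ii, h.ρ_t r], fun k v => by rw [← ρ_mul, h.jj, h.ρ_t r],
    fun k v => by rw [← ρ_mul, h.ji, ρ_mul, h.ρ_t r, map_neg, ρ_mul],
    fun k l e v => ρ_comm (h.cii k l e) v, fun k l e v => ρ_comm (h.cij k l e) v,
    fun k l e v => ρ_comm (h.cjj k l e) v⟩

theorem ak (k : Fin 3) : a k * (i k * j k) * (a k)⁻¹ = i k := by
  rw [← conj_mul, h.ai, h.aj, ← mul_assoc, h.ji, mul_assoc, mul_assoc, ← h.xs.cen _ (h.jR k), ← mul_assoc (j k), h.jj,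
    h.xs.zz, mul_one]

/-- the elements `a k` are quadratic -/
theorem ρ_a (r : Rp ρ) (k : Fin 3) (v : V) :
    ρ (a k) v = v + nn (fun k => ρ (i k)) (fun k => ρ (j k)) k v := by
  have c := h.cl r
  set n := nn (fun k => ρ (i k)) (fun k => ρ (j k)) k with hn
  have m : ∀ v, v ∈ LinearMap.ker (ρ (a k) - (1 + n)) ↔ ρ (a k) v = v + n v := fun v => by
    rw [LinearMap.mem_ker, ← sub_eq_zero (a := ρ (a k) v)]; rfl
  have an : ∀ v, n (ρ (a k) v) = ρ (a k) (n v) := fun v => by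
    rw [hn, nn_apply, nn_apply, map_add, map_add, ρ_cj (h.ai k), ρ_cj (h.aj k), ← ρ_mul ρ (i k) (j k) v,
      ρ_cj (h.ak k), ρ_mul]
    abel
  refine (m v).1 ((h.irr r _ (fun l v hv => ?_) (fun l v hv => ?_) fun e => ?_).ge trivial)
  · rw [m] at hv ⊢
    by_cases e : l = k
    · rw [e, ρ_cj (h.ai k), hv]; exact c.om_i k v
    · rw [ρ_comm (h.cai k l (Ne.symm e)), hv, map_add]; exact congrArg _ (c.ci e v).symm
  · rw [m] at hv ⊢
    by_cases e : l = k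
    · rw [e, ρ_cj (h.aj k), hv, ρ_mul]; exact c.om_j k v
    · rw [ρ_comm (h.caj k l (Ne.symm e)), hv, map_add]; exact congrArg _ (c.cj e v).symm
  · have z : ∀ w, n w = 0 → ρ (a k) w = w → w = 0 := fun w e1 e2 =>
      (Submodule.mem_bot _).1 (e.le ((m w).2 (by rw [e1, e2, add_zero])))
    have z' : ∀ w, n w = 0 → w = 0 := fun w e1 => by
      have e3 : ρ (a k) (ρ (a k) (ρ (a k) w)) = w := by
        rw [← ρ_mul, ← ρ_mul, ← pow_three', h.a3, map_one]; rfl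
      have e4 := z (w + ρ (a k) w + ρ (a k) (ρ (a k) w)) (by simp [an, e1]) (by
        rw [map_add, map_add, e3]; abel)
      have e5 := z (ρ (a k) w - w) (by simp [an, e1]) (by
        rw [map_sub]; linear_combination (norm := module) e4 - three (ρ (a k) w))
      exact z w e1 (sub_eq_zero.1 e5)
    haveI := r.nontrivial
    obtain ⟨w, hw⟩ := exists_ne (0 : V)
    exact hw (z' w (z' _ (c.nn_nn k w)))
theorem ff : i 0 * i 1 * (i 0 * i 1) = 1 := by
  rw [(h.cii 0 1 (by decide)).symm.mul_mul_mul_comm, h.ii, h.ii, h.xs.zz]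

theorem gg : j 0 * j 1 * (j 0 * j 1) = 1 := by
  rw [(h.cjj 0 1 (by decide)).symm.mul_mul_mul_comm, h.jj, h.jj, h.xs.zz]

theorem fg_eq : i 0 * i 1 * (j 0 * j 1) = i 0 * j 0 * (i 1 * j 1) := (h.cij 1 0 (by decide)).mul_mul_mul_comm _ _

theorem fg : Commute (i 0 * i 1) (j 0 * j 1) := by
  change _ = _
  rw [h.fg_eq, (h.cij 0 1 (by decide)).symm.mul_mul_mul_comm, h.ji, h.ji, (h.cen _).symm.mul_mul_mul_comm, h.xs.zz,
    mul_one]

theorem pj_mem (n : Fin 4) (v : V) : pj ρ i j n v ∈ W ρ i j n := by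
  have k : ∀ n, e1 n * e1 n = 1 ∧ e2 n * e2 n = 1 := by decide
  have f2 : ∀ v, ρ (i 0 * i 1) (ρ (i 0 * i 1) v) = v := fun v => by rw [← ρ_mul, h.ff, map_one]; rfl
  have g2 : ∀ v, ρ (j 0 * j 1) (ρ (j 0 * j 1) v) = v := fun v => by rw [← ρ_mul, h.gg, map_one]; rfl
  refine mem_W.2 ⟨?_, ?_⟩
  · simp only [pj, map_add, map_smul, f2, smul_add, smul_smul, ← mul_assoc, (k n).1]; module
  · simp only [pj, map_add, map_smul, ← ρ_comm h.fg, g2, smul_add, smul_smul, mul_left_comm (e2 n), (k n).2,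
      mul_comm (e2 n)]
    module

theorem ind4 {p : V → Prop} (h0 : ∀ n, ∀ v ∈ W ρ i j n, p v) (h1 : ∀ v w, p v → p w → p (v + w)) (v : V) : p v := by
  rw [← pj_sum (ρ := ρ) (i := i) (j := j) v, Fin.sum_univ_four]
  exact h1 _ _ (h1 _ _ (h1 _ _ (h0 _ _ (h.pj_mem 0 v)) (h0 _ _ (h.pj_mem 1 v))) (h0 _ _ (h.pj_mem 2 v)))
    (h0 _ _ (h.pj_mem 3 v))

section

variable (r : Rp ρ)
include r

theorem pat_eq (p : Pat ρ i j x α) (q : Pat ρ i j y α) : x = y :=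
  r.inj (LinearMap.ext (h.ind4 (fun n v hv => (p n v hv).trans (q n v hv).symm) fun v w e e' => by
    rw [map_add, map_add, e, e']))

theorem pat_t : Pat ρ i j t (-1) := fun n v _ => by rw [h.ρ_t r]; simp

theorem anti (e : x * y = y * x * t) (v : V) : ρ x (ρ y v) = (-1 : ZMod 3) • ρ y (ρ x v) := by
  rw [← ρ_mul, e, ρ_mul, h.ρ_t r, map_neg, ρ_mul, neg_smul, one_smul]

theorem mv_i : Mv ρ i j (i 0) ![1, 0, 3, 2] :=
  mv_of (c := 1) (d := -1) (fun v => by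
      rw [one_smul, ρ_comm ((Commute.refl _).mul_right (h.cii 0 1 (by decide)))])
    (h.anti r (by rw [mul_assoc, ← (h.cij 0 1 (by decide)).eq, ← mul_assoc, h.ji, mul_assoc, ← h.cen, ← mul_assoc,
      mul_assoc (i 0)])) (by decide)

theorem mv_j : Mv ρ i j (j 0) ![2, 3, 0, 1] :=
  mv_of (c := -1) (d := 1)
    (h.anti r (by rw [mul_assoc, (h.cij 1 0 (by decide)).eq, ← mul_assoc, h.ij, mul_assoc, ← h.cen, ← mul_assoc,
      mul_assoc (j 0)]))
    (fun v => by rw [one_smul, ρ_comm ((Commute.refl _).mul_right (h.cjj 0 1 (by decide)))]) (by decide)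

theorem card_W (n : Fin 4) : Nat.card (W ρ i j n) = 9 := by
  haveI := r.finite
  have k1 : ∀ n, Nat.card (W ρ i j n) ≤ Nat.card (W ρ i j (![1, 0, 3, 2] n)) := fun n => card_le_of _ (h.mv_i r n)
  have k2 : ∀ n, Nat.card (W ρ i j n) ≤ Nat.card (W ρ i j (![2, 3, 0, 1] n)) := fun n => card_le_of _ (h.mv_j r n)
  have e1 : Nat.card (W ρ i j 1) = Nat.card (W ρ i j 0) := le_antisymm (k1 1) (k1 0)
  have e2 : Nat.card (W ρ i j 2) = Nat.card (W ρ i j 0) := le_antisymm (k2 2) (k2 0)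
  have e3 : Nat.card (W ρ i j 3) = Nat.card (W ρ i j 0) := (le_antisymm (k2 3) (k2 1)).trans e1
  have e : V ≃ ∀ n, W ρ i j n :=
    ⟨fun v n => ⟨pj ρ i j n v, h.pj_mem n v⟩, fun w => ∑ n, (w n : V), fun v => pj_sum v, fun w => funext fun n =>
      Subtype.ext (by
        change pj ρ i j n (∑ n, (w n : V)) = w n
        rw [Fin.sum_univ_four, pj_add, pj_add, pj_add, pj_of (w 0).2, pj_of (w 1).2, pj_of (w 2).2, pj_of (w 3).2]
        fin_cases n <;> simp)⟩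
  have c := Nat.card_congr e
  rw [r.card, Nat.card_pi, Fin.prod_univ_four, e1, e2, e3] at c
  have e0 : Nat.card (W ρ i j 0) = 9 := Nat.pow_left_injective (n := 4) (by norm_num) (by
    change _ ^ 4 = 9 ^ 4
    rw [show 9 ^ 4 = 3 ^ 8 by norm_num, c]; ring)
  fin_cases n
  exacts [e0, e1.trans e0, e2.trans e0, e3.trans e0]

theorem exists_W (n : Fin 4) : ∃ v ∈ W ρ i j n, v ≠ 0 := by
  haveI := r.finite
  have : Nontrivial (W ρ i j n) := Finite.one_lt_card_iff_nontrivial.1 (by rw [h.card_W r]; norm_num)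
  obtain ⟨v, hv⟩ := exists_ne (0 : W ρ i j n)
  exact ⟨v, v.2, fun e => hv (Subtype.ext e)⟩

theorem pat_uniq (p : Pat ρ i j x α) (q : Pat ρ i j x β) : α = β := funext fun n => by
  haveI : Fact (Nat.Prime 3) := ⟨by norm_num⟩
  obtain ⟨v, hv, h0⟩ := h.exists_W r n
  exact smul_left_injective _ h0 ((p n v hv).symm.trans (q n v hv))

theorem pat_ne (p : Pat ρ i j x α) (n : Fin 4) : α n ≠ 0 := fun e => by
  obtain ⟨v, hv, h0⟩ := h.exists_W r n
  exact h0 (ρ_eq_zero (by rw [p n v hv, e, zero_smul]))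

omit r in
theorem i2_f : Commute (i 2) (i 0 * i 1) := (h.cii 2 0 (by decide)).mul_right (h.cii 2 1 (by decide))
omit r in
theorem i2_g : Commute (i 2) (j 0 * j 1) := (h.cij 2 0 (by decide)).mul_right (h.cij 2 1 (by decide))
omit r in
theorem j2_f : Commute (j 2) (i 0 * i 1) := (h.cij 0 2 (by decide)).symm.mul_right (h.cij 1 2 (by decide)).symm
omit r in
theorem j2_g : Commute (j 2) (j 0 * j 1) := (h.cjj 2 0 (by decide)).mul_right (h.cjj 2 1 (by decide))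

/-- an element centralizing the four group and the third factor is a scalar on each weight space -/
theorem sc (h1 : Commute x (i 0 * i 1)) (h2 : Commute x (j 0 * j 1)) (h3 : Commute x (i 2)) (h4 : Commute x (j 2)) :
    ∃ α, Pat ρ i j x α := by
  have k0 : ∀ p q : ZMod 3, p * p + q * q = 0 → p = 0 ∧ q = 0 := by decide
  haveI : Fact (Nat.Prime 3) := ⟨by norm_num⟩
  haveI := r.finite
  have c := h.cl r
  suffices ∀ n, ∃ c : ZMod 3, ∀ v ∈ W ρ i j n, ρ x v = c • v from let ⟨α, e⟩ := Classical.axiomOfChoice this; ⟨α, e⟩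
  intro n
  obtain ⟨u, hu, h0⟩ := h.exists_W r n
  have mK := mv_id (ρ := ρ) h.i2_f h.i2_g n
  have mL := mv_id (ρ := ρ) h.j2_f h.j2_g n
  have li : ∀ p q : ZMod 3, p • u + q • ρ (i 2) u = 0 → p = 0 ∧ q = 0 := fun p q e => by
    have e' := congrArg (ρ (i 2)) e
    rw [map_add, map_smul, map_smul, c.ii, map_zero] at e'
    exact k0 p q ((smul_eq_zero.1 (by linear_combination (norm := module) p • e - q • e')).resolve_right h0)
  have sp : ∀ v ∈ W ρ i j n, ∃ p q : ZMod 3, v = p • u + q • ρ (i 2) u := fun v hv => by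
    obtain ⟨p, e⟩ := (Function.Injective.bijective_of_nat_card_le (f := fun p : ZMod 3 × ZMod 3 =>
      (⟨p.1 • u + p.2 • ρ (i 2) u, add_mem (Submodule.smul_mem _ _ hu) (Submodule.smul_mem _ _ (mK u hu))⟩ :
        W ρ i j n)) (fun p q e => by
        have := li (p.1 - q.1) (p.2 - q.2) (by
          have e' : p.1 • u + p.2 • ρ (i 2) u = q.1 • u + q.2 • ρ (i 2) u := congrArg Subtype.val e
          linear_combination (norm := module) e')
        exact Prod.ext (sub_eq_zero.1 this.1) (sub_eq_zero.1 this.2)) (by rw [h.card_W r]; simp)).2 ⟨v, hv⟩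
    exact ⟨p.1, p.2, (congrArg Subtype.val e).symm⟩
  obtain ⟨p, q, e⟩ := sp _ (mv_id (ρ := ρ) h1 h2 n u hu)
  have k : ∀ v ∈ W ρ i j n, ρ x v = p • v + q • ρ (i 2) v := fun v hv => by
    obtain ⟨p', q', rfl⟩ := sp v hv
    simp only [map_add, map_smul, ρ_comm h3, e]; module
  have k1 := k _ (mL u hu)
  rw [ρ_comm h4, e, map_add, map_smul, map_smul, c.ji] at k1
  have k2 : q • ρ (i 2) (ρ (j 2) u) = 0 := eq_zero_of_neg (by linear_combination (norm := module) -k1)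
  obtain rfl := (smul_eq_zero.1 k2).resolve_right fun e => h0 (ρ_eq_zero (ρ_eq_zero e))
  exact ⟨p, fun v hv => by rw [k v hv, zero_smul, add_zero]⟩
end

theorem back (e : s * x * s⁻¹ = y) : s * y * s⁻¹ = x := by
  have : Commute (s * s) x := by
    rcases h.ss with e | e <;> rw [e]
    exacts [Commute.one_left _, (h.cen _).symm]
  rw [← e]
  calc _ = s * s * x * (s * s)⁻¹ := by group
    _ = x := by rw [this.eq, mul_inv_cancel_right]

theorem s_f : Commute s (i 0 * i 1) := mul_inv_eq_iff_eq_mul.1 (by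
  rw [← conj_mul, h.si0, h.back h.si0, (h.cii 0 1 (by decide)).eq])

theorem s_g : Commute s (j 0 * j 1) := mul_inv_eq_iff_eq_mul.1 (by
  rw [← conj_mul, h.sj0, h.back h.sj0, (h.cjj 0 1 (by decide)).eq])

theorem s_c : Commute s (a 0 * a 1) := mul_inv_eq_iff_eq_mul.1 (by
  rw [← conj_mul, h.sa0, h.back h.sa0, (h.aa 0 1).eq])

theorem c_cj {u v u' v' : X} (e0 : a 0 * u * (a 0)⁻¹ = u') (e1 : a 1 * v * (a 1)⁻¹ = v') (c0 : Commute (a 1) u)
    (c1 : Commute (a 0) v') : a 0 * a 1 * (u * v) * (a 0 * a 1)⁻¹ = u' * v' := by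
  calc _ = a 0 * (a 1 * u * (a 1)⁻¹) * (a 0)⁻¹ * (a 0 * (a 1 * v * (a 1)⁻¹) * (a 0)⁻¹) := by group
    _ = _ := by rw [c0.eq, e1, c1.eq, mul_inv_cancel_right, mul_inv_cancel_right, e0]

theorem c_f : a 0 * a 1 * (i 0 * i 1) * (a 0 * a 1)⁻¹ = j 0 * j 1 :=
  h.c_cj (h.ai 0) (h.ai 1) (h.cai 1 0 (by decide)) (h.caj 0 1 (by decide))

theorem c_g : a 0 * a 1 * (j 0 * j 1) * (a 0 * a 1)⁻¹ = i 0 * i 1 * (j 0 * j 1) := h.fg_eq ▸
  h.c_cj (h.aj 0) (h.aj 1) (h.caj 1 0 (by decide)) ((h.cai 0 1 (by decide)).mul_right (h.caj 0 1 (by decide)))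

theorem mv_c : Mv ρ i j (a 0 * a 1) ![0, 2, 3, 1] := fun n v hv => by
  have k : ∀ n, e2 (![0, 2, 3, 1] n) = e1 n ∧ e1 (![0, 2, 3, 1] n) = e1 n * e2 n ∧ e1 n * e1 n = 1 := by decide
  have k1 := ρ_cj (ρ := ρ) h.c_f v
  have k2 := ρ_cj (ρ := ρ) h.c_g v
  rw [(mem_W.1 hv).1, map_smul] at k1
  rw [(mem_W.1 hv).2, map_smul, ρ_mul ρ (i 0 * i 1), ← k1, map_smul] at k2
  exact mem_W.2 ⟨by rw [(k n).2.1, ← smul_smul, k2, smul_smul, (k n).2.2, one_smul], by rw [(k n).1, k1]⟩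
theorem f_R : i 0 * i 1 ∈ R := mul_mem (h.iR 0) (h.iR 1)
theorem g_R : j 0 * j 1 ∈ R := mul_mem (h.jR 0) (h.jR 1)

theorem card_anti (r : Rp ρ) (e : x * y = y * x * t) : Nat.card (Ev ρ x 1) ≤ Nat.card (Ev ρ x (-1)) :=
  haveI := r.finite
  card_le_of (ρ := ρ) y fun v hv => mem_Ev.2 (by rw [h.anti r e, mem_Ev.1 hv, one_smul])
end Dc

/-- The decomposition with the reflection `d`. -/
structure Dd (R : Subgroup X) (t : X) (a i j : Fin 3 → X) (d : X)
    (ρ : X →* Module.End (ZMod 3) V) : Prop extends Dc R t a i j d where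
  rp : Rp ρ
  pd : Pat ρ i j d (dl 0)
  cardR : Nat.card R = 128

namespace Dd

variable (h : Dd R t a i j d ρ)
include h

theorem eq (p : Pat ρ i j x α) (q : Pat ρ i j y β) (e : α = β) : x = y := h.toDc.pat_eq h.rp p (e ▸ q)

theorem dd : d * d = 1 := h.eq (h.pd.mul h.pd) pat_one (by decide)

theorem gn_R (n : Fin 4) : gn i j n ∈ R := by
  fin_cases n
  exacts [one_mem _, h.iR 0, h.jR 0, mul_mem (h.iR 0) (h.jR 0)]

theorem pat_dn (n : Fin 4) : Pat ρ i j (dn i j d n) (dl n) := by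
  fin_cases n
  · simpa [dn, gn] using h.pd
  · exact (show dl 0 ∘ ![1, 0, 3, 2] = dl 1 by decide) ▸ h.pd.cj (h.toDc.mv_i h.rp)
  · exact (show dl 0 ∘ ![2, 3, 0, 1] = dl 2 by decide) ▸ h.pd.cj (h.toDc.mv_j h.rp)
  · exact (show dl 0 ∘ (![1, 0, 3, 2] ∘ ![2, 3, 0, 1]) = dl 3 by decide) ▸
      h.pd.cj ((h.toDc.mv_i h.rp).mul (h.toDc.mv_j h.rp))
theorem dn_inj : Function.Injective (dn i j d) := fun n m e =>
  (show ∀ n m, dl n = dl m → n = m by decide) n m (h.toDc.pat_uniq h.rp (h.pat_dn n) (e ▸ h.pat_dn m))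

theorem dn_d (n : Fin 4) : Commute (dn i j d n) d :=
  h.eq ((h.pat_dn n).mul h.pd) (h.pd.mul (h.pat_dn n)) (mul_comm _ _)

theorem W_le {n : Fin 4} (e : n ≠ 0) : W ρ i j n ≤ Ev ρ d 1 := fun v hv => mem_Ev.2 (by rw [h.pd n v hv, dl, if_neg e])

theorem d_sub (v : V) : v - ρ d v ∈ W ρ i j 0 := h.toDc.ind4 (p := fun v => v - ρ d v ∈ W ρ i j 0)
  (fun n v hv => by
    by_cases e : n = 0
    · exact sub_mem (e ▸ hv) (h.pd n v hv ▸ Submodule.smul_mem _ _ (e ▸ hv))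
    · rw [mem_Ev.1 (h.W_le e hv), one_smul, sub_self]; exact zero_mem _)
  (fun v w e e' => by rw [map_add, add_sub_add_comm]; exact add_mem e e') v

theorem Ev_neg : Ev ρ d (-1) = W ρ i j 0 := le_antisymm (fun v hv => by
    have := h.d_sub v
    rw [mem_Ev.1 hv, show v - (-1 : ZMod 3) • v = -v by linear_combination (norm := module) three v] at this
    exact neg_mem_iff.1 this)
  fun v hv => mem_Ev.2 (h.pd 0 v hv)

theorem Ev_one : Ev ρ d 1 = W ρ i j 1 ⊔ (W ρ i j 2 ⊔ W ρ i j 3) :=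
  le_antisymm (fun v hv => by
    have e := pj_sum (ρ := ρ) (i := i) (j := j) v
    have m := h.toDc.pj_mem (ρ := ρ)
    rw [Fin.sum_univ_four] at e
    have e1 := congrArg (ρ d) e
    rw [mem_Ev.1 hv, map_add, map_add, map_add, h.pd _ _ (m 0 v), mem_Ev.1 (h.W_le (by decide) (m 1 v)),
      mem_Ev.1 (h.W_le (by decide) (m 2 v)), mem_Ev.1 (h.W_le (by decide) (m 3 v)), show dl 0 0 = -1 from rfl] at e1
    have e2 : pj ρ i j 0 v = 0 := eq_zero_of_neg (by linear_combination (norm := module) e - e1)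
    rw [← e, e2, zero_add, add_assoc]
    exact Submodule.add_mem_sup (m 1 v) (Submodule.add_mem_sup (m 2 v) (m 3 v)))
  (sup_le (h.W_le (by decide)) (sup_le (h.W_le (by decide)) (h.W_le (by decide))))

theorem nine_lt : 9 < Nat.card (Ev ρ d 1) := by
  haveI := h.rp.finite
  by_contra hc
  have e := sub_eq_of_le (h.W_le (n := 1) (by decide)) (by rw [h.toDc.card_W h.rp]; omega)
  obtain ⟨v, hv, h0⟩ := h.toDc.exists_W h.rp 2
  exact h0 (W_disj (show (1 : Fin 4) ≠ 2 by decide) (e.ge (h.W_le (by decide) hv)) hv)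

/-- the conjugates of `d` in the coset `d R` -/
theorem cls (wR : x * d * x⁻¹ * d⁻¹ ∈ R) : ∃ n, x * d * x⁻¹ = dn i j d n := by
  haveI := h.rp.finite
  have c9 : Nat.card (Ev ρ (x * d * x⁻¹) (-1)) = 9 := by rw [card_Ev_cj, h.Ev_neg, h.toDc.card_W h.rp]
  have c1 : 9 < Nat.card (Ev ρ (x * d * x⁻¹) 1) := by rw [card_Ev_cj]; exact h.nine_lt
  generalize x * d * x⁻¹ = w at *
  have k : ∀ y ∈ R, Commute d y → Commute w y := fun y hy c => by
    have e2 : w * y = w * d⁻¹ * y * d := by rw [mul_assoc _ y, ← c.eq]; group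
    rcases h.xs.comm _ wR y hy with e | e
    · change _ = _; rw [e2, e]; group
    · have := h.toDc.card_anti h.rp (x := w) (y := y) (by rw [e2, e, mul_assoc, ← h.toDc.cen d]; group)
      omega
  obtain ⟨α, p⟩ := h.toDc.sc h.rp (k _ h.toDc.f_R h.toDc.s_f) (k _ h.toDc.g_R h.toDc.s_g) (k _ (h.iR 2) h.si2)
    (k _ (h.jR 2) h.sj2)
  have k1 : ∀ n, α n = -1 → W ρ i j n = Ev ρ w (-1) := fun n e =>
    sub_eq_of_le (fun v hv => mem_Ev.2 (e ▸ p n v hv)) (by rw [c9, h.toDc.card_W h.rp])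
  have k2 : ∀ α : Fin 4 → ZMod 3, (∀ n, α n ≠ 0) → (∀ n m, α n = -1 → α m = -1 → n = m) → α = 1 ∨ ∃ n, α = dl n := by
    decide
  rcases k2 α (h.toDc.pat_ne h.rp p) fun n m e e' => by
    by_contra hc
    obtain ⟨v, hv, h0⟩ := h.toDc.exists_W h.rp n
    exact h0 (W_disj hc hv (((k1 n e).trans (k1 m e').symm).le hv)) with e | ⟨n, e⟩
  · exact absurd (by simpa [h.eq p pat_one e] using wR) h.s_notMem
  · exact ⟨n, h.eq p (h.pat_dn n) e⟩
theorem mem_or (hf : i 0 * i 1 ∈ H) (hg : j 0 * j 1 ∈ H) (ht : t ∈ H) (p : Pat ρ i j x α) : x ∈ H ∨ x * d ∈ H := by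
  have k : ∀ α : Fin 4 → ZMod 3, (∀ n, α n ≠ 0) → ∃ b c e : Fin 2, α = e1 ^ b.1 * e2 ^ c.1 * (-1) ^ e.1 ∨
      α * dl 0 = e1 ^ b.1 * e2 ^ c.1 * (-1) ^ e.1 := by decide
  obtain ⟨b, c, e, k⟩ := k α (h.toDc.pat_ne h.rp p)
  have q := ((pat_f.pow b).mul (pat_g.pow c)).mul ((h.toDc.pat_t h.rp).pow e)
  have m := mul_mem (mul_mem (pow_mem hf b) (pow_mem hg c)) (pow_mem ht e)
  exact k.imp (fun k => h.eq p q k ▸ m) fun k => h.eq (p.mul h.pd) q k ▸ m

theorem fix0 (e : Commute x d) {v : V} (hv : v ∈ W ρ i j 0) : ρ x v ∈ W ρ i j 0 := by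
  rw [← h.Ev_neg, mem_Ev] at hv ⊢
  rw [← ρ_comm e, hv, map_smul]

theorem cr_comm (hx : x ∈ R) (e : Commute x d) : Commute x (i 0 * i 1) ∧ Commute x (j 0 * j 1) := by
  obtain ⟨v, hv, h0⟩ := h.toDc.exists_W h.rp 0
  have k : ∀ y ∈ R, (∀ v ∈ W ρ i j 0, ρ y v = v) → Commute x y := fun y hy k =>
    ((h.xs.comm y hy x hx).resolve_right fun e' => h0 (ρ_eq_zero (ρ := ρ) (x := x) (eq_zero_of_neg (by
      have := h.toDc.anti h.rp e' v
      rwa [k _ (h.fix0 e hv), k v hv, neg_smul, one_smul] at this)))).symm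
  exact ⟨k _ h.toDc.f_R fun v hv => (mem_W.1 hv).1.trans (one_smul _ _),
    k _ h.toDc.g_R fun v hv => (mem_W.1 hv).2.trans (one_smul _ _)⟩

theorem cr_mem (hf : i 0 * i 1 ∈ H) (hg : j 0 * j 1 ∈ H) (hi : i 2 ∈ H) (hj : j 2 ∈ H) (hx : x ∈ R)
    (e : Commute x d) : x ∈ H := by
  have ht : t ∈ H := h.ii 2 ▸ mul_mem hi hi
  have k : ∀ x ∈ R, Commute x d → Commute x (i 2) → Commute x (j 2) → x ∈ H := fun x hx e e1 e2 => by
    obtain ⟨α, p⟩ := h.toDc.sc h.rp (h.cr_comm hx e).1 (h.cr_comm hx e).2 e1 e2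
    rcases h.mem_or (H := H ⊓ R) ⟨hf, h.toDc.f_R⟩ ⟨hg, h.toDc.g_R⟩ ⟨ht, h.xs.mem⟩ p with m | m
    · exact m.1
    · exact absurd ((mul_mem_cancel_left hx).1 m.2) h.toDc.s_notMem
  have n : j 2 * i 2 ≠ i 2 * j 2 := fun e => h.xs.mul_z_ne _ (h.toDc.ji 2 ▸ e)
  have k1 : ∀ x ∈ R, Commute x d → Commute x (i 2) → x ∈ H := fun x hx e e1 => by
    by_cases e2 : x * j 2 = j 2 * x
    · exact k x hx e e1 e2
    · exact (mul_mem_cancel_right hi).1 (k _ (mul_mem hx (h.iR 2)) (e.mul_left h.si2.symm) (e1.mul_left rfl)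
        (h.xs.mul_comm_of_ne_of_ne hx (h.iR 2) (h.jR 2) e2 n.symm))
  by_cases e1 : x * i 2 = i 2 * x
  · exact k1 x hx e e1
  · exact (mul_mem_cancel_right hj).1 (k1 _ (mul_mem hx (h.jR 2)) (e.mul_left h.sj2.symm)
      (h.xs.mul_comm_of_ne_of_ne hx (h.jR 2) (h.iR 2) e1 n))
theorem a2_dn (n : Fin 4) : Commute (a 2) (dn i j d n) := by
  have : Commute (a 2) (gn i j n) := by
    fin_cases n
    exacts [Commute.one_right _, h.cai 2 0 (by decide), h.caj 2 0 (by decide),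
      (h.cai 2 0 (by decide)).mul_right (h.caj 2 0 (by decide))]
  exact (this.inv_right.mul_right h.sa2.symm).mul_right this
theorem sq_one (h1 : Commute x (i 0 * i 1)) (h2 : Commute x (j 0 * j 1)) (h3 : Commute x (i 2))
    (h4 : Commute x (j 2)) : x * x = 1 := by
  obtain ⟨α, p⟩ := h.toDc.sc h.rp h1 h2 h3 h4
  exact h.eq (p.mul p) pat_one (funext fun n =>
    (show ∀ c : ZMod 3, c ≠ 0 → c * c = 1 by decide) _ (h.toDc.pat_ne h.rp p n))

/-- the kernel of the action on the fixed space of `d` -/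
theorem self (e : ∀ v ∈ Ev ρ d 1, ρ x v = v) : x = 1 ∨ x = d := by
  haveI := h.rp.finite
  have k0 : ∀ y ∈ R, (∀ v ∈ Ev ρ d 1, ρ y v = v) → y = 1 := fun y hy e => by
    obtain ⟨v, hv, h0⟩ := h.toDc.exists_W h.rp 1
    by_contra h1
    have h2 : y ≠ t := fun e' => h0 (eq_zero_of_neg (by
      rw [← h.toDc.ρ_t h.rp, ← e', e v (h.W_le (by decide) hv)]))
    obtain ⟨w, hw, n⟩ := h.xs.exists_not_comm hy h1 h2
    have c1 := h.toDc.card_anti h.rp (h.xs.comm_of_ne hy hw n)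
    have c2 : Nat.card (Ev ρ d 1) ≤ Nat.card (Ev ρ y 1) := Nat.card_le_card_of_injective
      (Submodule.inclusion fun v hv => mem_Ev.2 ((e v hv).trans (one_smul _ _).symm)) (Submodule.inclusion_injective _)
    have c3 : Nat.card (Ev ρ y (-1)) ≤ Nat.card (W ρ i j 0) := Nat.card_le_card_of_injective
      (fun v => ⟨v - ρ d v, h.d_sub v⟩) fun v w e' => Subtype.ext (sub_eq_zero.1 (eq_zero_of_neg (by
        have e1 : (v : V) - ρ d v = w - ρ d w := congrArg Subtype.val e'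
        have e2 := e (v - w) (mem_Ev.2 (by rw [map_sub]; linear_combination (norm := module) -e1))
        rw [mem_Ev.1 (sub_mem v.2 w.2), neg_smul, one_smul] at e2
        exact e2.symm)))
    have := h.nine_lt
    rw [h.toDc.card_W h.rp] at c3
    omega
  have k : ∀ y ∈ R, Commute d y → Commute x y := fun y hy c => by
    refine commutatorElement_eq_one_iff_commute.1 (k0 _ (mul_mem (h.toDc.normal.conj_mem y hy x) (inv_mem hy))
      fun v hv => ?_)
    have m : ρ y⁻¹ v ∈ Ev ρ d 1 := mem_Ev.2 (by rw [ρ_comm c.inv_right, mem_Ev.1 hv, map_smul])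
    have e1 : ρ x⁻¹ (ρ y⁻¹ v) = ρ y⁻¹ v := by rw [← e _ m, ρ_inv, e _ m]
    rw [commutatorElement_def, ρ_mul, ρ_mul, ρ_mul, e1, ρ_inv', e v hv]
  obtain ⟨α, p⟩ := h.toDc.sc h.rp (k _ h.toDc.f_R h.toDc.s_f) (k _ h.toDc.g_R h.toDc.s_g) (k _ (h.iR 2) h.si2)
    (k _ (h.jR 2) h.sj2)
  have k2 : ∀ α : Fin 4 → ZMod 3, (∀ n, α n ≠ 0) → (∀ n, n ≠ 0 → α n = 1) → α = 1 ∨ α = dl 0 := by decide
  refine (k2 α (h.toDc.pat_ne h.rp p) fun n hn => ?_).imp (h.eq p pat_one) (h.eq p h.pd)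
  haveI : Fact (Nat.Prime 3) := ⟨by norm_num⟩
  obtain ⟨v, hv, h0⟩ := h.toDc.exists_W h.rp n
  exact smul_left_injective _ h0 ((p n v hv).symm.trans ((e v (h.W_le hn hv)).trans (one_smul _ _).symm))
end Dd

end Cfsg.Agent.H48.B3
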