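import Cfsg.Agent.H48.B3A
import Cfsg.Agent.H21.F23Dec
import Cfsg.Agent.S3366

/-! The Baby Monster from a `3`-centralizer, part B: what is needed from `PSp₄(3)`. -/

set_option autoImplicit false
set_option linter.style.haveILetI false
set_option linter.unusedSimpArgs false
set_option linter.unusedSectionVars false

universe u

namespace Cfsg.Agent.H48.B3

open Subgroup H95.L3 H40.F23 H60.F23 Matrix
open scoped Pointwise

/-- two copies of `SL₂(3)` in `Sp₄(3)` -/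
def blk : SpecialLinearGroup (Fin 2) (ZMod 3) × SpecialLinearGroup (Fin 2) (ZMod 3) →* H89.Sp43.Sp :=
  MonoidHom.mk' (fun g => ⟨fromBlocks !![g.1 0 0, 0; 0, g.2 0 0] !![g.1 0 1, 0; 0, g.2 0 1]
    !![g.1 1 0, 0; 0, g.2 1 0] !![g.1 1 1, 0; 0, g.2 1 1], by
      have h1 := g.1.det_coe
      have h2 := g.2.det_coe
      rw [det_fin_two] at h1 h2
      change _ * _ * _ = _
      ext i j
      rcases i with i | i <;> rcases j with j | j <;> fin_cases i <;> fin_cases j <;>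
        simp [J, Matrix.mul_apply, Fintype.sum_sum_type, Fin.sum_univ_two, Matrix.one_apply] <;>
        first | ring1 | linear_combination h1 | linear_combination -h1 | linear_combination h2 |
          linear_combination -h2⟩) fun g k => Subtype.ext (by
    ext i j
    rcases i with i | i <;> rcases j with j | j <;> fin_cases i <;> fin_cases j <;>
      simp [Matrix.mul_apply, Fintype.sum_sum_type, Fin.sum_univ_two])

theorem blk_inj : Function.Injective blk := fun g k e => by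
  have f := fun i j => congrFun (congrFun (congrArg Subtype.val e) i) j
  refine Prod.ext (Subtype.ext ?_) (Subtype.ext ?_) <;> ext i j <;> fin_cases i <;> fin_cases j
  exacts [f (.inl 0) (.inl 0), f (.inl 0) (.inr 0), f (.inr 0) (.inl 0), f (.inr 0) (.inr 0),
    f (.inl 1) (.inl 1), f (.inl 1) (.inr 1), f (.inr 1) (.inl 1), f (.inr 1) (.inr 1)]

theorem psp64 : 64 ∣ Nat.card (centralizer {S3366.emb ct}) := by
  let D : H89.Sp43.Sp := blk (1, -1)
  let w : H89.Sp43.Sp := ⟨fromBlocks !![0, 1; 1, 0] 0 0 !![0, 1; 1, 0], by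
    change _ * _ * _ = _
    decide +kernel⟩
  let f := QuotientGroup.mk' (center H89.Sp43.Sp)
  have e : S3366.emb ct = f D := congrArg QuotientGroup.mk (Subtype.ext (by decide +kernel))
  have m : ∀ b, b ∈ (centralizer {f D}).comap f ↔ (D * b).1 = (b * D).1 ∨ (D * b).1 = -(b * D).1 := fun b => by
    rw [mem_comap, mem_centralizer_singleton_iff, ← map_mul, ← map_mul]; exact H89.Sp43.mk_eq_iff
  have wD : (D * w).1 = -(w * D).1 := by decide +kernel
  have n : ∀ b : H89.Sp43.Sp, b.1 ≠ -b.1 := fun b e => by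
    have e1 := congrArg (· * (b⁻¹).1) e
    simp only [neg_mul] at e1
    rw [show b.1 * (b⁻¹).1 = 1 from congrArg Subtype.val (mul_inv_cancel b)] at e1
    exact absurd e1 (by decide +kernel)
  have k : ∀ b, b ∈ centralizer {D} ↔ (D * b).1 = (b * D).1 := fun b => by
    rw [mem_centralizer_singleton_iff, eq_comm, Subtype.ext_iff]
  have c1 : (centralizer {D}).relIndex ((centralizer {f D}).comap f) = 2 :=
    relIndex_eq_two_iff.2 ⟨w, (m w).2 (.inr wD), fun b hb => by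
      have e1 : (b * w * D).1 = -((b * D).1 * w.1) := by
        change b.1 * w.1 * D.1 = -(b.1 * D.1 * w.1)
        rw [mul_assoc, mul_assoc, ← mul_neg]; exact congrArg _ (neg_eq_iff_eq_neg.1 wD.symm)
      have e2 : (D * (b * w)).1 = (D * b).1 * w.1 := (mul_assoc _ _ _).symm
      rw [k, k, e1, e2]
      rcases (m b).1 hb with e | e <;> rw [e]
      · exact .inr ⟨rfl, n (b * D * w)⟩
      · exact .inl ⟨neg_mul _ _, fun e => n _ e.symm⟩⟩
  have c2 := H8.card_eq_card_mul_relIndex (H := centralizer {D}) (K := (centralizer {f D}).comap f)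
    fun b hb => (m b).2 (.inl ((k b).1 hb))
  have c3 : Nat.card blk.range ∣ Nat.card (centralizer {D}) := card_dvd_of_le (by
    rintro _ ⟨g, rfl⟩
    exact mem_centralizer_singleton_iff.2 ((map_mul blk g (1, -1)).symm.trans
      ((congrArg blk (Prod.ext ((mul_one _).trans (one_mul _).symm) ((mul_neg_one _).trans (neg_one_mul _).symm))).trans
        (map_mul blk (1, -1) g))))
  have c4 := H41.Rec.card_eq_map_mul f ((centralizer {f D}).comap f)
  rw [map_comap_eq_self_of_surjective (QuotientGroup.mk'_surjective _), inf_eq_left.2 (ker_le_comap _ _),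
    QuotientGroup.ker_mk', S0246.result (F := ZMod 3) (q := 3) (by simp) 2 (by norm_num)] at c4
  rw [← Nat.card_congr (MonoidHom.ofInjective blk_inj).toEquiv, Nat.card_prod, H91.Pr.card_sl23] at c3
  rw [c1, c4] at c2
  exact e ▸ (show 64 ∣ 24 * 24 by norm_num).trans (c3.trans (Nat.eq_of_mul_eq_mul_right two_pos c2).symm.dvd)


/-- elements moving all three factors are not real -/
theorem nr {β : (Fin 8 → ZMod 3) →ₗ[ZMod 3] (Fin 8 → ZMod 3) →ₗ[ZMod 3] ZMod 3}
    {A B C N g : Module.End (ZMod 3) (Fin 8 → ZMod 3)} {v : Fin 8 → ZMod 3} (h : Cube β A B C v)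
    (sw : ∀ x y, β x y = -β y x) (nd : ∀ x, (∀ y, β x y = 0) → x = 0)
    (hN : ∀ x, N x = A x + B x + C x + A (B x) + A (C x) + B (C x) + A (B (C x)))
    (gβ : ∀ x y, β (g x) (g y) = β x y) (gi : ∀ x, g (x + N x) + N (g (x + N x)) = g x) : False := by
  have k : ∀ κ p q r : ZMod 3, κ ≠ 0 → p + q + r = 0 → -2 * κ * (q * r + p * r + p * q) ≠ κ := by decide
  have k3 : (3 : ZMod 3) = 0 := rfl
  haveI : Fact (Nat.Prime 3) := ⟨by norm_num⟩
  let f : Module.End (ZMod 3) (Fin 8 → ZMod 3) := Fintype.linearCombination (ZMod 3)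
    ![v, A v, B v, C v, A (B v), A (C v), B (C v), A (B (C v))]
  have hf : ∀ c, f c = c 0 • v + c 1 • A v + c 2 • B v + c 3 • C v + c 4 • A (B v) +
      c 5 • A (C v) + c 6 • B (C v) + c 7 • A (B (C v)) := fun c => by
    simp only [f, Fintype.linearCombination_apply, Fin.sum_univ_eight]; rfl
  have h1 : Function.Injective f := (injective_iff_map_eq_zero _).2 fun c e => by
    obtain ⟨e0, e1, e2, e3, e4, e5, e6, e7⟩ := h.ind _ _ _ _ _ _ _ _ ((hf c).symm.trans e)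
    funext i; fin_cases i <;> assumption
  have h2 := LinearMap.injective_iff_surjective.1 h1
  have k0 : β v (A (B (C v))) ≠ 0 := fun e => h.ne (nd _ fun y => by
    obtain ⟨c, rfl⟩ := h2 y
    rw [hf, sw]
    simp [h.sa, h.sb, h.sc, h.ab, h.ac, h.bc, h.aa, h.bb, h.cc, e])
  have k1 : ∀ x, N (N x) = 0 → β x (N x) ≠ β v (A (B (C v))) := fun x e => by
    obtain ⟨c, rfl⟩ := h2 x
    rw [hf] at e ⊢
    simp only [hN, map_add, map_smul, h.ab, h.ac, h.bc, h.aa, h.bb, h.cc, map_zero, smul_zero] at e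
    obtain ⟨-, -, -, -, e4, -, -, e7⟩ := h.ind 0 0 0 0 (-c 0) (-c 0) (-c 0) (-(c 1 + c 2 + c 3)) (by
      linear_combination (norm := module) e - c 0 • three (A (B v)) - c 0 • three (A (C v)) - c 0 • three (B (C v)) -
        (2 * c 0 + c 1 + c 2 + c 3) • three (A (B (C v))))
    rw [neg_eq_zero] at e4 e7
    simp only [hN, e4, zero_smul, zero_add, map_add, map_smul, LinearMap.add_apply, LinearMap.smul_apply, h.sa, h.sb, h.sc, h.ab, h.ac, h.bc, h.aa, h.bb, h.cc, map_zero, smul_zero, neg_zero, add_zero]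
    exact fun e => k _ _ _ _ k0 e7 (by simp only [smul_eq_mul] at e; linear_combination e)
  have x2 : N (N (A v - B v)) = 0 := by
    simp only [hN, map_add, map_sub, h.ab, h.ac, h.bc, h.aa, h.bb, h.cc, map_zero]; module
  have x1 : β (A v - B v) (N (A v - B v)) = -β v (A (B (C v))) := by
    simp only [hN, map_add, map_sub, LinearMap.sub_apply, h.sa, h.sb, h.sc, h.ab, h.ac, h.bc, h.aa, h.bb, h.cc, map_zero]
    linear_combination β v (A (B (C v))) * k3
  have k2 : ∀ x, N (N x) = 0 → N (g x) = -g (N x) := fun x e => by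
    have := gi (x - N x)
    simp only [map_sub, e, sub_zero, sub_add_cancel] at this
    linear_combination (norm := module) this
  generalize A v - B v = x at x1 x2
  refine k1 (g x) (by rw [k2 x x2, map_neg, k2 _ (by rw [x2, map_zero]), x2]; simp) ?_
  rw [k2 x x2, map_neg, gβ, x1, neg_neg]

theorem x5 : ∀ c, c ∈ QQ ∨ c ∈ JJ → ∀ c', (c ∈ QQ ∧ c' ∈ QQ ∨ c ∈ JJ ∧ c' ∈ JJ) → c * c' = c' * c →
    ∃ w ∈ [c, c', c * c', c * c'⁻¹], w = 1 ∨ (∃ k, w = cw k ∨ w = (cw k)⁻¹) ∨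
      ∃ i j k : Fin 3, i ≠ 0 ∧ j ≠ 0 ∧ k ≠ 0 ∧ w = cw 0 ^ i.1 * cw 1 ^ j.1 * cw 2 ^ k.1 := by
  decide +kernel

theorem x6 : ∀ c : C9, c * c = 1 → c = 1 ∨ ∃ g ∈ QQ, g * ct * g⁻¹ = c := by decide +kernel

theorem x7 : ∀ k, (cw k)⁻¹ = cw k ^ 2 := by decide +kernel

variable {V : Type} [AddCommGroup V] [Module (ZMod 3) V]
  {X : Type u} [Group X] [Finite X] {R : Subgroup X} {t d : X} {a i j : Fin 3 → X}
  {ρ : X →* Module.End (ZMod 3) V}

/-- conjugates of the elements that move one factor only -/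
def T1 (a : Fin 3 → X) (x : X) : Prop := ∃ g k, g * x * g⁻¹ = a k ∨ g * x * g⁻¹ = (a k)⁻¹

/-- conjugates of the elements that move all factors -/
def T3 (a : Fin 3 → X) (x : X) : Prop :=
  ∃ g, ∃ i j k : Fin 3, i ≠ 0 ∧ j ≠ 0 ∧ k ≠ 0 ∧ g * x * g⁻¹ = a 0 ^ i.1 * a 1 ^ j.1 * a 2 ^ k.1

/-- The subgroups of exponent three. -/
structure E3 (a : Fin 3 → X) : Prop where
  l1 : ∀ U : Subgroup X, (∀ u ∈ U, u ^ 3 = 1) → Nat.card U ≤ 27
  l2 : ∀ U : Subgroup X, (∀ u ∈ U, u ^ 3 = 1) → (∀ u ∈ U, ∀ v ∈ U, u * v = v * u) → 27 ≤ Nat.card U →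
    ∃ g, ∀ k, ∃ u ∈ U, g * u * g⁻¹ = a k
  l3 : ∀ y : X, y ^ 3 = 1 → ∃ g, ∃ i j k : Fin 3, g * y * g⁻¹ = a 0 ^ i.1 * a 1 ^ j.1 * a 2 ^ k.1
  l4 : ∀ u v : X, u ^ 3 = 1 → v ^ 3 = 1 → Commute u v → ∃ w ∈ [u, v, u * v, u * v⁻¹], w = 1 ∨ T1 a w ∨ T3 a w

theorem cube_cj {x : X} (e : x ^ 3 = 1) (g : X) : (g * x * g⁻¹) ^ 3 = 1 := by rw [conj_pow, e]; simp

theorem p3 {U : Subgroup X} (h : ∀ u ∈ U, u ^ 3 = 1) : IsPGroup 3 U := fun x => ⟨1, Subtype.ext (by simpa using h x x.2)⟩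

theorem zp3 {x : X} (e : x ^ 3 = 1) : ∀ u ∈ zpowers x, u ^ 3 = 1 := by
  rintro _ ⟨k, rfl⟩
  beta_reduce
  rw [← zpow_natCast, ← _root_.zpow_mul, mul_comm, _root_.zpow_mul, zpow_natCast, e, _root_.one_zpow]

theorem cl3 {u v : X} (u3 : u ^ 3 = 1) (v3 : v ^ 3 = 1) (c : Commute u v) : ∀ x ∈ closure {u, v}, x ^ 3 = 1 := by
  haveI := Subgroup.isMulCommutative_closure (k := {u, v}) (by
    rintro _ (rfl | rfl) _ (rfl | rfl)
    exacts [rfl, c, c.symm, rfl])
  intro x hx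
  induction hx using closure_induction with
  | mem x hx => rcases hx with rfl | rfl <;> assumption
  | one => simp
  | mul x y hx hy e e' => rw [Commute.mul_pow (setLike_mul_comm hx hy), e, e', one_mul]
  | inv x _ e => rw [inv_pow, e, inv_one]

theorem e3_of {π : X →* C9} (h : Dec R t π a i j d) : E3 a := by
  have k4 : ∀ m, π m = 1 → m ^ 4 = 1 := fun m e => h.xs.pow_four (h.mem_R.2 e)
  have k1 : ∀ m, π m = 1 → m ^ 3 = 1 → m = 1 := fun m e e' => by simpa [pow_succ m 3, e'] using k4 m e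
  have hsyl := syl π ⊥ IsPGroup.of_bot (fun m e => by rw [mem_bot.1 e, map_one]) k4 a h.πa h.a3
    fun k l => (h.aa k l).commutator_eq
  have key : ∀ y, y ^ 3 = 1 → ∀ i j k : ℕ, π y = cw 0 ^ i * cw 1 ^ j * cw 2 ^ k →
      ∃ m, m * y * m⁻¹ = a 0 ^ i * a 1 ^ j * a 2 ^ k := fun y e i j k e' => by
    obtain ⟨m, hm⟩ := hsyl _ (p3 (zp3 e)) (by
      rintro _ ⟨n, rfl⟩
      beta_reduce
      rw [map_zpow, e']
      exact zpow_mem (mul_mem (mul_mem (pow_mem (cw_JJ 0) _) (pow_mem (cw_JJ 1) _)) (pow_mem (cw_JJ 2) _)) n)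
    exact ⟨m, mul_inv_eq_one.1 (hm y (mem_zpowers y) i j k e')⟩
  have hc : ∀ U : Subgroup X, (∀ u ∈ U, u ^ 3 = 1) → Nat.card U = Nat.card (U.map π) := fun U e => by
    rw [H41.Rec.card_eq_map_mul π U, show π.ker ⊓ U = ⊥ from eq_bot_iff.2 fun m hm => k1 m hm.1 (e m hm.2), card_bot,
      mul_one]
  have he : ∀ U : Subgroup X, (∀ u ∈ U, u ^ 3 = 1) → ∀ x ∈ U.map π, x ^ 3 = 1 := by
    rintro U e _ ⟨x, hx, rfl⟩
    rw [← map_pow, e x hx, map_one]
  have cj : ∀ g x, π (g * x * g⁻¹) = π g * π x * (π g)⁻¹ := fun g x => by simp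
  have as : ∀ m g x : X, m * g * x * (m * g)⁻¹ = m * (g * x * g⁻¹) * m⁻¹ := fun m g x => by group
  refine ⟨fun U e => hc U e ▸ x2 _ (he U e), fun U e c h27 => ?_, fun y e => ?_, fun u v u3 v3 c => ?_⟩
  · obtain ⟨g, hg⟩ := x27 _ (he U e) (by
      rintro _ ⟨x, hx, rfl⟩ _ ⟨y, hy, rfl⟩
      rw [← map_mul, c x hx y hy, map_mul]) (hc U e ▸ h27)
    obtain ⟨g, rfl⟩ := h.surj g
    obtain ⟨m, hm⟩ := hsyl (MulAut.conj g • U) (H8.isPGroup_conj_smul (p3 e) g) fun b hb => by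
      rw [← hg, H8.mem_conj_smul]
      exact ⟨_, H8.mem_conj_smul.1 hb, by simp⟩
    refine ⟨m * g, fun k => ?_⟩
    obtain ⟨b, hb, e⟩ := H8.mem_conj_smul.1 (hg.symm ▸ cw_JJ k)
    have e1 : π (g * b * g⁻¹) = cw k := by rw [cj, e]; group
    have key := hm _ (H8.conj_mem_conj_smul.2 hb)
    refine ⟨b, hb, as m g b ▸ mul_inv_eq_one.1 ?_⟩
    fin_cases k
    · simpa using key 1 0 0 (by simpa using e1)
    · simpa using key 0 1 0 (by simpa using e1)
    · simpa using key 0 0 1 (by simpa using e1)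
  · obtain ⟨g, hg⟩ := x4 (π y) (by rw [← map_pow, e, map_one])
    obtain ⟨g, rfl⟩ := h.surj g
    obtain ⟨i, j, k, e'⟩ := JJ_gen _ hg
    obtain ⟨m, hm⟩ := key _ (cube_cj e g) i j k ((cj g y).trans e')
    exact ⟨m * g, i, j, k, (as m g y).trans hm⟩
  · have e := cl3 u3 v3 c
    obtain ⟨g, hg⟩ := x23 _ (he _ e)
    obtain ⟨g, rfl⟩ := h.surj g
    have mu : u ∈ closure {u, v} := subset_closure (by simp)
    have mv : v ∈ closure {u, v} := subset_closure (by simp)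
    have m : ∀ x ∈ closure {u, v}, π (g * x * g⁻¹) ∈ MulAut.conj (π g) • (closure {u, v}).map π := fun x hx =>
      cj g x ▸ H8.conj_mem_conj_smul.2 (mem_map_of_mem π hx)
    have fin : ∀ w ∈ closure {u, v}, ∀ c, π (g * w * g⁻¹) = c → (c = 1 ∨ (∃ k, c = cw k ∨ c = (cw k)⁻¹) ∨
        ∃ i j k : Fin 3, i ≠ 0 ∧ j ≠ 0 ∧ k ≠ 0 ∧ c = cw 0 ^ i.1 * cw 1 ^ j.1 * cw 2 ^ k.1) →
          w = 1 ∨ T1 a w ∨ T3 a w := by
      rintro w hw _ rfl (e1 | ⟨k, e1⟩ | ⟨i, j, k, hi, hj, hk, e1⟩)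
      · exact .inl (by simpa using k1 _ e1 (cube_cj (e w hw) g))
      · have k2 : ∀ n : ℕ, π (g * w * g⁻¹) = cw k ^ n → ∃ m, m * w * m⁻¹ = a k ^ n := fun n e1 => by
          have key := key _ (cube_cj (e w hw) g)
          suffices ∃ m, m * (g * w * g⁻¹) * m⁻¹ = a k ^ n from this.elim fun m e => ⟨m * g, (as m g w).trans e⟩
          fin_cases k
          · simpa using key n 0 0 (by simpa using e1)
          · simpa using key 0 n 0 (by simpa using e1)
          · simpa using key 0 0 n (by simpa using e1)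
        rcases e1 with e1 | e1
        · obtain ⟨m, hm⟩ := k2 1 (by simpa using e1)
          exact .inr (.inl ⟨m, k, .inl (by simpa using hm)⟩)
        · obtain ⟨m, hm⟩ := k2 2 (e1.trans (x7 k))
          exact .inr (.inl ⟨m, k, .inr (hm.trans (eq_inv_of_mul_eq_one_left (by rw [← pow_succ, h.a3])))⟩)
      · obtain ⟨m, hm⟩ := key _ (cube_cj (e w hw) g) i j k e1
        exact .inr (.inr ⟨m * g, i, j, k, hi, hj, hk, (as m g w).trans hm⟩)
    obtain ⟨w, hw, e1⟩ := x5 _ (hg.imp (fun k => k (m u mu)) fun k => k (m u mu)) _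
      (hg.imp (fun k => ⟨k (m u mu), k (m v mv)⟩) fun k => ⟨k (m u mu), k (m v mv)⟩) (by
        rw [← map_mul, ← map_mul, conj_mul, conj_mul, c.eq])
    simp only [List.mem_cons, List.not_mem_nil, or_false] at hw
    rcases hw with rfl | rfl | rfl | rfl
    · exact ⟨u, by simp, fin u mu _ rfl e1⟩
    · exact ⟨v, by simp, fin v mv _ rfl e1⟩
    · exact ⟨u * v, by simp, fin _ (mul_mem mu mv) _ (by rw [← map_mul, conj_mul]) e1⟩
    · exact ⟨u * v⁻¹, by simp, fin _ (mul_mem mu (inv_mem mv)) _ (by rw [← map_inv, ← map_mul]; congr 1; group) e1⟩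

theorem E3.up {Y : Subgroup X} {a : Fin 3 → Y} (h : E3 a) (hY : ¬3 ∣ Y.index) : E3 fun k => (a k : X) := by
  haveI : Fact (Nat.Prime 3) := ⟨by norm_num⟩
  obtain ⟨S, hS⟩ := H8.exists_isSylowIn 3 Y
  have red : ∀ U : Subgroup X, (∀ u ∈ U, u ^ 3 = 1) → ∃ g, MulAut.conj g • U ≤ Y := fun U e =>
    ((hS.trans_of_not_dvd le_top (by rwa [relIndex_top_right])).exists_conj_le (p3 e) le_top).imp fun g hg =>
      hg.2.trans hS.le
  have cd : ∀ {U : Subgroup X} {g}, MulAut.conj g • U ≤ Y → Nat.card ((MulAut.conj g • U).subgroupOf Y) = Nat.card U :=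
    fun e => by rw [Nat.card_congr (subgroupOfEquivOfLe e).toEquiv, H8.card_conj_smul]
  have ex : ∀ {U : Subgroup X} (g), (∀ u ∈ U, u ^ 3 = 1) → ∀ u ∈ (MulAut.conj g • U).subgroupOf Y, u ^ 3 = 1 :=
    fun g e u hu => Subtype.ext (by simpa [mul_assoc] using cube_cj (e _ (H8.mem_conj_smul.1 hu)) g)
  have as : ∀ m g x : X, m * g * x * (m * g)⁻¹ = m * (g * x * g⁻¹) * m⁻¹ := fun m g x => by group
  refine ⟨fun U e => ?_, fun U e c h27 => ?_, fun y e => ?_, fun u v u3 v3 c => ?_⟩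
  · obtain ⟨g, hg⟩ := red U e
    exact cd hg ▸ h.l1 _ (ex g e)
  · obtain ⟨g, hg⟩ := red U e
    obtain ⟨m, hm⟩ := h.l2 _ (ex g e) (fun u hu v hv => Subtype.ext ((MulAut.conj g⁻¹).injective (by
      simpa [mul_assoc] using c _ (H8.mem_conj_smul.1 hu) _ (H8.mem_conj_smul.1 hv)))) (cd hg ▸ h27)
    refine ⟨m * g, fun k => ?_⟩
    obtain ⟨u, hu, e⟩ := hm k
    exact ⟨_, H8.mem_conj_smul.1 hu, by rw [← e]; simp [mul_assoc]⟩
  · obtain ⟨g, hg⟩ := red _ (zp3 e)
    obtain ⟨m, i, j, k, e⟩ := h.l3 ⟨_, hg (H8.conj_mem_conj_smul.2 (mem_zpowers y))⟩ (Subtype.ext (cube_cj e g))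
    exact ⟨m * g, i, j, k, (as m g y).trans (congrArg Subtype.val e)⟩
  · obtain ⟨g, hg⟩ := red _ (cl3 u3 v3 c)
    have m : ∀ x ∈ closure {u, v}, g * x * g⁻¹ ∈ Y := fun x hx => hg (H8.conj_mem_conj_smul.2 hx)
    have fin : ∀ (w : X) (w' : Y), g * w * g⁻¹ = w' → (w' = 1 ∨ T1 a w' ∨ T3 a w') →
        w = 1 ∨ T1 (fun k => (a k : X)) w ∨ T3 (fun k => (a k : X)) w := by
      rintro w w' e (rfl | ⟨m, k, e1⟩ | ⟨m, i, j, k, hi, hj, hk, e1⟩)
      · exact .inl (by simpa using e)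
      · exact .inr (.inl ⟨m * g, k, by rw [as, e]; exact e1.imp (congrArg Subtype.val) (congrArg Subtype.val)⟩)
      · exact .inr (.inr ⟨m * g, i, j, k, hi, hj, hk, by rw [as, e]; exact congrArg Subtype.val e1⟩)
    obtain ⟨w, hw, e1⟩ := h.l4 ⟨_, m u (subset_closure (by simp))⟩ ⟨_, m v (subset_closure (by simp))⟩
      (Subtype.ext (cube_cj u3 g)) (Subtype.ext (cube_cj v3 g)) (Subtype.ext (c.map (MulAut.conj g)))
    simp only [List.mem_cons, List.not_mem_nil, or_false] at hw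
    rcases hw with rfl | rfl | rfl | rfl
    · exact ⟨u, by simp, fin u _ rfl e1⟩
    · exact ⟨v, by simp, fin v _ rfl e1⟩
    · exact ⟨u * v, by simp, fin _ _ (by simp [mul_assoc]) e1⟩
    · exact ⟨u * v⁻¹, by simp, fin _ _ (by simp [mul_assoc]) e1⟩

theorem Dd.lift (h : Dd R t a i j d ρ) {x : X} (e : x * d * x⁻¹ * d⁻¹ ∈ R) : ∃ r ∈ R, Commute (r * x) d := by
  obtain ⟨n, e⟩ := h.cls e
  refine ⟨gn i j n, h.gn_R n, mul_inv_eq_iff_eq_mul.1 ?_⟩
  calc _ = gn i j n * (x * d * x⁻¹) * (gn i j n)⁻¹ := by group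
    _ = d := by rw [e, dn]; group

theorem Dd.card_cen (h : Dd R t a i j d ρ) {Y : Subgroup X} (hR : R ≤ Y) (hd : d ∈ Y)
    (hY : ∀ x ∈ Y, x * d * x⁻¹ * d⁻¹ ∈ R) : Nat.card ↥(centralizer {d} ⊓ Y) * 4 = Nat.card Y := by
  let d' : Y := ⟨d, hd⟩
  have m : ∀ n, dn i j d n ∈ Y := fun n => mul_mem (mul_mem (inv_mem (hR (h.gn_R n))) hd) (hR (h.gn_R n))
  have c2 : Nat.card {s // ∃ g, g * d' * g⁻¹ = s} = 4 := by
    rw [← Nat.card_congr (Equiv.ofBijective (fun n : Fin 4 => (⟨⟨dn i j d n, m n⟩, ⟨(gn i j n)⁻¹,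
      inv_mem (hR (h.gn_R n))⟩, Subtype.ext (by simp [dn, d'])⟩ :
        {s // ∃ g, g * d' * g⁻¹ = s})) ⟨fun n m e => h.dn_inj (congrArg (fun x => x.1.1) e), ?_⟩)]
    · simp
    · rintro ⟨_, g, rfl⟩
      obtain ⟨n, e⟩ := h.cls (hY g g.2)
      exact ⟨n, Subtype.ext (Subtype.ext e.symm)⟩
  have c3 := (centralizer {d'}).card_mul_index
  rw [← H23.EA.card_class, c2] at c3
  have c4 : centralizer {d'} = (centralizer {d} ⊓ Y).subgroupOf Y := by
    ext x
    rw [mem_subgroupOf, mem_inf, and_iff_left x.2, mem_centralizer_singleton_iff, mem_centralizer_singleton_iff,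
      Subtype.ext_iff]; rfl
  rwa [c4, Nat.card_congr (subgroupOfEquivOfLe inf_le_right).toEquiv] at c3

/-- The group `2^{1+6} . PSp₄(3)` with its module. -/
structure Tp (R : Subgroup X) (t : X) (a i j : Fin 3 → X) (d : X) (ρ : X →* Module.End (ZMod 3) V) : Prop
    extends Dd R t a i j d ρ, E3 a where
  big : 2 ^ 11 ∣ Nat.card (centralizer ({d} : Set X))
  der : ∀ H : Subgroup X, (∀ u v, Commute u d → Commute v d → u * v * u⁻¹ * v⁻¹ ∈ H) → d ∈ H

theorem exists_tp (xs : H49.XS R t) (hc : Nat.card R = 128) (hC : centralizer (R : Set X) ≤ R)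
    (τ : X →* PSp 2 (ZMod 3)) (sj : Function.Surjective τ) (hk : τ.ker = R) (r : Rp ρ) :
    ∃ a i j d, Tp R t a i j d ρ := by
  let Y := S3366.emb.range.comap τ
  have mR : ∀ x, x ∈ R ↔ τ x = 1 := fun x => by rw [← hk, MonoidHom.mem_ker]
  have RY : R ≤ Y := fun x hx => ⟨1, by rw [map_one, (mR x).1 hx]⟩
  let π₀ : Y →* C9 := (MonoidHom.ofInjective S3366.emb_inj).symm.toMonoidHom.comp
    ((τ.comp Y.subtype).codRestrict _ fun x => x.2)
  have e0 : ∀ x, S3366.emb (π₀ x) = τ x := fun x => MonoidHom.apply_ofInjective_symm S3366.emb_inj _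
  have mp : (R.subgroupOf Y).map Y.subtype = R := by rw [subgroupOf_map_subtype, inf_eq_left.2 RY]
  obtain ⟨π, a, i, j, s, E⟩ := H21.F23.dec Y (R.subgroupOf Y) ⟨t, RY xs.mem⟩ π₀
    (H49.XS.of_map Y.subtype_injective (by rw [mp]; exact xs))
    (by rw [Nat.card_congr (subgroupOfEquivOfLe RY).toEquiv, hc])
    (fun x hx => hC fun y hy => congrArg Subtype.val (hx ⟨y, RY hy⟩ hy))
    (fun c => by
      obtain ⟨x, hx⟩ := sj (S3366.emb c)
      exact ⟨⟨x, c, hx.symm⟩, S3366.emb_inj (by rw [e0, hx])⟩)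
    (Subgroup.ext fun x => by
      rw [MonoidHom.mem_ker, mem_subgroupOf, mR, ← e0, map_eq_one_iff _ S3366.emb_inj])
  obtain ⟨d, E, p⟩ := E.exists_d (ρ := ρ.comp Y.subtype) ⟨r.inj.comp Y.subtype_injective, r.card⟩
  have v : ∀ {x y : Y}, x = y → (x : X) = y := congrArg Subtype.val
  have D : Dd R t (fun k => a k) (fun k => i k) (fun k => j k) d ρ :=
    ⟨⟨xs, hk ▸ τ.normal_ker, fun k => v (E.a3 k), fun k l => v (E.aa k l), E.iR, E.jR, fun k => v (E.ii k),
      fun k => v (E.jj k), fun k => v (E.ij k), fun k => v (E.ai k), fun k => v (E.aj k), fun k l e => v (E.cai k l e),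
      fun k l e => v (E.caj k l e), fun k l e => v (E.cii k l e), fun k l e => v (E.cij k l e),
      fun k l e => v (E.cjj k l e), E.s_notMem, E.ss.imp v v, v E.sa0, v E.sa2, v E.si0, v E.sj0, v E.si2, v E.sj2⟩,
      r, p, hc⟩
  refine ⟨_, _, _, _, D, (e3_of E).up ?_, ?_, fun H hH => H60.F23.Dd.P_le_of_comm (H := H.subgroupOf Y)
    ⟨E, ⟨r.inj.comp Y.subtype_injective, r.card⟩, p, (Nat.card_congr (subgroupOfEquivOfLe RY).toEquiv).trans hc⟩
    (fun u w cu cw => hH u w (v cu) (v cw)) (Commute.refl d) (E.πs ▸ ct_RR)⟩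
  · have := S3366.emb.range.card_mul_index
    rw [← Nat.card_congr (MonoidHom.ofInjective S3366.emb_inj).toEquiv, H89.Sp43.card, show Nat.card H91.Pr.Z9.C = 648 from card_C9] at this
    rw [index_comap_of_surjective _ sj]; omega
  · obtain ⟨g, -, e⟩ := (x6 (π₀ d) (by rw [← map_mul, show d * d = 1 from Subtype.ext D.dd, map_one])).resolve_left
      fun e => D.s_notMem ((mR _).2 (by rw [← e0, e, map_one]))
    have c1 : 64 ∣ Nat.card (centralizer {τ d}) := by
      rw [← e0, ← e, map_mul, map_mul, map_inv]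
      refine psp64.trans ?_
      rw [← H8.card_conj_smul _ (S3366.emb g)]
      refine card_dvd_of_le fun x hx => mem_centralizer_singleton_iff.2 ?_
      have := mem_centralizer_singleton_iff.1 (H8.mem_conj_smul.1 hx)
      generalize S3366.emb g = g at *
      calc _ = g * (g⁻¹ * x * g * S3366.emb ct) * g⁻¹ := by group
        _ = _ := by rw [this]; group
    have c2 := D.card_cen (Y := (centralizer {τ d}).comap τ)
      (fun x hx => mem_centralizer_singleton_iff.2 (by rw [(mR x).1 hx]; simp))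
      (mem_centralizer_singleton_iff.2 rfl) fun x hx => (mR _).2 (by
        rw [map_mul, map_mul, map_mul, mem_centralizer_singleton_iff.1 hx]; simp)
    have c3 := H41.Rec.card_eq_map_mul τ ((centralizer {τ d}).comap τ)
    rw [map_comap_eq_self_of_surjective sj, inf_eq_left.2 (ker_le_comap _ _), hk, hc] at c3
    refine Dvd.dvd.trans ?_ (card_dvd_of_le (inf_le_left (b := (centralizer {τ d}).comap τ)))
    omega

end Cfsg.Agent.H48.B3
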