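import Cfsg.Agent.H48.B3B

/-! The Baby Monster from a `3`-centralizer, part C: a conjugate of `z` in `C(z)` outside `Q`. -/

set_option autoImplicit false
set_option linter.style.haveILetI false
set_option linter.unusedSimpArgs false
set_option linter.unusedSectionVars false

universe u

namespace Cfsg.Agent.H48.B3

open Subgroup H95.L3 H40.F23 H60.F23 H23 LinearMap

variable {G : Type*} [Group G] {z y t : G} {Q P : Subgroup G} {T : G → Prop}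
  {V : Type} [AddCommGroup V] [Module (ZMod 3) V]

/-- The group theoretic consequences of the structure of `C(z) / Q`; `T` describes the quadratic elements. -/
structure Lc (z : G) (Q : Subgroup G) (T : G → Prop) : Prop where
  x3 : X3 Q z
  card : Nat.card Q = 3 ^ 9
  exp : ∀ q ∈ Q, q ^ 3 = 1
  norm : ∀ m, Commute m z → ∀ q ∈ Q, m * q * m⁻¹ ∈ Q
  l1 : ∀ U : Subgroup G, (∀ u ∈ U, Commute u z) → (∀ u ∈ U, u ^ 3 = 1) →
    Nat.card U ≤ 27 * Nat.card ↥(U ⊓ Q)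
  l2 : ∀ U : Subgroup G, (∀ u ∈ U, Commute u z) → (∀ u ∈ U, u ^ 3 = 1) →
    (∀ u ∈ U, ∀ v ∈ U, u * v * u⁻¹ * v⁻¹ ∈ Q) → 27 * Nat.card ↥(U ⊓ Q) ≤ Nat.card U →
    (∃ u ∈ U, T u) ∧ ∀ B ≤ Q, (∀ b ∈ B, b ∈ zpowers z → b = 1) → (∀ b ∈ B, ∀ u ∈ U, Commute u b) → Nat.card B ≤ 3
  l4 : ∀ s u v, Commute s z → Commute u z → Commute v z → u ^ 3 = 1 → v ^ 3 = 1 →
    s * u * s⁻¹ = u⁻¹ → s * v * s⁻¹ = v⁻¹ → Commute u v → ∃ w ∈ [u, v, u * v, u * v⁻¹], w ∈ Q ∨ T w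
  tq : ∀ u, T u → ∀ q ∈ Q, T (u * q)

theorem Lc.inv (h : Lc z Q T) : Lc z⁻¹ Q T := by
  have e : ∀ m, Commute m z⁻¹ ↔ Commute m z := fun m => Commute.inv_right_iff
  refine ⟨h.x3.inv, h.card, h.exp, ?_, ?_, ?_, ?_, h.tq⟩ <;> simp only [e, zpowers_inv]
  exacts [h.norm, h.l1, h.l2, h.l4]

theorem Lc.map (h : Lc z Q T) (φ : G ≃* G) : Lc (φ z) (Q.map φ.toMonoidHom) fun w => T (φ.symm w) := by
  have c : ∀ {m n}, Commute (φ m) (φ n) ↔ Commute m n := fun {m n} =>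
    ⟨fun e => φ.injective (by simpa using e.eq), fun e => e.map φ⟩
  have q : ∀ {Q : Subgroup G} {m}, φ m ∈ Q.map φ.toMonoidHom ↔ m ∈ Q := fun {Q m} =>
    mem_map_iff_mem (f := φ.toMonoidHom) φ.injective
  have cd : ∀ U : Subgroup G, Nat.card (U.map φ.toMonoidHom) = Nat.card U := fun U =>
    card_map_of_injective φ.injective
  have su : ∀ U : Subgroup G, ∃ W : Subgroup G, U = W.map φ.toMonoidHom := fun U =>
    ⟨U.comap φ.toMonoidHom, (map_comap_eq_self_of_surjective φ.surjective U).symm⟩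
  have p3 : ∀ {m}, φ m ^ 3 = 1 → m ^ 3 = 1 := fun e => φ.injective (by simpa using e)
  refine ⟨h.x3.map φ.injective, by rw [cd, h.card], ?_, fun m hm => ?_, fun U hU h3 => ?_,
    fun U hU h3 hc h27 => ?_, fun s u v hs hu hv u3 v3 su sv uv => ?_, fun u hu => ?_⟩
  · rintro _ ⟨x, hx, rfl⟩
    rw [← map_pow, h.exp x hx, map_one]
  · rintro _ ⟨x, hx, rfl⟩
    obtain ⟨m, rfl⟩ := φ.surjective m
    exact ⟨_, h.norm m (c.1 hm) x hx, by simp⟩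
  · obtain ⟨U, rfl⟩ := su U
    rw [← Subgroup.map_inf _ _ _ φ.injective, cd, cd]
    exact h.l1 U (fun u hu => c.1 (hU _ ⟨u, hu, rfl⟩)) fun u hu => p3 (h3 _ ⟨u, hu, rfl⟩)
  · obtain ⟨U, rfl⟩ := su U
    rw [← Subgroup.map_inf _ _ _ φ.injective, cd, cd] at h27
    obtain ⟨⟨u, hu, e⟩, hb⟩ := h.l2 U (fun u hu => c.1 (hU _ ⟨u, hu, rfl⟩))
      (fun u hu => p3 (h3 _ ⟨u, hu, rfl⟩))
      (fun u hu v hv => q.1 (by simpa using hc _ ⟨u, hu, rfl⟩ _ ⟨v, hv, rfl⟩)) h27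
    refine ⟨⟨φ u, ⟨u, hu, rfl⟩, by simpa using e⟩, fun B h1 h2 h3 => ?_⟩
    obtain ⟨B, rfl⟩ := su B
    rw [cd]
    exact hb B (fun b hb => q.1 (h1 (q.2 hb))) (fun b hb ⟨k, e⟩ => φ.injective
      ((h2 _ (q.2 hb) ⟨k, by rw [← e]; simp⟩).trans (map_one φ).symm)) fun b hb u hu => c.1 (h3 _ (q.2 hb) _ (q.2 hu))
  · obtain ⟨s, rfl⟩ := φ.surjective s
    obtain ⟨u, rfl⟩ := φ.surjective u
    obtain ⟨v, rfl⟩ := φ.surjective v
    obtain ⟨w, hw, e⟩ := h.l4 s u v (c.1 hs) (c.1 hu) (c.1 hv) (p3 u3) (p3 v3)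
      (φ.injective (by simpa using su)) (φ.injective (by simpa using sv)) (c.1 uv)
    exact ⟨φ w, by simpa using List.mem_map_of_mem (f := φ) hw, e.imp q.2 fun e => by simpa using e⟩
  · rintro _ ⟨x, hx, rfl⟩
    simpa using h.tq _ hu x hx

theorem star (h : Lc z Q T) (zy : ZT z y) : ∃ P T', Lc y P T' ∧
    ((∀ u ∈ Q, ZT z u → u ∈ zpowers z) → ∀ u ∈ P, ZT z u → u ∈ zpowers y) ∧
    ((∀ u, T u → ¬ ZT z u) → ∀ u, T' u → ¬ ZT z u) := by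
  have key : ∀ x g : G, zpowers x = zpowers z → Lc x Q T → ∃ P T', Lc (g * x * g⁻¹) P T' ∧
      ((∀ u ∈ Q, ZT z u → u ∈ zpowers z) → ∀ u ∈ P, ZT z u → u ∈ zpowers (g * x * g⁻¹)) ∧
      ((∀ u, T u → ¬ ZT z u) → ∀ u, T' u → ¬ ZT z u) := fun x g e hx => by
    refine ⟨_, _, hx.map (MulAut.conj g), fun hn => ?_, fun hw u e1 hu => hw _ e1 (by simpa using zt_cj hu g⁻¹)⟩
    rintro _ ⟨q, hq, rfl⟩ hu
    obtain ⟨k, rfl⟩ := e.symm ▸ hn q hq (by simpa [mul_assoc] using zt_cj hu g⁻¹)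
    exact ⟨k, by simp [conj_zpow]⟩
  rcases zy with e | e <;> obtain ⟨g, rfl⟩ := isConj_iff.1 e
  · exact key z g rfl h
  · exact key z⁻¹ g zpowers_inv h.inv

theorem z_mem [Finite G] (h : X3 Q z) (hc : Nat.card Q = 3 ^ 9) (h3 : ∀ q ∈ Q, q ^ 3 = 1)
    (hy : y ∈ Q) (hn : y ∉ zpowers z) (hS : Lc y P T) : z ∈ P := by
  have mc : ∀ {m}, m ∈ centralizer ({y} : Set G) ↔ Commute m y := mem_centralizer_singleton_iff
  by_contra hz
  have e1 := h.card_cent_elt hy hn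
  have e2 := h.card_cent_mul (A := Q ⊓ centralizer {y}) inf_le_left ⟨h.mem, mc.2 (h.cen y hy).symm⟩
  have e3 := hS.l1 (Q ⊓ centralizer {y}) (fun u hu => mc.1 hu.2) fun u hu => h3 u hu.1
  have e4 : (Q ⊓ centralizer {y}) ⊓ P ≤ Q ⊓ centralizer ((Q ⊓ centralizer {y} : Subgroup G) : Set G) :=
    fun u hu => ⟨hu.1.1, fun x hx => by
      by_contra hc
      obtain ⟨n, e⟩ := zp_gen h.ord (h.comm x hx.1 u hu.1.1)
        (fun e => hc (commutatorElement_eq_one_iff_commute.1 e).eq) (mem_zpowers z)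
      exact hz (e ▸ pow_mem (mul_mem (hS.norm x (mc.1 hx.2) u hu.2) (inv_mem hu.2)) n)⟩
  have e5 := card_le_of_le e4
  rw [hc] at e1 e2
  rw [show Nat.card ↥(Q ⊓ centralizer {y}) = 6561 by omega] at e2 e3
  omega

theorem caseB [Finite G] (D : V3 Q z V) (h : X3 Q z) (h3 : ∀ q ∈ Q, q ^ 3 = 1) (hy : y ∈ NC Q z)
    (yQ : y ∉ Q) (zy : ZT z y) (hS : Lc y P T) (noz : ∀ u ∈ P, ZT z u → u ∈ zpowers y)
    (ht : t ∈ NC Q z) (tt : t * t = 1) (ti : ∀ q ∈ Q, D.p (t * q * t⁻¹) = -D.p q)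
    (tc : t * y * t⁻¹ * y⁻¹ ∈ Q) (hg : Good D.β (D.ρ ⟨y, hy⟩ - 1))
    (hw : 81 ≤ Nat.card ↥(ker (D.ρ ⟨y, hy⟩ - 1) ⊓ range (D.ρ ⟨y, hy⟩ - 1)) ∨ ∀ u, T u → ¬ ZT z u)
    (hB : ∀ k ∈ Q, (D.ρ ⟨y, hy⟩ - 1) (D.p k) = 0 → Commute k y) : False := by
  obtain ⟨s, hs, ss, si, sy⟩ := move_t D h hy ht tt ti tc hB
  obtain ⟨W, hW, w₁, m₁, w₂, m₂, ind⟩ := hg.iso
  have po := perp1 D h ⟨y, hy⟩
  have pc := fun q => p_cm D hy (q := q)
  have pa := D.act y hy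
  have hN : ∀ x, D.ρ ⟨y, hy⟩ x = x + (D.ρ ⟨y, hy⟩ - 1) x := fun x => by simp
  generalize D.ρ ⟨y, hy⟩ - 1 = N at *
  have lift : ∀ w, ∃ q ∈ Q, D.p q = w ∧ s * q * s⁻¹ = q⁻¹ := fun w => by
    obtain ⟨q, hq, rfl⟩ := D.onto w
    have hc : s * q * s⁻¹ * q ∈ zpowers z := (D.p_eq_neg_iff (NC.cj_mem hs hq) hq).1 (si q hq)
    obtain ⟨c, e⟩ : ∃ c, c = s * q * s⁻¹ * q := ⟨_, rfl⟩
    rw [← e] at hc
    have c3 : c * c * c = 1 := by rw [← pow_three']; exact h3 c (h.zp_le hc)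
    refine ⟨q * c, mul_mem hq (h.zp_le hc), by
      rw [D.add _ hq _ (h.zp_le hc), (D.zero _ (h.zp_le hc)).2 hc, add_zero], ?_⟩
    have e1 := (h.commute_zp (inv_mem hq) hc).eq
    calc s * (q * c) * s⁻¹ = (s * q * s⁻¹ * q) * q⁻¹ * (s * c * s⁻¹) := by group
      _ = c * (q⁻¹ * c) := by rw [← e, NC.cj_zp hs hc, mul_assoc]
      _ = c⁻¹ * (c * c * c) * q⁻¹ := by rw [e1]; group
      _ = _ := by rw [c3]; group
  have uniq : ∀ u ∈ Q, ∀ v ∈ Q, s * u * s⁻¹ = u⁻¹ → s * v * s⁻¹ = v⁻¹ → D.p u = D.p v → u = v :=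
      fun u hu v hv su sv e => by
    have hc := (D.p_eq_iff hu hv).1 e
    have c3 := h3 _ (h.zp_le hc)
    have e1 := NC.cj_zp hs hc
    have e2 := (h.commute_zp hv hc).eq
    obtain ⟨c, rfl⟩ : ∃ c, u = c * v := ⟨u * v⁻¹, by group⟩
    rw [mul_inv_cancel_right] at c3 e1 e2
    have e3 : c * c = 1 := by
      calc c * c = c * (s * c * s⁻¹) * (s * v * s⁻¹) * v := by rw [e1, sv]; group
        _ = c * (s * (c * v) * s⁻¹) * v := by group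
        _ = c * ((v * c)⁻¹ * v) := by rw [su, e2]; group
        _ = 1 := by group
    rw [pow_three', e3, one_mul] at c3
    rw [c3, one_mul]
  have hit0 : ∀ u ∈ Q, s * u * s⁻¹ = u⁻¹ → ∀ w ∈ W, D.p u = N w → ZT z (u * y) := fun u hu su w hw e => by
    obtain ⟨q, hq, e1, sq⟩ := lift (-w)
    have c1 : Commute q (y * q * y⁻¹) := by
      rw [D.commute_iff h hq (NC.cj_mem hy hq), pa q hq, hN, map_add, D.β_self h, zero_add, e1]
      exact (hW _ (W.neg_mem hw)).1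
    have e2 : u = q * y * q⁻¹ * y⁻¹ := uniq u hu _ (pc q hq).1 su (by
      have e3 : s * y * s⁻¹ = y := by rw [sy.eq]; group
      calc s * (q * y * q⁻¹ * y⁻¹) * s⁻¹
          = (s * q * s⁻¹) * (s * y * s⁻¹) * (s * q * s⁻¹)⁻¹ * (s * y * s⁻¹)⁻¹ := by group
        _ = q⁻¹ * (y * q * y⁻¹) := by rw [sq, e3]; group
        _ = _ := by rw [c1.inv_left.eq]; group) (by rw [(pc q hq).2, e1, e, map_neg, neg_neg])
    rw [e2, inv_mul_cancel_right]; exact zt_cj zy q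
  have hit : ∀ u ∈ Q, s * u * s⁻¹ = u⁻¹ → ∀ w ∈ W, D.p u = N w → u ∈ P → N w = 0 := fun u hu su w hw e hP => by
    rw [← e, eq_one_of_hit hS.x3 noz yQ hu hP (hit0 u hu su w hw e), D.p_one]
  have mW : ∀ i j : ZMod 3, i • w₁ + j • w₂ ∈ W := fun i j => W.add_mem (W.smul_mem _ m₁) (W.smul_mem _ m₂)
  rcases hw with hw | hw
  · have zP : ∀ c ∈ zpowers z, c ∈ P → c = 1 := fun c hc hP => by
      rcases (mem_zp3 h.ord).1 hc with e | e | e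
      · exact e
      · exact not_zp hS.x3.ord (fun e => yQ (h.zp_le e)) hc (noz c hP (.inl (e ▸ IsConj.refl _)))
      · exact not_zp hS.x3.ord (fun e => yQ (h.zp_le e)) hc (noz c hP (.inr (e ▸ IsConj.refl _)))
    have cE := D.card_pre h (ker N ⊓ range N)
    have ab : ∀ u ∈ D.pre h (ker N ⊓ range N), ∀ v ∈ D.pre h (ker N ⊓ range N), Commute u v := fun u hu v hv => by
      obtain ⟨x, e⟩ := hu.2.2
      rw [D.commute_iff h hu.1 hv.1, ← e]; exact po _ _ hv.2.1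
    have iv : ∀ u ∈ D.pre h (ker N ⊓ range N) ⊓ P, s * u * s⁻¹ = u⁻¹ := fun u hu => eq_inv_of_mul_eq_one_left
      (zP _ ((D.p_eq_neg_iff (NC.cj_mem hs hu.1.1) hu.1.1).1 (si u hu.1.1)) (mul_mem (hS.norm s sy u hu.2) hu.2))
    haveI := D.finite
    have c1 := Nat.card_le_card_of_injective (fun x : ↥(D.pre h (ker N ⊓ range N) ⊓ P) × ZMod 3 × ZMod 3 =>
      (⟨D.p x.1 + N (x.2.1 • w₁ + x.2.2 • w₂), add_mem x.1.2.1.2 ⟨(hW _ (mW _ _)).2, _, rfl⟩⟩ : ↥(ker N ⊓ range N)))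
      fun x x' e => by
        replace e : D.p x.1 + N (x.2.1 • w₁ + x.2.2 • w₂) = D.p x'.1 + N (x'.2.1 • w₁ + x'.2.2 • w₂) :=
          congrArg Subtype.val e
        have m := mul_mem x.1.2 (inv_mem x'.1.2)
        have e1 := hit _ m.1.1 (iv _ m) _ (mW (x'.2.1 - x.2.1) (x'.2.2 - x.2.2)) (by
          rw [D.add _ x.1.2.1.1 _ (inv_mem x'.1.2.1.1), D.p_inv x'.1.2.1.1]
          simp only [map_add, map_smul] at e ⊢
          linear_combination (norm := module) e) m.2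
        obtain ⟨e2, e3⟩ := ind _ _ (by simpa only [map_add, map_smul] using e1)
        rw [sub_eq_zero] at e2 e3
        rw [e2, e3, add_left_inj] at e
        exact Prod.ext (Subtype.ext (uniq _ x.1.2.1.1 _ x'.1.2.1.1 (iv _ x.1.2) (iv _ x'.1.2) e)) (Prod.ext e2.symm e3.symm)
    rw [Nat.card_prod, Nat.card_prod, Nat.card_zmod] at c1
    have c2 := hS.l1 _ (fun u (hu : u ∈ D.pre h (ker N ⊓ range N)) => hB u hu.1 hu.2.1) fun u hu => h3 u hu.1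
    have c3 := (hS.l2 _ (fun u (hu : u ∈ D.pre h (ker N ⊓ range N)) => hB u hu.1 hu.2.1) (fun u hu => h3 u hu.1)
      (fun u hu v hv => by rw [(ab u hu v hv).eq]; simp) (by omega)).2 _ inf_le_right (fun b hb e => by
        by_contra n
        obtain ⟨k, e⟩ := zp_gen hS.x3.ord e n (mem_zpowers y)
        exact yQ (e ▸ pow_mem hb.1.1 k)) fun b hb u hu => ab u hu b hb.1
    omega
  obtain ⟨u₁, q₁, p₁, s₁⟩ := lift (N w₁)
  obtain ⟨u₂, q₂, p₂, s₂⟩ := lift (N w₂)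
  have c12 : Commute u₁ u₂ := by
    rw [D.commute_iff h q₁ q₂, p₁, p₂]; exact po _ _ (hW _ m₂).2
  have fin : ∀ u ∈ Q, s * u * s⁻¹ = u⁻¹ → ∀ i j : ZMod 3, ¬(i = 0 ∧ j = 0) → D.p u = N (i • w₁ + j • w₂) →
      ¬(u ∈ P ∨ T u) := fun u hu su i j n e k => k.elim
    (fun k => n (ind i j (by simpa only [map_add, map_smul] using hit u hu su _ (mW i j) e k)))
    fun k => hw _ (hS.tq u k y hS.x3.mem) (hit0 u hu su _ (mW i j) e)
  obtain ⟨w, m, e⟩ := hS.l4 s u₁ u₂ sy (hB _ q₁ (p₁ ▸ (hW _ m₁).2)) (hB _ q₂ (p₂ ▸ (hW _ m₂).2)) (h3 _ q₁)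
    (h3 _ q₂) s₁ s₂ c12
  simp only [List.mem_cons, List.not_mem_nil, or_false] at m
  rcases m with rfl | rfl | rfl | rfl
  · exact fin _ q₁ s₁ 1 0 (by decide) (by simp [p₁]) e
  · exact fin _ q₂ s₂ 0 1 (by decide) (by simp [p₂]) e
  · exact fin _ (mul_mem q₁ q₂) (by rw [← conj_mul, s₁, s₂, c12.eq, mul_inv_rev]) 1 1 (by decide)
      (by simp [D.add _ q₁ _ q₂, p₁, p₂]) e
  · exact fin _ (mul_mem q₁ (inv_mem q₂)) (by rw [← conj_mul, ← conj_inv, s₁, s₂, c12.inv_right.eq, mul_inv_rev]) 1 (-1)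
      (by decide) (by simp [D.add _ q₁ _ (inv_mem q₂), D.p_inv q₂, p₁, p₂]) e

theorem caseA [Finite G] (D : V3 Q z V) (h : X3 Q z) (h3 : ∀ q ∈ Q, q ^ 3 = 1) (hy : y ∈ NC Q z)
    (yQ : y ∉ Q) (zy : ZT z y) (hS : Lc y P T) (noz : ∀ u ∈ P, ZT z u → u ∈ zpowers y)
    (hg : 81 ≤ Nat.card ↥(ker (D.ρ ⟨y, hy⟩ - 1) ⊓ range (D.ρ ⟨y, hy⟩ - 1)) ∨
      (Good D.β (D.ρ ⟨y, hy⟩ - 1) ∧ ∀ u, T u → ¬ ZT z u))
    {k₀ : G} (q₀ : k₀ ∈ Q) (n₀ : (D.ρ ⟨y, hy⟩ - 1) (D.p k₀) = 0) (c₀ : ¬ Commute k₀ y) : False := by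
  have mc : ∀ {m}, m ∈ centralizer ({y} : Set G) ↔ Commute m y := mem_centralizer_singleton_iff
  have po := perp1 D h ⟨y, hy⟩
  have po2 := fun v => perp2 D h ⟨y, hy⟩ (v := v)
  have pc := fun q => p_cm D hy (q := q)
  generalize D.ρ ⟨y, hy⟩ - 1 = N at *
  have hK : ∀ k ∈ D.pre h (ker N), k * y * k⁻¹ * y⁻¹ ∈ zpowers z := fun k hk =>
    (D.zero _ (pc k hk.1).1).1 (by rw [(pc k hk.1).2, show N (D.p k) = 0 from hk.2, neg_zero])
  have gen : ∀ k ∈ D.pre h (ker N), ¬ Commute k y → ∀ c ∈ zpowers z,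
      ∃ n : ℕ, k ^ n * y * (k ^ n)⁻¹ * y⁻¹ = c := fun k hk hc c hz => by
    obtain ⟨n, rfl⟩ := zp_gen h.ord (hK k hk)
      (fun e => hc (commutatorElement_eq_one_iff_commute.1 e)) hz
    exact ⟨n, map_pow (cmh h (D.pre_le h _) hK) ⟨k, hk⟩ n⟩
  have hit : ∀ u ∈ Q, D.p u ∈ range N → ZT z (u * y) := fun u hu ⟨w, e⟩ => by
    obtain ⟨q, hq, e1⟩ := D.onto (-w)
    have hc : u * (q * y * q⁻¹ * y⁻¹)⁻¹ ∈ zpowers z := (D.p_eq_iff hu (pc q hq).1).1 (by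
      rw [(pc q hq).2, e1, map_neg, neg_neg, e])
    obtain ⟨n, e2⟩ := gen k₀ ⟨q₀, n₀⟩ c₀ _ hc
    have e3 := (h.commute_zp hq hc).eq
    convert zt_cj zy (q * k₀ ^ n) using 1
    calc u * y = (u * (q * y * q⁻¹ * y⁻¹)⁻¹ * q) * y * q⁻¹ := by group
      _ = _ := by rw [← e3, ← e2]; group
  have hit1 : ∀ u ∈ Q, D.p u ∈ range N → u ∈ P → u = 1 := fun u hu hr hP =>
    eq_one_of_hit hS.x3 noz yQ hu hP (hit u hu hr)
  let U₀ := D.pre h (ker N ⊓ range N) ⊓ centralizer {y}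
  have b₀ : U₀ ⊓ P = ⊥ := eq_bot_iff.2 fun u hu => hit1 u hu.1.1.1 hu.1.1.2.2 hu.2
  have l₀ : Nat.card U₀ ≤ 27 := by
    simpa [b₀] using hS.l1 U₀ (fun u hu => mc.1 hu.2) fun u hu => h3 u hu.1.1
  have g₀ : Nat.card ↥(ker N ⊓ range N) ≤ Nat.card U₀ := by
    have := card_le3 h (D.pre_le h (ker N ⊓ range N)) fun k hk => hK k ⟨hk.1, hk.2.1⟩
    rw [D.card_pre] at this
    exact Nat.le_of_mul_le_mul_left this (by norm_num)
  rcases hg with hg | ⟨hg, hw⟩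
  · omega
  have l₁ : Nat.card U₀ < 27 := by
    by_contra hc
    obtain ⟨⟨u, hu, e⟩, -⟩ := hS.l2 U₀ (fun u hu => mc.1 hu.2) (fun u hu => h3 u hu.1.1)
      (fun u hu v hv => by
        obtain ⟨x, e⟩ := hu.1.2.2
        have : Commute u v := by
          rw [D.commute_iff h hu.1.1 hv.1.1, ← e]; exact po _ _ hv.1.2.1
        rw [this.eq]; simp) (by simpa [b₀] using hc)
    exact hw _ (hS.tq u e y hS.x3.mem) (hit u hu.1.1 hu.1.2.2)
  rcases hg.big with ⟨h9, h81⟩ | h27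
  swap
  · omega
  by_cases hD : D.pre h (ker N ⊓ range N) ≤ centralizer {y}
  · have : Nat.card U₀ = 3 * Nat.card ↥(ker N ⊓ range N) := by
      rw [← D.card_pre h]; exact congrArg (fun X : Subgroup G => Nat.card X) (inf_eq_left.2 hD)
    omega
  obtain ⟨d, hd, hd'⟩ := SetLike.not_le_iff_exists.1 hD
  let U := D.pre h (ker N) ⊓ centralizer {y}
  have b₁ : U ⊓ P = ⊥ := eq_bot_iff.2 fun u hu => hit1 u hu.1.1.1 (po2 _ fun k hk => by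
    obtain ⟨k, hk', rfl⟩ := D.onto k
    have hcen : ∀ x ∈ U, Commute x u := fun x hx => by
      have m1 := h.comm x hx.1.1 u hu.1.1.1
      exact commutatorElement_eq_one_iff_commute.1 (hit1 _ (h.zp_le m1)
        ((D.zero _ (h.zp_le m1)).2 m1 ▸ Submodule.zero_mem _)
        (mul_mem (hS.norm x (mc.1 hx.2) u hu.2) (inv_mem hu.2)))
    have hdK : d ∈ D.pre h (ker N) := ⟨hd.1, hd.2.1⟩
    obtain ⟨n, e⟩ := gen d hdK (fun e => hd' (mc.2 e)) _ (inv_mem (hK k ⟨hk', hk⟩))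
    have c1 : Commute (k * d ^ n) u := hcen _ ⟨mul_mem ⟨hk', hk⟩ (pow_mem hdK n), mc.2 (by
      have := map_mul (cmh h (D.pre_le h _) hK) ⟨k, hk', hk⟩ ⟨d ^ n, pow_mem hdK n⟩
      refine commutatorElement_eq_one_iff_commute.1 (this.trans ?_)
      change (k * y * k⁻¹ * y⁻¹) * (d ^ n * y * (d ^ n)⁻¹ * y⁻¹) = 1
      rw [e, mul_inv_cancel])⟩
    have c2 : Commute d u := by
      obtain ⟨x, e⟩ := hd.2.2
      rw [D.commute_iff h hd.1 hu.1.1.1, ← e]; exact po _ _ hu.1.1.2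
    rw [← D.commute_iff h hu.1.1.1 hk']
    simpa using (c1.mul_left (c2.pow_left n).inv_left).symm) hu.2
  have l₂ : Nat.card U ≤ 27 := by
    simpa [b₁] using hS.l1 U (fun u hu => mc.1 hu.2) fun u hu => h3 u hu.1.1
  have g₁ := card_le3 h (D.pre_le h (ker N)) hK
  rw [D.card_pre] at g₁
  change _ ≤ 3 * Nat.card U at g₁
  omega

end Cfsg.Agent.H48.B3
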