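import Cfsg.Agent.H48.B3C

/-! The Baby Monster from a `3`-centralizer, part D: `⟨z⟩` is not weakly closed in `C(d)`. -/

set_option autoImplicit false
set_option linter.style.haveILetI false
set_option linter.unusedSimpArgs false
set_option linter.unusedSectionVars false

universe u

namespace Cfsg.Agent.H48.B3

open Subgroup H95.L3 H40.F23 H60.F23 H23 LinearMap

/-- the module -/
abbrev V8 : Type := Fin 8 → ZMod 3

variable {G : Type u} [Group G] [Finite G] {z y : G} {Q : Subgroup G}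
  {X : Type u} [Group X] [Finite X] {R : Subgroup X} {t d x : X} {a i j : Fin 3 → X}
  {ρ : X →* Module.End (ZMod 3) V8} {φ : centralizer ({z} : Set G) →* X} {D : V3 Q z V8}
  {β : V8 →ₗ[ZMod 3] V8 →ₗ[ZMod 3] ZMod 3}

namespace Dd

variable (h : Dd R t a i j d ρ) (hβ : ∀ x v w, β (ρ x v) (ρ x w) = β v w)
include h hβ

theorem cube : ∃ v, Cube β (ρ (a 0) - 1) (ρ (a 1) - 1) (ρ (a 2) - 1) v := by
  have c := h.toDc.cl h.rp
  have e : ∀ k, ρ (a k) - 1 = nn (fun k => ρ (i k)) (fun k => ρ (j k)) k := fun k =>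
    LinearMap.ext fun v => by rw [LinearMap.sub_apply, h.toDc.ρ_a h.rp]; simp
  obtain ⟨v, hv⟩ := c.cube
  have hk : ∀ k x y, β (nn (fun k => ρ (i k)) (fun k => ρ (j k)) k x) y =
      -β x (nn (fun k => ρ (i k)) (fun k => ρ (j k)) k y) := fun k x y => by
    have e1 := hβ (a k) x y
    have e2 := hβ (a k) x (nn (fun k => ρ (i k)) (fun k => ρ (j k)) k y)
    simp only [h.toDc.ρ_a h.rp, c.nn_nn, map_add, LinearMap.add_apply, add_zero] at e1 e2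
    linear_combination e1 - e2
  rw [e, e, e]
  exact ⟨v, c.cn (by decide), c.cn (by decide), c.cn (by decide), c.nn_nn 0, c.nn_nn 1, c.nn_nn 2, hk 0, hk 1, hk 2, hv⟩

theorem t1 (e : T1 a x) : ∃ g B C v, Cube β (ρ (g * x * g⁻¹) - 1) B C v := by
  obtain ⟨v, c⟩ := h.cube hβ
  obtain ⟨g, k, e⟩ := e
  obtain ⟨B, C, c⟩ : ∃ B C, Cube β (ρ (a k) - 1) B C v := by
    fin_cases k
    exacts [⟨_, _, c⟩, ⟨_, _, c.swap₁⟩, ⟨_, _, c.swap₂.swap₁⟩]
  rcases e with e | e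
  · exact ⟨g, B, C, v, e ▸ c⟩
  · refine ⟨g, _, _, v, (show (-1 : ZMod 3) • (ρ (a k) - 1) = ρ (g * x * g⁻¹) - 1 from LinearMap.ext fun w => ?_) ▸
      c.smul (a := -1) (b := 1) (c := 1) (by decide) (by decide) (by decide)⟩
    have := congrArg (ρ (a k)⁻¹) (c.aa w)
    simp only [LinearMap.sub_apply, map_sub, Module.End.one_apply, ρ_inv, map_zero] at this
    rw [e]
    simp only [LinearMap.smul_apply, LinearMap.sub_apply, Module.End.one_apply]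
    linear_combination (norm := module) -this

theorem t3 (sw : ∀ x y, β x y = -β y x) (nd : ∀ x, (∀ y, β x y = 0) → x = 0) (e : T3 a x) {s : X}
    (hs : s * x * s⁻¹ = x⁻¹) : False := by
  obtain ⟨v, c⟩ := h.cube hβ
  obtain ⟨g, k, l, m, hk, hl, hm, e⟩ := e
  obtain ⟨p, hp, e0⟩ := Cube.pw c.aa k
  obtain ⟨q, hq, e1⟩ := Cube.pw c.bb l
  obtain ⟨r, hr, e2⟩ := Cube.pw c.cc m
  replace e0 := e0.resolve_left fun e => hk e.1
  replace e1 := e1.resolve_left fun e => hl e.1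
  replace e2 := e2.resolve_left fun e => hm e.1
  rw [add_sub_cancel] at e0 e1 e2
  refine nr (N := ρ (g * x * g⁻¹) - 1) (g := ρ (g * s * g⁻¹)) (c.smul hp hq hr) sw nd (fun w => ?_) (hβ _) fun w => ?_
  · rw [e, map_mul, map_mul, map_pow, map_pow, map_pow, e0, e1, e2]
    generalize p • (ρ (a 0) - 1) = A
    generalize q • (ρ (a 1) - 1) = B
    generalize r • (ρ (a 2) - 1) = C
    simp; abel
  · simp only [LinearMap.sub_apply, Module.End.one_apply, add_sub_cancel, ← ρ_mul]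
    congr 2
    calc _ = g * (x * (s * x * s⁻¹) * s) * g⁻¹ := by group
      _ = _ := by rw [hs]; group

end Dd

/-- the quadratic elements -/
def TG (φ : centralizer ({z} : Set G) →* X) (a : Fin 3 → X) (w : G) : Prop :=
  ∃ m : centralizer ({z} : Set G), m = w ∧ T1 a (φ m)

theorem mc {m : G} : m ∈ centralizer ({z} : Set G) ↔ Commute m z := mem_centralizer_singleton_iff

variable (S : St z Q φ D ρ) (h : Tp R t a i j d ρ)
include S

theorem card_im {U : Subgroup G} (hU : ∀ u ∈ U, Commute u z) :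
    Nat.card U = Nat.card ((U.subgroupOf _).map φ) * Nat.card ↥(U ⊓ Q) := by
  have hU' : U ≤ centralizer {z} := fun u hu => mc.2 (hU u hu)
  rw [← Nat.card_congr (subgroupOfEquivOfLe hU').toEquiv, H41.Rec.card_eq_map_mul φ,
    ← Nat.card_congr (subgroupOfEquivOfLe (inf_le_left.trans hU' : U ⊓ Q ≤ _)).toEquiv]
  exact congrArg (fun A : Subgroup _ => _ * Nat.card A) (Subgroup.ext fun m => by
    rw [mem_inf, MonoidHom.mem_ker, S.ker, and_comm]; rfl)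

omit S in
theorem exp_im {U : Subgroup G} (h3 : ∀ u ∈ U, u ^ 3 = 1) : ∀ x ∈ (U.subgroupOf _).map φ, x ^ 3 = 1 := by
  rintro _ ⟨x, hx, rfl⟩
  rw [← map_pow, show x ^ 3 = 1 from Subtype.ext (h3 x hx), map_one]

include h

theorem l2' {U : Subgroup G} (hU : ∀ u ∈ U, Commute u z) (h3 : ∀ u ∈ U, u ^ 3 = 1)
    (hc : ∀ u ∈ U, ∀ v ∈ U, u * v * u⁻¹ * v⁻¹ ∈ Q) (h27 : 27 * Nat.card ↥(U ⊓ Q) ≤ Nat.card U) :
    (∃ u ∈ U, TG φ a u) ∧ ∃ g, ∀ b ∈ Q, (∀ u ∈ U, Commute u b) → ∀ k, (ρ (a k) - 1) (ρ g (D.p b)) = 0 := by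
  rw [card_im S hU] at h27
  obtain ⟨g, hg⟩ := h.l2 _ (exp_im h3) (by
    rintro _ ⟨x, hx, rfl⟩ _ ⟨y, hy, rfl⟩
    have := (S.ker (x * y * x⁻¹ * y⁻¹)).2 (hc x hx y hy)
    rw [map_mul, map_mul, map_mul, map_inv, map_inv] at this
    exact (commutatorElement_eq_one_iff_commute.1 this).eq) (Nat.le_of_mul_le_mul_right h27 Nat.card_pos)
  refine ⟨?_, g, fun b hb c k => ?_⟩
  · obtain ⟨_, ⟨u, hu, rfl⟩, e⟩ := hg 0
    exact ⟨u, hu, u, rfl, g, 0, .inl e⟩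
  · obtain ⟨_, ⟨u, hu, rfl⟩, e⟩ := hg k
    rw [LinearMap.sub_apply, ← ρ_cj e, ← S.act u hb, (c u hu).eq, mul_inv_cancel_right]; simp

theorem lc : Lc z Q (TG φ a) := by
  refine ⟨S.x3, S.card, S.exp, fun m hm q hq => NC.cj_mem (S.nc ⟨m, mc.2 hm⟩) hq, fun U hU h3 => ?_,
    fun U hU h3 hc h27 => ⟨(l2' S h hU h3 hc h27).1, fun B h1 h2 h4 => ?_⟩, fun s u v hs hu hv u3 v3 su sv uv => ?_, ?_⟩
  · rw [card_im S hU]
    exact Nat.mul_le_mul_right _ (h.l1 _ (exp_im h3))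
  · obtain ⟨g, hg⟩ := (l2' S h hU h3 hc h27).2
    obtain ⟨v, c⟩ := h.toDd.cube S.β
    choose f hf using fun b : B => c.line (hg b (h1 b.2) (h4 b b.2) 0) (hg b (h1 b.2) (h4 b b.2) 1)
      (hg b (h1 b.2) (h4 b b.2) 2)
    refine (Nat.card_le_card_of_injective f fun b b' e => Subtype.ext (mul_inv_eq_one.1 (h2 _
      (mul_mem b.2 (inv_mem b'.2)) ((D.p_eq_iff (h1 b.2) (h1 b'.2)).1 ?_)))).trans (by simp)
    rw [← ρ_inv ρ g (D.p b), hf, e, ← hf, ρ_inv]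
  · have fin : ∀ w : centralizer ({z} : Set G), s * w * s⁻¹ = (w : G)⁻¹ → (φ w = 1 ∨ T1 a (φ w) ∨ T3 a (φ w)) →
        (w : G) ∈ Q ∨ TG φ a w := fun w e k => k.imp (S.ker w).1 fun k => ⟨w, rfl, k.resolve_right fun k =>
      h.toDd.t3 S.β (D.β_swap S.x3) (fun _ => D.β_nd S.x3) k (s := φ ⟨s, mc.2 hs⟩) (by
        rw [← map_inv, ← map_inv, ← map_mul, ← map_mul]; exact congrArg φ (Subtype.ext e))⟩
    obtain ⟨w, m, e⟩ := h.l4 (φ ⟨u, mc.2 hu⟩) (φ ⟨v, mc.2 hv⟩) (by rw [← map_pow, ← φ.map_one]; congr 1; exact Subtype.ext u3)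
      (by rw [← map_pow, ← φ.map_one]; congr 1; exact Subtype.ext v3) (Commute.map (Subtype.ext uv.eq) φ)
    simp only [List.mem_cons, List.not_mem_nil, or_false, ← map_inv, ← map_mul] at m
    rcases m with rfl | rfl | rfl | rfl
    · exact ⟨u, by simp, fin _ su e⟩
    · exact ⟨v, by simp, fin _ sv e⟩
    · exact ⟨u * v, by simp, fin _ (by
        change s * (u * v) * s⁻¹ = (u * v)⁻¹
        rw [← conj_mul, su, sv, uv.eq, mul_inv_rev]) e⟩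
    · exact ⟨u * v⁻¹, by simp, fin _ (by
        change s * (u * v⁻¹) * s⁻¹ = (u * v⁻¹)⁻¹
        rw [← conj_mul, ← conj_inv, su, sv, uv.inv_right.eq, mul_inv_rev]) e⟩
  · rintro _ ⟨m, rfl, e⟩ q hq
    exact ⟨m * ⟨q, mc.2 (S.x3.cen q hq)⟩, rfl, by rwa [map_mul, (S.ker ⟨q, _⟩).2 hq, mul_one]⟩

/-- `⟨z⟩` is not weakly closed in `Q` -/
theorem inQ (zy : ZT z y) (hy : Commute y z) (hn : y ∉ zpowers z) : ∃ u ∈ Q, ZT z u ∧ u ∉ zpowers z := by
  by_contra hc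
  push Not at hc
  obtain ⟨v, hv⟩ := h.toDd.cube S.β
  obtain ⟨t₀, e1, e2⟩ := S.lift2 h.xs.zz
  have key : ∀ u : centralizer ({z} : Set G), (u : G) ∉ Q → ZT z u → Good D.β (ρ (φ u) - 1) →
      (81 ≤ Nat.card ↥(LinearMap.ker (ρ (φ u) - 1) ⊓ range (ρ (φ u) - 1)) ∨
        ∀ u, TG φ a u → ¬ ZT z u) → False := fun u uQ zu hg hw => by
    obtain ⟨P, T, hS, noz, w1⟩ := star (lc S h) zu
    rw [S.eq] at hg hw
    by_cases hB : ∀ k ∈ Q, (D.ρ ⟨u, S.nc u⟩ - 1) (D.p k) = 0 → Commute k u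
    · refine caseB D S.x3 S.exp (S.nc u) uQ zu hS (noz hc) (S.nc t₀) (congrArg Subtype.val e2)
        (fun q hq => by rw [S.act t₀ hq, e1, h.toDc.ρ_t h.rp]) ((S.ker (t₀ * u * t₀⁻¹ * u⁻¹)).1 ?_) hg (hw.imp id w1) hB
      rw [map_mul, map_mul, map_mul, map_inv, map_inv, e1, ← (h.toDc.cen _).eq]; group
    · push Not at hB
      obtain ⟨k, q0, n0, c0⟩ := hB
      exact caseA D S.x3 S.exp (S.nc u) uQ zu hS (noz hc) (hw.imp id fun hw => ⟨hg, w1 hw⟩) q0 n0 c0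
  have cj : ∀ m u : centralizer ({z} : Set G), φ (m * u * m⁻¹) = φ m * φ u * (φ m)⁻¹ := fun m u => by simp
  have W1 : ∀ u, TG φ a u → ¬ ZT z u := by
    rintro _ ⟨u, rfl, e⟩ zu
    obtain ⟨g, B, C, w, c⟩ := h.toDd.t1 S.β e
    obtain ⟨g, rfl⟩ := S.surj g
    rw [← cj] at c
    refine key (g * u * g⁻¹) (fun uQ => c.ne ?_) (zt_cj zu g) c.good₁ (.inl c.big₁)
    rw [(S.ker _).2 uQ, map_one]; simp
  obtain ⟨P, T, hS, -⟩ := star (lc S h) zy
  obtain ⟨m, i, j, k, e⟩ := h.l3 (φ ⟨y, mc.2 hy⟩) (by rw [← map_pow, ← φ.map_one]; congr 1; exact Subtype.ext hS.x3.z3)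
  obtain ⟨m, rfl⟩ := S.surj m
  rw [← cj] at e
  have uQ : (m : G) * y * (m : G)⁻¹ ∉ Q := fun uQ => hn (hc y (by
    simpa [mul_assoc] using NC.cj_mem (S.nc m⁻¹) uQ) zy)
  refine key (m * ⟨y, mc.2 hy⟩ * m⁻¹) uQ (zt_cj zy m) (hv.good i j k ?_ (by rw [e]; simp)
    (S.eq _ ▸ perp1 D S.x3 _)) (Or.inr W1)
  rintro ⟨rfl, rfl, rfl⟩
  exact uQ ((S.ker (m * ⟨y, mc.2 hy⟩ * m⁻¹)).1 (by simpa using e))

omit h in
/-- a conjugate of `z` in `Q` centralized by `e` -/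
theorem comm_d {e : centralizer ({z} : Set G)} (h : Tp R t a i j (φ e) ρ) (ee : e * e = 1) (zy : ZT z y) (hy : y ∈ Q)
    (hn : y ∉ zpowers z) : ∃ u ∈ Q, ZT z u ∧ u ∉ zpowers z ∧ Commute (e : G) u := by
  obtain ⟨v, hv⟩ := h.toDd.cube S.β
  obtain ⟨P, T, hS, -⟩ := star (lc S h) zy
  have zP := z_mem S.x3 S.card S.exp hy hn hS
  have nz := fun c => not_zp hS.x3.ord hn (c := c)
  have e1 := hS.x3.card_cent_elt zP fun e => S.x3.ne_one (nz z (mem_zpowers z) e)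
  have e2 := S.x3.card_cent_mul (A := (P ⊓ centralizer {z}) ⊓ Q) inf_le_right
    ⟨⟨zP, mc.2 (Commute.refl z)⟩, S.x3.mem⟩
  have e3 : (P ⊓ centralizer {z}) ⊓ Q ≤
      Q ⊓ centralizer (((P ⊓ centralizer {z}) ⊓ Q : Subgroup G) : Set G) := fun u hu =>
    ⟨hu.2, fun x hx => (commutatorElement_eq_one_iff_commute.1
      (nz _ (S.x3.comm x hx.2 u hu.2) (hS.x3.comm x hx.1.1 u hu.1.1))).eq⟩
  have e4 := card_le_of_le e3
  rw [hS.card] at e1
  rw [S.card] at e2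
  obtain ⟨m, hb⟩ := (l2' S h (U := P ⊓ centralizer {z}) (fun u hu => mc.1 hu.2) (fun u hu => hS.exp u hu.1)
    (fun u hu w hw => zpowers_le.2 hy (hS.x3.comm u hu.1 w hw.1)) (by
      have : Nat.card ↥((P ⊓ centralizer {z}) ⊓ Q) ≤ 243 := by nlinarith
      omega)).2
  obtain ⟨m, rfl⟩ := S.surj m
  have k0 := hb y hy fun u hu => hS.x3.cen u hu.1
  rw [← S.act m hy] at k0
  have hm' := S.nc m
  have uQ := NC.cj_mem hm' hy
  have un : (m : G) * y * (m : G)⁻¹ ∉ zpowers z := fun e => hn (by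
    have := NC.cj_zp (inv_mem hm') e
    rw [show (m : G)⁻¹ * (m * y * (m : G)⁻¹) * (m : G)⁻¹⁻¹ = y by group] at this
    rwa [← this] at e)
  obtain ⟨c, ec⟩ := hv.line (k0 0) (k0 1) (k0 2)
  have dd : ∀ x, ρ (φ e) (ρ (φ e) x) = x := fun x => by rw [← ρ_mul, h.toDd.dd, map_one]; rfl
  have dij : ∀ k l, φ e * a k * (φ e)⁻¹ = a l → ∀ x, ρ (φ e) ((ρ (a k) - 1) x) = (ρ (a l) - 1) (ρ (φ e) x) :=
    fun k l e x => by simp [ρ_cj e]
  have da := dij 0 1 h.sa0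
  have db := dij 1 0 (h.toDc.back h.sa0)
  have dc := dij 2 2 (mul_inv_eq_iff_eq_mul.2 h.sa2)
  obtain ⟨c', ec'⟩ := hv.line (x := ρ (φ e) ((ρ (a 0) - 1) ((ρ (a 1) - 1) ((ρ (a 2) - 1) v))))
    (by rw [← db, hv.ab, hv.bb, map_zero, map_zero])
    (by rw [← da, hv.aa, map_zero]) (by rw [← dc, hv.ac, hv.bc, hv.cc, map_zero, map_zero, map_zero])
  have c1 := hv.fix dd da dc (by
    rw [show LinearMap.ker (ρ (φ e) + 1) = Ev ρ (φ e) (-1) from Submodule.ext fun w => by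
        rw [mem_Ev, neg_one_smul, ← add_eq_zero_iff_eq_neg]; rfl,
      h.toDd.Ev_neg, h.toDc.card_W h.rp]; norm_num) ec'
  refine ⟨_, uQ, zt_cj zy m, un, commute_of_coprime S.x3.ord (mc.1 e.2) (cop2 (congrArg Subtype.val ee))
    ((S.fix_iff uQ).1 ?_)⟩
  rw [ec, map_smul, ec', c1, one_smul]

omit h in
theorem fus {e : centralizer ({z} : Set G)} (h : Tp R t a i j (φ e) ρ) (ee : e * e = 1)
    (nwc : ∃ y, ZT z y ∧ Commute y z ∧ y ∉ zpowers z) :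
    ∃ k, Commute k (e : G) ∧ Commute (k * z * k⁻¹) z ∧ k * z * k⁻¹ ∉ zpowers z := by
  obtain ⟨y, zy, hy, hn⟩ := nwc
  obtain ⟨y, hy, zy, hn⟩ := inQ S h zy hy hn
  obtain ⟨y, hy, zy, hn, dy⟩ := comm_d S h ee zy hy hn
  obtain ⟨P, T, hS, -⟩ := star (lc S h) zy
  have zP := z_mem S.x3 S.card S.exp hy hn hS
  obtain ⟨q, hq, e'⟩ := hS.x3.exists_cj_eq zP (fun e => S.x3.ne_one
    (not_zp hS.x3.ord hn (mem_zpowers z) e)) (mem_zpowers y)
  have dd : (e : G) * e = 1 := congrArg Subtype.val ee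
  have dz : Commute (e : G) z := mc.1 e.2
  generalize (e : G) = d at *
  have hq' := hS.norm d dy q hq
  have d1 : d⁻¹ = d := inv_eq_of_mul_eq_one_right dd
  have e1 : q * (d * q * d⁻¹) * z * (q * (d * q * d⁻¹))⁻¹ = z * y * y := by
    have e2 : d⁻¹ * z * d = z := by rw [mul_assoc, ← dz.eq]; group
    have e3 : d * (z * y) * d⁻¹ = z * y := by rw [(dz.mul_right dy).eq]; group
    have e4 : q * y * q⁻¹ = y := by rw [(hS.x3.cen q hq).eq]; group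
    calc _ = q * (d * (q * (d⁻¹ * z * d) * q⁻¹) * d⁻¹) * q⁻¹ := by group
      _ = q * (z * y) * q⁻¹ := by rw [e2, e', e3]
      _ = (q * z * q⁻¹) * (q * y * q⁻¹) := by group
      _ = _ := by rw [e', e4]
  refine ⟨q * (d * q * d⁻¹), (commute_of_coprime hS.x3.ord dy (cop2 dd) ?_).symm, ?_, ?_⟩
  · convert hS.x3.comm _ hq' _ hq using 1
    calc _ = d * q * (d * q * d⁻¹ * d⁻¹ * d * q⁻¹ * d⁻¹) * q⁻¹ := by group
      _ = d * q * (d⁻¹ * q * d * d⁻¹ * d * q⁻¹ * d⁻¹) * q⁻¹ := by simp only [d1]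
      _ = _ := by group
  · rw [e1]
    exact ((Commute.refl z).mul_left (S.x3.cen y hy)).mul_left (S.x3.cen y hy)
  · rw [e1]
    intro hm
    have h1 : y * y ∈ zpowers z := by
      simpa [mul_assoc] using mul_mem (inv_mem (mem_zpowers z)) hm
    refine hn ?_
    have : y = y * y * (y * y) := by
      rw [← mul_assoc, ← pow_three', hS.x3.z3, one_mul]
    rw [this]; exact mul_mem h1 h1

end Cfsg.Agent.H48.B3
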