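import Cfsg.Agent.H48.B3D
import Cfsg.Agent.S0089

/-! The Baby Monster from a `3`-centralizer, part E: the centralizer of `d` in `C(z) / Q`. -/

set_option autoImplicit false
set_option linter.style.haveILetI false
set_option linter.unusedSimpArgs false
set_option linter.unusedSectionVars false

universe u

namespace Cfsg.Agent.H48.B3

open Subgroup H95.L3 H40.F23 H60.F23 H23 H99.F22 H41 H41.Rec
open scoped commutatorElement

/-- `SL₂(3)` -/
abbrev SL3 : Type := Matrix.SpecialLinearGroup (Fin 2) (ZMod 3)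

theorem sl3_four : (∀ g h : SL3, g ^ 4 = 1 → h ^ 4 = 1 → (g * h) ^ 4 = 1) ∧
    (∀ g h : SL3, h ^ 4 = 1 → (g * h * g⁻¹) ^ 4 = 1) ∧ Fintype.card {g : SL3 // g ^ 4 = 1} = 8 := by
  decide +kernel

/-- the Sylow `2`-subgroup of `SL₂(3)³` -/
def Q3 : Subgroup (Fin 3 → SL3) where
  carrier := {g | g ^ 4 = 1}
  one_mem' := one_pow 4
  mul_mem' := fun h k => funext fun n => sl3_four.1 _ _ (congrFun h n) (congrFun k n)
  inv_mem' := fun h => (inv_pow _ 4).trans (inv_eq_one.2 h)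

instance : Q3.Normal := ⟨fun _ h g => funext fun n => sl3_four.2.1 (g n) _ (congrFun h n)⟩

theorem card_Q3 : Nat.card Q3 = 512 := by
  rw [Nat.card_congr (show Q3 ≃ (Fin 3 → {g : SL3 // g ^ 4 = 1}) from
    ⟨fun g n => ⟨g.1 n, congrFun g.2 n⟩, fun g => ⟨fun n => g n, funext fun n => (g n).2⟩, fun _ => rfl, fun _ => rfl⟩),
    Nat.card_fun, Nat.card_eq_fintype_card, sl3_four.2.2]
  simp

theorem index_Q3 : Q3.index = 27 := by
  have := Q3.card_mul_index
  rw [card_Q3, Nat.card_fun, H91.Pr.card_sl23, Nat.card_eq_fintype_card, Fintype.card_fin] at this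
  omega

section

variable {V : Type} [AddCommGroup V] [Module (ZMod 3) V]
  {X : Type u} [Group X] [Finite X] {R : Subgroup X} {t d : X} {a i j : Fin 3 → X}
  {ρ : X →* Module.End (ZMod 3) V} {β : V →ₗ[ZMod 3] V →ₗ[ZMod 3] ZMod 3}

theorem exists_sl (hβ : ∀ x v w, β (ρ x v) (ρ x w) = β v w) (al : ∀ v, β v v = 0) (sw : ∀ v w, β v w = -β w v)
    {U : Submodule (ZMod 3) V} (c : Nat.card U = 9) (nd : ∀ v ∈ U, (∀ w ∈ U, β v w = 0) → v = 0) {K : Subgroup X}
    (hK : ∀ x ∈ K, ∀ v ∈ U, ρ x v ∈ U) : ∃ μ : K →* SL3, ∀ x, μ x = 1 ↔ ∀ v ∈ U, ρ x v = v := by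
  haveI : Fact (Nat.Prime 3) := ⟨by norm_num⟩
  haveI : Finite U := Nat.finite_of_card_ne_zero (by omega)
  have h2 : Module.finrank (ZMod 3) U = 2 := Nat.pow_right_injective (a := 3) (by norm_num) (by
    have := Module.natCard_eq_pow_finrank (K := ZMod 3) (V := U)
    rw [c, Nat.card_zmod] at this
    exact this.symm)
  let b := Module.finBasisOfFinrankEq (ZMod 3) U h2
  have sp : ∀ v : U, (v : V) = b.repr v 0 • (b 0 : V) + b.repr v 1 • (b 1 : V) := fun v => by
    have := congrArg Subtype.val (b.sum_repr v)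
    rw [Fin.sum_univ_two] at this
    exact this.symm
  have n : β (b 0) (b 1) ≠ 0 := fun e => b.ne_zero 0 (Subtype.ext (nd _ (b 0).2 fun w hw => by
    rw [show w = _ from sp ⟨w, hw⟩]; simp [al, e]))
  let r : K → U →ₗ[ZMod 3] U := fun x => (ρ x).restrict (hK x x.2)
  refine ⟨MonoidHom.mk' (fun x => ⟨LinearMap.toMatrix b b (r x), mul_right_cancel₀ n ?_⟩) fun x y => Subtype.ext ?_,
    fun x => ?_⟩
  · have := hβ x (b 0) (b 1)
    rw [show ρ x (b 0) = _ from sp (r x (b 0)), show ρ x (b 1) = _ from sp (r x (b 1))] at this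
    simp only [map_add, map_smul, LinearMap.add_apply, LinearMap.smul_apply, al, sw (b 1) (b 0), smul_eq_mul] at this
    simp only [Matrix.det_fin_two, LinearMap.toMatrix_apply]
    linear_combination this
  · exact (congrArg _ (show r (x * y) = r x * r y from LinearMap.ext fun v => Subtype.ext (ρ_mul ρ x y v))).trans
      (LinearMap.toMatrix_mul b (r x) (r y))
  · refine Subtype.ext_iff.trans ?_
    change LinearMap.toMatrix b b (r x) = 1 ↔ _
    rw [← LinearMap.toMatrix_one b, (LinearMap.toMatrix b b).injective.eq_iff]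
    exact ⟨fun e v hv => congrArg Subtype.val (LinearMap.congr_fun e ⟨v, hv⟩),
      fun e => LinearMap.ext fun v => Subtype.ext (e v v.2)⟩

namespace Dd

variable (h : Dd R t a i j d ρ)
include h

theorem dn_sq (n : Fin 4) : dn i j d n * dn i j d n = 1 :=
  h.eq ((h.pat_dn n).mul (h.pat_dn n)) pat_one (by revert n; decide)

theorem dn_cj {c : X} (e : Commute c d) (n : Fin 4) : ∃ m, c * dn i j d n * c⁻¹ = dn i j d m := by
  obtain ⟨m, e'⟩ := h.cls (x := c * (gn i j n)⁻¹) (by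
    have := h.normal.conj_mem _ (mul_mem (inv_mem (h.gn_R n)) (h.normal.conj_mem _ (h.gn_R n) d)) c
    convert this using 1
    calc _ = c * ((gn i j n)⁻¹ * (d * gn i j n * d⁻¹)) * (d * c⁻¹ * d⁻¹) := by group
      _ = _ := by rw [← e.inv_left.eq, mul_inv_cancel_right])
  exact ⟨m, by rw [← e', dn]; group⟩

theorem W_nd (hβ : ∀ x v w, β (ρ x v) (ρ x w) = β v w) (nd : ∀ v, (∀ w, β v w = 0) → v = 0) (n : Fin 4) :
    ∀ v ∈ W ρ i j n, (∀ w ∈ W ρ i j n, β v w = 0) → v = 0 := fun v hv k =>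
  nd v (h.toDc.ind4 (ρ := ρ) (p := fun w => β v w = 0) (fun m w hw => by
    by_cases e : n = m
    · exact k w (e ▸ hw)
    · exact W_orth hβ e hv hw) fun w w' e e' => by rw [map_add, e, e', add_zero])

end Dd

theorem Tp.exists_P (h : Tp R t a i j d ρ) (hβ : ∀ x v w, β (ρ x v) (ρ x w) = β v w) (al : ∀ v, β v v = 0)
    (sw : ∀ v w, β v w = -β w v) (nd : ∀ v, (∀ w, β v w = 0) → v = 0) :
    ∃ P : Subgroup X, P ≤ centralizer {d} ∧ (∀ c, Commute c d → ∀ x ∈ P, c * x * c⁻¹ ∈ P) ∧ Nat.card P = 1024 ∧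
      (∀ x ∈ P, Mv ρ i j x id) ∧ ∀ n, dn i j d n ∈ P := by
  have D := h.toDd
  have d0 : dn i j d 0 = d := by simp [dn, gn]
  let K := centralizer (Set.range (dn i j d))
  have mK : ∀ {x}, x ∈ K ↔ ∀ n, Commute x (dn i j d n) := fun {x} =>
    ⟨fun e n => (e _ ⟨n, rfl⟩).symm, fun e => by rintro _ ⟨n, rfl⟩; exact (e n).symm⟩
  have Kd : ∀ x ∈ K, Commute x d := fun x hx => d0 ▸ mK.1 hx 0
  have mv : ∀ x ∈ K, Mv ρ i j x id := fun x hx => by
    have e1 : i 0 * i 1 = dn i j d 1 * d * t := D.eq pat_f (((D.pat_dn 1).mul D.pd).mul (D.toDc.pat_t D.rp)) (by decide)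
    have e2 : j 0 * j 1 = dn i j d 2 * d * t := D.eq pat_g (((D.pat_dn 2).mul D.pd).mul (D.toDc.pat_t D.rp)) (by decide)
    exact mv_id (e1 ▸ ((mK.1 hx 1).mul_right (Kd x hx)).mul_right (D.toDc.cen x))
      (e2 ▸ ((mK.1 hx 2).mul_right (Kd x hx)).mul_right (D.toDc.cen x))
  have dK : ∀ n, dn i j d n ∈ K := fun n => mK.2 fun m =>
    D.eq ((D.pat_dn n).mul (D.pat_dn m)) ((D.pat_dn m).mul (D.pat_dn n)) (mul_comm _ _)
  have nK : ∀ c, Commute c d → ∀ x ∈ K, c * x * c⁻¹ ∈ K := fun c e x hx => mK.2 fun n => by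
    obtain ⟨m, e⟩ := D.dn_cj e.inv_left n
    have := (mK.1 hx m).map (MulAut.conj c)
    rw [← e] at this
    simpa [mul_assoc] using this
  choose μ hμ using fun n : Fin 3 => exists_sl hβ al sw (D.toDc.card_W D.rp n.succ) (D.W_nd hβ nd n.succ)
    (K := K) fun x hx => mv x hx n.succ
  have k : ∀ x : K, MonoidHom.pi μ x = 1 ↔ x.1 = 1 ∨ x.1 = d := fun x => by
    refine ⟨fun e => D.self fun v hv => ?_, fun e => funext fun n => (hμ n x).2 fun v hv => ?_⟩
    · rw [D.Ev_one] at hv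
      obtain ⟨v1, h1, w, hw, rfl⟩ := Submodule.mem_sup.1 hv
      obtain ⟨v2, h2, v3, h3, rfl⟩ := Submodule.mem_sup.1 hw
      rw [map_add, map_add, (hμ 0 x).1 (congrFun e 0) v1 h1, (hμ 1 x).1 (congrFun e 1) v2 h2,
        (hμ 2 x).1 (congrFun e 2) v3 h3]
    · rcases e with e | e <;> rw [e]
      · rw [map_one]; rfl
      · exact (mem_Ev.1 (D.W_le n.succ_ne_zero hv)).trans (one_smul _ _)
  have mP : ∀ x : K, x ∈ Q3.comap (MonoidHom.pi μ) ↔ x.1 ^ 4 = 1 ∨ x.1 ^ 4 = d := fun x =>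
    (show _ ↔ MonoidHom.pi μ (x ^ 4) = 1 by rw [map_pow]; rfl).trans (k _)
  refine ⟨(Q3.comap (MonoidHom.pi μ)).map K.subtype, ?_, ?_, ?_, ?_, fun n => ⟨⟨_, dK n⟩, (mP _).2 (.inl ?_), rfl⟩⟩
  · rintro _ ⟨x, -, rfl⟩
    exact mem_centralizer_singleton_iff.2 (Kd x x.2)
  · rintro c e _ ⟨x, hx, rfl⟩
    refine ⟨⟨_, nK c e x x.2⟩, (mP _).2 (((mP x).1 hx).imp (fun e' => ?_) fun e' => ?_), rfl⟩
    · simp [conj_pow, e']
    · rw [conj_pow, e', e.eq, mul_inv_cancel_right]
  · rw [card_map_of_injective K.subtype_injective]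
    have c1 := card_eq_map_mul (MonoidHom.pi μ) (Q3.comap (MonoidHom.pi μ))
    have c2 := card_le_of_le (map_comap_le (MonoidHom.pi μ) Q3)
    have c3 : Nat.card ↥((MonoidHom.pi μ).ker ⊓ Q3.comap (MonoidHom.pi μ)) ≤ Nat.card (zpowers d) :=
      Nat.card_le_card_of_injective (fun x => ⟨x.1.1, (H49.mem_zpowers_invol D.dd).2 ((k _).1 x.2.1)⟩)
        fun x y e => Subtype.ext (Subtype.ext (Subtype.mk.inj e))
    rw [H49.card_zpowers_invol (fun e => h.s_notMem (by rw [e]; exact one_mem R)) D.dd] at c3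
    have c4 := (Q3.comap (MonoidHom.pi μ)).card_mul_index
    have c5 : (Q3.comap (MonoidHom.pi μ)).index ∣ 27 := by
      rw [index_comap, ← index_Q3]; exact relIndex_dvd_index_of_normal _ _
    have c6 := H8.card_eq_card_mul_relIndex (H := K) (K := centralizer {d}) fun x hx =>
      mem_centralizer_singleton_iff.2 (Kd x hx)
    choose σ hσ using fun c : centralizer ({d} : Set X) => D.dn_cj (mem_centralizer_singleton_iff.1 c.2)
    let σ' : centralizer ({d} : Set X) →* Function.End (Fin 4) :=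
      ⟨⟨σ, funext fun n => D.dn_inj (by rw [← hσ]; simp; rfl)⟩, fun x y => funext fun n => D.dn_inj (by
        change dn i j d (σ (x * y) n) = dn i j d (σ x (σ y n))
        rw [← hσ, ← hσ, ← hσ, coe_mul]; group)⟩
    have c7 : K.relIndex (centralizer {d}) ∣ 6 := by
      rw [relIndex, show K.subgroupOf (centralizer {d}) = σ'.toHomPerm.ker from Subgroup.ext fun x =>
        ⟨fun e => Equiv.ext fun n => D.dn_inj ((hσ x n).symm.trans (mul_inv_eq_iff_eq_mul.2 (mK.1 e n))),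
          fun e => mK.2 fun n => mul_inv_eq_iff_eq_mul.1 ((hσ x n).trans (congrArg _ (Equiv.congr_fun e n)))⟩,
        index_ker, ← show Nat.card (MulAction.stabilizer (Equiv.Perm (Fin 4)) (0 : Fin 4)) = 6 by
          rw [Nat.card_eq_fintype_card]; decide +kernel]
      refine card_dvd_of_le ?_
      rintro _ ⟨x, rfl⟩
      exact D.dn_inj ((hσ x 0).symm.trans (by rw [d0, mem_centralizer_singleton_iff.1 x.2, mul_inv_cancel_right]))
    have c8 := h.big
    rw [c6, ← c4, mul_assoc] at c8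
    have c9 := c8.trans (Nat.mul_dvd_mul_left _ (Nat.mul_dvd_mul c5 c7))
    have c10 : 0 < Nat.card (Q3.comap (MonoidHom.pi μ)) := Nat.card_pos
    rw [card_Q3] at c2
    have := Nat.mul_le_mul c2 c3
    omega
  · rintro _ ⟨x, -, rfl⟩
    exact mv x x.2
  · change dn i j d n ^ 4 = 1
    rw [show 4 = 2 * 2 from rfl, pow_mul, pow_two (dn i j d n), D.dn_sq, one_pow]

end

theorem perfect6 {Γ Δ : Type u} [Group Γ] [Finite Γ] [Group Δ] {f : Γ →* Δ} (hs : Function.Surjective f) {c : Γ}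
    (hc : ∀ g, g * c = c * g) (hk : ∀ x, f x = 1 ↔ x = 1 ∨ x = c) (hd : c ∈ commutator Γ) {N : Subgroup Δ} [N.Normal]
    (hN : N.index ∣ 6) (hp : ⁅N, N⁆ = N) : ⁅N.comap f, N.comap f⁆ = N.comap f := by
  have h1 : ∀ n ∈ N.comap f, n * c⁻¹ ∈ ⁅N.comap f, N.comap f⁆ ∨ n ∈ ⁅N.comap f, N.comap f⁆ := fun n hn => by
    obtain ⟨m, hm, e⟩ : f n ∈ ⁅N.comap f, N.comap f⁆.map f := by
      rwa [Subgroup.map_commutator, map_comap_eq_self_of_surjective hs, hp]
    rcases (hk (m⁻¹ * n)).1 (by rw [map_mul, map_inv, e, inv_mul_cancel]) with e | e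
    · exact .inr (inv_mul_eq_one.1 e ▸ hm)
    · exact .inl (by rwa [← e, mul_inv_rev, mul_inv_cancel_left, inv_inv])
  have le := commutator_le_self (N.comap f)
  have c1 : Nat.card (Γ ⧸ ⁅N.comap f, N.comap f⁆) ∣ 2 * 6 := by
    rw [← index_eq_card, ← relIndex_mul_index le, index_comap_of_surjective _ hs]
    exact Nat.mul_dvd_mul (relIndex_dvd_two_iff.2 ⟨c⁻¹, inv_mem (by
      rw [mem_comap, (hk c).2 (.inr rfl)]; exact one_mem _), h1⟩) hN
  have c2 := S0089.result (G := Γ ⧸ ⁅N.comap f, N.comap f⁆) fun p hp P => by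
    haveI := Fact.mk hp
    obtain ⟨k, e⟩ := IsPGroup.iff_card.1 P.isPGroup'
    have e1 := e ▸ (card_subgroup_dvd_card _).trans c1
    obtain rfl | rfl | rfl : k = 0 ∨ k = 1 ∨ k = 2 := by
      by_contra n
      have e2 := (pow_dvd_pow p (show 3 ≤ k by omega)).trans e1
      have := Nat.le_of_dvd (by norm_num) ((dvd_pow_self p three_ne_zero).trans e2)
      have := hp.two_le
      interval_cases p <;> omega
    · haveI := (Nat.card_eq_one_iff_unique.1 e).1
      exact ⟨⟨fun _ _ => Subsingleton.elim _ _⟩⟩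
    · exact (isCyclic_of_prime_card (e.trans (pow_one p))).isMulCommutative
    · exact IsPGroup.isMulCommutative_of_card_eq_prime_sq e
  have c3 : c ∈ ⁅N.comap f, N.comap f⁆ := (QuotientGroup.eq_one_iff c).1 (c2.le ⟨by
    have := mem_map_of_mem (QuotientGroup.mk' ⁅N.comap f, N.comap f⁆) hd
    rw [commutator_def, Subgroup.map_commutator] at this
    exact commutator_mono le_top le_top this,
    Subgroup.mem_center_iff.2 fun g => by
      obtain ⟨g, rfl⟩ := QuotientGroup.mk_surjective g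
      exact congrArg QuotientGroup.mk (hc g)⟩)
  exact le_antisymm le fun n hn => (h1 n hn).elim (mul_mem_cancel_right (inv_mem c3)).1 id

end Cfsg.Agent.H48.B3
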