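import Cfsg.Agent.H47.B6Main

/-! A standard subgroup of type `²E₆(2)` with centre of even order: the statements of the pieces. -/

set_option autoImplicit false

namespace Cfsg.Agent.H48.Be

open Cfsg Subgroup Cfsg.Agent.H48 Cfsg.Agent.H49 Cfsg.Agent.H97.Gr Cfsg.Agent.H97.Yt
  Cfsg.Agent.H47.Bu

universe u v

/-- an element of 2-power order -/
def E2 {G : Type*} [Group G] (c : G) : Prop := ∃ n : ℕ, c ^ 2 ^ n = 1

/-- The local data of the component `A`: `Z` is the Sylow 2-subgroup of its centre, `z` a long root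
involution and `Q` the largest normal 2-subgroup of the centralizer of `z` in `A`. -/
structure LD {G : Type*} [Group G] (A Z Q : Subgroup G) (z : G) : Prop where
  ZK : Z ≤ centralizer (A : Set G)
  Zsq : ∀ a ∈ Z, a * a = 1
  Zc : Nat.card Z = 2 ∨ Nat.card Z = 4
  ztwo : ∀ a ∈ A, a ∈ centralizer (A : Set G) → E2 a → a ∈ Z
  ZQ : Z ≤ Q
  zQ : z ∈ Q
  QA : Q ≤ A
  zz : z * z = 1
  zK : z ∉ centralizer (A : Set G)
  sq : ∀ a ∈ Q, a * a = 1 ∨ a * a = z
  cm : ∀ a ∈ Q, ∀ b ∈ Q, a * b = b * a ∨ a * b = b * a * z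
  cz : ∀ a ∈ Q, a * z = z * a
  cen : ∀ a ∈ Q, (∀ b ∈ Q, a * b = b * a) → a ∈ Z ∨ a * z ∈ Z
  big : 128 < Nat.card Q
  nor : ∀ c ∈ normalizer (A : Set G), c * z = z * c → ∀ q ∈ Q, c * q * c⁻¹ ∈ Q
  ne : ∀ c ∈ normalizer (A : Set G), c * z * c⁻¹ * z ∈ centralizer (A : Set G) → c * z = z * c
  syl : ∀ P ≤ normalizer (A : Set G), IsPGroup 2 P →
    ∃ c ∈ A, ∀ p ∈ P, p * (c * z * c⁻¹) = c * z * c⁻¹ * p
  rk1 : ∀ c ∈ normalizer (A : Set G), c * z = z * c → (∀ v ∈ Z, c * v = v * c) →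
    (∀ b ∈ Q, c * b * c⁻¹ * b⁻¹ ∈ Z ∨ c * b * c⁻¹ * b⁻¹ * z ∈ Z) →
      ∃ q ∈ Q, q⁻¹ * c ∈ centralizer (A : Set G)
  rk8 : ∀ c ∈ normalizer (A : Set G), c * z = z * c → E2 c → ∀ B ≤ Q,
    Nat.card Q ≤ 8 * Nat.card B → (∀ b ∈ B, c * b = b * c) →
      ∃ q ∈ Q, q⁻¹ * c ∈ centralizer (A : Set G)
  out : (A ⊔ centralizer (A : Set G)).relIndex (normalizer (A : Set G)) ∣ 6
  xp : ∃ X ≤ A ⊓ centralizer {z}, ⁅X, X⁆ = X ∧ ∀ a ∈ A, a * z = z * a → E2 a → a ∈ X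
  o2 : ∀ D ≤ (A ⊔ centralizer (A : Set G)) ⊓ centralizer {z}, IsPGroup 2 D →
    (∀ c ∈ A, c * z = z * c → ∀ d ∈ D, c * d * c⁻¹ ∈ D) → D ≤ Q ⊔ centralizer (A : Set G)
  inv : ∀ f ∈ A, f * f ∈ Z → f * f = 1 ∧ (f ∈ Z ∨ (∃ c ∈ A, c⁻¹ * f * c * z ∈ Z) ∨
    ∃ a ∈ A, ∃ b ∈ A, ∃ c ∈ A, a * z * a⁻¹ * (b * z * b⁻¹) = c * z * c⁻¹ ∧
      a⁻¹ * f * a ∈ Q ∧ b⁻¹ * f * b ∈ Q ∧ c⁻¹ * f * c ∈ Q)

/-- the centralizer of `A` is tightly embedded -/
def TE {G : Type*} [Group G] (A : Subgroup G) : Prop :=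
  ∀ g k, k ∈ centralizer (A : Set G) → k ≠ 1 → k * k = 1 →
    g * k * g⁻¹ ∈ centralizer (A : Set G) → g ∈ normalizer (A : Set G)

/-- the centralizer of `A` has twice odd order -/
def F1Stmt : Prop := ∀ (G : Type u) [Group G] [Finite G] (A Z Q : Subgroup G) (z : G),
  LD A Z Q z → TE A → (∃ g ∉ normalizer (A : Set G), ∃ k ∈ centralizer (A : Set G), k ≠ 1 ∧
    k * k = 1 ∧ g * k * g⁻¹ ∈ normalizer (A : Set G)) →
  ∃ t q, t ≠ 1 ∧ (∀ a, a ∈ Z ↔ a = 1 ∨ a = t) ∧ (∀ k ∈ centralizer (A : Set G), E2 k → k ∈ Z) ∧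
    q * t * q⁻¹ = t * z ∧ ∀ r ∈ centralizer (A : Set G),
      q⁻¹ * r * q ∈ centralizer (A : Set G) ∨ q⁻¹ * (r * z) * q ∈ centralizer (A : Set G)

/-- a statement on the standard pure four-group of a group with the local data of the Monster -/
def Mon (P : ∀ (A : Type) [Group A], Subgroup A → A → A → A → Prop) : Prop :=
  ∀ (A : Type) [Group A] [Finite A] (Q : Subgroup A) (z : A)
    (θ : centralizer ({z} : Set A) →* Spor.Co1) (R : Lam → A → Prop), MD Q z θ R →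
      ∀ s y : A, R vU s → R vX y → P A Q z s y

/-- Sylow subgroups, centres and cores -/
structure MF1 (A : Type) [Group A] (Q : Subgroup A) (z s y : A) : Prop where
  syl : ∀ P ≤ normalizer (closure ({s, y} : Set A) : Set A), IsPGroup 2 P →
    ∃ c ∈ centralizer ({s, y} : Set A), ∀ p ∈ P, p * (c * z * c⁻¹) = c * z * c⁻¹ * p
  card : Nat.card ↥(Q ⊓ centralizer ({s, y} : Set A)) = 2 ^ 23
  cen : ∀ a ∈ Q, (∀ b ∈ Q ⊓ centralizer ({s, y} : Set A), a * b = b * a) →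
    a ∈ closure ({s, y} : Set A) ∨ a * z ∈ closure ({s, y} : Set A)
  cent : ∀ n, (∀ l ∈ centralizer ({s, y} : Set A), n * l = l * n) → n ∈ closure ({s, y} : Set A)
  ne : ∀ n, ∀ v ∈ closure ({s, y} : Set A), n * z * n⁻¹ = z * v → v = 1
  o2 : ∀ D ≤ centralizer ({z} : Set A) ⊓ centralizer ({s, y} : Set A), IsPGroup 2 D →
    (∀ c ∈ centralizer ({z} : Set A) ⊓ centralizer ({s, y} : Set A), ∀ d ∈ D, c * d * c⁻¹ ∈ D) →
      D ≤ Q

/-- elements with few commutators -/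
structure MF2 (A : Type) [Group A] (Q : Subgroup A) (z s y : A) : Prop where
  rk1 : ∀ n ∈ normalizer (closure ({s, y} : Set A) : Set A), n * z = z * n → n * s = s * n →
    (∀ b ∈ Q ⊓ centralizer ({s, y} : Set A), n * b * n⁻¹ * b⁻¹ ∈ closure ({s, y} : Set A) ∨
      n * b * n⁻¹ * b⁻¹ * z ∈ closure ({s, y} : Set A)) → n ∈ Q
  rk16 : ∀ n ∈ normalizer (closure ({s, y} : Set A) : Set A), n * z = z * n → E2 n →
    ∀ B ≤ Q ⊓ centralizer ({s, y} : Set A), 2 ^ 19 ≤ Nat.card B → (∀ b ∈ B, n * b = b * n) → n ∈ Q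

/-- the involutions -/
def MF3 (A : Type) [Group A] (Q : Subgroup A) (z s y : A) : Prop :=
  ∀ f ∈ centralizer ({s, y} : Set A), f * f ∈ closure ({s, y} : Set A) → f * f = 1 ∧
    (f ∈ closure ({s, y} : Set A) ∨
      (∃ c ∈ centralizer ({s, y} : Set A), c⁻¹ * f * c * z ∈ closure ({s, y} : Set A)) ∨
      ∃ a ∈ centralizer ({s, y} : Set A), ∃ b ∈ centralizer ({s, y} : Set A),
        ∃ c ∈ centralizer ({s, y} : Set A), a * z * a⁻¹ * (b * z * b⁻¹) = c * z * c⁻¹ ∧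
          a⁻¹ * f * a ∈ Q ∧ b⁻¹ * f * b ∈ Q ∧ c⁻¹ * f * c ∈ Q)

/-- the normalizer of an image acts like the normalizer of the four-group -/
def ActStmt : Prop := Mon fun A _ _ _ s y => ∀ (G : Type u) [Group G] [Finite G]
  (α : centralizer ({s, y} : Set A) →* G), (∀ l, α l = 1 → l.1 = 1 ∨ l.1 = s) →
    ∀ c ∈ normalizer (α.range : Set G), ∃ n ∈ normalizer (closure ({s, y} : Set A) : Set A),
      ∀ l l' : centralizer ({s, y} : Set A), l'.1 = n * l * n⁻¹ → α l' = c * α l * c⁻¹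

/-- a perfect central extension with an elementary kernel is an image -/
def ExStmt : Prop := Mon fun A _ _ _ s y => ∀ (G : Type u) [Group G] [Finite G] (N : Subgroup G)
  (F : Type) [Field F] [Fintype F], Fintype.card F = 4 → commutator N = ⊤ →
    ∀ π : N →* Lie.twistedE6 F 2, Function.Surjective π → π.ker ≤ center N →
      (∀ a, π a = 1 → a * a = 1) → π.ker ≠ ⊥ →
        ∃ α : centralizer ({s, y} : Set A) →* G, α.range = N ∧ ∀ l, α l = 1 → l.1 = 1 ∨ l.1 = s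

/-- the local data of an image -/
def ModStmt : Prop := Mon fun A _ Q z s y => ∀ (G : Type u) [Group G] [Finite G]
  (α : centralizer ({s, y} : Set A) →* G), (∀ l, α l = 1 → l.1 = 1 ∨ l.1 = s) →
    ∀ hz : z ∈ centralizer ({s, y} : Set A), LD α.range
      (((closure {s, y}).subgroupOf _).map α) ((Q.subgroupOf _).map α) (α ⟨z, hz⟩)

/-- the local data lift through a central kernel of odd order -/
def LiftStmt : Prop := ∀ (G : Type u) [Group G] [Finite G] (A : Subgroup G), ⁅A, A⁆ = A →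
  ∀ (H : Type u) [Group H] (π : normalizer (A : Set G) →* H), Function.Surjective π →
    Odd (Nat.card π.ker) → (∀ k, π k = 1 → k.1 ∈ A ⊓ centralizer (A : Set G)) →
      ∀ (Z Q : Subgroup H) (z : H), LD ((A.subgroupOf _).map π) Z Q z → ∃ Z Q z, LD A Z Q z

/-- the local data exist -/
def LDStmt : Prop := ∀ (G : Type u) [Group G] [Finite G] (A : Subgroup G)
  (F : Type) [Field F] [Fintype F], Fintype.card F = 4 → commutator A = ⊤ →
    ∀ π : A →* Lie.twistedE6 F 2, Function.Surjective π → π.ker = center A →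
      Even (Nat.card (center A)) → ∃ Z Q z, LD A Z Q z

/-- the local map of a double cover -/
def GoodStmt : Prop := ∀ (G : Type u) [Group G] [Finite G] (N : Subgroup G) (t : G)
  (F : Type) [Field F] [Fintype F], Fintype.card F = 4 → commutator N = ⊤ → t ≠ 1 → t ∈ N →
    ∀ π : N →* Lie.twistedE6 F 2, Function.Surjective π → (∀ m, π m = 1 ↔ m.1 = 1 ∨ m.1 = t) →
      centralizer {t} ≤ normalizer (N : Set G) →
        (∀ k, (∀ n ∈ N, k * n = n * k) ↔ k = 1 ∨ k = t) →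
          ∃ y ∈ DD, tU * y ∈ DD ∧ ∃ α : M → G, H47.Bu.Good tU y t N α

/-- the Baby Monster splits off an odd normal subgroup that it centralizes -/
def SplitStmt : Prop := ∀ (G : Type u) [Group G] [Finite G] (H : Type u) [Group H] (π : G →* H),
  Function.Surjective π → Odd (Nat.card π.ker) → (∃ x ∈ centralizer (π.ker : Set G), π x ≠ 1) →
    ∀ ι : BB →* H, Function.Bijective ι → ∃ κ : BB →* G, (∀ b, π (κ b) = ι b) ∧
      ∀ w, π w = 1 → ∀ b, w * κ b = κ b * w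

/-- the end of the proof -/
def EndStmt : Prop := ∀ (G : Type u) [Group G] [Finite G] (ι : BB →* G), Function.Injective ι →
  ∀ W : Subgroup G, Odd (Nat.card W) → (∀ w ∈ W, ∀ b, w * ι b = ι b * w) →
    (∀ x ∈ normalizer (W : Set G), ∃ b, (ι b)⁻¹ * x ∈ W) → ∀ y ∈ DD, tU * y ∈ DD →
      (∀ x, Commute x (H47.B6.ext ι y) → x ∈ normalizer (W : Set G)) → W.Normal

/-- change of the field -/
def FieldStmt : Prop := ∀ (K : Type v) [Field K] [Fintype K] (F : Type) [Field F] [Fintype F],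
  Fintype.card K = 4 → Fintype.card F = 4 →
    Nonempty (Lie.twistedE6 K 2 ≃* Lie.twistedE6 F 2)

end Cfsg.Agent.H48.Be
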