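import Cfsg.Agent.H48.BeDefs
import Cfsg.Agent.H3.Primitive

/-! A standard subgroup of type `²E₆(2)`: transport of the local data and first consequences. -/

set_option autoImplicit false

namespace Cfsg.Agent.H48.Be

open Cfsg Subgroup Cfsg.Agent.H49 Cfsg.Agent.H98

/-- the centralizer of a subgroup -/
scoped notation "𝒦[" A "]" => Subgroup.centralizer (SetLike.coe A)

/-- the normalizer of a subgroup -/
scoped notation "𝒩[" A "]" => Subgroup.normalizer (SetLike.coe A)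

section transport

variable {G H : Type*} [Group G] [Group H] (e : H ≃* G) {A Z Q : Subgroup G} {z : G}

theorem cen_comap : 𝒦[A.comap e.toMonoidHom] = 𝒦[A].comap e.toMonoidHom := by
  ext x
  refine ⟨fun h a ha => ?_, fun h a ha => e.injective ?_⟩
  · obtain ⟨a, rfl⟩ := e.surjective a
    simpa using congrArg e (h a ha)
  · simpa using h (e a) ha

theorem nor_comap : 𝒩[A.comap e.toMonoidHom] = 𝒩[A].comap e.toMonoidHom :=
  (comap_normalizer_eq_of_surjective A e.surjective).symm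

theorem e2_map {x : H} : E2 (e x) ↔ E2 x :=
  exists_congr fun n => by rw [← map_pow, e.map_eq_one_iff]

theorem card_comap (A : Subgroup G) : Nat.card (A.comap e.toMonoidHom) = Nat.card A := by
  rw [comap_equiv_eq_map_symm', card_map_of_injective e.symm.injective]

theorem LD.comap {w : H} (h : LD A Z Q (e w)) :
    LD (A.comap e.toMonoidHom) (Z.comap e.toMonoidHom) (Q.comap e.toMonoidHom) w := by
  have I : ∀ {a b : H}, a = b ↔ e a = e b := e.injective.eq_iff.symm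
  have S := e.surjective
  refine ⟨?_, fun a ha => ?_, ?_, fun a ha hk h2 => ?_, comap_mono h.ZQ, h.zQ, comap_mono h.QA, ?_, ?_,
    fun a ha => ?_, fun a ha b hb => ?_, fun a ha => ?_, fun a ha hc => ?_, ?_,
    fun c hc cz q hq => ?_, fun c hc hk => ?_, fun P hP h2 => ?_, fun c hc cz cv hb => ?_,
    fun c hc cz h2 B hB hn hb => ?_, ?_, ?_, fun D hD h2 hn => ?_, fun f hf hz => ?_⟩
  all_goals try rw [cen_comap] at *
  all_goals try rw [nor_comap] at *
  · exact comap_mono h.ZK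
  · simpa [I] using h.Zsq _ ha
  · rw [card_comap]; exact h.Zc
  · exact h.ztwo _ ha hk ((e2_map e).2 h2)
  · simpa [I] using h.zz
  · exact h.zK
  · simpa [I] using h.sq _ ha
  · simpa [I] using h.cm _ ha _ hb
  · simpa [I] using h.cz _ ha
  · simpa using h.cen _ ha fun b hb => by
      obtain ⟨b, rfl⟩ := S b
      simpa [I] using hc b hb
  · rw [card_comap]; exact h.big
  · simpa using h.nor _ hc (by simpa [I] using cz) _ hq
  · simpa [I] using h.ne _ hc (by simpa using hk)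
  · obtain ⟨c, hc, k⟩ := h.syl (P.map e.toMonoidHom) (map_le_iff_le_comap.2 hP) (h2.map _)
    obtain ⟨c, rfl⟩ := S c
    exact ⟨c, hc, fun p hp => by simpa [I] using k _ ⟨p, hp, rfl⟩⟩
  · obtain ⟨q, hq, k⟩ := h.rk1 _ hc (by simpa [I] using cz) (fun v hv => by
      obtain ⟨v, rfl⟩ := S v
      simpa [I] using cv v hv) fun b hb' => by
      obtain ⟨b, rfl⟩ := S b
      simpa using hb b hb'
    obtain ⟨q, rfl⟩ := S q
    exact ⟨q, hq, by simpa using k⟩
  · obtain ⟨q, hq, k⟩ := h.rk8 _ hc (by simpa [I] using cz) ((e2_map e).2 h2) (B.map e.toMonoidHom)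
      (map_le_iff_le_comap.2 hB) (by rwa [card_comap, ← card_map_of_injective (K := B) (f := e.toMonoidHom) e.injective] at hn)
      (by rintro _ ⟨b, hb', rfl⟩; simpa [I] using hb b hb')
    obtain ⟨q, rfl⟩ := S q
    exact ⟨q, hq, by simpa using k⟩
  · rw [comap_sup_eq _ _ _ S, relIndex_comap, map_comap_eq_self_of_surjective S]; exact h.out
  · obtain ⟨X, h1, h2, h3⟩ := h.xp
    refine ⟨X.comap e.toMonoidHom, fun x hx => ⟨(h1 hx).1, mem_centralizer_singleton_iff.2 ?_⟩, ?_,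
      fun a ha cz h4 => h3 _ ha (by simpa [I] using cz) ((e2_map e).2 h4)⟩
    · simpa [I] using mem_centralizer_singleton_iff.1 (h1 hx).2
    · rw [comap_equiv_eq_map_symm', ← map_commutator, h2]
  · rw [comap_sup_eq _ _ _ S] at hD ⊢
    refine map_le_iff_le_comap.1 (h.o2 _ ?_ (h2.map _) ?_)
    · rintro _ ⟨d, hd, rfl⟩
      exact ⟨(hD hd).1, mem_centralizer_singleton_iff.2 (by
        simpa [I] using mem_centralizer_singleton_iff.1 (hD hd).2)⟩
    · rintro c hc cz _ ⟨d, hd, rfl⟩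
      obtain ⟨c, rfl⟩ := S c
      exact ⟨_, hn c hc (by simpa [I] using cz) d hd, by simp⟩
  · obtain ⟨h1, h2⟩ := h.inv _ hf (by simpa using hz)
    refine ⟨by simpa [I] using h1, h2.imp_right (Or.imp (fun ⟨c, hc, k⟩ => ?_)
      fun ⟨a, ha, b, hb, c, hc, k0, k1, k2, k3⟩ => ?_)⟩
    · obtain ⟨c, rfl⟩ := S c
      exact ⟨c, hc, by simpa using k⟩
    · obtain ⟨a, rfl⟩ := S a
      obtain ⟨b, rfl⟩ := S b
      obtain ⟨c, rfl⟩ := S c
      exact ⟨a, ha, b, hb, c, hc, by simpa [I] using k0, by simpa using k1, by simpa using k2,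
        by simpa using k3⟩

end transport

variable {G : Type*} [Group G]

theorem cj_eq_comap (A : Subgroup G) (g : G) :
    cj A g = A.comap (MulAut.conj g).symm.toMonoidHom := map_equiv_eq_comap_symm' _ _

theorem cen_cj (A : Subgroup G) (g : G) : 𝒦[cj A g] = cj 𝒦[A] g := by
  rw [cj_eq_comap, cj_eq_comap, cen_comap]

theorem nor_cj (A : Subgroup G) (g : G) : 𝒩[cj A g] = cj 𝒩[A] g := by
  rw [cj_eq_comap, cj_eq_comap, nor_comap]

theorem LD.cj {A Z Q : Subgroup G} {z : G} (h : LD A Z Q z) (g : G) :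
    LD (cj A g) (cj Z g) (cj Q g) (g * z * g⁻¹) := by
  rw [cj_eq_comap, cj_eq_comap, cj_eq_comap]
  exact LD.comap _ (by simpa [mul_assoc] using h)

theorem TE.cj {A : Subgroup G} (h : TE A) (g : G) : TE (cj A g) := fun x k h1 h2 h3 h4 => by
  rw [cen_cj, mem_cj] at h1 h4
  rw [nor_cj, mem_cj]
  refine h _ _ h1 (by rwa [← inv_inv g, inv_inv g⁻¹, Ne, conj_eq_one_iff]) ?_ (by
    convert h4 using 1; group)
  rw [← inv_inv g, inv_inv g⁻¹, conj_mul, h3]; simp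

/-- a frame: the component with its local data -/
structure Fm (G : Type*) [Group G] where
  /-- the component -/
  A : Subgroup G
  /-- the Sylow 2-subgroup of the centre -/
  Z : Subgroup G
  /-- the large subgroup -/
  Q : Subgroup G
  /-- the root involution -/
  z : G

namespace Fm

/-- the conjugate frame -/
def cj (F : Fm G) (g : G) : Fm G := ⟨H49.cj F.A g, H49.cj F.Z g, H49.cj F.Q g, g * F.z * g⁻¹⟩

/-- the hypotheses -/
structure Ok (F : Fm G) : Prop extends LD F.A F.Z F.Q F.z where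
  te : TE F.A

/-- conjugate frames -/
def Rel (F F' : Fm G) : Prop := ∃ g, F' = F.cj g

variable {F F' F'' : Fm G}

theorem cj_mul (F : Fm G) (g h : G) : F.cj (g * h) = (F.cj h).cj g := by
  simp only [cj, H49.cj_mul, mul_assoc, mul_inv_rev]

theorem cj_one (F : Fm G) : F.cj 1 = F := by simp only [cj, H49.cj_one, one_mul, inv_one, mul_one]

theorem Rel.refl (F : Fm G) : F.Rel F := ⟨1, F.cj_one.symm⟩

theorem Rel.symm (r : F.Rel F') : F'.Rel F := by
  obtain ⟨g, rfl⟩ := r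
  exact ⟨g⁻¹, by rw [← cj_mul, inv_mul_cancel, cj_one]⟩

theorem Rel.trans (r : F.Rel F') (r' : F'.Rel F'') : F.Rel F'' := by
  obtain ⟨g, rfl⟩ := r
  obtain ⟨g', rfl⟩ := r'
  exact ⟨g' * g, (cj_mul _ _ _).symm⟩

theorem rel_cj (F : Fm G) (g : G) : F.Rel (F.cj g) := ⟨g, rfl⟩

theorem Ok.cj (h : F.Ok) (g : G) : (F.cj g).Ok := ⟨h.toLD.cj g, h.te.cj g⟩

theorem Ok.rel (h : F.Ok) (r : F.Rel F') : F'.Ok := by
  obtain ⟨g, rfl⟩ := r
  exact h.cj g

theorem mem_K {g x : G} : x ∈ 𝒦[(F.cj g).A] ↔ g⁻¹ * x * g ∈ 𝒦[F.A] := by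
  rw [← mem_cj, ← cen_cj]; rfl

theorem mem_N {g x : G} : x ∈ 𝒩[(F.cj g).A] ↔ g⁻¹ * x * g ∈ 𝒩[F.A] := by
  rw [← mem_cj, ← nor_cj]; rfl

theorem conj_K (g : G) {x : G} (h : x ∈ 𝒦[F.A]) : g * x * g⁻¹ ∈ 𝒦[(F.cj g).A] :=
  mem_K.2 (by simpa [mul_assoc] using h)

theorem cj_A {g : G} (h : g ∈ 𝒩[F.A]) : (F.cj g).A = F.A := cj_eq_iff.2 h

theorem Rel.card_Z (r : F.Rel F') : Nat.card F'.Z = Nat.card F.Z := by
  obtain ⟨g, rfl⟩ := r
  exact card_cj _ _

theorem Rel.card_Q (r : F.Rel F') : Nat.card F'.Q = Nat.card F.Q := by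
  obtain ⟨g, rfl⟩ := r
  exact card_cj _ _

end Fm

theorem E2.of_sq {a : G} (h : a * a = 1) : E2 a := ⟨1, by rw [pow_one, sq, h]⟩

theorem E2.mul {a b : G} (ha : E2 a) (hb : E2 b) (c : a * b = b * a) : E2 (a * b) := by
  obtain ⟨m, hm⟩ := ha
  obtain ⟨n, hn⟩ := hb
  refine ⟨m + n, ?_⟩
  rw [Commute.mul_pow c, pow_add, pow_mul, hm, one_pow, mul_comm (2 ^ m), pow_mul, hn, one_pow, one_mul]

theorem E2.inv {a : G} (ha : E2 a) : E2 a⁻¹ := ha.imp fun n hn => by rw [inv_pow, hn, inv_one]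

theorem E2.of_mem {P : Subgroup G} (h : IsPGroup 2 P) {a : G} (ha : a ∈ P) : E2 a :=
  (h ⟨a, ha⟩).imp fun _ e => congrArg Subtype.val e

theorem E2.zpowers {a : G} (h : E2 a) : IsPGroup 2 (zpowers a) := by
  rintro ⟨_, m, rfl⟩
  obtain ⟨n, hn⟩ := h
  exact ⟨n, Subtype.ext (by
    change (a ^ m) ^ 2 ^ n = 1
    rw [← zpow_natCast, ← zpow_mul, mul_comm, zpow_mul, zpow_natCast, hn, one_zpow])⟩

theorem E2.exists_invol {a : G} (h : E2 a) (h1 : a ≠ 1) : ∃ n : ℕ, a ^ n ≠ 1 ∧ a ^ n * a ^ n = 1 := by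
  obtain ⟨n, hn⟩ := h
  induction n with
  | zero => exact absurd (by simpa using hn) h1
  | succ n ih =>
    by_cases e : a ^ 2 ^ n = 1
    · exact ih e
    · exact ⟨_, e, by rw [← pow_add, ← mul_two, ← pow_succ, hn]⟩

theorem card_le_two_mul [Finite G] {U V : Subgroup G}
    (h : ∀ x ∈ U, ∀ y ∈ U, x ∉ V → y ∉ V → x * y ∈ V) : Nat.card U ≤ 2 * Nat.card ↥(U ⊓ V) := by
  rw [← XS.card_mul_relIndex' V U, mul_comm, inf_comm]
  refine Nat.mul_le_mul_right _ ?_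
  by_cases c : U ≤ V
  · rw [relIndex_eq_one.2 c]; norm_num
  · obtain ⟨a, ha, n⟩ := SetLike.not_le_iff_exists.1 c
    refine (index_eq_two_iff.2 ⟨⟨a, ha⟩, fun b => ?_⟩).le
    by_cases hb : b.1 ∈ V
    · exact Or.inr ⟨hb, fun k => n ((mul_mem_cancel_left hb).1 k)⟩
    · exact Or.inl ⟨h _ b.2 _ ha hb n, hb⟩

theorem two_of_three [Finite G] {U V : Subgroup G} (le : V ≤ U) (h : Nat.card U ≤ 2 * Nat.card V)
    {a b : G} (ha : a ∈ U) (hb : b ∈ U) (na : a ∉ V) (nb : b ∉ V) : a * b ∈ V := by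
  have c := XS.card_mul_relIndex' V U
  rw [inf_eq_right.2 le] at c
  have h1 : V.relIndex U ≠ 1 := fun e => na (relIndex_eq_one.1 e ha)
  have h0 : V.relIndex U ≠ 0 := index_ne_zero_of_finite
  have h2 : V.relIndex U ≤ 2 := Nat.le_of_mul_le_mul_left (by rw [c, mul_comm]; exact h) Nat.card_pos
  exact (mul_mem_iff_of_index_two (H := V.subgroupOf U) (show V.relIndex U = 2 by omega)
    (a := ⟨a, ha⟩) (b := ⟨b, hb⟩)).2 (iff_of_false na nb)

theorem mem_sup_cen {A Q : Subgroup G} (h : Q ≤ A) {x : G} :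
    x ∈ Q ⊔ 𝒦[A] ↔ ∃ q ∈ Q, q⁻¹ * x ∈ 𝒦[A] := by
  refine ⟨fun hx => ?_, fun ⟨q, hq, k⟩ =>
    (mul_mem_cancel_left (mem_sup_left (inv_mem hq))).1 (mem_sup_right k)⟩
  let S : Subgroup G :=
    { carrier := {x | ∃ q ∈ Q, q⁻¹ * x ∈ 𝒦[A]}
      one_mem' := ⟨1, one_mem _, by simp⟩
      mul_mem' := fun {a b} ⟨p, hp, k⟩ ⟨q, hq, l⟩ => ⟨p * q, mul_mem hp hq, by
        have := mul_mem k l
        rwa [← mul_assoc, ← k _ (h (inv_mem hq)), ← mul_assoc, ← mul_inv_rev, mul_assoc] at this⟩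
      inv_mem' := fun {a} ⟨p, hp, k⟩ => ⟨p⁻¹, inv_mem hp, by
        have := inv_mem k
        rwa [show (p⁻¹ * a)⁻¹ = p⁻¹⁻¹ * a⁻¹ by
          rw [inv_inv, ← mul_inv_cancel_left p a, mul_inv_rev p, (Commute.inv_inv (k _ (h hp))).eq.symm]
          group] at this⟩ }
  exact (sup_le (fun q hq => ⟨q, hq, by simp⟩) (fun k hk => ⟨1, one_mem _, by simpa using hk⟩) :
    Q ⊔ 𝒦[A] ≤ S) hx

end Cfsg.Agent.H48.Be
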