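import Cfsg.Agent.H48.BeF1A

/-! A standard subgroup of type `²E₆(2)`: consequences of the local data. -/

set_option autoImplicit false

namespace Cfsg.Agent.H48.Be

open Cfsg Subgroup Cfsg.Agent.H49 Cfsg.Agent.H98

variable {G : Type*} [Group G]

theorem cen_conj {A : Subgroup G} {c k : G} (hc : c ∈ 𝒩[A]) (hk : k ∈ 𝒦[A]) : c * k * c⁻¹ ∈ 𝒦[A] :=
  fun a ha => by
    have := hk _ (conj_mem_of_mem_normalizer (inv_mem hc) ha)
    calc a * (c * k * c⁻¹) = c * (c⁻¹ * a * c⁻¹⁻¹ * k) * c⁻¹ := by group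
      _ = _ := by rw [this]; group

theorem sup_conj {A : Subgroup G} {c k : G} (hc : c ∈ 𝒩[A]) (hk : k ∈ A ⊔ 𝒦[A]) :
    c * k * c⁻¹ ∈ A ⊔ 𝒦[A] := by
  obtain ⟨a, ha, e⟩ := (mem_sup_cen le_rfl).1 hk
  refine (mem_sup_cen le_rfl).2 ⟨_, conj_mem_of_mem_normalizer hc ha, ?_⟩
  convert cen_conj hc e using 1; group

theorem sup_le_nor (A : Subgroup G) : A ⊔ 𝒦[A] ≤ 𝒩[A] :=
  sup_le le_normalizer (centralizer_le_normalizer _)

theorem csign_congr {a b c d : G} (h : a * b = b * a ↔ c * d = d * c) : csign a b = csign c d := by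
  unfold csign
  by_cases e : c * d = d * c
  · rw [if_pos (h.2 e), if_pos e]
  · rw [if_neg (mt h.1 e), if_neg e]

theorem csign_inv (a b : G) : csign a⁻¹ b = csign a b := csign_congr Commute.inv_left_iff

theorem conj_eq {A : Subgroup G} {c q b : G} (k : q⁻¹ * c ∈ 𝒦[A]) (hb : b ∈ A) :
    c * b * c⁻¹ = q * b * q⁻¹ := by
  calc _ = q * (q⁻¹ * c * b) * c⁻¹ := by group
    _ = _ := by rw [← k b hb]; group

theorem normal_sup (A : Subgroup G) : ((A ⊔ 𝒦[A]).subgroupOf 𝒩[A]).Normal :=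
  ⟨fun _ hk c => sup_conj c.2 hk⟩

namespace LD

variable {A Z Q : Subgroup G} {z : G} (h : LD A Z Q z)
include h

theorem ZA : Z ≤ A := h.ZQ.trans h.QA

theorem QN : Q ≤ 𝒩[A] := h.QA.trans le_normalizer

theorem zA : z ∈ A := h.QA h.zQ

theorem z1 : z ≠ 1 := fun e => h.zK (e ▸ one_mem _)

theorem mul_z_ne (x : G) : x * z ≠ x := fun e => h.z1 (by simpa using e)

theorem e2 {a : G} (ha : a ∈ Q) : E2 a := ⟨2, by
  rw [show a ^ 2 ^ 2 = a * a * (a * a) by simp [pow_succ, mul_assoc]]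
  rcases h.sq a ha with e | e <;> simp [e, h.zz]⟩

theorem Q2 : IsPGroup 2 Q := fun a => (h.e2 a.2).imp fun _ e => Subtype.ext e

theorem Z2 : IsPGroup 2 Z := h.Q2.to_le h.ZQ

theorem Z_ne : Z ≠ ⊥ := fun e => by
  have := h.Zc
  rw [e, card_bot] at this
  omega

theorem conj_Z {c v : G} (hc : c ∈ 𝒩[A]) (hv : v ∈ Z) : c * v * c⁻¹ ∈ Z :=
  h.ztwo _ (conj_mem_of_mem_normalizer hc (h.ZA hv)) (cen_conj hc (h.ZK hv))
    (E2.of_sq (by rw [conj_mul, h.Zsq v hv]; simp))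

theorem exists_fix [Finite G] {P : Subgroup G} (hP : P ≤ 𝒩[A]) (h2 : IsPGroup 2 P) :
    ∃ t ∈ Z, t ≠ 1 ∧ ∀ p ∈ P, p * t = t * p := by
  have : Fact (Nat.Prime 2) := ⟨Nat.prime_two⟩
  obtain ⟨⟨t, t1, t2⟩, t3⟩ := ne_bot_iff_exists_ne_one.1 (H3.inf_centralizer_ne_bot_of_isPGroup h2 h.Z2
    (fun p hp => mem_normalizer_of_conj_mem fun v hv => h.conj_Z (hP hp) hv) h.Z_ne)
  exact ⟨t, t1, fun e => t3 (Subtype.ext e), t2⟩

theorem comm_of_ne {a b : G} (ha : a ∈ Q) (hb : b ∈ Q) (n : a * b ≠ b * a) : a * b = b * a * z :=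
  (h.cm a ha b hb).resolve_left n

theorem conj_of_ne {a b : G} (ha : a ∈ Q) (hb : b ∈ Q) (n : a * b ≠ b * a) :
    a * b * a⁻¹ = b * z := by
  rw [h.comm_of_ne ha hb n, mul_assoc b, h.cz a ha]; group

theorem conj {a b : G} (ha : a ∈ Q) (hb : b ∈ Q) : a * b * a⁻¹ = b ∨ a * b * a⁻¹ = b * z :=
  (em (a * b = b * a)).imp (fun e => by rw [e, mul_inv_cancel_right]) (h.conj_of_ne ha hb)

theorem comm_of_ne_ne {x y a : G} (hx : x ∈ Q) (hy : y ∈ Q) (ha : a ∈ Q) (h1 : x * a ≠ a * x)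
    (h2 : y * a ≠ a * y) : x * y * a = a * (x * y) := by
  rw [mul_assoc, h.comm_of_ne hy ha h2, ← mul_assoc, ← mul_assoc, h.comm_of_ne hx ha h1,
    mul_assoc _ z, ← h.cz y hy, mul_assoc, mul_assoc, mul_assoc, h.zz, mul_one]

theorem csign_mul {x y a : G} (hx : x ∈ Q) (hy : y ∈ Q) (ha : a ∈ Q) :
    csign (x * y) a = csign x a * csign y a := by
  unfold csign
  by_cases h1 : x * a = a * x <;> by_cases h2 : y * a = a * y
  · rw [if_pos h1, if_pos h2, if_pos (by rw [mul_assoc, h2, ← mul_assoc, h1, mul_assoc])]; simp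
  · rw [if_pos h1, if_neg h2, if_neg (XS.mul_ne_of_eq_of_ne h1 h2)]; simp
  · rw [if_neg h1, if_pos h2, if_neg (XS.mul_ne_of_ne_of_eq h1 h2)]; simp
  · rw [if_neg h1, if_neg h2, if_pos (h.comm_of_ne_ne hx hy ha h1 h2)]; simp

theorem csign_mul' {x y a : G} (hx : x ∈ Q) (hy : y ∈ Q) (ha : a ∈ Q) :
    csign a (x * y) = csign a x * csign a y := by
  rw [csign_symm, h.csign_mul hx hy ha, csign_symm x, csign_symm y]

theorem card_half [Finite G] {U : Subgroup G} (hU : U ≤ Q) {a : G} (ha : a ∈ Q) :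
    Nat.card U ≤ 2 * Nat.card ↥(U ⊓ centralizer {a}) := card_le_two_mul fun x hx y hy n1 n2 => by
  rw [mem_centralizer_singleton_iff] at *
  exact h.comm_of_ne_ne (hU hx) (hU hy) ha n1 n2

theorem card_perp [Finite G] {B : Subgroup G} (hB : B ≤ Q) :
    Nat.card B * Nat.card ↥(Q ⊓ 𝒦[B]) = Nat.card ↥(B ⊓ 𝒦[Q]) * Nat.card Q := by
  let p : B →* Q →* ℤˣ := MonoidHom.mk' (fun a => MonoidHom.mk' (fun b => csign (a : G) (b : G))
    fun b c => h.csign_mul' b.2 c.2 (hB a.2))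
    fun a b => MonoidHom.ext fun c => h.csign_mul (hB a.2) (hB b.2) c.2
  have h1 := pairing_index p
  rw [show p.ker = 𝒦[Q].subgroupOf B from ext fun a => ⟨fun k b hb =>
      (csign_eq_one.1 (DFunLike.congr_fun k ⟨b, hb⟩)).symm,
      fun k => MonoidHom.ext fun b => csign_eq_one.2 (k b b.2).symm⟩,
    show p.flip.ker = 𝒦[B].subgroupOf Q from ext fun a => ⟨fun k b hb =>
      csign_eq_one.1 (DFunLike.congr_fun k ⟨b, hb⟩),
      fun k => MonoidHom.ext fun b => csign_eq_one.2 (k b b.2)⟩] at h1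
  have h2 := XS.card_mul_relIndex' 𝒦[B] Q
  have h3 := XS.card_mul_relIndex' 𝒦[Q] B
  rw [relIndex, h1] at h3
  rw [← h3, ← h2, relIndex]; ring

theorem card_cen [Finite G] {B : Subgroup G} (hB : B ≤ Q) :
    Nat.card ↥(B ⊓ 𝒦[Q]) ≤ 2 * Nat.card Z := by
  refine (card_le_two_mul (V := Z) fun x hx y hy n1 n2 => ?_).trans
    (Nat.mul_le_mul_left _ (card_le_of_le inf_le_right))
  have := mul_mem ((h.cen x (hB hx.1) fun b hb => (hx.2 b hb).symm).resolve_left n1)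
    ((h.cen y (hB hy.1) fun b hb => (hy.2 b hb).symm).resolve_left n2)
  rwa [mul_assoc, h.cz y (hB hy.1), ← mul_assoc z, h.zz, one_mul] at this

theorem nonab [Finite G] {B : Subgroup G} (hB : B ≤ Q) (c : Nat.card Q ≤ 4 * Nat.card B) :
    ∃ x ∈ B, ∃ y ∈ B, x * y * x⁻¹ * y⁻¹ = z := by
  by_contra! n
  have h1 := h.card_perp hB
  have h2 := h.card_cen hB
  have h3 : Nat.card B ≤ Nat.card ↥(Q ⊓ 𝒦[B]) := card_le_of_le fun x hx => ⟨hB hx, fun y hy => by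
    by_contra e
    exact n y hy x hx (by rw [h.conj_of_ne (hB hy) (hB hx) e, h.cz x (hB hx), mul_inv_cancel_right])⟩
  have h4 := h.Zc
  have h5 := h.big
  have h6 : Nat.card B * Nat.card B ≤ 8 * Nat.card Q :=
    (Nat.mul_le_mul_left _ h3).trans (h1.le.trans (Nat.mul_le_mul_right _ (by omega)))
  nlinarith

theorem exists_sep {a b : G} (ha : a ∈ Q) (hb : b ∈ Q) (h1 : ∃ x ∈ Q, x * b ≠ b * x)
    (h2 : ∃ x ∈ Q, x * (a * b) ≠ a * b * x) : ∃ x ∈ Q, x * a = a * x ∧ x * b ≠ b * x := by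
  obtain ⟨x, hx, n1⟩ := h1
  obtain ⟨y, hy, n2⟩ := h2
  by_cases c : x * a = a * x
  · exact ⟨x, hx, c, n1⟩
  by_cases c' : y * a = a * y
  · exact ⟨y, hy, c', fun e => n2 (Commute.mul_right c' e)⟩
  refine ⟨x * y, mul_mem hx hy, h.comm_of_ne_ne hx hy ha c c', XS.mul_ne_of_ne_of_eq n1 ?_⟩
  by_contra e
  exact n2 (h.comm_of_ne_ne ha hb hy (Ne.symm c') (Ne.symm e)).symm

theorem cen_K {c q : G} (hq : q ∈ Q) (k : q⁻¹ * c ∈ 𝒦[A]) (e : ∀ x ∈ Q, x * q = q * x) :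
    c ∈ 𝒦[A] ∨ c * z ∈ 𝒦[A] :=
  (h.cen q hq fun b hb => (e b hb).symm).imp
    (fun m => (mul_mem_cancel_left (inv_mem (h.ZK m))).1 k) fun m => by
      have := mul_mem (h.ZK m) k
      rwa [mul_assoc, k z h.zA, ← mul_assoc, mul_inv_cancel_left] at this

theorem cenL {c : G} (hc : c ∈ 𝒩[A]) (cz : c * z = z * c) (cZ : ∀ v ∈ Z, c * v = v * c)
    {L : Subgroup G} (zL : z ∉ L) (nL : ∀ q ∈ Q, ∀ l ∈ L, q * l * q⁻¹ ∈ L)
    (hL : ∀ b ∈ Q, c * b * c⁻¹ * b⁻¹ ∈ L) : c ∈ 𝒦[A] ∨ c * z ∈ 𝒦[A] := by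
  obtain ⟨q, hq, k⟩ := h.rk1 c hc cz cZ fun b hb => h.cen _ (mul_mem (h.nor c hc cz b hb) (inv_mem hb))
    fun x hx => by
      by_contra n
      have := nL x hx _ (hL b hb)
      rw [h.conj_of_ne hx (mul_mem (h.nor c hc cz b hb) (inv_mem hb)) (Ne.symm n)] at this
      exact zL ((mul_mem_cancel_left (hL b hb)).1 this)
  refine h.cen_K hq k fun x hx => ?_
  by_contra n
  have := hL x hx
  rw [conj_eq k (h.QA hx), h.conj_of_ne hq hx (Ne.symm n), h.cz x hx, mul_inv_cancel_right] at this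
  exact zL this

theorem cenQ {c : G} (hc : c ∈ 𝒩[A]) (e : ∀ b ∈ Q, c * b = b * c) : c ∈ 𝒦[A] ∨ c * z ∈ 𝒦[A] :=
  h.cenL hc (e z h.zQ) (fun v hv => e v (h.ZQ hv)) (L := ⊥) h.z1
    (fun q _ l hl => by simp [mem_bot.1 hl]) fun b hb => by simp [e b hb]

theorem out2 [Finite G] {a b : G} (ha : a ∈ 𝒩[A]) (hb : b ∈ 𝒩[A]) (aa : a * a = 1) (bb : b * b = 1)
    (c : a * b = b * a) (na : a ∉ A ⊔ 𝒦[A]) (nb : b ∉ A ⊔ 𝒦[A]) : a * b ∈ A ⊔ 𝒦[A] := by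
  have := normal_sup A
  by_contra n
  let f := QuotientGroup.mk' ((A ⊔ 𝒦[A]).subgroupOf 𝒩[A])
  have k : ∀ x, f x = 1 ↔ x.1 ∈ A ⊔ 𝒦[A] := fun x => QuotientGroup.eq_one_iff x
  have e1 : f ⟨a, ha⟩ * f ⟨a, ha⟩ = 1 := by
    rw [← map_mul, show (⟨a, ha⟩ : 𝒩[A]) * ⟨a, ha⟩ = 1 from Subtype.ext aa, map_one]
  have f4 : Four (f ⟨a, ha⟩) (f ⟨b, hb⟩) := ⟨mt (k _).1 na, mt (k _).1 nb, e1, by
    rw [← map_mul, show (⟨b, hb⟩ : 𝒩[A]) * ⟨b, hb⟩ = 1 from Subtype.ext bb, map_one],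
    fun e => n ((k (⟨a, ha⟩ * ⟨b, hb⟩)).1 (by rw [map_mul, e, e1])), by
      rw [← map_mul, ← map_mul]; exact congrArg f (Subtype.ext c)⟩
  have := (f4.card_closure ▸ card_subgroup_dvd_card _).trans h.out
  omega

theorem outP [Finite G] {X : Subgroup G} (hX : X ≤ 𝒩[A]) (p : ⁅X, X⁆ = X) : X ≤ A ⊔ 𝒦[A] := by
  have := normal_sup A
  let f := QuotientGroup.mk' ((A ⊔ 𝒦[A]).subgroupOf 𝒩[A])
  have := IsZGroup.of_squarefree (G := 𝒩[A] ⧸ (A ⊔ 𝒦[A]).subgroupOf 𝒩[A])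
    (Squarefree.squarefree_of_dvd h.out (by decide +kernel))
  have e : ⁅X.subgroupOf 𝒩[A], X.subgroupOf 𝒩[A]⁆ = X.subgroupOf 𝒩[A] :=
    map_injective 𝒩[A].subtype_injective (by rw [map_commutator, map_subgroupOf_eq_of_le hX, p])
  have : (X.subgroupOf 𝒩[A]).map f = ⊥ := by
    by_contra n
    exact (Group.IsSolvable.commutator_lt_of_ne_bot n).ne (by rw [← map_commutator, e])
  intro x hx
  exact (QuotientGroup.eq_one_iff (⟨x, hX hx⟩ : 𝒩[A])).1 (this.le ⟨⟨x, hX hx⟩, hx, rfl⟩)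

theorem decomp [Finite G] {d : G} (hd : d ∈ A ⊔ 𝒦[A]) (dd : d * d = 1) :
    ∃ f ∈ A, ∃ k ∈ 𝒦[A], d = k * f ∧ f * f = 1 ∧ k * k = 1 ∧
      (f ∈ Z ∨ (∃ c ∈ A, c⁻¹ * f * c * z ∈ Z) ∨
      ∃ a ∈ A, ∃ b ∈ A, ∃ c ∈ A, a * z * a⁻¹ * (b * z * b⁻¹) = c * z * c⁻¹ ∧
        a⁻¹ * f * a ∈ Q ∧ b⁻¹ * f * b ∈ Q ∧ c⁻¹ * f * c ∈ Q) := by
  obtain ⟨f, hf, hk⟩ := (mem_sup_cen le_rfl).1 hd
  obtain ⟨n, m, hm, e⟩ := Nat.exists_eq_two_pow_mul_odd (orderOf_pos f).ne'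
  have c : Commute (f⁻¹ * d) f := (hk f hf).symm
  have e1 : d = (f⁻¹ * d) ^ m * f ^ m := by
    obtain ⟨j, rfl⟩ := hm
    rw [← c.mul_pow, c.eq, mul_inv_cancel_left, pow_succ, pow_mul, pow_two, dd, one_pow, one_mul]
  have c' := c.pow_pow m m
  have e2 : (f⁻¹ * d) ^ m * (f⁻¹ * d) ^ m * (f ^ m * f ^ m) = 1 := by
    rw [← c'.symm.mul_mul_mul_comm, ← e1, dd]
  have t : E2 (f ^ m) := ⟨n, by rw [← pow_mul, mul_comm, ← e, pow_orderOf_eq_one]⟩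
  obtain ⟨a, b⟩ := h.inv _ (pow_mem hf m) (h.ztwo _ (mul_mem (pow_mem hf m) (pow_mem hf m))
    ((mul_mem_cancel_left (mul_mem (pow_mem hk m) (pow_mem hk m))).1 (e2 ▸ one_mem _)) (t.mul t rfl))
  exact ⟨_, pow_mem hf m, _, pow_mem hk m, e1, a, by rwa [a, mul_one] at e2, b⟩

theorem exists_syl [Finite G] {H : Subgroup G} (h1 : A ≤ H) (h2 : H ≤ 𝒩[A]) :
    ∃ S, SylIn 2 S H ∧ ∀ p ∈ S, p * z = z * p := by
  have : Fact (Nat.Prime 2) := ⟨Nat.prime_two⟩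
  obtain ⟨S, hS⟩ := exists_sylIn 2 H
  obtain ⟨c, hc, e⟩ := h.syl S (hS.le.trans h2) hS.isPGroup
  refine ⟨_, hS.map_conj_of_mem (inv_mem (h1 hc)), ?_⟩
  rintro _ ⟨p, hp, rfl⟩
  rw [← H47.Bu.conj_comm_iff c]
  simpa [mul_assoc] using e p hp

theorem le_syl {S H : Subgroup G} (hS : SylIn 2 S H) (h1 : Q ≤ H) (h2 : S ≤ 𝒩[A])
    (e : ∀ p ∈ S, p * z = z * p) [Finite G] : Q ≤ S :=
  le_sylIn_of_normal hS h.Q2 h1 fun p hp => mem_normalizer_of_conj_mem (h.nor p (h2 hp) (e p hp))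

end LD

end Cfsg.Agent.H48.Be
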