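import Cfsg.Agent.H48.BeF1B

/-! A standard subgroup of type `²E₆(2)`: the fused case. -/

set_option autoImplicit false

namespace Cfsg.Agent.H48.Be

open Cfsg Subgroup Cfsg.Agent.H49 Cfsg.Agent.H98
open scoped commutatorElement

variable {G : Type*} [Group G]

theorem syl_mod [Finite G] {A T T' : Subgroup G} (hT' : SylIn 2 T' A) (hT : T ≤ A ⊔ 𝒦[A])
    (h2 : IsPGroup 2 T) : 𝒦[A].relIndex T ≤ 𝒦[A].relIndex T' ∧ (𝒦[A].relIndex T' ≤ 𝒦[A].relIndex T →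
      ∀ Q ≤ A, IsPGroup 2 Q → T ≤ 𝒩[Q] → ∀ q ∈ Q, ∃ τ ∈ T, τ⁻¹ * q ∈ 𝒦[A]) := by
  have : Fact (Nat.Prime 2) := ⟨Nat.prime_two⟩
  let f := A.normalizerMonoidHom
  have k : f.ker = 𝒦[A].subgroupOf 𝒩[A] := A.normalizerMonoidHom_ker
  have c : ∀ U ≤ 𝒩[A], Nat.card ((U.subgroupOf 𝒩[A]).map f) = 𝒦[A].relIndex U := fun U hU => by
    rw [← relIndex_ker, k, relIndex_subgroupOf hU]
  have TN := hT.trans (sup_le_nor A)
  have s : SylIn 2 ((T'.subgroupOf 𝒩[A]).map f) ((A.subgroupOf 𝒩[A]).map f) :=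
    (SylIn.of_map_of_injective _ 𝒩[A].subtype_injective (by
      rwa [map_subgroupOf_eq_of_le (hT'.le.trans le_normalizer),
        map_subgroupOf_eq_of_le le_normalizer])).map f
  have l : (T.subgroupOf 𝒩[A]).map f ≤ (A.subgroupOf 𝒩[A]).map f := by
    rintro _ ⟨x, hx, rfl⟩
    obtain ⟨a, ha, e⟩ := (mem_sup_cen le_rfl).1 (hT hx)
    exact ⟨⟨a, le_normalizer ha⟩, ha, (f.eq_iff.2 (k.ge e)).symm⟩
  have p : ∀ U : Subgroup G, IsPGroup 2 U → IsPGroup 2 ((U.subgroupOf 𝒩[A]).map f) :=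
    fun U hU => hU.comap_subtype.map f
  rw [← c T TN, ← c T' (hT'.le.trans le_normalizer)]
  refine ⟨s.card_le l (p T h2), fun e Q hQ q2 n q hq => ?_⟩
  obtain ⟨τ, h1, h3⟩ := le_sylIn_of_normal (s.of_card_le l (p T h2) e) (p Q q2)
    (map_mono (comap_mono hQ)) (by
      rintro _ ⟨x, hx, rfl⟩
      refine mem_normalizer_of_conj_mem ?_
      rintro _ ⟨y, hy, rfl⟩
      exact ⟨x * y * x⁻¹, conj_mem_of_mem_normalizer (Q := Q) (n hx) hy, by simp⟩)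
    (mem_map_of_mem f (x := ⟨q, le_normalizer (hQ hq)⟩) hq)
  exact ⟨τ, h1, k.le (f.eq_iff.1 h3.symm)⟩

namespace LD

variable {A Z Q : Subgroup G} {z : G} (h : LD A Z Q z)
include h

theorem cm_sup {a b : G} (ha : a ∈ Q) (hb : b ∈ Q ⊔ 𝒦[A]) : a * b = b * a ∨ a * b = b * a * z := by
  obtain ⟨q, hq, k⟩ := (mem_sup_cen h.QA).1 hb
  obtain ⟨b, rfl⟩ : ∃ k, b = q * k := ⟨q⁻¹ * b, by group⟩
  rw [inv_mul_cancel_left] at k
  refine (h.cm a ha q hq).imp (fun e => ?_) fun e => ?_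
  · rw [← mul_assoc, e, mul_assoc, k a (h.QA ha), mul_assoc]
  · rw [← mul_assoc, e, mul_assoc, k z h.zA, mul_assoc, ← mul_assoc a, k a (h.QA ha)]; group

omit h in
theorem comm_of {a c : G} (k : a ∈ 𝒦[A] ∨ a * z ∈ 𝒦[A]) (hc : c ∈ A) (cz : c * z = z * c) :
    c * a = a * c := k.elim (fun k => k c hc) fun k =>
  mul_right_cancel (b := z) (by rw [mul_assoc, k c hc, mul_assoc, ← cz, mul_assoc])

theorem comm_K {x y : G} (hx : x ∈ 𝒦[A] ∨ x * z ∈ 𝒦[A]) (hy : y ∈ 𝒦[A] ∨ y * z ∈ 𝒦[A]) :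
    ⁅x, y⁆ ∈ 𝒦[A] := by
  have c : ∀ {x}, (x ∈ 𝒦[A] ∨ x * z ∈ 𝒦[A]) → ∃ k ∈ 𝒦[A], x = k ∨ x = k * z := fun {x} hx =>
    hx.elim (fun k => ⟨x, k, Or.inl rfl⟩) fun k => ⟨_, k, Or.inr (by rw [mul_assoc, h.zz, mul_one])⟩
  obtain ⟨k, hk, e⟩ := c hx
  obtain ⟨l, hl, e'⟩ := c hy
  have m := mul_mem (mul_mem (mul_mem hk hl) (inv_mem hk)) (inv_mem hl)
  have a : Commute z k := hk z h.zA
  have b : Commute z l := hl z h.zA
  rw [← commutatorElement_def] at m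
  have a1 : ∀ y, Commute z y → ⁅k * z, y⁆ = ⁅k, y⁆ := fun y c => by
    rw [commutatorElement_def, commutatorElement_def, mul_assoc k, c.eq]; group
  have a2 : ∀ x, Commute z x → ⁅x, l * z⁆ = ⁅x, l⁆ := fun x c => by
    rw [commutatorElement_def, commutatorElement_def, ← mul_assoc, mul_assoc _ z, c.inv_right.eq]; group
  rcases e with rfl | rfl <;> rcases e' with rfl | rfl
  · exact m
  · rwa [a2 _ a]
  · rwa [a1 _ b]
  · rwa [a1 _ (b.mul_right rfl), a2 _ a]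

omit h in
theorem two {t : G} (c : Nat.card Z = 2) (ht : t ∈ Z) (t1 : t ≠ 1) {a : G} (ha : a ∈ Z) :
    a = 1 ∨ a = t := by
  obtain ⟨y, -, e⟩ := (Nat.card_eq_two_iff' (1 : Z)).1 c
  exact (em (a = 1)).imp_right fun n => congrArg Subtype.val
    ((e ⟨a, ha⟩ fun k => n (congrArg Subtype.val k)).trans (e ⟨t, ht⟩ fun k => t1 (congrArg Subtype.val k)).symm)

theorem cen_two (c : Nat.card Z = 2) {g v : G} (hg : g ∈ 𝒩[A]) (hv : v ∈ Z) : g * v = v * g := by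
  by_cases e : v = 1
  · simp [e]
  · exact mul_inv_eq_iff_eq_mul.1 ((two c hv e (h.conj_Z hg hv)).resolve_left (mt conj_eq_one_iff.1 e))

theorem exists_Z : ∃ t ∈ Z, t ≠ 1 := by
  obtain ⟨⟨t, a⟩, b⟩ := ne_bot_iff_exists_ne_one.1 h.Z_ne
  exact ⟨t, a, fun e => b (Subtype.ext e)⟩

end LD

namespace Fm.Ok

variable {F F' : Fm G} (h : F.Ok)
include h

theorem t2 {k c : G} (hk : k ∈ 𝒦[F.A]) (k1 : k ≠ 1) (kk : k * k = 1) (e : c * k = k * c) :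
    c ∈ 𝒩[F.A] := h.te c k hk k1 kk (by rwa [e, mul_inv_cancel_right])

theorem zN {v c : G} (hv : v ∈ F.Z) (v1 : v ≠ 1) (e : c * v = v * c) : c ∈ 𝒩[F.A] :=
  h.t2 (h.ZK hv) v1 (h.Zsq v hv) e

theorem t1 (r : F.Rel F') {k : G} (hk : k ∈ 𝒦[F.A]) (hk' : k ∈ 𝒦[F'.A]) (k1 : k ≠ 1) (k2 : E2 k) :
    F'.A = F.A := by
  obtain ⟨g, rfl⟩ := r
  obtain ⟨n, a, b⟩ := k2.exists_invol k1
  refine cj_A (h.te g _ (mem_K.1 (pow_mem hk' n)) (fun e => a ?_) ?_ ?_)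
  · rwa [← inv_inv g, inv_inv g⁻¹, conj_eq_one_iff] at e
  · rw [← inv_inv g, inv_inv g⁻¹, conj_mul, b]; simp
  · simpa [mul_assoc] using pow_mem hk n

theorem move {P : Subgroup G} (hP : P ≤ 𝒩[F.A]) (h2 : IsPGroup 2 P) :
    ∃ F', F.Rel F' ∧ F'.A = F.A ∧ F'.Z = F.Z ∧ ∀ p ∈ P, p * F'.z = F'.z * p := by
  obtain ⟨c, hc, e⟩ := h.syl P hP h2
  refine ⟨_, rel_cj F c, cj_A (le_normalizer hc), Subgroup.ext fun x => mem_cj.trans
    ⟨fun k => ?_, fun k => ?_⟩, e⟩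
  · simpa [mul_assoc] using h.conj_Z (le_normalizer hc) k
  · simpa using h.conj_Z (inv_mem (le_normalizer hc)) k

variable [Finite G]

theorem notK (r : F.Rel F') : F.z ∉ 𝒦[F'.A] := by
  have : Fact (Nat.Prime 2) := ⟨Nat.prime_two⟩
  intro hz
  obtain ⟨S, hS, Sz⟩ := h.exists_syl le_normalizer le_rfl
  have SN : S ≤ 𝒩[F'.A] := fun p hp => (h.rel r).t2 hz h.z1 h.zz (Sz p hp)
  obtain ⟨F', r', e, -, Sz'⟩ := (h.rel r).move SN hS.isPGroup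
  rw [← e] at hz SN
  replace r := r.trans r'
  have h' := h.rel r
  have hS' : SylIn 2 S 𝒩[F'.A] := by
    obtain ⟨g, rfl⟩ := r
    exact SylIn.of_card_le (T := H49.cj S g)
      ((nor_cj F.A g).symm ▸ (hS.map_conj g : SylIn 2 (H49.cj S g) (H49.cj _ g))) SN hS.isPGroup
      (card_cj S g).le
  have QS := h.le_syl hS h.QN hS.le Sz
  have QS' := h'.le_syl hS' h'.QN SN Sz'
  obtain ⟨t, tZ, t1, St⟩ := h.exists_fix hS.le hS.isPGroup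
  have ne : F'.A ≠ F.A := fun e => h.zK (e ▸ hz)
  have k1 := (h'.cenQ (SN (QS (h.ZQ tZ))) fun b hb => (St b (QS' hb)).symm).resolve_left
    fun k => ne (h.t1 r (h.ZK tZ) k t1 (h.e2 (h.ZQ tZ)))
  have k2 := h.cenQ (hS.le (QS' h'.zQ)) fun b hb => (Sz' b (QS hb)).symm
  have c2 : ∀ c ∈ F.A, c * F.z = F.z * c → c ∈ 𝒩[F'.A] ∧ c * F'.z = F'.z * c := fun c hc cz =>
    ⟨h'.t2 hz h.z1 h.zz cz, LD.comm_of k2 hc cz⟩
  have c3 : ∀ c ∈ F'.A, c * F'.z = F'.z * c → c ∈ 𝒩[F.A] ∧ c * F.z = F.z * c := fun c hc cz =>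
    ⟨h.zN tZ t1 (LD.comm_of (Or.inr k1) hc cz), hz c hc⟩
  obtain ⟨X, X1, X2, X3⟩ := h.xp
  obtain ⟨Y, Y1, Y2, Y3⟩ := h'.xp
  have m := @mem_centralizer_singleton_iff G
  have q1 := h'.o2 F.Q (fun q hq => ⟨h'.outP (fun x hx => (c2 x (X1 hx).1 (m.1 (X1 hx).2)).1) X2
    (X3 q (h.QA hq) (h.cz q hq) (h.e2 hq)), m.2 (Sz' q (QS hq))⟩) h.Q2
    fun c hc cz => h.nor c (c3 c hc cz).1 (c3 c hc cz).2
  have q2 := h.o2 F'.Q (fun q hq => ⟨h.outP (fun x hx => (c3 x (Y1 hx).1 (m.1 (Y1 hx).2)).1) Y2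
    (Y3 q (h'.QA hq) (h'.cz q hq) (h'.e2 hq)), m.2 (Sz q (QS' hq))⟩) h'.Q2
    fun c hc cz => h'.nor c (c2 c hc cz).1 (c2 c hc cz).2
  have cm : ∀ a ∈ F.Q, ∀ b ∈ F'.Q, a * b = b * a := fun a ha b hb => by
    by_contra n
    have e1 := (h.cm_sup ha (q2 hb)).resolve_left n
    rw [(h'.cm_sup hb (q1 ha)).resolve_left (Ne.symm n), mul_assoc, left_eq_mul, ← h.zz,
      mul_left_inj] at e1
    exact h'.zK (e1 ▸ hz)
  have y : ∀ x ∈ Y, x ∈ 𝒦[F.A] ∨ x * F.z ∈ 𝒦[F.A] := fun x hx =>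
    h.cenQ (c3 x (Y1 hx).1 (m.1 (Y1 hx).2)).1 fun a ha =>
      LD.comm_of (h'.cenQ (SN (QS ha)) (cm a ha)) (Y1 hx).1 (m.1 (Y1 hx).2)
  obtain ⟨u, uZ, u1⟩ := h'.exists_Z
  exact ne (h.t1 r ((Y2.ge.trans (commutator_le.2 fun a ha b hb => h.comm_K (y a ha) (y b hb)))
    (Y3 u (h'.ZA uZ) (h'.cz u (h'.ZQ uZ)) (h'.e2 (h'.ZQ uZ)))) (h'.ZK uZ) u1 (h'.e2 (h'.ZQ uZ)))

theorem fused (r : F.Rel F') {k : G} (hk : k ∈ 𝒦[F.A]) (kk : k * k = 1) (hd : k * F.z ∈ 𝒦[F'.A]) :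
    ∃ t q, t ≠ 1 ∧ (∀ a, a ∈ F.Z ↔ a = 1 ∨ a = t) ∧ (∀ k ∈ 𝒦[F.A], E2 k → k ∈ F.Z) ∧
      q * t * q⁻¹ = t * F.z ∧ ∀ r ∈ 𝒦[F.A], q⁻¹ * r * q ∈ 𝒦[F.A] ∨ q⁻¹ * (r * F.z) * q ∈ 𝒦[F.A] := by
  have : Fact (Nat.Prime 2) := ⟨Nat.prime_two⟩
  have kz := hk _ h.zA
  have d1 : k * F.z ≠ 1 := fun e => h.zK ((mul_mem_cancel_left hk).1 (e ▸ one_mem _))
  have dd : k * F.z * (k * F.z) = 1 := by
    rw [mul_assoc, ← mul_assoc F.z, kz, mul_assoc, h.zz, mul_one, kk]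
  have c1 : ∀ c ∈ F.A, c * F.z = F.z * c → c ∈ 𝒩[F'.A] := fun c hc cz =>
    (h.rel r).t2 hd d1 dd (Commute.mul_right (hk c hc) cz)
  obtain ⟨T, hT, Tz⟩ := h.exists_syl le_rfl le_normalizer
  obtain ⟨F', r', e, -, Tz'⟩ := (h.rel r).move (fun p hp => c1 p (hT.le hp) (Tz p hp)) hT.isPGroup
  rw [← e] at hd c1
  replace r := r.trans r'
  have h' := h.rel r
  have i : ∀ a ∈ 𝒦[F.A], a ∈ 𝒦[F'.A] → E2 a → a = 1 := fun a a1 a2 a3 => by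
    by_contra n
    rw [h.t1 r a1 a2 n a3] at hd
    exact h.zK ((mul_mem_cancel_left hk).1 hd)
  obtain ⟨X, X1, X2, X3⟩ := h.xp
  have TA : T ≤ F'.A ⊔ 𝒦[F'.A] := fun p hp => h'.outP (fun x hx => c1 x (X1 hx).1
    (mem_centralizer_singleton_iff.1 (X1 hx).2)) X2 (X3 p (hT.le hp) (Tz p hp) (E2.of_mem hT.isPGroup hp))
  have TN := TA.trans (sup_le_nor _)
  have j : ∀ c ∈ T, c ∈ 𝒦[F'.A] → c = 1 ∨ c = k * F.z := fun c hc hc' => by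
    have cA := hT.le hc
    have c2 := E2.of_mem hT.isPGroup hc
    refine (h.cenL (le_normalizer cA) (Tz c hc) (fun v hv => h.ZK hv c cA) (h.notK r)
      (fun q hq l => cen_conj (c1 q (h.QA hq) (h.cz q hq))) fun b hb => ?_).imp
      (fun m => i c m hc' c2) fun m => ?_
    · convert mul_mem hc' (cen_conj (c1 b (h.QA hb) (h.cz b hb)) (inv_mem hc')) using 1; group
    · rw [← mul_left_inj (k * F.z), dd]
      refine i _ ?_ (mul_mem hc' hd) (c2.mul (E2.of_sq dd) (Commute.mul_right (hk c cA) (Tz c hc)))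
      rw [← kz, ← mul_assoc]
      exact mul_mem m hk
  have j2 : Nat.card ↥(T ⊓ 𝒦[F'.A]) ≤ Nat.card ↥(zpowers (k * F.z)) := card_le_of_le fun c hc => by
    rcases j c hc.1 hc.2 with rfl | rfl
    exacts [one_mem _, mem_zpowers _]
  rw [Nat.card_zpowers, orderOf_eq_prime (by rw [pow_two, dd]) d1] at j2
  obtain ⟨T', hT', cT⟩ : ∃ T', SylIn 2 T' F'.A ∧ Nat.card T' = Nat.card T := by
    obtain ⟨g, rfl⟩ := r
    exact ⟨_, hT.map_conj g, card_cj T g⟩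
  have j3 : Nat.card F'.Z ≤ Nat.card ↥(T' ⊓ 𝒦[F'.A]) := card_le_of_le (le_inf (le_sylIn_of_normal hT'
    h'.Z2 h'.ZA fun p hp => mem_normalizer_of_conj_mem fun v =>
      h'.conj_Z (le_normalizer (hT'.le hp))) h'.ZK)
  obtain ⟨s1, s2⟩ := syl_mod hT' TA hT.isPGroup
  have n1 := XS.card_mul_relIndex' 𝒦[F'.A] T
  have n2 := XS.card_mul_relIndex' 𝒦[F'.A] T'
  have p : 0 < 𝒦[F'.A].relIndex T' := Nat.pos_of_ne_zero index_ne_zero_of_finite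
  have zc := h'.Zc
  have n3 : Nat.card ↥(T' ⊓ 𝒦[F'.A]) ≤ Nat.card ↥(T ⊓ 𝒦[F'.A]) := Nat.le_of_mul_le_mul_right
    (by rw [n2, cT, ← n1]; exact Nat.mul_le_mul_left _ s1) p
  have z2 : Nat.card F'.Z = 2 := by omega
  have s3 := s2 (Nat.le_of_mul_le_mul_left (c := 2) (by
    rw [← show Nat.card ↥(T' ⊓ 𝒦[F'.A]) = 2 by omega, n2, cT, ← n1]
    exact Nat.mul_le_mul_right _ (by omega)) two_pos) _ h'.QA h'.Q2
    fun p hp => mem_normalizer_of_conj_mem (h'.nor p (TN hp) (Tz' p hp))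
  have kT : k * F.z ∈ T := by
    by_contra n
    have : T ⊓ 𝒦[F'.A] = ⊥ := eq_bot_iff.2 fun c hc => (j c hc.1 hc.2).resolve_right fun e => n (e ▸ hc.1)
    rw [this, card_bot] at n3
    omega
  have kZ := h.ztwo k ((mul_mem_cancel_right h.zA).1 (hT.le kT)) hk (E2.of_sq kk)
  have k1 : k ≠ 1 := fun e => h.notK r (by simpa [e] using hd)
  have z3 := r.card_Z ▸ z2
  have w : ∀ a ∈ 𝒦[F.A], a ∈ 𝒦[F'.A] ∨ a * F'.z ∈ 𝒦[F'.A] := fun a ha => by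
    have aN := h'.t2 hd d1 dd (ha _ (hT.le kT)).symm
    have c : ∀ b ∈ F'.Q, a * b * a⁻¹ * b⁻¹ ∈ 𝒦[F'.A] := fun b hb => by
      obtain ⟨τ, a1, a2⟩ := s3 b hb
      convert cen_conj (TN a1) (mul_mem (cen_conj aN a2) (inv_mem a2)) using 1
      rw [← mul_assoc a, ← ha _ (hT.le (inv_mem a1))]; group
    refine h'.cenL aN (h'.ne a aN ?_) (fun v => h'.cen_two z2 aN) h'.zK
      (fun q hq l => cen_conj (h'.QN hq)) c
    simpa [inv_eq_of_mul_eq_one_right h'.zz] using c _ h'.zQ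
  have kz' := (w k hk).resolve_left fun m => k1 (i k hk m (E2.of_sq kk))
  have cz' : F'.z * k = k * F'.z :=
    mul_right_cancel (b := F'.z) (by rw [mul_assoc, kz' _ h'.zA])
  have w2 : ∀ a ∈ 𝒦[F.A], E2 a → a ∈ F.Z := fun a ha a2 => by
    rcases w a ha with m | m
    · exact i a ha m a2 ▸ one_mem _
    have := mul_mem m kz'
    rw [← cz', mul_assoc, ← mul_assoc F'.z, h'.zz, one_mul] at this
    rw [eq_inv_of_mul_eq_one_left (i _ (mul_mem ha hk) this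
      (a2.mul (E2.of_sq kk) (ha k (h.ZA kZ)).symm))]
    exact inv_mem kZ
  have w3 : ∀ a ∈ 𝒦[F'.A], a * a = 1 → a ∈ F'.Z := fun a ha a2 => by
    obtain ⟨g, rfl⟩ := r
    exact mem_cj.2 (w2 _ (mem_K.1 ha) (E2.of_sq (by
      rw [← inv_inv g, inv_inv g⁻¹, conj_mul, a2]; simp)))
  have dZ := w3 _ hd dd
  have zz : F'.z = F.z := mul_left_cancel ((LD.two z2 dZ d1 (w3 _ kz' (by
    rw [mul_assoc, ← mul_assoc F'.z, cz', mul_assoc, h'.zz, mul_one, kk]))).resolve_left fun e =>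
      h'.notK r.symm ((mul_mem_cancel_left hk).1 (e ▸ one_mem _)))
  obtain ⟨g, rfl⟩ := r
  exact ⟨k, g, k1, fun a => ⟨LD.two z3 kZ k1, by rintro (rfl | rfl); exacts [one_mem _, kZ]⟩, w2,
    (LD.two z2 dZ d1 (conj_mem_cj g kZ)).resolve_left (mt conj_eq_one_iff.1 k1),
    fun a ha => (w a ha).imp mem_K.1 fun m => mem_K.1 (zz ▸ m)⟩

end Fm.Ok

end Cfsg.Agent.H48.Be
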