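import Cfsg.Agent.H48.BeF1C

/-! A standard subgroup of type `²E₆(2)`: the case without fusion, four-groups. -/

set_option autoImplicit false

namespace Cfsg.Agent.H48.Be

open Cfsg Subgroup Cfsg.Agent.H49 Cfsg.Agent.H98

variable {G : Type*} [Group G]

namespace LD

variable {A Z Q : Subgroup G} {z : G} (h : LD A Z Q z)
include h

theorem supN : Q ⊔ 𝒦[A] ≤ 𝒩[A] := (sup_le_sup_right h.QA _).trans (sup_le_nor A)

theorem cz_sup {a : G} (ha : a ∈ Q ⊔ 𝒦[A]) : a * z = z * a := by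
  obtain ⟨q, hq, k⟩ := (mem_sup_cen h.QA).1 ha
  rw [← mul_inv_cancel_left q a, mul_assoc, ← k z h.zA, ← mul_assoc, h.cz q hq, mul_assoc]

theorem conj_sup {a b : G} (ha : a ∈ Q) (hb : b ∈ Q ⊔ 𝒦[A]) (n : a * b ≠ b * a) :
    a * b * a⁻¹ = b * z := by
  rw [(h.cm_sup ha hb).resolve_left n, mul_assoc b, h.cz a ha]; group

theorem nn_left {x y a : G} (hx : x ∈ Q) (hy : y ∈ Q) (ha : a ∈ Q ⊔ 𝒦[A]) (h1 : x * a ≠ a * x)
    (h2 : y * a ≠ a * y) : x * y * a = a * (x * y) := by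
  rw [mul_assoc, (h.cm_sup hy ha).resolve_left h2, ← mul_assoc, ← mul_assoc,
    (h.cm_sup hx ha).resolve_left h1,
    mul_assoc _ z, ← h.cz y hy, mul_assoc, mul_assoc, mul_assoc, h.zz, mul_one]

theorem nn_right {x a b : G} (hx : x ∈ Q) (ha : a ∈ Q ⊔ 𝒦[A]) (hb : b ∈ Q ⊔ 𝒦[A])
    (h1 : x * a ≠ a * x) (h2 : x * b ≠ b * x) : x * (a * b) = a * b * x := by
  rw [← mul_inv_eq_iff_eq_mul, ← conj_mul, h.conj_sup hx ha h1, h.conj_sup hx hb h2, mul_assoc,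
    ← mul_assoc z, ← h.cz_sup hb, mul_assoc, h.zz, mul_one]

theorem half [Finite G] {U : Subgroup G} (hU : U ≤ Q) {a : G} (ha : a ∈ Q ⊔ 𝒦[A]) :
    Nat.card U ≤ 2 * Nat.card ↥(U ⊓ centralizer {a}) := card_le_two_mul fun x hx y hy n1 n2 => by
  rw [mem_centralizer_singleton_iff] at *
  exact h.nn_left (hU hx) (hU hy) ha n1 n2

theorem sep {a b : G} (ha : a ∈ Q ⊔ 𝒦[A]) (hb : b ∈ Q ⊔ 𝒦[A]) (h1 : ∃ x ∈ Q, x * b ≠ b * x)
    (h2 : ∃ x ∈ Q, x * (a * b) ≠ a * b * x) : ∃ x ∈ Q, x * a = a * x ∧ x * b ≠ b * x := by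
  obtain ⟨x, hx, n1⟩ := h1
  obtain ⟨y, hy, n2⟩ := h2
  by_cases c : x * a = a * x
  · exact ⟨x, hx, c, n1⟩
  by_cases c' : y * a = a * y
  · exact ⟨y, hy, c', fun e => n2 (Commute.mul_right c' e)⟩
  refine ⟨x * y, mul_mem hx hy, h.nn_left hx hy ha c c', XS.mul_ne_of_ne_of_eq n1 ?_⟩
  by_contra e
  exact n2 (h.nn_right hy ha hb c' e)

theorem big_cen [Finite G] {c : G} (hc : c ∈ 𝒩[A]) (h2 : E2 c) {B : Subgroup G} (hB : B ≤ Q)
    (n : Nat.card Q ≤ 4 * Nat.card B) (e : ∀ b ∈ B, c * b = b * c) : c ∈ Q ⊔ 𝒦[A] := by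
  obtain ⟨x, hx, y, hy, k⟩ := h.nonab hB n
  have a : Commute c x := e x hx
  have b : Commute c y := e y hy
  exact (mem_sup_cen h.QA).2 (h.rk8 c hc
    (k ▸ ((a.mul_right b).mul_right a.inv_right).mul_right b.inv_right) h2 B hB (by omega) e)

theorem perp [Finite G] {u c : G} (hu : u ∈ Q ⊔ 𝒦[A]) (hc : c ∈ 𝒩[A]) (h2 : E2 c)
    (e : ∀ b ∈ Q, b * u = u * b → b * c = c * b) :
    (c ∈ 𝒦[A] ∨ c * z ∈ 𝒦[A]) ∨ u * c ∈ 𝒦[A] ∨ u * c * z ∈ 𝒦[A] := by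
  have k := h.big_cen hc h2 (B := Q ⊓ centralizer {u}) inf_le_left (by have := h.half le_rfl hu; omega)
    fun b hb => (e b hb.1 (mem_centralizer_singleton_iff.1 hb.2)).symm
  by_contra n
  rw [not_or] at n
  obtain ⟨x, hx, a, b⟩ := h.sep hu k
    (by by_contra! m; exact n.1 (h.cenQ hc fun b hb => (m b hb).symm))
    (by by_contra! m; exact n.2 (h.cenQ (mul_mem (h.supN hu) hc) fun b hb => (m b hb).symm))
  exact b (e x hx a)

theorem four [Finite G] (c : Nat.card Z = 4) {a b v : G} (ha : a ∈ Z) (hb : b ∈ Z) (a1 : a ≠ 1)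
    (b1 : b ≠ 1) (n : b ≠ a) (hv : v ∈ Z) : v = 1 ∨ v = a ∨ v = b ∨ v = a * b := by
  have f : Four a b := ⟨a1, b1, h.Zsq a ha, h.Zsq b hb, n, h.ZK hb a (h.ZA ha)⟩
  rwa [← eq_of_le_of_card_ge ((closure_le Z).2 (Set.pair_subset ha hb)) (c.trans f.card_closure.symm).le,
    f.mem_closure] at hv

theorem swap [Finite G] (c : Nat.card Z = 4) {a b x : G} (ha : a ∈ Z) (hb : b ∈ Z) (a1 : a ≠ 1)
    (hx : x ∈ 𝒩[A]) (e : x * a = a * x) (n : x * b ≠ b * x) : x * b * x⁻¹ = a * b := by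
  have n1 : b ≠ 1 := by rintro rfl; simp at n
  rcases h.four c ha hb a1 n1 (by rintro rfl; exact n e) (h.conj_Z hx hb) with k | k | k | k
  · exact absurd (conj_eq_one_iff.1 k) n1
  · rw [mul_inv_eq_iff_eq_mul, ← e, mul_right_inj] at k
    exact absurd (k ▸ e) n
  · exact absurd (mul_inv_eq_iff_eq_mul.1 k) n
  · exact k

end LD

namespace Fm

/-- no product of the root involution with an involution of the centralizer is in a conjugate of the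
centralizer -/
structure Ns (F : Fm G) : Prop extends F.Ok where
  ns : ∀ F', F.Rel F' → ∀ k ∈ 𝒦[F.A], k * k = 1 → k * F.z ∉ 𝒦[F'.A]

variable {F F' : Fm G}

theorem Ns.rel (h : F.Ns) (r : F.Rel F') : F'.Ns := ⟨h.toOk.rel r, fun F'' r' k hk kk m => by
  obtain ⟨g, rfl⟩ := r
  refine h.ns _ (((rel_cj F g).trans r').trans (rel_cj F'' g⁻¹)) _ (mem_K.1 hk)
    (by rw [← inv_inv g, inv_inv g⁻¹, conj_mul, kk]; simp) ?_
  convert conj_K g⁻¹ m using 1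
  simp [cj, mul_assoc]⟩

theorem cj_z {c : G} (e : c * F.z = F.z * c) : (F.cj c).z = F.z := mul_inv_eq_of_eq_mul e

theorem Ok.eqZ (h : F.Ok) (r : F.Rel F') (e : F'.A = F.A) {v : G} (hv : v ∈ F'.Z) : v ∈ F.Z :=
  h.ztwo v (e ▸ (h.rel r).ZA hv) (e ▸ (h.rel r).ZK hv) (E2.of_sq ((h.rel r).Zsq v hv))

namespace Ns

variable (h : F.Ns)
include h

theorem nconj {k : G} (hk : k ∈ 𝒦[F.A]) (kk : k * k = 1) (x : G) : x * k * x⁻¹ ≠ k * F.z :=
  fun e => h.ns _ (rel_cj F x) k hk kk (e ▸ conj_K x hk)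

theorem ns' (r : F.Rel F') {k : G} (hk : k ∈ 𝒦[F'.A]) (kk : k * k = 1) (kz : k * F.z = F.z * k) :
    k * F.z ∉ 𝒦[F.A] := fun m => h.ns F' r _ m
  (by rw [mul_assoc, ← mul_assoc F.z, ← kz, mul_assoc, h.zz, mul_one, kk])
  (by rwa [mul_assoc, h.zz, mul_one])

theorem noncen (r : F.Rel F') (ne : F'.A ≠ F.A) {k : G} (hk : k ∈ 𝒦[F'.A]) (k1 : k ≠ 1)
    (kk : k * k = 1) (hN : k ∈ 𝒩[F.A]) : ∃ x ∈ F.Q, x * k ≠ k * x := by
  by_contra! m
  exact (h.cenQ hN fun b hb => (m b hb).symm).elim (fun a => ne (h.t1 r a hk k1 (E2.of_sq kk)))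
    (h.ns' r hk kk (m _ h.zQ).symm)

theorem plem (r : F.Rel F') (ez : F'.z = F.z) {k : G} (hk : k ∈ 𝒦[F'.A]) (k1 : k ≠ 1)
    (kk : k * k = 1) (hQ : k ∈ F.Q ⊔ 𝒦[F.A]) : F'.A = F.A := by
  by_contra ne
  obtain ⟨x, hx, n⟩ := h.noncen r ne hk k1 kk (h.supN hQ)
  exact (h.rel r).nconj hk kk x (ez ▸ h.conj_sup hx hQ n)

theorem notcen (r : F.Rel F') (ez : F'.z = F.z) {k : G} (hk : k ∈ 𝒦[F'.A]) (k1 : k ≠ 1)
    (kk : k * k = 1) (hN : k ∈ 𝒩[F.A]) (n : Nat.card F.Q ≤ 8 * Nat.card ↥(F.Q ⊓ centralizer {k})) :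
    F'.A = F.A :=
  h.plem r ez hk k1 kk ((mem_sup_cen h.QA).2 (h.rk8 k hN (ez ▸ (hk _ (h.rel r).zA).symm) (E2.of_sq kk) _
    inf_le_left n fun _ hb => (mem_centralizer_singleton_iff.1 hb.2).symm))

theorem conj_comm (r : F.Rel F') (ez : F'.z = F.z) {k x : G} (hk : k ∈ 𝒦[F'.A])
    (kk : k * k = 1) (hN : k ∈ 𝒩[F.A]) (hx : x ∈ F.Q) :
    k * (x * k * x⁻¹) ∈ F.Q ∧ k * (x * k * x⁻¹) = x * k * x⁻¹ * k := by
  have i := inv_eq_of_mul_eq_one_right kk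
  have m : k * (x * k * x⁻¹) ∈ F.Q := by
    convert mul_mem (h.nor k hN (ez ▸ (hk _ (h.rel r).zA).symm) x hx) (inv_mem hx) using 1
    rw [i]; group
  have j : (x * k * x⁻¹)⁻¹ = x * k * x⁻¹ := by rw [conj_inv, i]
  refine ⟨m, (h.sq _ m).elim (fun e => ?_) fun e => absurd ?_ ((h.rel r).nconj hk kk (x * k * x⁻¹))⟩
  · rw [← inv_eq_of_mul_eq_one_right e, mul_inv_rev, i, j]
  · rw [ez, ← e, j, ← mul_assoc k, ← mul_assoc k, kk]; group

variable [Finite G]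

theorem inner (r : F.Rel F') (ne : F'.A ≠ F.A) {u : G} (hu : u ∈ 𝒦[F'.A]) (u1 : u ≠ 1)
    (uu : u * u = 1) (hA : u ∈ F.A ⊔ 𝒦[F.A]) : ∃ F1 F2 F3 : Fm G, F.Rel F1 ∧ F.Rel F2 ∧ F.Rel F3 ∧
      F1.A = F.A ∧ F2.A = F.A ∧ F3.A = F.A ∧ F1.z * F2.z = F3.z ∧ u ∈ F1.Q ⊔ 𝒦[F.A] ∧
        u ∈ F2.Q ⊔ 𝒦[F.A] := by
  obtain ⟨f, hf, k, hk, rfl, ff, kk, e | ⟨c, hc, e⟩ | ⟨a, ha, b, hb, c, hc, e, e1, e2, -⟩⟩ :=
    h.decomp hA uu
  · exact absurd (h.t1 r (mul_mem hk (h.ZK e)) hu u1 (E2.of_sq uu)) ne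
  · refine absurd ?_ (h.ns _ (r.trans (rel_cj F' c⁻¹)) _ (mul_mem hk (h.ZK e)) (by
      rw [mul_assoc, ← mul_assoc _ k, hk _ (h.ZA e), mul_assoc, h.Zsq _ e, mul_one, kk]))
    convert conj_K c⁻¹ hu using 1
    rw [mul_assoc k, mul_assoc _ F.z, h.zz, ← mul_assoc c⁻¹, hk _ (inv_mem hc)]; group
  · exact ⟨_, _, _, rel_cj F a, rel_cj F b, rel_cj F c, cj_A (le_normalizer ha), cj_A (le_normalizer hb),
      cj_A (le_normalizer hc), e, mul_mem (mem_sup_right hk) (mem_sup_left (mem_cj.2 e1)),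
      mul_mem (mem_sup_right hk) (mem_sup_left (mem_cj.2 e2))⟩

theorem nofour (r : F.Rel F') (c : Nat.card F'.Z = 4) (hN : F'.Z ≤ 𝒩[F.A]) : F'.A = F.A := by
  by_contra ne
  have h' := h.rel r
  have aux : ∀ a ∈ F'.Z, ∀ b ∈ F'.Z, a ≠ 1 → b ≠ 1 → a * b ≠ 1 → a ∉ F.A ⊔ 𝒦[F.A] := by
    intro a ha b hb a1 b1 ab m
    obtain ⟨F, -, -, r', -, -, e, -, -, -, m, -⟩ := h.inner r ne (h'.ZK ha) a1 (h'.Zsq a ha) m
    rw [← e] at m hN ne
    replace h := h.rel r'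
    replace r := r'.symm.trans r
    have n : ∀ x, x * a = a * x → x * b ≠ b * x → x * b * x⁻¹ = a * b := fun x k =>
      h'.swap c ha hb a1 (h'.zN ha a1 k) k
    have k := h.big_cen (hN hb) (E2.of_sq (h'.Zsq b hb)) (B := F.Q ⊓ centralizer {a} ⊓ centralizer {b})
      (inf_le_left.trans inf_le_left) (by
        have := h.half le_rfl m
        have := card_le_two_mul (U := F.Q ⊓ centralizer {a}) (V := centralizer {b}) fun x hx y hy n1 n2 => by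
          rw [mem_centralizer_singleton_iff] at *
          have k1 := mem_centralizer_singleton_iff.1 hx.2
          rw [← mul_inv_eq_iff_eq_mul, show x * y * b * (x * y)⁻¹ = x * (y * b * y⁻¹) * x⁻¹ by group,
            n y (mem_centralizer_singleton_iff.1 hy.2) n2, ← conj_mul, n x k1 n1, k1,
            mul_inv_cancel_right, ← mul_assoc, h'.Zsq a ha, one_mul]
        omega) fun x hx => (mem_centralizer_singleton_iff.1 hx.2).symm
    obtain ⟨x, hx, k1, k2⟩ := h.sep m k (h.noncen r ne (h'.ZK hb) b1 (h'.Zsq b hb) (hN hb))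
      (h.noncen r ne (h'.ZK (mul_mem ha hb)) ab (h'.Zsq _ (mul_mem ha hb)) (hN (mul_mem ha hb)))
    exact h.notK r ((mul_mem_cancel_left (h'.ZK hb)).1
      (h.conj_sup hx k k2 ▸ cen_conj (h'.zN ha a1 k1) (h'.ZK hb)))
  obtain ⟨a, ha, a1⟩ := h'.exists_Z
  obtain ⟨b, hb, n⟩ : ∃ b ∈ F'.Z, b ∉ zpowers a := by
    by_contra! k
    have := card_le_of_le k
    rw [Nat.card_zpowers, orderOf_eq_prime (p := 2) (by rw [pow_two, h'.Zsq a ha]) a1] at this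
    omega
  have b1 : b ≠ 1 := by rintro rfl; exact n (one_mem _)
  have ab : a * b ≠ 1 := fun e => n (eq_inv_of_mul_eq_one_right e ▸ inv_mem (mem_zpowers a))
  have cm := h'.ZK hb a (h'.ZA ha)
  exact aux _ (mul_mem ha hb) b hb ab b1 (by rwa [mul_assoc, h'.Zsq b hb, mul_one])
    (h.out2 (hN ha) (hN hb) (h'.Zsq a ha) (h'.Zsq b hb) cm (aux a ha b hb a1 b1 ab)
      (aux b hb a ha b1 a1 (cm ▸ ab)))

theorem claim4 (r : F.Rel F') (ez : F'.z = F.z) (c : Nat.card F.Z = 4) {t u : G} (ht : t ∈ F.Z)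
    (t1 : t ≠ 1) (hu : u ∈ F'.Z) (u1 : u ≠ 1) (e : u * t = t * u) : F'.A = F.A := by
  by_contra ne
  have h' := h.rel r
  have uN := h.zN ht t1 e
  have uu := h'.Zsq u hu
  have c' := r.card_Z.trans c
  have k : ∀ x ∈ F.Q, x * u ≠ u * x → x * u * x⁻¹ = u * t := fun x hx n => by
    obtain ⟨m, cm⟩ := h.conj_comm r ez (h'.ZK hu) uu uN hx
    have r4 := r.trans (rel_cj F' x)
    have m4 : x * u * x⁻¹ ∈ (F'.cj x).Z := conj_mem_cj x hu
    have z4 : (F'.cj x).z = F.z := (cj_z (ez ▸ h.cz x hx)).trans ez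
    have n4 : x * u * x⁻¹ ≠ 1 := mt conj_eq_one_iff.1 u1
    have y1 : u * (x * u * x⁻¹) ≠ 1 := fun k => n (mul_inv_eq_iff_eq_mul.1 (mul_left_cancel (k.trans uu.symm)))
    have yy : u * (x * u * x⁻¹) * (u * (x * u * x⁻¹)) = 1 := by
      rw [mul_assoc, ← mul_assoc _ u, ← cm, mul_assoc, conj_mul, uu, ← mul_assoc, uu]; simp
    have n5 : (F'.cj x).A ≠ F'.A := fun k =>
      ne (h.plem r ez (mul_mem (h'.ZK hu) (k ▸ (h.rel r4).ZK m4)) y1 yy (mem_sup_left m))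
    obtain ⟨v, hv, nv⟩ : ∃ v ∈ F'.Z, x * u * x⁻¹ * v ≠ v * (x * u * x⁻¹) := by
      by_contra! k
      exact n5 ((h.rel r4).nofour (rel_cj F' x).symm c' fun v hv =>
        (h.rel r4).zN m4 n4 (k v hv).symm).symm
    have s := h'.swap c' hu hv u1 (h'.zN hu u1 cm.symm) cm.symm nv
    have m5 : u * (x * u * x⁻¹) ∈ 𝒦[((F'.cj x).cj v⁻¹).A] := by
      convert conj_K v⁻¹ ((h.rel r4).ZK m4) using 1
      rw [inv_inv, mul_assoc v⁻¹, mul_inv_eq_iff_eq_mul.1 s, h'.ZK hv u (h'.ZA hu)]; group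
    have e5 := h.plem (r4.trans (rel_cj _ v⁻¹))
      ((cj_z (by rw [z4, ← ez]; exact (h'.ZK (inv_mem hv) _ h'.zA).symm)).trans z4) m5 y1 yy (mem_sup_left m)
    have yZ := h.ztwo _ (h.QA m) (e5 ▸ m5) (h.e2 m)
    have cy : u * (u * (x * u * x⁻¹)) = u * (x * u * x⁻¹) * u := by rw [mul_assoc u _ u, cm]
    have : u * (x * u * x⁻¹) = t := by
      by_contra n6
      refine ne ((h'.nofour r.symm c fun w hw => h'.zN hu u1 ?_).symm)
      rcases h.four c ht yZ t1 y1 n6 hw with rfl | rfl | rfl | rfl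
      exacts [by simp, e.symm, cy.symm, (Commute.mul_right e cy).symm]
    rw [← this, ← mul_assoc, uu, one_mul]
  refine ne (h.notcen r ez (h'.ZK hu) u1 uu uN ?_)
  have := card_le_two_mul (U := F.Q) (V := centralizer {u}) fun x hx y hy n1 n2 => by
    rw [mem_centralizer_singleton_iff] at *
    rw [← mul_inv_eq_iff_eq_mul, show x * y * u * (x * y)⁻¹ = x * (y * u * y⁻¹) * x⁻¹ by group,
      k y hy n2, ← conj_mul, k x hx n1, h.ZK ht x (h.QA hx), mul_inv_cancel_right, mul_assoc,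
      h.Zsq t ht, mul_one]
  omega

end Ns

end Fm

end Cfsg.Agent.H48.Be
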