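import Cfsg.Agent.H48.BeF1D

/-! A standard subgroup of type `²E₆(2)`: two commuting central involutions with the same root
involution. -/

set_option autoImplicit false

namespace Cfsg.Agent.H48.Be

open Cfsg Subgroup Cfsg.Agent.H49 Cfsg.Agent.H98 Cfsg.Agent.H47.B6

variable {G : Type*} [Group G]

theorem LD.exists_FF [Finite G] {A Z Q : Subgroup G} {z : G} (h : LD A Z Q z) {e : G} (hN : e ∈ 𝒩[A])
    (ez : e * z = z * e) (n : ∀ x ∈ Q, x * e * x⁻¹ ≠ e * z) :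
    ∃ V ≤ Q ⊓ 𝒦[Q ⊓ centralizer {e}], (∀ w ∈ V, ∃ x ∈ Q, Ez z (e * w) (x * e * x⁻¹)) ∧
      2 * Nat.card Q ≤ Nat.card V * Nat.card ↥(Q ⊓ centralizer {e}) := by
  let V : Subgroup G :=
    { carrier := {w | w ∈ Q ∧ ∃ x ∈ Q, Ez z (e * w) (x * e * x⁻¹)}
      one_mem' := ⟨one_mem _, 1, one_mem _, Or.inl (by simp)⟩
      mul_mem' := fun {a b} ⟨ha, x, hx, k⟩ ⟨hb, y, hy, l⟩ => ⟨mul_mem ha hb, x * y, mul_mem hx hy, by
        have := l.conj (c := x) (h.cz x hx)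
        rw [← conj_mul, show x * (y * e * y⁻¹) * x⁻¹ = x * y * e * (x * y)⁻¹ by group] at this
        rw [← mul_assoc]
        exact ((k.mul_right (h.cz b hb)).trans h.zz (Ez.mul_left (h.conj hx hb) _)).trans h.zz this⟩
      inv_mem' := fun {a} ⟨ha, x, hx, k⟩ => ⟨inv_mem ha, x, hx, Ez.trans h.zz (Ez.mul_left
        ((h.sq a ha).imp eq_inv_of_mul_eq_one_left fun m => by rw [← m, inv_mul_cancel_left]) _) k⟩ }
  refine ⟨V, fun w ⟨hw, x, hx, k⟩ => ⟨hw, fun c hc => ?_⟩, fun _ k => k.2, ?_⟩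
  · have c1 : Commute c e := mem_centralizer_singleton_iff.1 hc.2
    have c2 : Commute c (x * e * x⁻¹) := by
      have : Commute (x⁻¹ * c * x⁻¹⁻¹) e := by
        rcases h.conj (inv_mem hx) hc.1 with m | m <;> rw [m]
        exacts [c1, c1.mul_left ez.symm]
      simpa [mul_assoc] using this.conj x
    have c3 : Commute c (e * w) := by
      rcases k.symm h.zz with m | m <;> rw [m]
      exacts [c2, c2.mul_right (h.cz c hc.1)]
    simpa using (c1.inv_right.mul_right c3).eq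
  · have m : ∀ x : Q, e⁻¹ * (x * e * (x : G)⁻¹) ∈ Q := fun x => by
      simpa [mul_assoc] using mul_mem (h.nor _ (inv_mem hN) (Commute.inv_left ez) _ x.2) (inv_mem x.2)
    let f : Bool × (Q ⧸ (centralizer {e}).subgroupOf Q) → V := fun p =>
      ⟨e⁻¹ * (p.2.out * e * (p.2.out : G)⁻¹) * (if p.1 then z else 1), by
        rcases p with ⟨_ | _, p⟩
        · exact ⟨by simpa using m _, _, p.out.2, Or.inl (by simp)⟩
        · exact ⟨mul_mem (m _) h.zQ, _, p.out.2, Or.inr (by simp [mul_assoc, h.zz])⟩⟩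
    have k : ∀ x y : Q, (x : G) * e * (x : G)⁻¹ ≠ y * e * (y : G)⁻¹ * z := fun x y k =>
      n _ (mul_mem (inv_mem y.2) x.2) (by
        have : (y : G)⁻¹ * x * e * ((y : G)⁻¹ * x)⁻¹ = (y : G)⁻¹ * (x * e * (x : G)⁻¹) * y := by group
        rw [this, k, mul_assoc, mul_assoc, ← h.cz _ y.2]; group)
    have k' : ∀ p q : Q ⧸ (centralizer {e}).subgroupOf Q,
        (p.out : G) * e * (p.out : G)⁻¹ = q.out * e * (q.out : G)⁻¹ → p = q := fun p q k => by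
      rw [← p.out_eq', ← q.out_eq']
      refine QuotientGroup.eq.2 (mem_centralizer_singleton_iff.2 ?_)
      change (p.out : G)⁻¹ * q.out * e = e * ((p.out : G)⁻¹ * q.out)
      rw [mul_assoc, mul_inv_eq_iff_eq_mul.1 k.symm]; group
    have i : Function.Injective f := by
      rintro ⟨a, p⟩ ⟨b, q⟩ l
      have l := congrArg Subtype.val l
      simp only [f, mul_assoc e⁻¹, mul_right_inj] at l
      cases a <;> cases b
      · rw [k' p q (by simpa using l)]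
      · exact absurd (by simpa using l) (k p.out q.out)
      · exact absurd (by simpa using l.symm) (k q.out p.out)
      · rw [k' p q (by simpa using l)]
    have := Nat.card_le_card_of_injective f i
    rw [Nat.card_prod, Nat.card_eq_fintype_card, Fintype.card_bool] at this
    rw [← XS.card_mul_relIndex' (centralizer {e}) Q, mul_left_comm, mul_comm]
    exact Nat.mul_le_mul_right _ this

namespace Fm

/-- a central involution of a conjugate frame with the same root involution -/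
def TT (F : Fm G) (a : G) : Prop := ∃ F', F.Rel F' ∧ F'.z = F.z ∧ a ∈ F'.Z ∧ a ≠ 1

/-- the same modulo the root involution -/
def TP (F : Fm G) (a : G) : Prop := ∃ b, F.TT b ∧ Ez F.z b a

variable {F F' : Fm G}

theorem TP.rel (r : F.Rel F') (ez : F'.z = F.z) {a : G} : F'.TP a ↔ F.TP a :=
  ⟨fun ⟨b, ⟨F1, r1, e, k⟩, l⟩ => ⟨b, ⟨F1, r.trans r1, e.trans ez, k⟩, ez ▸ l⟩,
    fun ⟨b, ⟨F1, r1, e, k⟩, l⟩ => ⟨b, ⟨F1, r.symm.trans r1, e.trans ez.symm, k⟩, ez ▸ l⟩⟩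

theorem TP.conj {a c : G} (k : F.TP a) (e : c * F.z = F.z * c) : F.TP (c * a * c⁻¹) := by
  obtain ⟨b, ⟨F1, r, e1, m, n⟩, l⟩ := k
  exact ⟨_, ⟨_, r.trans (rel_cj F1 c), (cj_z (e1 ▸ e)).trans e1, conj_mem_cj c m,
    mt conj_eq_one_iff.1 n⟩, l.conj e⟩

namespace Ns

variable (h : F.Ns)
include h

theorem tp_ez {a b : G} (k : F.TP a) (e : Ez F.z a b) : F.TP b :=
  k.imp fun _ l => ⟨l.1, l.2.trans h.zz e⟩

theorem tp_z {a : G} (k : F.TP a) : a * F.z = F.z * a := by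
  obtain ⟨b, ⟨F1, r, e1, m, -⟩, l⟩ := k
  have : Commute b F.z := e1 ▸ ((h.rel r).ZK m _ (h.rel r).zA).symm
  rcases l with rfl | rfl
  exacts [this, this.mul_left rfl]

theorem tp_ne {a : G} (k : F.TP a) {x : G} (e : x * F.z = F.z * x) : x * a * x⁻¹ ≠ a * F.z := by
  obtain ⟨b, ⟨F1, r, e1, m, -⟩, l⟩ := k
  have := (h.rel r).nconj ((h.rel r).ZK m) ((h.rel r).Zsq b m) x
  rw [e1] at this
  rcases l with rfl | rfl
  · exact this
  · rwa [← mul_assoc, mul_assoc _ F.z, ← (Commute.inv_left e).eq, ← mul_assoc, Ne, mul_left_inj]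

theorem tt_Q (r : F.Rel F') (ez : F'.z = F.z) {a : G} (m : a ∈ F'.Z) (n : a ≠ 1) (ha : a ∈ F.Q) :
    a ∈ F.Z :=
  h.eqZ r (h.plem r ez ((h.rel r).ZK m) n ((h.rel r).Zsq a m) (mem_sup_left ha)) m

theorem tp_Q {a : G} (k : F.TP a) (ha : a ∈ F.Q) : a ∈ 𝒦[F.Q] := by
  obtain ⟨b, ⟨F1, r, e1, m, n⟩, l⟩ := k
  rcases l with rfl | rfl
  · exact fun x hx => h.ZK (h.tt_Q r e1 m n ha) x (h.QA hx)
  · exact mul_mem (fun x hx => h.ZK (h.tt_Q r e1 m n ((mul_mem_cancel_right h.zQ).1 ha)) x (h.QA hx)) h.cz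

variable [Finite G]

theorem ff (c : Nat.card F.Z = 2) {e : G} (k : F.TP e) (hN : e ∈ 𝒩[F.A]) :
    ∃ V ≤ F.Q ⊓ 𝒦[F.Q ⊓ centralizer {e}], (∀ w ∈ V, ∃ x ∈ F.Q, Ez F.z (e * w) (x * e * x⁻¹)) ∧
      2 * Nat.card F.Q ≤ Nat.card V * Nat.card ↥(F.Q ⊓ centralizer {e}) ∧
      Nat.card ↥(F.Q ⊓ 𝒦[F.Q ⊓ centralizer {e}]) ≤ 2 * Nat.card V := by
  obtain ⟨V, a, b, d⟩ := h.exists_FF hN (h.tp_z k) fun x hx => h.tp_ne k (h.cz x hx)
  refine ⟨V, a, b, d, Nat.le_of_mul_le_mul_left (c := Nat.card ↥(F.Q ⊓ centralizer {e})) ?_ Nat.card_pos⟩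
  have := h.card_cen (B := F.Q ⊓ centralizer {e}) inf_le_left
  rw [h.card_perp inf_le_left]
  nlinarith

theorem parity (c : Nat.card F.Z = 2) {X : Subgroup G} {u : G} (n : ¬F.TP u) (hN : u ∈ 𝒩[F.A])
    (k : ∀ w ∈ F.Q ⊓ 𝒦[X], F.TP (u * w) → F.Q ⊓ centralizer {u * w} = X) {a b : G}
    (ha : a ∈ F.Q ⊓ 𝒦[X]) (hb : b ∈ F.Q ⊓ 𝒦[X]) :
    F.TP (u * (a * b)) ↔ ¬(F.TP (u * a) ↔ F.TP (u * b)) := by
  by_cases ex : ∃ y ∈ F.Q ⊓ 𝒦[X], F.TP (u * y)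
  swap
  · push Not at ex
    simp [ex a ha, ex b hb, ex _ (mul_mem ha hb)]
  obtain ⟨y, hy, t⟩ := ex
  obtain ⟨V, le, p, -, d⟩ := h.ff c t (mul_mem hN (h.QN hy.1))
  rw [k y hy t] at le d
  have g : ∀ w ∈ F.Q, ∀ f ∈ V, F.TP (u * y * w) → F.TP (u * y * (w * f)) := fun w hw f hf l => by
    obtain ⟨x, hx, m⟩ := p f hf
    have := l.conj (h.cz x hx)
    rw [← conj_mul] at this
    refine h.tp_ez this (Ez.symm h.zz (Ez.trans h.zz (Ez.mul_left (h.cm f (le hf).1 w hw) _) ?_))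
    rw [← mul_assoc]
    exact (m.mul_right (h.cz w hw)).trans h.zz (Ez.mul_left (h.conj hx hw) _)
  have n' : ∀ w, w = y⁻¹ → ¬F.TP (u * y * w) := by rintro _ rfl; simpa using n
  have yV : y⁻¹ ∉ V := fun m => n' _ (one_mul _) (g 1 (one_mem _) _ m (by rwa [mul_one]))
  have s : ∀ w ∈ F.Q ⊓ 𝒦[X], F.TP (u * w) ↔ w ∉ V := fun w hw => by
    rw [show u * w = u * y * (y⁻¹ * w) by group]
    refine ⟨fun l m => n' _ (by group) (g _ (mul_mem (inv_mem hy.1) hw.1) _ (inv_mem m) l), fun m => ?_⟩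
    simpa using g 1 (one_mem _) _ (two_of_three le d (inv_mem hy) hw yV m) (by rwa [mul_one])
  rw [s a ha, s b hb, s _ (mul_mem ha hb)]
  by_cases a1 : a ∈ V <;> by_cases b1 : b ∈ V
  · simp [a1, b1, mul_mem a1 b1]
  · simp [a1, b1, mul_mem_cancel_left a1]
  · simp [a1, b1, mul_mem_cancel_right b1]
  · simp [a1, b1, two_of_three le d ha hb a1 b1]

omit [Finite G] in
theorem lemA (r : F.Rel F') (ez : F'.z = F.z) (c2 : Nat.card F.Z = 2) {t u x c : G} (ht : t ∈ F.Z)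
    (t1 : t ≠ 1) (hu : u ∈ F'.Z) (u1 : u ≠ 1) (e : u * t = t * u) (hx : x ∈ F'.Q) (hc : c ∈ F.Q)
    (cu : c * u = u * c) : c * (x * t * x⁻¹) = x * t * x⁻¹ * c := by
  have h' := h.rel r
  have tt := h.Zsq t ht
  have tN := h'.zN hu u1 e.symm
  have cm := (h'.conj_comm r.symm ez.symm (h.ZK ht) tt tN hx).2
  have y := h'.nor c (h'.zN hu u1 cu) (ez ▸ h.cz c hc) x hx
  have hw := mul_mem (inv_mem hx) y
  have ct := h.ZK ht c (h.QA hc)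
  have xz : x * F.z = F.z * x := ez ▸ h'.cz x hx
  have m : x * t * x⁻¹ * (c * (x * t * x⁻¹) * c⁻¹) ∈ F.Q := by
    convert mul_mem (h.nor _ (h.zN ht t1 cm.symm) (Commute.mul_left (Commute.mul_left xz
      (h.cz t (h.ZQ ht))) (Commute.inv_left xz)) c hc) (inv_mem hc) using 1
    rw [conj_inv, inv_eq_of_mul_eq_one_right tt]; group
  have e1 : x⁻¹ * (c * x * c⁻¹) * t * (x⁻¹ * (c * x * c⁻¹))⁻¹ = x⁻¹ * (c * (x * t * x⁻¹) * c⁻¹) * x := by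
    rw [mul_assoc, mul_assoc, mul_assoc, ← mul_assoc c⁻¹, (Commute.inv_left ct).eq]; group
  have e2 : x * (t * (x⁻¹ * (c * (x * t * x⁻¹) * c⁻¹) * x)) * x⁻¹ =
      x * t * x⁻¹ * (c * (x * t * x⁻¹) * c⁻¹) := by group
  have m' := (h'.conj_comm r.symm ez.symm (h.ZK ht) tt tN hw).1
  rw [e1] at m'
  have m2 : x⁻¹ * (c * (x * t * x⁻¹) * c⁻¹) * x ∈ F.Q := by
    rcases h'.conj hx m' with k | k <;> rw [e2] at k <;> rw [k] at m
    · exact (mul_mem_cancel_left (h.ZQ ht)).1 m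
    · exact (mul_mem_cancel_left (h.ZQ ht)).1 ((mul_mem_cancel_right (ez ▸ h.zQ)).1 m)
  rw [← e1] at m2
  have n : x⁻¹ * (c * x * c⁻¹) * t * (x⁻¹ * (c * x * c⁻¹))⁻¹ ≠ 1 := mt conj_eq_one_iff.1 t1
  have := (LD.two c2 ht t1 (h.tt_Q (rel_cj F _) (cj_z (ez ▸ h'.cz _ hw)) (conj_mem_cj _ ht) n m2)).resolve_left n
  rw [e1] at this
  rw [← mul_inv_eq_iff_eq_mul, ← this]
  conv_lhs => rw [this]
  group

theorem side (r : F.Rel F') (ez : F'.z = F.z) (c2 : Nat.card F.Z = 2) {t u : G} (ht : t ∈ F.Z)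
    (t1 : t ≠ 1) (hu : u ∈ F'.Z) (u1 : u ≠ 1) (e : u * t = t * u) (ne : F'.A ≠ F.A) :
    ∃ V ≤ F.Q ⊓ 𝒦[F.Q ⊓ centralizer {u}], (∀ d ∈ V, F.TP (u * d) ∧ d * u = u * d ∧
      d ∈ 𝒦[F'.Q ⊓ centralizer {t}] ∧ (d ∈ F'.Q → d ∈ 𝒦[F.Q])) ∧
      ∃ a ∈ V, ∃ b ∈ V, a ∉ 𝒦[F.Q] ∧ b ∉ 𝒦[F.Q] ∧ a * b ∉ 𝒦[F.Q] := by
  have h' := h.rel r
  have uu := h'.Zsq u hu
  have uN := h.zN ht t1 e
  have k : F.TP u := ⟨u, ⟨F', r, ez, hu, u1⟩, Or.inl rfl⟩
  have c2' := r.card_Z.trans c2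
  obtain ⟨V, le, p, d, -⟩ := h.ff c2 k uN
  refine ⟨V, le, fun d hd => ?_, ?_⟩
  · obtain ⟨x, hx, m⟩ := p d hd
    replace m := m.symm h.zz
    have q : ∀ {c}, Commute c u → Commute c F.z → Commute c (x * u * x⁻¹) → Commute c d :=
      fun {c} a b f => by
        have : Commute c (u * d) := by
          rcases m with m | m <;> rw [m]
          exacts [f, f.mul_right b]
        simpa using a.inv_right.mul_right this
    refine ⟨h.tp_ez (k.conj (h.cz x hx)) m, (q rfl (h.tp_z k)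
      (h.conj_comm r ez (h'.ZK hu) uu uN hx).2).symm, fun c hc => q (h'.ZK hu c (h'.QA hc.1))
        (ez ▸ h'.cz c hc.1) (h'.lemA r.symm ez.symm c2' hu u1 ht t1 e.symm hx hc.1
          (mem_centralizer_singleton_iff.1 hc.2)), fun hQ => ?_⟩
    have n : x * u * x⁻¹ ≠ 1 := mt conj_eq_one_iff.1 u1
    have m1 : x * u * x⁻¹ ∈ F'.Q := by
      have := mul_mem (h'.ZQ hu) hQ
      rcases m with m | m <;> rw [m] at this
      exacts [this, (mul_mem_cancel_right (ez ▸ h'.zQ)).1 this]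
    rw [(LD.two c2' hu u1 (h'.tt_Q (rel_cj F' x) (cj_z (ez ▸ h.cz x hx)) (conj_mem_cj x hu) n
      m1)).resolve_left n] at m
    rcases m with m | m
    · rw [mul_eq_left.1 m]; exact one_mem _
    · rw [mul_left_cancel m]; exact h.cz
  · by_contra! n
    have a1 := card_le_two_mul n
    have a2 := h.card_cen (le.trans inf_le_left)
    refine ne (h.notcen r ez (h'.ZK hu) u1 uu uN ?_)
    have := d.trans (Nat.mul_le_mul_right _ (show Nat.card V ≤ 8 by omega))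
    omega

theorem parity' (c : Nat.card F.Z = 2) {v : G} (mx : ∀ e, F.TP e → e ∈ 𝒩[F.A] → e ∉ F.Q →
      Nat.card ↥(F.Q ⊓ centralizer {e}) ≤ Nat.card ↥(F.Q ⊓ centralizer {v})) {u : G} (n : ¬F.TP u)
    (hN : u ∈ 𝒩[F.A]) (hQ : u ∉ F.Q) (hX : u ∈ 𝒦[F.Q ⊓ centralizer {v}]) {a b : G}
    (ha : a ∈ F.Q ⊓ 𝒦[F.Q ⊓ centralizer {v}]) (hb : b ∈ F.Q ⊓ 𝒦[F.Q ⊓ centralizer {v}]) :
    F.TP (u * (a * b)) ↔ ¬(F.TP (u * a) ↔ F.TP (u * b)) :=
  h.parity c n hN (fun _ hw k => (eq_of_le_of_card_ge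
    (le_inf inf_le_left fun x hx => mem_centralizer_singleton_iff.2 (mul_mem hX hw.2 x hx))
    (mx _ k (mul_mem hN (h.QN hw.1)) fun m => hQ ((mul_mem_cancel_right (mem_inf.1 hw).1).1 m))).symm)
    ha hb

theorem not_max (r : F.Rel F') (ez : F'.z = F.z) (c2 : Nat.card F.Z = 2) {t u : G} (ht : t ∈ F.Z)
    (t1 : t ≠ 1) (hu : u ∈ F'.Z) (u1 : u ≠ 1) (e : u * t = t * u)
    (m1 : ∀ e, F.TP e → e ∈ 𝒩[F.A] → e ∉ F.Q →
      Nat.card ↥(F.Q ⊓ centralizer {e}) ≤ Nat.card ↥(F.Q ⊓ centralizer {u}))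
    (m2 : ∀ e, F'.TP e → e ∈ 𝒩[F'.A] → e ∉ F'.Q →
      Nat.card ↥(F'.Q ⊓ centralizer {e}) ≤ Nat.card ↥(F'.Q ⊓ centralizer {t})) : F'.A = F.A := by
  by_contra ne
  have h' := h.rel r
  have c2' := r.card_Z.trans c2
  obtain ⟨V, le, p, d1, k1, d2, k2, n1, n2, n3⟩ := h.side r ez c2 ht t1 hu u1 e ne
  obtain ⟨U, le', p', a, ha, b, hb, na, nb, nab⟩ :=
    h'.side r.symm ez.symm c2' hu u1 ht t1 e.symm (Ne.symm ne)
  have tQ : t ∈ 𝒦[F.Q] := fun x hx => h.ZK ht x (h.QA hx)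
  obtain ⟨d, hd, n, nt⟩ : ∃ d ∈ V, d ∉ 𝒦[F.Q] ∧ t * d ∉ F'.Q := by
    by_contra! k
    have := mul_mem (k d1 k1 n1) (k d2 k2 n2)
    rw [mul_assoc, ← mul_assoc d1, tQ d1 (le k1).1, ← mul_assoc, ← mul_assoc, h.Zsq t ht, one_mul] at this
    exact n3 ((p _ (mul_mem k1 k2)).2.2.2 this)
  obtain ⟨-, du, dX, dQ⟩ := p d hd
  have tX : t ∈ 𝒦[F'.Q ⊓ centralizer {t}] := fun x hx => mem_centralizer_singleton_iff.1 hx.2
  have dN := h'.zN hu u1 du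
  have q1 := h'.parity' c2' m2 (fun k => n (h.tp_Q ((TP.rel r ez).1 k) (le hd).1)) dN (mt dQ n) dX
    (le' ha) (le' hb)
  have q2 := h'.parity' c2' m2 (fun k => n ((mul_mem_cancel_left tQ).1 (h.tp_Q ((TP.rel r ez).1 k)
    (mul_mem (h.ZQ ht) (le hd).1)))) (mul_mem (h'.zN hu u1 e.symm) dN) nt (mul_mem tX dX)
    (le' ha) (le' hb)
  have q3 : ∀ y ∈ U, y ∉ 𝒦[F'.Q] → (F'.TP (t * d * y) ↔ ¬F'.TP (d * y)) := fun y hy ny => by
    obtain ⟨y1, y2, y3, y4⟩ := p' y hy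
    have := h.parity' c2 m1 (fun k => ny (h'.tp_Q ((TP.rel r ez).2 k) (le' hy).1)) (h.zN ht t1 y2)
      (mt y4 ny) y3 (a := t) ⟨h.ZQ ht, fun x hx => tQ x hx.1⟩ (le hd)
    have c := y3 d ⟨(le hd).1, mem_centralizer_singleton_iff.2 du⟩
    rw [← mul_assoc, y2, mul_assoc, ← c, ← mul_assoc] at this
    simpa only [TP.rel r ez, (TP.rel r ez).1 y1, true_iff] using this
  rw [q3 a ha na, q3 b hb nb, q3 _ (mul_mem ha hb) nab] at q2
  tauto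

theorem claim2 (r : F.Rel F') (ez : F'.z = F.z) (c2 : Nat.card F.Z = 2) {t u : G} (ht : t ∈ F.Z)
    (t1 : t ≠ 1) (hu : u ∈ F'.Z) (u1 : u ≠ 1) (e : u * t = t * u) : F'.A = F.A := by
  by_contra ne
  let P : ℕ → Prop := fun n => ∃ F1 e, F.Rel F1 ∧ F1.z = F.z ∧ F1.TP e ∧ e ∈ 𝒩[F1.A] ∧ e ∉ F1.Q ∧
    Nat.card ↥(F1.Q ⊓ centralizer {e}) = n
  classical
  have bd : ∀ {n}, P n → n ≤ Nat.card G := fun ⟨_, _, _, _, _, _, _, k⟩ => k ▸ card_le_card_group _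
  have p0 : P _ := ⟨F, u, Rel.refl F, rfl, ⟨u, ⟨F', r, ez, hu, u1⟩, Or.inl rfl⟩, h.zN ht t1 e,
    fun k => ne (h.plem r ez ((h.rel r).ZK hu) u1 ((h.rel r).Zsq u hu) (mem_sup_left k)), rfl⟩
  obtain ⟨F1, v, r1, z1, ⟨u, ⟨F', r, ez, hu, u1⟩, l⟩, vN, vQ, c⟩ := Nat.findGreatest_spec (bd p0) p0
  have mx : ∀ F2, F.Rel F2 → F2.z = F.z → ∀ e, F2.TP e → e ∈ 𝒩[F2.A] → e ∉ F2.Q →
      Nat.card ↥(F2.Q ⊓ centralizer {e}) ≤ Nat.card ↥(F1.Q ⊓ centralizer {v}) :=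
    fun F2 a b e f g i => c ▸ Nat.le_findGreatest (bd ⟨F2, e, a, b, f, g, i, rfl⟩) ⟨F2, e, a, b, f, g, i, rfl⟩
  replace c2 := r1.card_Z.trans c2
  have h1 := h.rel r1
  have h' := h1.rel r
  obtain ⟨t, ht, t1⟩ := h1.exists_Z
  have uN : u ∈ 𝒩[F1.A] := by
    rcases l with rfl | rfl
    exacts [vN, (mul_mem_cancel_right (h1.QN h1.zQ)).1 vN]
  have e := h1.cen_two c2 uN ht
  have ne : F1.A ≠ F'.A := fun k => vQ (by
    have := h1.ZQ (h1.eqZ r k.symm hu)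
    rcases l with rfl | rfl
    exacts [this, mul_mem this h1.zQ])
  have le : ∀ x ∈ F'.Q, F1.Q ⊓ centralizer {v} ≤ F1.Q ⊓ centralizer {x * t * x⁻¹} := fun x hx c hc =>
    ⟨hc.1, mem_centralizer_singleton_iff.2 (h1.lemA r ez c2 ht t1 hu u1 e hx hc.1 (by
      have k : Commute c v := mem_centralizer_singleton_iff.1 hc.2
      rcases l.symm h1.zz with rfl | rfl
      exacts [k, k.mul_right (h1.cz c hc.1)]))⟩
  have tN := h'.zN hu u1 e.symm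
  obtain ⟨x, hx, n⟩ := h'.noncen r.symm ne (h1.ZK ht) t1 (h1.Zsq t ht) tN
  have z2 : (F1.cj x).z = F1.z := cj_z (ez ▸ h'.cz x hx)
  have n1 : x * t * x⁻¹ ≠ 1 := mt conj_eq_one_iff.1 t1
  refine n (mul_inv_eq_iff_eq_mul.1 ((LD.two c2 ht t1 (h1.eqZ (rel_cj F1 x) (h1.not_max (rel_cj F1 x) z2
    c2 ht t1 (conj_mem_cj x ht) n1 (h'.conj_comm r.symm ez.symm (h1.ZK ht) (h1.Zsq t ht) tN hx).2.symm
    (fun e a b c => (mx F1 r1 z1 e a b c).trans (card_le_of_le (le x hx)))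
    fun e a b c => (mx _ (r1.trans (rel_cj F1 x)) (z2.trans z1) e a b c).trans ?_)
    (conj_mem_cj x ht))).resolve_left n1))
  refine (card_le_of_le (le _ (inv_mem hx))).trans_eq ?_
  rw [← card_cj _ x, cj_inf, cj_centralizer_singleton, show x * (x⁻¹ * t * x⁻¹⁻¹) * x⁻¹ = t by group]
  rfl

theorem claim (r : F.Rel F') (ez : F'.z = F.z) {t u : G} (ht : t ∈ F.Z)
    (t1 : t ≠ 1) (hu : u ∈ F'.Z) (u1 : u ≠ 1) (e : u * t = t * u) : F'.A = F.A :=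
  h.Zc.elim (fun c => h.claim2 r ez c ht t1 hu u1 e) fun c => h.claim4 r ez c ht t1 hu u1 e

end Ns

end Fm

end Cfsg.Agent.H48.Be
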