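import Cfsg.Agent.H48.BeF1E

/-! A standard subgroup of type `²E₆(2)`: the centralizer has twice odd order. -/

set_option autoImplicit false

namespace Cfsg.Agent.H48.Be

open Cfsg Subgroup Cfsg.Agent.H49 Cfsg.Agent.H98

universe u

variable {G : Type*} [Group G] [Finite G]

namespace Fm.Ns

variable {F F' : Fm G} (h : F.Ns)
include h

theorem closed {P : Subgroup G} (hP : ∀ p ∈ P, p * F.z = F.z * p) (h2 : IsPGroup 2 P) {t : G}
    (ht : t ∈ F.Z) (t1 : t ≠ 1) (n : t ∈ 𝒩[P]) : P ≤ 𝒩[F.A] := by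
  have : Fact (Nat.Prime 2) := ⟨Nat.prime_two⟩
  obtain ⟨S, hS, Sz⟩ := h.exists_syl le_normalizer le_rfl
  have QS := h.le_syl hS h.QN hS.le Sz
  obtain ⟨s, sZ, s1, Ss⟩ := h.exists_fix hS.le hS.isPGroup
  have hC : SylIn 2 S (centralizer {F.z}) := sylIn_of_normalizer_le hS
    (fun p hp => mem_centralizer_singleton_iff.2 (Sz p hp)) fun g _ hg => by
      have m := conj_mem_of_mem_normalizer hg (QS (h.ZQ sZ))
      have ss : g * s * g⁻¹ * (g * s * g⁻¹) = 1 := by rw [conj_mul, h.Zsq s sZ]; simp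
      refine (h.cenQ (hS.le m) fun b hb => ?_).elim (h.te g s (h.ZK sZ) s1 (h.Zsq s sZ))
        fun k => absurd k (h.ns' (rel_cj F g) (conj_K g (h.ZK sZ)) ss (Sz _ m))
      have := Ss _ (conj_mem_of_mem_normalizer (inv_mem hg) (QS hb))
      rw [← H47.Bu.conj_comm_iff g] at this
      simpa [mul_assoc] using this.symm
  obtain ⟨g, hg, le⟩ := hC.exists_conj_le (U := P ⊔ zpowers t) (sup_le
    (fun p hp => mem_centralizer_singleton_iff.2 (hP p hp))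
    (zpowers_le.2 (mem_centralizer_singleton_iff.2 (h.cz t (h.ZQ ht)))))
    (h2.to_sup_of_normal_left' (h.e2 (h.ZQ ht)).zpowers (zpowers_le.2 n))
  have c : ∀ p ∈ P ⊔ zpowers t, p * (g⁻¹ * s * g⁻¹⁻¹) = g⁻¹ * s * g⁻¹⁻¹ * p := fun p hp => by
    rw [← H47.Bu.conj_comm_iff g]
    simpa [mul_assoc] using Ss _ (le ⟨p, hp, rfl⟩)
  have m : g⁻¹ * s * g⁻¹⁻¹ ∈ (F.cj g⁻¹).Z := conj_mem_cj _ sZ
  have n1 : g⁻¹ * s * g⁻¹⁻¹ ≠ 1 := mt conj_eq_one_iff.1 s1
  rw [← h.claim (rel_cj F g⁻¹) (cj_z (mem_centralizer_singleton_iff.1 (inv_mem hg))) ht t1 m n1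
    (c t (mem_sup_right (mem_zpowers t))).symm]
  exact fun p hp => (h.rel (rel_cj F g⁻¹)).zN m n1 (c p (mem_sup_left hp))

/-- no central involution acts as an inner automorphism on another conjugate -/
theorem outer (r : F.Rel F') {u : G} (hu : u ∈ F'.Z) (u1 : u ≠ 1) (hA : u ∈ F.A ⊔ 𝒦[F.A]) :
    F'.A = F.A := by
  by_contra ne
  have h' := h.rel r
  have uu := h'.Zsq u hu
  have uK := h'.ZK hu
  have c2 : Nat.card F'.Z = 2 := h'.Zc.resolve_right fun c =>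
    ne (h'.nofour r.symm (r.card_Z ▸ c) fun v hv => h'.zN hu u1 (by
      obtain ⟨a, ha, k⟩ := (mem_sup_cen le_rfl).1 hA
      rw [← mul_inv_cancel_left a u]
      exact Commute.mul_right (h.ZK hv a ha).symm (k v (h.ZA hv)))).symm
  obtain ⟨F1, F2, F3, r1, r2, r3, e1, e2, e3, e, m1, m2⟩ := h.inner r ne uK u1 uu hA
  have h1 := h.rel r1
  have h2 := h.rel r2
  rw [← e1] at m1 ne hA
  rw [← e2] at m2
  have k12 : 𝒦[F2.A] = 𝒦[F1.A] := by rw [e1, e2]
  have uz := h1.cz_sup m1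
  obtain ⟨E, r', e', z', c⟩ := h'.move (P := F1.Q ⊓ centralizer {u})
    (fun p hp => h'.zN hu u1 (mem_centralizer_singleton_iff.1 hp.2)) (h1.Q2.to_le inf_le_left)
  rw [← z'] at hu c2
  rw [← e'] at uK ne
  replace r := r1.symm.trans (r.trans r')
  replace h' := h1.rel r
  obtain ⟨x, hx, n⟩ := h1.noncen r ne uK u1 uu (h1.supN m1)
  have zu : ∀ {F0 : Fm G}, F0.Ok → u ∈ F0.Q ⊔ 𝒦[F0.A] → ∀ v ∈ F0.Z, v * u = u * v := fun h0 m v hv => by
    obtain ⟨a, ha, k⟩ := (mem_sup_cen h0.QA).1 m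
    rw [← mul_inv_cancel_left a u]
    exact Commute.mul_right (h0.ZK hv a (h0.QA ha)).symm (k v (h0.ZA hv))
  obtain ⟨t, ht, t1⟩ := h1.exists_Z
  have c' : ∀ b ∈ F1.Q, b * u = u * b → b * E.z = E.z * b := fun b hb k =>
    c b ⟨hb, mem_centralizer_singleton_iff.2 k⟩
  rcases h1.perp m1 (h1.zN ht t1 (c' t (h1.ZQ ht) (zu h1.toOk m1 t ht)).symm) (E2.of_sq h'.zz) c' with
    k | k | k
  · rcases id k with k' | -
    · exact h'.notK r.symm k'
    exact n (h'.cen_two c2 (h'.closed (fun p hp => LD.comm_of k (h1.QA hp) (h1.cz p hp)) h1.Q2 hu u1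
      (mem_normalizer_of_conj_mem (h1.nor u (h1.supN m1) uz)) hx) hu)
  · exact h'.ns _ r.symm u uK uu k
  have xu := h1.conj_sup hx m1 n
  have h4 := h'.rel (rel_cj E x)
  have u4 : u * F1.z ∈ (E.cj x).Z := xu ▸ conj_mem_cj x hu
  have n4 : u * F1.z ≠ 1 := xu ▸ mt conj_eq_one_iff.1 u1
  have z4 : (E.cj x).z = u * (u * E.z * F1.z) := by
    have a := k x (h1.QA hx)
    rw [← mul_inv_eq_iff_eq_mul, ← conj_mul, ← conj_mul, xu, h1.cz x hx, mul_inv_cancel_right,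
      mul_left_inj, mul_assoc, mul_right_inj] at a
    rw [← mul_assoc, ← mul_assoc, uu, one_mul, ← c' _ h1.zQ uz.symm, ← a, ← mul_assoc, h1.zz, one_mul]
    rfl
  have z12 : F1.z * F2.z = F2.z * F1.z := by
    rw [← inv_eq_of_mul_eq_one_right (e ▸ (h.rel r3).zz : F1.z * F2.z * (F1.z * F2.z) = 1), mul_inv_rev,
      inv_eq_of_mul_eq_one_right h1.zz, inv_eq_of_mul_eq_one_right h2.zz]
  have zN : F1.z ∈ 𝒩[F2.A] := le_normalizer (e2 ▸ e1 ▸ h1.zA)
  have nb : ∀ g ∈ 𝒩[F2.A], g * F2.z = F2.z * g → g * u = u * g → g ∈ 𝒩[F2.Q ⊓ centralizer {u}] :=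
    fun g a b c => mem_normalizer_of_conj_mem fun y hy => mem_inf.2 ⟨h2.nor g a b y hy.1, mul_mem (mul_mem
      (mem_centralizer_singleton_iff.2 c) hy.2) (inv_mem (mem_centralizer_singleton_iff.2 c))⟩
  have cl := h4.closed (P := F2.Q ⊓ centralizer {u}) (fun p hp => z4 ▸ Commute.mul_right
    (mem_centralizer_singleton_iff.1 hp.2) (k p (e1 ▸ e2 ▸ h2.QA hp.1))) (h2.Q2.to_le inf_le_left) u4 n4
    (mul_mem (nb u (h2.supN m2) (h2.cz_sup m2) rfl) (nb _ zN z12 uz.symm))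
  rcases h2.perp m2 zN (E2.of_sq h1.zz) (fun b hb k => by
    have := h4.cen_two ((rel_cj E x).card_Z.trans c2) (cl ⟨hb, mem_centralizer_singleton_iff.2 k⟩) u4
    rwa [← mul_assoc, k, mul_assoc, mul_assoc, mul_right_inj] at this) with (k | k) | k | k
  · exact h1.zK (k12 ▸ k)
  · exact (h.rel r3).notK (r3.symm.trans r2) (e ▸ k)
  · exact h1.ns' r uK uu uz (k12 ▸ k)
  · rw [mul_assoc, e] at k
    exact (h.rel r3).ns' (r3.symm.trans (r1.trans r)) uK uu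
      (e ▸ Commute.mul_right uz (h2.cz_sup m2)) (e3 ▸ e2 ▸ k)

theorem not_nor (r : F.Rel F') {u : G} (hu : u ∈ F'.Z) (u1 : u ≠ 1) (hN : u ∈ 𝒩[F.A]) :
    F'.A = F.A := by
  by_contra ne
  have h' := h.rel r
  have uu := h'.Zsq u hu
  have ui := inv_eq_of_mul_eq_one_right uu
  obtain ⟨F, r', e', -, c⟩ := h.move (zpowers_le.2 hN) (E2.of_sq uu).zpowers
  rw [← e'] at hN ne
  replace h := h.rel r'
  replace r := r'.symm.trans r
  have uz := c u (mem_zpowers u)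
  have nq := h.nor u hN uz
  have big : 8 * Nat.card ↥(F.Q ⊓ centralizer {u}) < Nat.card F.Q := not_le.1 fun k =>
    ne (h.outer r hu u1 (sup_le_sup_right h.QA _ ((mem_sup_cen h.QA).2 (h.rk8 u hN uz (E2.of_sq uu) _
      inf_le_left k fun _ hb => (mem_centralizer_singleton_iff.1 hb.2).symm))))
  have sy : ∀ a b, csign (u * a * u⁻¹) b = csign (u * b * u⁻¹) a := fun a b => by
    rw [← H47.Bu.csign_conj u, ← mul_assoc, ← mul_assoc, uu, mul_assoc, ui, uu, one_mul, mul_one,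
      csign_symm]
  let φ : F.Q →* ℤˣ := MonoidHom.mk' (fun a => csign (u * a * u⁻¹) a) fun a b => by
    rw [coe_mul, ← conj_mul, h.csign_mul (nq _ a.2) (nq _ b.2) (mul_mem a.2 b.2),
      h.csign_mul' a.2 b.2 (nq _ a.2), h.csign_mul' a.2 b.2 (nq _ b.2), sy b a, mul_assoc,
      ← mul_assoc (csign _ (b : G)), Int.units_mul_self, one_mul]
  let Y := φ.ker.map F.Q.subtype
  have YQ : Y ≤ F.Q := map_subtype_le _
  have cY : Nat.card F.Q ≤ 2 * Nat.card Y := by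
    rw [card_map_of_injective F.Q.subtype_injective, ← φ.ker.index_mul_card, index_ker]
    exact Nat.mul_le_mul_right _ ((card_le_card_group _).trans (by simp))
  have d : ∀ x ∈ Y, (u * x * u⁻¹ * x⁻¹) * (u * x * u⁻¹ * x⁻¹) = 1 ∧
      (u * x * u⁻¹ * x⁻¹) * u = u * (u * x * u⁻¹ * x⁻¹) := by
    rintro _ ⟨⟨x, hx⟩, k, rfl⟩
    have c : Commute (u * x * u⁻¹) x := csign_eq_one.1 k
    have e : (u * x * u⁻¹ * x⁻¹) * (u * x * u⁻¹ * x⁻¹) = 1 := by
      rw [c.inv_right.symm.mul_mul_mul_comm, conj_mul, ← mul_inv_rev]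
      rcases h.sq x hx with k | k <;> simp [k, uz]
    refine ⟨e, ?_⟩
    change u * x * u⁻¹ * x⁻¹ * u = u * (u * x * u⁻¹ * x⁻¹)
    conv_lhs => rw [← inv_eq_of_mul_eq_one_right e]
    rw [← mul_assoc, ← mul_assoc, ← mul_assoc, uu, one_mul]
    conv_rhs => rw [ui]
    group
  have o : ∀ x ∈ Y, x ∉ centralizer {u} → u * x * u⁻¹ * x⁻¹ ∉ F'.A ⊔ 𝒦[F'.A] := fun x hx n k => by
    have e : x * u * x⁻¹ = u * (u * x * u⁻¹ * x⁻¹) := by
      rw [ui, ← mul_assoc, ← mul_assoc, ← mul_assoc, uu, one_mul]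
    have m : x * u * x⁻¹ ∈ (F'.cj x).Z := conj_mem_cj x hu
    have m1 := h'.eqZ (rel_cj F' x) (h'.outer (rel_cj F' x) m (mt conj_eq_one_iff.1 u1)
      (e ▸ mul_mem (mem_sup_left (h'.ZA hu)) k)) m
    rw [e, mul_mem_cancel_left hu] at m1
    refine ne (h.outer r m1 (fun k => n (mem_centralizer_singleton_iff.2 ?_))
      (mem_sup_left (h.QA (mul_mem (nq x (YQ hx)) (inv_mem (YQ hx))))))
    rw [k, mul_one] at e
    exact mul_inv_eq_iff_eq_mul.1 e
  obtain ⟨x, hx, n⟩ : ∃ x ∈ Y, x ∉ centralizer {u} := by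
    by_contra! k
    have := card_le_of_le (le_inf YQ k)
    omega
  have dx := mul_mem (nq x (YQ hx)) (inv_mem (YQ hx))
  obtain ⟨y, hy, n1, n2⟩ : ∃ y ∈ Y ⊓ centralizer {u * x * u⁻¹ * x⁻¹}, y ∉ centralizer {u} ∧
      x * y ∉ centralizer {u} := by
    by_contra! k
    have a1 := h.card_half YQ dx
    have a2 := card_le_two_mul (U := Y ⊓ centralizer {u * x * u⁻¹ * x⁻¹}) (V := centralizer {u})
      fun a ha b hb n1 n2 => by
        have : a * a ∈ centralizer {u} := by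
          rcases h.sq a (YQ ha.1) with k | k <;> rw [k]
          exacts [one_mem _, mem_centralizer_singleton_iff.2 uz.symm]
        convert mul_mem this (mul_mem (inv_mem (k a ha n1)) (k b hb n2)) using 1; group
    have a3 := card_le_of_le (inf_le_inf_right (centralizer {u})
      (inf_le_left.trans YQ : Y ⊓ centralizer {u * x * u⁻¹ * x⁻¹} ≤ F.Q))
    omega
  have yQ := YQ hy.1
  have dy := mul_mem (nq y yQ) (inv_mem yQ)
  have c1 : u * y * u⁻¹ * y⁻¹ * x = x * (u * y * u⁻¹ * y⁻¹) := by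
    have := csign_eq_one.2 (mem_centralizer_singleton_iff.1 hy.2).symm
    rw [h.csign_mul (nq x (YQ hx)) (inv_mem (YQ hx)) yQ, csign_inv, sy, csign_symm x, ← csign_inv y,
      ← h.csign_mul (nq y yQ) (inv_mem yQ) (YQ hx)] at this
    exact csign_eq_one.1 this
  have c2 : Commute (u * y * u⁻¹ * y⁻¹) (u * x * u⁻¹ * x⁻¹) :=
    ((Commute.mul_right (d y hy.1).2 c1).mul_right (Commute.inv_right (d y hy.1).2)).mul_right
      (Commute.inv_right c1)
  refine o _ (mul_mem hx hy.1) n2 ?_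
  convert h'.out2 (h'.zN hu u1 (d y hy.1).2) (h'.zN hu u1 (d x hx).2) (d y hy.1).1 (d x hx).1 c2
    (o y hy.1 n1) (o x hx n) using 1
  rw [c2.eq, mul_assoc _ x⁻¹, ← (Commute.inv_right c1).eq]; group

end Fm.Ns

theorem f1 : F1Stmt.{u} := by
  rintro G _ _ A Z Q z h te ⟨g, hg, k, hk, k1, kk, hN⟩
  let F : Fm G := ⟨A, Z, Q, z⟩
  have h : F.Ok := ⟨h, te⟩
  by_cases ns : ∀ F', F.Rel F' → ∀ k ∈ 𝒦[F.A], k * k = 1 → k * F.z ∉ 𝒦[F'.A]
  · have k2 : g * k * g⁻¹ * (g * k * g⁻¹) = 1 := by rw [conj_mul, kk]; simp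
    obtain ⟨t, ht, t1, c⟩ := h.exists_fix (zpowers_le.2 hN) (E2.of_sq k2).zpowers
    have r := Fm.rel_cj F g
    exact absurd (cj_eq_iff.1 ((Fm.Ns.rel ⟨h, ns⟩ r).not_nor r.symm ht t1 ((h.cj g).t2 (Fm.conj_K g hk)
      (mt conj_eq_one_iff.1 k1) k2 (c _ (mem_zpowers _)).symm)).symm) hg
  · push Not at ns
    obtain ⟨F', r, k, hk, kk, m⟩ := ns
    exact h.fused r hk kk m

end Cfsg.Agent.H48.Be
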