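import Cfsg.Agent.H37.F4M2
import Cfsg.Agent.H40.SplitPar

/-! Centralizers in the Sylow `2`-subgroup of `F₄(2)`. -/

set_option autoImplicit false

namespace Cfsg.Agent.H48.FP

open Subgroup Cfsg.Lie H34 H34.Split H34.Cert H95.L3 H37 H37.F42

/-- The table of commutators. -/
def ctT : ℕ := 0x2f00000000000000000000000000000000000000000000000000000000000000002f02e00000000000000000000000000000000000000000000000000000000000000000000000000000000000000000000000000000000000000000000000000002f02e000000b6c00000000000000000000000000000000000000000000000000000002f00002d000bac00000002b00000000000000000000000000000000000000000000000002e02d000bec00000002b00002a00000000000000000000000000000000000000000002c00000000000000000000000000000000000000000000000000000000000000000002c00000000000000000002800000000000000000000000000000000000000000000002c000000000000000000028000000be700000000000000000000000000000000000002c000000000000000000028000000ba7000b660000000000000000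0000000000000002c000000000000000000be800002702600000000000000000000000000000000000002c000000000000000000ba8000027000025000000ae400000000000000000000000002c000000000000000000b68000000026025000aa4a6300000000000000000000000002c000000000000000000000ae7aa6a6502402302200000000000000000000000002f02e000000000000000000b68ae700000000000000000000000000000000000000002f00002d000000000000000ba8000aa600000000000000000000002000000000000000002e02d000000000000000be8000000a6500000000000000000002000001f000000000000000000bec000000000028000027026024000000000000000000000000000000000000000000bac00000000002800002700002502300000000000000000000000081d000000000000b6c0000000000280000000260250000220000000000000000007dd79c00000000002f00000000002b000000000ba7000000aa40000000000200000007dd00000000000000002e00000002b000000000be7000000000a6300000002000000000079c00000001a00002f00000000000002a000000000b66000ae400000000000001f00081d00000001a000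

/-- The commutator word of two positive roots. -/
def ct (r s : ℕ) : List ℕ :=
  [ctT >>> (288 * r + 12 * s - 7200) % 64, ctT >>> (288 * r + 12 * s - 7194) % 64].filter (· ≠ 0)

def pos : List ℕ := List.range' 24 24
def rUa : List ℕ := [24, 28, 29, 30, 31, 32, 33, 35, 36, 37, 38, 39, 40, 41, 42, 43, 44, 45, 46, 47]

/-- The subgroup generated by the root elements of a list. -/
def E (S : List ℕ) : Subgroup F4 := closure {g | ∃ r ∈ S, g = xF r}

/-- The Sylow subgroup. -/
abbrev U : Subgroup F4 := E pos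

theorem ct_tab : ∀ r ∈ pos, ∀ s ∈ pos, tabF4.weq [r, s, r, s] (ct r s) = true ∧
    ∀ c ∈ ct r s, c ∈ pos ∧ r < c ∧ s < c := by decide +kernel

theorem ct_eq {r s : ℕ} (hr : r ∈ pos) (hs : s ∈ pos) : xF r * xF s * xF r * xF s = xw (ct r s) := by
  simpa [xw_cons, mul_assoc, xl_nil] using (tabF4.xl_eq (ct_tab r hr s hs).1 : xw _ = xw _)

theorem pos_iff : ∀ r < 48, r ∈ pos ↔ chevF4.IsPosRoot r := by decide +kernel

theorem pos_lt {r : ℕ} (h : r ∈ pos) : r < 48 := by simp [pos] at h; omega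

theorem x_mem {S : List ℕ} {r : ℕ} (h : r ∈ S) : xF r ∈ E S := subset_closure ⟨r, h, rfl⟩

theorem xw_mem {S L : List ℕ} (h : L ⊆ S) : xw L ∈ E S := xl_mem fun _ hr => x_mem (h hr)

theorem E_le {S : List ℕ} {K : Subgroup F4} (h : ∀ r ∈ S, xF r ∈ K) : E S ≤ K :=
  (closure_le _).2 (by rintro _ ⟨r, hr, rfl⟩; exact h r hr)

theorem E_mono {S T : List ℕ} (h : S ⊆ T) : E S ≤ E T := E_le fun _ hr => x_mem (h hr)

theorem E_comm {S : List ℕ} {g u : F4} (h : ∀ r ∈ S, Commute g (xF r)) (hu : u ∈ E S) :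
    Commute g u := (cen_iff.1 (E_le (K := centralizer {g}) (fun r hr => cen_iff.2 (h r hr).symm) hu)).symm

theorem E_eq {S : List ℕ} (h : S ⊆ pos) : E S = PF.U (H40.lset chevF4 S) :=
  le_antisymm (E_le fun _ hr => xg_mem_U (pos_lt (h hr)) hr 1) (U_le' fun _ hr => x_mem hr)

theorem U_eq : U = PF.Up := le_antisymm (E_le fun r hr => xF_mem_Up ((pos_iff r (pos_lt hr)).1 hr))
  (Up_le fun r hr h => x_mem ((pos_iff r hr).2 h))

/-- A list of positive roots closed under commutators with the roots of `T`. -/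
def Cl (T S : List ℕ) : Prop := S.Nodup ∧ S ⊆ pos ∧ ∀ r ∈ T, ∀ s ∈ S, ct r s ⊆ S

instance (T S : List ℕ) : Decidable (Cl T S) := by unfold Cl; infer_instance

theorem Cl.filt {S : List ℕ} (h : Cl S S) : H40.Filt PF.X (H40.lset chevF4 S) fun r => (r : ℕ) := by
  intro r hr s hs x hx y hy
  obtain ⟨t, rfl⟩ := mem_X.1 hx
  obtain ⟨u, rfl⟩ := mem_X.1 hy
  rcases xg_cases r t with e | e <;> rcases xg_cases s u with e' | e' <;> rw [e, e']
  iterate 3 simp
  rw [xF_inv, xF_inv, ct_eq (h.2.1 hr) (h.2.1 hs), ← U_eq_gen]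
  refine xl_mem fun c hc => ?_
  obtain ⟨h1, h2, h3⟩ := (ct_tab _ (h.2.1 hr) _ (h.2.1 hs)).2 c hc
  exact xg_mem_U (pos_lt h1) (by exact ⟨h.2.2 _ hr _ hs hc, Int.ofNat_lt.2 h2, Int.ofNat_lt.2 h3⟩) 1

theorem wg_eq (t : ℕ → ZMod 2) (L : List ℕ) :
    CF.wg (ZMod 2) (L.map fun r => (r, t r)) = xw (L.filter (t · = 1)) := by
  induction L with
  | nil => rfl
  | cons r L ih =>
    rw [List.map_cons, wg_cons, ih, List.filter_cons]
    obtain e | e : t r = 0 ∨ t r = 1 := by generalize t r = u; revert u; decide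
    · rw [e, xg_zero, one_mul, if_neg (by decide)]
    · rw [e, if_pos (by decide), xw_cons]

/-- Normal form. -/
theorem Cl.nf {S : List ℕ} (h : Cl S S) {u : F4} (hu : u ∈ E S) : ∃ L ∈ S.sublists, u = xw L := by
  obtain ⟨t, rfl⟩ := H40.exists_wg_of_filt h.filt h.1 (fun _ hr => pos_lt (h.2.1 hr))
    (fun _ => Iff.rfl) (E_eq h.2.1 ▸ hu)
  exact ⟨_, List.mem_sublists.2 List.filter_sublist, wg_eq t S⟩

/-- Independence. -/
theorem Cl.ind {S L : List ℕ} (h : Cl S S) (hL : L.Nodup) (hp : L ⊆ pos) (hu : xw L ∈ E S) : L ⊆ S := by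
  obtain ⟨L', rfl⟩ := Cert.exists_finList (D := chevF4) fun _ hr => pos_lt (hp hr)
  have k : ∀ r : Fin chevF4.nroots, r.1 ∈ pos → CF.S.pos r := fun r hr =>
    (CF.pos_iff r).2 ((pos_iff r r.2).1 hr)
  intro s hs
  obtain ⟨r, hr, rfl⟩ := List.mem_map.1 hs
  by_contra n
  refine xF_ne r.2 (H40.supp_of_filt h.filt (fun r hr => k r (h.2.1 hr)) (List.Nodup.of_map _ hL)
    (fun r hr => k r (hp (List.mem_map_of_mem hr))) (y := fun r => xF r) (fun r _ => xg_mem_X r 1) ?_ r hr n)
  rw [← E_eq h.2.1]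
  convert hu using 1
  simp [xw, xl, Cert.wg, List.map_map, Function.comp_def]

theorem Cl.conj {S : List ℕ} (h : Cl pos S) {u v : F4} (hu : u ∈ U) (hv : v ∈ E S) :
    u * v * u⁻¹ ∈ E S := by
  refine (mem_normalizer_iff.1 (E_le (K := normalizer (E S : Set F4))
    (fun r hr => mem_normalizer_fintype fun v hv => ?_) hu) v).1 hv
  have k : E S ≤ (E S).comap (MulAut.conj (xF r)).toMonoidHom := E_le fun s hs => by
    have := mul_mem (ct_eq hr (h.2.1 hs) ▸ xw_mem (h.2.2 r hr s hs)) (x_mem hs)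
    rw [mul_assoc, xF_sq, mul_one] at this
    rwa [mem_comap, MulEquiv.coe_toMonoidHom, MulAut.conj_apply, xF_inv]
  simpa only [mem_comap, MulEquiv.coe_toMonoidHom, MulAut.conj_apply, SetLike.mem_coe] using k hv

theorem Cl.comm {S T : List ℕ} (h : Cl pos S) (hT : T ⊆ pos) {b : ℕ} (hb : b ∈ pos)
    (k : ∀ r ∈ T, ct r b ⊆ S) {u : F4} (hu : u ∈ E T) : u * xF b * u⁻¹ * xF b ∈ E S := by
  induction hu using closure_induction_left with
  | one => simp [xF_sq]
  | mul_left x hx y _ ih | inv_mul_cancel x hx y _ ih =>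
    obtain ⟨r, hr, rfl⟩ := hx
    have := mul_mem (h.conj (x_mem (hT hr)) ih) (ct_eq (hT hr) hb ▸ xw_mem (k r hr))
    convert this using 1
    simp [mul_assoc, xF_inv, ← mul_assoc (xF r) (xF r), ← mul_assoc (xF b) (xF b), xF_sq]

/-- The roots from `k` on. -/
def up (k : ℕ) : List ℕ := List.range' k (48 - k)

theorem up_cl : ∀ k ∈ List.range' 24 25, Cl pos (up k) ∧ Cl (up k) (up k) := by decide +kernel

/-- Certificate for the peeling lemma. -/
def PeelOK (B M S : List ℕ) : Prop :=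
  B ⊆ pos ∧ Cl pos M ∧ Cl M M ∧ ∀ r ∈ pos, (r ∈ S ∧ ∀ b ∈ B, ct r b ⊆ M) ∨
    ∃ b ∈ B, ∃ c ∈ (ct r b).head?, c ∉ M ∧ (ct r b).tail ⊆ up (c + 1) ∧
      ∀ r' ∈ up (r + 1), ct r' b ⊆ up (c + 1)

instance (B M S : List ℕ) : Decidable (PeelOK B M S) := by unfold PeelOK; infer_instance

theorem aux {M : Subgroup F4} {x y w : F4} (hx : ∀ m ∈ M, x⁻¹ * m * x⁻¹⁻¹ ∈ M)
    (hw : w ∈ M) (h : x * y * x⁻¹ * w ∈ M) : y ∈ M := by
  simpa [mul_assoc] using hx _ ((mul_mem_cancel_right hw).1 h)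

theorem peel {B M S : List ℕ} (h : PeelOK B M S) {u : F4} (hu : u ∈ U)
    (hc : ∀ b ∈ B, u * xF b * u⁻¹ * xF b ∈ E M) : u ∈ E S := by
  obtain ⟨hB, hM, hM', h⟩ := h
  suffices ∀ n ≤ 24, ∀ u ∈ E (up (48 - n)), (∀ b ∈ B, u * xF b * u⁻¹ * xF b ∈ E M) → u ∈ E S from
    this 24 le_rfl u (E_mono (by decide) hu) hc
  intro n
  induction n with
  | zero => exact fun _ u hu _ => E_mono (fun a ha => by simp [up] at ha) hu
  | succ n ih =>
    intro hn u hu hc
    have m : ∀ k, 24 ≤ k → k ≤ 48 → k ∈ List.range' 24 25 := fun k a b => by simp; omega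
    obtain ⟨r, hr⟩ : ∃ r, 48 - n = r + 1 := ⟨47 - n, by omega⟩
    have e : up (48 - (n + 1)) = r :: up (r + 1) := by
      rw [up, up, show 48 - (n + 1) = r by omega, show 48 - r = 48 - (r + 1) + 1 by omega,
        List.range'_succ]
    have rp : r ∈ pos := by simp [pos]; omega
    have c1 := up_cl (r + 1) (m _ (by omega) (by omega))
    obtain ⟨L, hL, rfl⟩ := (up_cl _ (m _ (by omega) (by omega))).2.nf hu
    rw [hr] at ih
    rw [e, List.mem_sublists] at hL
    rcases List.sublist_cons_iff.1 hL with hL' | ⟨L', rfl, hL'⟩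
    · exact ih (by omega) _ (xw_mem hL'.subset) hc
    have hv := xw_mem hL'.subset
    rw [xw_cons] at hc ⊢
    generalize xw L' = v at hc hv
    have k : ∀ b ∈ B, xF r * v * xF b * (xF r * v)⁻¹ * xF b =
        xF r * (v * xF b * v⁻¹ * xF b) * (xF r)⁻¹ * xw (ct r b) := fun b hb => by
      simp [← ct_eq rp (hB hb), mul_assoc, xF_inv, ← mul_assoc (xF r) (xF r),
        ← mul_assoc (xF b) (xF b), xF_sq]
    rcases h r rp with ⟨h1, h2⟩ | ⟨b, hb, c, h1, h2, h3, h4⟩
    · refine mul_mem (x_mem h1) (ih (by omega) v hv fun b hb => ?_)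
      have := hc b hb
      rw [k b hb] at this
      exact aux (fun _ => hM.conj (inv_mem (x_mem rp))) (xw_mem (h2 b hb)) this
    obtain ⟨T, hT⟩ := List.head?_eq_some_iff.1 h1
    have cp := ((ct_tab r rp b (hB hb)).2 c (by simp [hT])).1
    have c2 := up_cl (c + 1) (m _ (by simp [pos] at cp; omega) (pos_lt cp))
    have w := c2.1.conj (x_mem rp) (c2.1.comm c1.1.2.1 (hB hb) h4 hv)
    have := hc b hb
    rw [k b hb, hT, xw_cons] at this
    rw [hT] at h3
    obtain ⟨L, hL, e⟩ := c2.2.nf (mul_mem (c2.1.conj (inv_mem (x_mem cp)) w) (xw_mem h3))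
    have hL := List.mem_sublists.1 hL
    refine (h2 (hM'.ind (L := c :: L) (List.nodup_cons.2 ⟨fun a => ?_, c2.1.1.sublist hL⟩)
      (List.cons_subset.2 ⟨cp, fun _ a => c2.1.2.1 (hL.subset a)⟩) ?_ List.mem_cons_self)).elim
    · simpa [up] using hL.subset a
    · rw [xw_cons, ← e]
      simpa [mul_assoc] using this

/-- An element commuting with four root elements lies in `U`. -/
theorem cu1 {g : F4} (hg : ∀ r ∈ [40, 44, 46, 47], Commute g (xF r)) : g ∈ U := by
  obtain ⟨a, ha, n, hn, u, hu, rfl⟩ := PF.bruhat g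
  have k : ∀ (r : Fin chevF4.nroots) (L : List ℕ), r.1 ∈ [40, 44, 46, 47] →
      H40.CZ chevF4 2 ([r.1] ++ L) L → (PF.ν n r : ℕ) ∈ [r.1] ++ L := fun r L hr h =>
    h.ν_mem ha hn (Uinv_le_Up hu) (by
      rw [← xl, ← xw, xw_one]
      exact hg _ hr) (List.mem_singleton_self _)
  have i : ∀ r s : Fin chevF4.nroots, (PF.ν n s : ℕ) = s → (PF.ν n r : ℕ) = s → r.1 = s := fun r s h1 h2 =>
    congrArg Fin.val ((PF.ν n).injective (Fin.ext (h2.trans h1.symm)))
  have h1 := k ⟨47, by decide⟩ [] (by decide) (by decide +kernel)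
  have h2 := k ⟨44, by decide⟩ [] (by decide) (by decide +kernel)
  have h3 := k ⟨40, by decide⟩ [44] (by decide) (by decide +kernel)
  have h4 := k ⟨46, by decide⟩ [47] (by decide) (by decide +kernel)
  simp only [List.cons_append, List.nil_append, List.mem_cons, List.not_mem_nil, or_false] at h1 h2 h3 h4
  replace h3 := h3.resolve_right fun e => by simpa using i _ _ h2 e
  replace h4 := h4.resolve_right fun e => by simpa using i _ _ h1 e
  suffices e : PF.ν n = 1 by
    obtain ⟨c, rfl⟩ := mem_H_iff.1 (mem_H_of hn e)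
    rw [Subsingleton.elim c 1, map_one, mul_one, U_eq]
    exact mul_mem ha (Uinv_le_Up hu)
  refine Equiv.ext fun r => Fin.ext ?_
  have p := H40.pairing_W CF (PF.ν_mem n hn) r
  refine (by decide +kernel : ∀ r < 48, ∀ s < 48, (∀ b ∈ [47, 44, 40, 46], tabF4.pf r b = tabF4.pf s b) → r = s)
    _ (PF.ν n r).2 _ r.2 fun b hb => ?_
  have hb' : b < 48 := by simp at hb; omega
  rw [tabF4.pf_eq (PF.ν n r).2 hb', Equiv.Perm.one_apply, tabF4.pf_eq r.2 hb', ← p ⟨b, hb'⟩]
  simp only [List.mem_cons, List.not_mem_nil, or_false] at hb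
  rcases hb with rfl | rfl | rfl | rfl
  exacts [by rw [h1], by rw [h2], by rw [h3], by rw [h4]]

theorem cen {B S : List ℕ} (h : PeelOK B [] S) (k : [40, 44, 46, 47] ⊆ B) {g : F4}
    (hg : ∀ r ∈ B, Commute g (xF r)) : g ∈ E S :=
  peel h (cu1 fun r hr => hg r (k hr)) fun b hb => by simp [(hg b hb).eq, xF_sq]

theorem cenU {g : F4} (hg : ∀ r ∈ pos, Commute g (xF r)) : g ∈ E [44, 47] :=
  cen (by decide +kernel) (by decide) hg

theorem cenUa {g : F4} (hg : ∀ r ∈ rUa, Commute g (xF r)) : g ∈ E [39, 44, 45, 47] :=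
  cen (by decide +kernel) (by decide) hg

theorem z2 {u : F4} (hu : u ∈ U) (h : ∀ b ∈ pos, u * xF b * u⁻¹ * xF b ∈ E [44, 47]) :
    u ∈ E [40, 44, 46, 47] := peel (by decide +kernel) hu h

theorem two : IsPGroup 2 U := U_eq ▸ isPGroup_Up 2

theorem nU : normalizer (U : Set F4) ≤ U := by
  rw [U_eq, H40.normalizer_Up]
  refine sup_le le_rfl fun g hg => ?_
  obtain ⟨c, rfl⟩ := mem_H_iff.1 hg
  rw [Subsingleton.elim c 1, map_one]
  exact one_mem _

theorem top {K : Subgroup F4} (h : U ≤ K) (k : ∀ r ∈ [14, 20, 22, 23], xF r ∈ K) : K = ⊤ := by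
  rw [eq_top_iff, ← CF.V.closure_xE_simple, closure_le]
  rintro _ ⟨i, hi, t, rfl | rfl⟩
  · exact xg_mem (h (x_mem (by revert i; decide +kernel))) t
  · exact xg_mem (k _ (by revert i; decide +kernel)) t

theorem exists_gam : ∃ γ : F4 ≃* F4, ∀ r < 48, γ (xF r) = xF (nthN rhoF4 r) := by
  obtain ⟨γ, -, hγ⟩ := exists_excF4 (F := ZMod 2) CF
  exact ⟨γ, fun r hr => (hγ r hr 1).trans (by rw [one_pow]; rfl)⟩

/-- The graph automorphism. -/
noncomputable def gam : F4 ≃* F4 := exists_gam.choose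

theorem gam_x {r s : ℕ} (hr : r < 48 ∧ nthN rhoF4 r = s := by decide +kernel) : gam (xF r) = xF s :=
  hr.2 ▸ exists_gam.choose_spec r hr.1

theorem gam2 (m : F4) : gam (gam m) = m := invol_of_closure CF.V.closure_xE gam (by
  rintro _ ⟨r, hr, t, rfl⟩
  obtain ⟨k1, k2⟩ := (by decide +kernel : ∀ r < 48, nthN rhoF4 r < 48 ∧ nthN rhoF4 (nthN rhoF4 r) = r) r hr
  change gam (gam (CF.xg _ r t)) = CF.xg _ r t
  rcases xg_cases r t with e | e <;> rw [e]
  · rw [map_one, map_one]
  · rw [gam_x ⟨hr, rfl⟩, gam_x ⟨k1, k2⟩]) m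

theorem aut (α : F4 ≃* F4) : ∃ k, (∀ t, α t = k * t * k⁻¹) ∨ ∀ t, α t = k * gam t * k⁻¹ :=
  aut_of_two (S2122.result 2 1 (by simp)) gam2 (x := xF 47) (gam_x (r := 47) (s := 44) ▸ fm1.1.nc) α

theorem gam_U {u : F4} (h : u ∈ U) : gam u ∈ U :=
  E_le (K := U.comap gam.toMonoidHom) (fun r hr => by
    have := gam_x ⟨pos_lt hr, rfl⟩
    exact mem_comap.2 (this ▸ x_mem (by clear this; revert r; decide +kernel))) h

theorem cz : ∀ z ∈ [44, 47], ∀ u ∈ U, Commute u (xF z) := fun z hz _ hu =>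
  cen_iff.1 (Up_le_cent (by simpa [or_comm] using hz) (U_eq ▸ hu))

/-- The classes of `2`-central involutions. -/
def Zc (g : F4) : Prop := IsConj (xF 47) g ∨ IsConj (xF 44) g ∨ IsConj (xF 47 * xF 44) g

theorem Zc.conj {g h : F4} (z : Zc g) (c : IsConj g h) : Zc h :=
  z.imp (·.trans c) (Or.imp (·.trans c) (·.trans c))

theorem Zc.gam {g : F4} (z : Zc g) : Zc (gam g) := by
  rcases z with z | z | z <;> replace z : IsConj (FP.gam _) (FP.gam g) := FP.gam.toMonoidHom.map_isConj z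
  · exact Or.inr (Or.inl (gam_x (r := 47) (s := 44) ▸ z))
  · exact Or.inl (gam_x (r := 44) (s := 47) ▸ z)
  · rw [map_mul, gam_x (s := 44), gam_x (s := 47), (cz 47 (by simp) _ (x_mem (by decide))).eq] at z
    exact Or.inr (Or.inr z)

theorem Zc.cent {g : F4} (z : Zc g) : ∃ a, IsConj a g ∧ ∀ u ∈ U, Commute u a := by
  rcases z with z | z | z
  exacts [⟨_, z, cz 47 (by simp)⟩, ⟨_, z, cz 44 (by simp)⟩,
    ⟨_, z, fun u hu => (cz 47 (by simp) u hu).mul_right (cz 44 (by simp) u hu)⟩]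

theorem cls {g : F4} (h : g * g = 1) (h1 : g ≠ 1) : Zc g ∨ IsConj (xw [39, 45]) g := by
  obtain ⟨Y, hY, c⟩ := invF4_conj CF g h h1
  simp only [List.mem_cons, List.not_mem_nil, or_false] at hY
  rcases hY with rfl | rfl | rfl | rfl
  exacts [Or.inl (Or.inl (xw_one 47 ▸ c.symm)), Or.inl (Or.inr (Or.inl (xw_one 44 ▸ c.symm))),
    Or.inl (Or.inr (Or.inr (xw_two 47 44 ▸ c.symm))), Or.inr c.symm]

theorem prA {a b : F4} (h : IsConj (xF 47) a) (c : IsConj a b) (k : Commute a b) (n : a ≠ b) :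
    Zc (a * b) := by
  obtain ⟨m, rfl⟩ := isConj_iff.1 h
  obtain ⟨b, rfl⟩ := (MulAut.conj m).surjective b
  have e : IsConj (xF 47 * b) (m * xF 47 * m⁻¹ * MulAut.conj m b) := isConj_iff.2 ⟨m, by simp [mul_assoc]⟩
  refine Zc.conj ((fm1.1.long b ((h.trans c).trans (isConj_iff.2 ⟨m, rfl⟩).symm) ?_ fun e => n ?_).imp_right
    Or.inr) e
  · exact (k : Commute (MulAut.conj m _) _).of_map (MulAut.conj m).injective
  · rw [e]; rfl

theorem root_cls {r : ℕ} (hr : r < 48) : IsConj (xF 47) (xF r) ∨ IsConj (xF 44) (xF r) := by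
  obtain ⟨w, hw, e⟩ := exists_domD tabF4.rf [0, 1, 2, 3] 15 r
  have c := (tabF4.red_word (C := CF) (F := ZMod 2) (w := w) (S := [r]) 
    (fun i hi => (by decide : ∀ i ∈ [0, 1, 2, 3], i < chevF4.rank) i (hw i hi))
    (fun s hs => List.mem_singleton.1 hs ▸ hr)).1.isConj
  rw [List.map_singleton, e, ← xw, ← xw, xw_one, xw_one] at c
  exact ((by decide +kernel : ∀ r < 48, domD tabF4.rf [0, 1, 2, 3] 15 r = 47 ∨
    domD tabF4.rf [0, 1, 2, 3] 15 r = 44) r hr).imp (fun e => by rw [← e]; exact c.symm)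
      fun e => by rw [← e]; exact c.symm

theorem pr {r : ℕ} (hr : r < 48) {b : F4} (c : IsConj (xF r) b) (k : Commute (xF r) b)
    (n : xF r ≠ b) : Zc (xF r * b) := by
  refine (root_cls hr).elim (fun h => prA h c k n) fun h => ?_
  have := (prA (a := gam (xF r)) (b := gam b) (gam_x (r := 44) (s := 47) ▸ gam.toMonoidHom.map_isConj h)
    (gam.toMonoidHom.map_isConj c) (k.map gam) (gam.injective.ne n)).gam
  rwa [← map_mul, gam2] at this

theorem sq {z : ℕ} (h : z ∈ [40, 44, 46, 47]) : ∃ p ∈ E rUa, xF z = p * p := by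
  obtain ⟨p, hp, k, e⟩ := (by decide +kernel : ∀ z ∈ [40, 44, 46, 47],
    ∃ p ∈ [[28, 38], [33, 40], [32, 41], [24, 46]], p ⊆ rUa ∧ tabF4.weq [z] (p ++ p) = true) z h
  exact ⟨_, xw_mem k, (xw_one z).symm.trans ((tabF4.xl_eq e).trans (xl_append _ _))⟩

theorem sq_one {S : List ℕ} (h : Cl S S ∧ ∀ L ∈ S.sublists, tabF4.weq (L ++ L) [] = true) {x : F4}
    (hx : x ∈ E S) : x * x = 1 := by
  obtain ⟨L, hL, rfl⟩ := h.1.nf hx
  exact (xl_append _ _).symm.trans (tabF4.xl_eq (h.2 L hL))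

theorem zc_tab {L : List ℕ} (h : ∃ g ∈ [[], [13], [21], [34, 13], [26, 21]],
    ∃ Y ∈ [[47], [44], [47, 44]], tabF4.weq (g ++ Y) (L ++ g) = true) : Zc (xw L) := by
  obtain ⟨g, -, Y, hY, e⟩ := h
  have e : xw _ = xw _ := tabF4.xl_eq e
  rw [xw, xw, xl_append, xl_append] at e
  have c : IsConj (xw Y) (xw L) := isConj_iff.2 ⟨xw g, mul_inv_eq_of_eq_mul e⟩
  simp only [List.mem_cons, List.not_mem_nil, or_false] at hY
  rcases hY with rfl | rfl | rfl
  exacts [Or.inl (xw_one 47 ▸ c), Or.inr (Or.inl (xw_one 44 ▸ c)), Or.inr (Or.inr (xw_two 47 44 ▸ c))]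

theorem e4 {x y : F4} (hx : x ∈ E [39, 44, 45, 47]) (hy : y ∈ E [39, 44, 45, 47]) (x1 : x ≠ 1)
    (y1 : y ≠ 1) (n : x * y ≠ 1) : Zc x ∨ Zc y ∨ Zc (x * y) := by
  have c : Cl [39, 44, 45, 47] [39, 44, 45, 47] := by decide +kernel
  have k : ∀ x ∈ E [39, 44, 45, 47], x ≠ 1 → Zc x ∨ ∃ L ∈ [[39, 45], [39, 44, 45], [39, 45, 47],
      [39, 44, 45, 47]], x = xw L := fun x hx x1 => by
    obtain ⟨L, hL, rfl⟩ := c.nf hx
    by_cases m : L ∈ [[39, 45], [39, 44, 45], [39, 45, 47], [39, 44, 45, 47]]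
    · exact Or.inr ⟨L, m, rfl⟩
    have : L ≠ [] := fun e => x1 (e ▸ rfl)
    exact Or.inl (zc_tab (by clear x1 hx; revert L; decide +kernel))
  refine (k x hx x1).imp_right ?_
  rintro ⟨L, hL, rfl⟩
  refine (k y hy y1).imp_right ?_
  rintro ⟨L', hL', rfl⟩
  rw [← xl_append] at n ⊢
  have : tabF4.weq (L ++ L') [] = false := Bool.eq_false_iff.2 fun e => n (tabF4.xl_eq e)
  exact zc_tab (by clear x1 y1 n hx hy; revert L L'; decide +kernel)

theorem hyper {x y : F4} (hx : x ∈ E [40, 44, 46, 47]) (hy : y ∈ E [40, 44, 46, 47]) {d : ℕ}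
    (hd : d ∈ [14, 23]) : Commute (xF d) x ∨ Commute (xF d) y ∨ Commute (xF d) (x * y) := by
  have c : Cl [40, 44, 46, 47] [40, 44, 46, 47] := by decide +kernel
  have k : ∀ L, tabF4.weq (d :: L) (L ++ [d]) = true → Commute (xF d) (xw L) := fun L e => by
    have e : xw _ = xw _ := tabF4.xl_eq e
    rwa [xw_cons, xw, xw, xl_append, ← xw, ← xw, xw_one] at e
  obtain ⟨L, hL, rfl⟩ := c.nf hx
  obtain ⟨L', hL', rfl⟩ := c.nf hy
  rw [← xl_append]
  refine Or.imp (k L) (Or.imp (k L') (k _)) ?_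
  clear k hx hy
  revert d L L'
  decide +kernel

theorem comm_of {d : ℕ} {S : List ℕ} (h : ∀ r ∈ S, tabF4.weq [d, r] [r, d] = true) {x : F4}
    (hx : x ∈ E S) : Commute (xF d) x :=
  E_comm (fun r hr => (xw_two d r).symm.trans ((tabF4.xl_eq (h r hr)).trans (xw_two r d))) hx

theorem ua_comm {u : F4} (hu : u ∈ E rUa) : Commute u (xw [39, 45]) :=
  xw_two 39 45 ▸ (comm_of (by decide +kernel) hu).symm.mul_right (comm_of (by decide +kernel) hu).symm

theorem eq_one_of_cent {a : F4} (h : ∀ m, Commute m a) : a = 1 := by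
  have := simple
  rcases (inferInstance : (center F4).Normal).eq_bot_or_eq_top with e | e
  · exact e.le (mem_center_iff.2 h)
  · have k := ct_eq (r := 24) (s := 46) (by decide) (by decide)
    rw [mul_assoc (xF 24), mem_center_iff.1 (e.ge (mem_top (xF 24))), ← mul_assoc, xF_sq, one_mul, xF_sq,
      show ct 24 46 = [47] by decide +kernel, xw_one] at k
    exact (xF_ne (by norm_num) k.symm).elim

theorem four {a b w x y z : F4} (hb : w * x = b) (aa : a * a = 1) (bb : b * b = 1)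
    (yy : y * y = 1) (xx : x * x = 1) (e : a * x * a * x = z * y) (c1 : Commute a w)
    (c2 : Commute w (z * y)) (c3 : Commute (a * b) y) :
    b * a * z = a * b * y ∧ a * b * y * (a * b * y) = z * y := by
  have k : a * b * (a * b) = z * y := by
    have e1 : a * x * a = z * y * x := by rw [← e, mul_assoc (a * x * a), xx, mul_one]
    calc a * b * (a * b) = w * (a * x * a) * b := by
          nth_rw 1 [← hb]; rw [← mul_assoc a w, c1.eq]; simp only [mul_assoc]
      _ = z * y * (w * x * b) := by rw [e1, ← mul_assoc w, c2.eq]; simp only [mul_assoc]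
      _ = _ := by rw [hb, bb, mul_one]
  refine ⟨?_, by rw [c3.symm.mul_mul_mul_comm, yy, mul_one, k]⟩
  rw [← mul_one z, ← yy, ← mul_assoc z, ← k]
  simp only [mul_assoc, ← mul_assoc a a, ← mul_assoc b b, aa, bb, one_mul]

/-- An outer involution centralizes a square root of `x₄₄ x₄₇`. -/
theorem outer {α : F4 ≃* F4} {k : F4} (h : ∀ t, α t = k * gam t * k⁻¹) (hk : k ∈ U)
    (h2 : ∀ t, α (α t) = t) : α (xF 47) = xF 44 ∧ ∃ c, α c = c ∧ c * c = xF 44 * xF 47 := by
  have e1 : α (xF 47) = xF 44 := by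
    rw [h, gam_x (r := 47) (s := 44), (cz 44 (by simp) k hk).eq, mul_inv_cancel_right]
  have c : Cl pos [42, 43, 44, 45, 46, 47] := by decide +kernel
  have w := c.comm (T := pos) (fun _ h => h) (b := 41) (by decide) (by decide +kernel) hk
  have wU : _ ∈ U := E_mono c.2.1 w
  have aU : xF 29 ∈ U := x_mem (by decide)
  have e2 : α (xF 29) = k * xF 41 * k⁻¹ := by rw [h, gam_x (r := 29) (s := 41)]
  obtain ⟨k1, k2⟩ := four (a := xF 29) (b := α (xF 29)) (w := k * xF 41 * k⁻¹ * xF 41) (x := xF 41)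
    (y := xF 47) (z := xF 44) (by rw [e2, mul_assoc _ (xF 41), xF_sq, mul_one]) (xF_sq _)
    (by rw [← map_mul, xF_sq, map_one]) (xF_sq _) (xF_sq _)
    ((ct_eq (by decide) (by decide)).trans (by rw [← xw_two, show ct 29 41 = [44, 47] by decide +kernel]))
    (comm_of (by decide +kernel) w) ((cz 44 (by simp) _ wU).mul_right (cz 47 (by simp) _ wU))
    (cz 47 (by simp) _ (mul_mem aU (e2 ▸ mul_mem (mul_mem hk (x_mem (by decide))) (inv_mem hk))))
  exact ⟨e1, _, by rw [map_mul, map_mul, h2, e1, k1], k2⟩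

end Cfsg.Agent.H48.FP
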