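import Cfsg.Agent.H48.HsB2

/-! A commuting conjugate of the central involution lies in the component. -/

set_option autoImplicit false
set_option maxRecDepth 100000

namespace Cfsg.Agent.H48.HS

open Cfsg.Agent.H68.DCE Cfsg.Agent.H68.HN Cfsg.Agent.H63 Cfsg.Agent.H67 Subgroup

universe u

variable {Γ : Type*} [Group Γ] {J : K → Γ}

theorem cc (c x : Γ) : c * (c⁻¹ * x * c⁻¹⁻¹) * c⁻¹ = x := by group

theorem SD.lemU (h : SD J) {c s : Γ} (hc : c * J eU ≠ J eU * c)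
    (ht : c * J eU * c⁻¹ * J eU = J eU * (c * J eU * c⁻¹)) (hs : Cn J s) (h2 : s * s = 1)
    (hn : c * s * c⁻¹ * J eU = J eU * (c * s * c⁻¹)) : s = 1 ∨ s = J eU := by
  refine or_iff_not_imp_left.2 fun h1 => ?_
  obtain ⟨σ, hσ⟩ := h.dom _ ht
  obtain ⟨υ, hυ⟩ := h.dom _ hn
  have n1 : ¬ U2 σ := fun e => hc (h.tight _ c h.tt h.t1 h.cn_t (hσ.cn e))
  have n2 : ¬ U2 υ := fun e => hc (h.tight _ c h2 h1 hs (hυ.cn e))
  have s1 := h.sq_u2 hσ (by rw [conj_mul, h.tt]; group)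
  have s2 := h.sq_u2 hυ (by rw [conj_mul, h2]; group)
  have := (F1 s2 n2 σ s1 fun a ha e => ?_).resolve_left n1
  · by_contra ne
    refine hc (h.tight (s * J eU) c (by
      rw [mul_assoc, ← mul_assoc (J eU), ← hs.t, mul_assoc, h.tt, mul_one, h2])
      (fun e => ne (mul_right_cancel (e.trans h.tt.symm))) (hs.mul h.cn_t) ?_)
    rw [← conj_mul]
    refine (hυ.mul hσ).cn ?_
    rcases this with e | e <;> rw [e]
    exacts [s2, by rw [nU1]; exact U2.u.mul s2]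
  · have e1 := comm_conj c⁻¹ ((h.ac_comm hυ ha).2 e.symm)
    rw [conj_symm rfl] at e1
    have e2 := comm_conj c (h.tight s _ h2 h1 hs (by rwa [conj_of_mul e1.symm]))
    rw [cc] at e2
    exact ((h.ac_comm hσ ha).1 e2.symm).symm

theorem inv_ne {c t : Γ} (hc : c * t ≠ t * c) : c⁻¹ * t ≠ t * c⁻¹ := fun e =>
  hc (Commute.inv_left_iff.1 e)

theorem inv_ht {c t : Γ} (ht : c * t * c⁻¹ * t = t * (c * t * c⁻¹)) :
    c⁻¹ * t * c⁻¹⁻¹ * t = t * (c⁻¹ * t * c⁻¹⁻¹) := by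
  have := comm_conj c⁻¹ ht
  rw [conj_symm rfl] at this
  exact this.symm

theorem three_inv {x : Γ} (h : x * (x * x) = 1) : x⁻¹ = x * x := inv_eq_of_mul_eq_one_right h

theorem SD.lemE (h : SD J) {c d k : Γ} (hd : c * d * c⁻¹ = J eU) (ne : d ≠ J eU)
    (ht : d * J eU = J eU * d) {x m : K} (x3 : x * (x * x) = 1) (m3 : m * (m * m) = 1)
    (hm : J m * d = d * J m) (hk : Cn J k) (hx : Cn J (c * (k * J x) * c⁻¹))
    (e2 : m * x * m⁻¹ * x⁻¹ * (m * x * m⁻¹ * x⁻¹) = 1) (e1 : m * x ≠ x * m) :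
    J (m * x * m⁻¹ * x⁻¹) = d := by
  have kx := K1_of_cube x3
  have km := K1_of_cube m3
  have ke := mul_mem ((conj_K1 (g := m)).2 kx) (inv_mem kx)
  obtain ⟨μ, hμ⟩ := h.dom _ (hd ▸ comm_conj c hm)
  have h1 := (hμ.cn_conj hx).mul hx.inv
  have e : J m * (k * J x) * (J m)⁻¹ * (k * J x)⁻¹ = J (m * x * m⁻¹ * x⁻¹) := by
    rw [← conj_mul, conj_of_mul (hk _ km).symm, h.ac km _ kx, hk _ (conj_K1.2 kx), hk _ kx,
      h.mul _ (conj_K1.2 kx) _ (inv_mem kx), h.inv kx]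
    group
  rw [conj_mul, conj_inv, conj_mul, conj_inv, conj_mul, e] at h1
  have hc : c * J eU ≠ J eU * c := fun e => ne (conj_injective (hd.trans (conj_of_mul e).symm))
  generalize hy : m * x * m⁻¹ * x⁻¹ = y at h1 e2 ke
  refine conj_injective (((h.lemU (inv_ne hc) (by rw [conj_symm hd, ht]) h1 (by
    rw [conj_mul, ← h.mul _ ke _ ke, e2, h.one]; group) (by
    rw [conj_symm rfl]; exact h.jt ke)).resolve_left fun e => e1 ?_).trans hd.symm)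
  have := h.eq_one ke (conj_eq_one_iff.1 e)
  rwa [← hy, mul_inv_eq_one, mul_inv_eq_iff_eq_mul] at this

theorem comm_sq {m x : K} (x3 : x * (x * x) = 1) (m3 : m * (m * m) = 1)
    (e : m * (x * (m * (m * (x * (x * (m * (x * (m * (m * (x * x)))))))))) = 1) :
    m * x * m⁻¹ * x⁻¹ * (m * x * m⁻¹ * x⁻¹) = 1 := by
  rw [three_inv x3, three_inv m3]; simpa only [mul_assoc] using e

theorem four_three {α : K} (h : α * (α * α) = 1) : α * α * (α * α) = α := by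
  rw [mul_assoc, h, mul_one]

theorem SD.no2B (h : SD J) {c k : Γ} (hk : Cn J k) (hd : c * (J hY * k) * c⁻¹ = J eU) : False := by
  have kt := hk.t
  have d2 := h.d_sq (cj hd)
  have k2 : k * k = J eU := by
    rw [mul_assoc, ← mul_assoc k, hk _ hY_K1, mul_assoc, ← mul_assoc, ← h.mul _ hY_K1 _ hY_K1,
      g_y.1] at d2
    exact mul_left_cancel (d2.trans h.tt.symm)
  have dt : J hY * k * J eU = J eU * (J hY * k) := Commute.mul_left (h.jt hY_K1) kt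
  have nk : ∀ e ∈ K1, J e ≠ J hY * k := fun e he q => by
    have q : k = J (hY⁻¹ * e) := by rw [h.mul _ (inv_mem hY_K1) _ he, q, h.inv hY_K1]; group
    have ke := mul_mem (inv_mem hY_K1) he
    rw [q, ← h.mul _ ke _ ke, ((h.cn_iff ke).1 (q ▸ hk)).sq, h.one] at k2
    exact h.t1 k2.symm
  have ne := (nk _ eU_K1).symm
  have cd : ∀ a ∈ K1, a * hY = hY * a → J a * (J hY * k) = J hY * k * J a := fun a ha e =>
    Commute.mul_right ((h.comm ha hY_K1).2 e) (hk a ha).symm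
  have fin : ∀ {x m : K}, x * (x * x) = 1 → m * (m * m) = 1 → m * hY = hY * m →
      m * (x * (m * (m * (x * (x * (m * (x * (m * (m * (x * x)))))))))) = 1 → m * x ≠ x * m →
      ¬ Cn J (c * J x * c⁻¹) := fun x3 m3 my e2 e1 hx =>
    nk _ (mul_mem (conj_K1.2 (K1_of_cube x3)) (inv_mem (K1_of_cube x3))) (h.lemE hd ne dt x3 m3
      (cd _ (K1_of_cube m3) my) Cn.one (by rwa [one_mul]) (comm_sq x3 m3 e2) e1)
  have kq := K1_of_cube g_q.1
  have th : ∀ {x}, x * (x * x) = 1 → x * hY = hY * x → ∃ ρ, Ac J (c * J x * c⁻¹) ρ ∧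
      ρ * (ρ * ρ) = 1 := fun x3 e => h.exists_three (hd ▸ comm_conj c (cd _ (K1_of_cube x3) e)) (by
    rw [conj_mul, conj_mul, ← h.mul _ (K1_of_cube x3) _ (K1_of_cube x3),
      ← h.mul _ (K1_of_cube x3) _ (sq_K1 _), x3, h.one]; group)
  obtain ⟨ρ, hρ, r3⟩ := th f_rrr g_y.2.1.symm
  obtain ⟨α, hα, a3⟩ := th g_q.1 g_q.2.1
  obtain ⟨η, hη⟩ := h.dom (c * k * c⁻¹) (hd ▸ comm_conj c (Commute.mul_right (hk _ hY_K1) rfl))
  have hc : c * J eU ≠ J eU * c := fun e => ne (conj_injective (hd.trans (conj_of_mul e).symm))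
  have h2 : Ac J (c * J eU * c⁻¹) (η * η) := by rw [← k2, ← conj_mul]; exact hη.mul hη
  by_cases r1 : ρ = 1
  · exact fin f_rrr g_mr.1 g_mr.2.1 g_mr.2.2.1 g_mr.2.2.2 (hρ.cn (Or.inl r1))
  have cq : Commute eR hQ := g_q.2.2.symm
  have := KF1 r3 r1 (h.comm_three hη hρ (comm_conj c (hk _ eR_K1)) r3)
    (h.sq_u2 h2 (by rw [conj_mul, h.tt]; group))
    (fun e => hc (h.tight _ c h.tt h.t1 h.cn_t (h2.cn e)))
    (h.comm_three hα hρ (comm_conj c ((h.comm kq eR_K1).2 g_q.2.2)) r3)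
    (h.comm_or hα hη (comm_conj c (hk _ kq).symm))
  rw [four_three a3] at this
  have q3 : hQ ^ 3 = 1 := by rw [pow_three, g_q.1]
  have r3' : eR ^ 3 = 1 := by rw [pow_three, f_rrr]
  rcases this with e | e | e
  · exact fin g_q.1 g_mq.1 g_mq.2.1 g_mq.2.2.1 g_mq.2.2.2 (hα.cn (Or.inl e))
  · refine fin (x := eR * (hQ * hQ)) ?_ g_mrqq.1 g_mrqq.2.1 (by
      simpa only [mul_assoc] using g_mrqq.2.2.1) (by simpa only [mul_assoc] using g_mrqq.2.2.2) ?_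
    · rw [← pow_three, (cq.mul_right cq).mul_pow, (Commute.refl hQ).mul_pow, q3, r3', mul_one, mul_one]
    · rw [h.mul _ eR_K1 _ (sq_K1 _), h.mul _ kq _ kq, ← conj_mul, ← conj_mul]
      exact (hρ.mul (hα.mul hα)).cn (Or.inl (by rw [e, r3]))
  · refine fin (x := eR * hQ) ?_ g_mrq.1 g_mrq.2.1 (by
      simpa only [mul_assoc] using g_mrq.2.2.1) (by simpa only [mul_assoc] using g_mrq.2.2.2) ?_
    · rw [← pow_three, cq.mul_pow, q3, r3', mul_one]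
    · rw [h.mul _ eR_K1 _ kq, ← conj_mul]
      exact (hρ.mul hα).cn (Or.inl (by rw [e, r3]))

theorem SD.hin (h : SD J) : IN J := fun c σ hσ hc ha => by
  obtain ⟨k, hk, e⟩ := h.split ha hσ
  have d2 := h.d_sq (cj (rfl : c * J eU * c⁻¹ = _)).symm
  have c1 := hk _ hσ
  rcases h.sq_u2 ha d2 with s | s
  · have k2 : k * k = 1 := by
      rwa [e, mul_assoc, ← mul_assoc k, c1, mul_assoc, ← mul_assoc, ← h.mul _ hσ _ hσ, s, h.one,
        one_mul] at d2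
    have := comm_conj c⁻¹ (show k * (J σ * k) = J σ * k * k by rw [← mul_assoc, c1])
    rw [conj_symm e] at this
    rcases h.lemU (inv_ne hc) (inv_ht ha.t) hk k2 this with rfl | rfl
    exacts [⟨σ, hσ, e.trans (mul_one _)⟩, ⟨_, mul_mem hσ eU_K1, e.trans (h.mul _ hσ _ eU_K1).symm⟩]
  · exfalso
    obtain ⟨m, hm, e2⟩ := root_class1 s
    have e3 : J m * c * J eU * (J m * c)⁻¹ = J (m * σ * m⁻¹) * k := by
      rw [conj_conj', e, ← conj_mul, h.ac hm _ hσ, conj_of_mul (hk _ hm).symm]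
    rcases e2 with e2 | e2 <;> rw [e2] at e3
    · exact h.no2B hk (conj_symm e3)
    · rw [cU, h.mul _ hY_K1 _ eU_K1, mul_assoc (J hY)] at e3
      exact h.no2B (h.cn_t.mul hk) (conj_symm e3)

theorem a0 : A0Stmt.{u} := fun _ _ _ _ h => h.hin

theorem SD.inn1 (h : SD J) {d : Γ} (hd : IsConj d (J eU)) (ne : d ≠ J eU) {σ : K} (hσ : σ ∈ K1)
    (ha : Ac J d σ) : ∃ c τ, (τ = eT ∨ τ = eU * eT) ∧ c * J τ * c⁻¹ = J eU := by
  obtain ⟨υ, hυ, rfl, h2, h3⟩ := h.hin.inn h.toS0 hd ne hσ ha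
  obtain ⟨m, hm, e⟩ := inn_class hυ h2 h3
  obtain ⟨c, hc⟩ := isConj_iff.1 ((cj (h.ac hm _ hυ)).symm.trans hd)
  exact ⟨c, _, e, hc⟩

theorem SD.out1 (h : SD J) {d : Γ} (hd : IsConj d (J eU)) {σ a b g : K} (hσ : σ ∉ K1)
    (ha : Ac J d σ) (a3 : a * (a * a) = 1) (b3 : b * (b * b) = 1) (a1 : a * σ = σ * a)
    (b1 : b * σ = σ * b) (ab : a * b ≠ b * a)
    (hg : g * σ * g⁻¹ = σ * (a * (b * (a * (a * (b * b)))))) :
    ∃ c τ, (τ = eT ∨ τ = eU * eT) ∧ c * J τ * c⁻¹ = J eU := by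
  obtain ⟨g, k1, hg⟩ : ∃ g ∈ K1, g * σ * g⁻¹ = σ * (a * (b * (a * (a * (b * b))))) := by
    by_cases k : g ∈ K1
    · exact ⟨g, k, hg⟩
    · exact ⟨g * σ, mul_K1.2 (iff_of_false k hσ), by rw [conj_conj', mul_inv_cancel_right, hg]⟩
  obtain ⟨c, hc⟩ := isConj_iff.1 hd
  have ka := K1_of_cube a3
  have kb := K1_of_cube b3
  have th : ∀ {x}, x * (x * x) = 1 → x * σ = σ * x → ∃ ρ ∈ K1, Ac J (c * J x * c⁻¹) ρ :=
    fun x3 e => let ⟨ρ, h1, h2⟩ := h.exists_three (hc ▸ comm_conj c ((h.ac_comm ha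
      (K1_of_cube x3)).2 e.symm).symm) (by
        rw [conj_mul, conj_mul, ← h.mul _ (K1_of_cube x3) _ (K1_of_cube x3),
          ← h.mul _ (K1_of_cube x3) _ (sq_K1 _), x3, h.one]; group)
      ⟨ρ, K1_of_cube h2, h1⟩
  obtain ⟨α, kα, hα⟩ := th a3 a1
  obtain ⟨β, kβ, hβ⟩ := th b3 b1
  have k2 := mul_mem ka (mul_mem ka (sq_K1 b))
  have ke := mul_mem ka (mul_mem kb k2)
  have h1 := (h.ac eU_K1).mul (hα.mul (hβ.mul (hα.mul (hα.mul (hβ.mul hβ)))))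
  rw [conj_mul, conj_mul, conj_mul, conj_mul, conj_mul, ← h.mul _ kb _ kb, ← h.mul _ ka _ (sq_K1 b),
    ← h.mul _ ka _ (mul_mem ka (sq_K1 b)), ← h.mul _ kb _ k2, ← h.mul _ ka _ (mul_mem kb k2)] at h1
  have e1 : a * (b * (a * (a * (b * b)))) ≠ 1 := fun e => ab (by
    rw [← three_inv b3, ← mul_assoc a a, ← three_inv a3, ← mul_assoc, ← mul_assoc, mul_inv_eq_one,
      mul_inv_eq_iff_eq_mul] at e
    exact e)
  generalize a * (b * (a * (a * (b * b)))) = e at hg ke h1 e1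
  refine h.inn1 ?_ (fun q => e1 (h.eq_one ke (conj_eq_one_iff.1 (mul_eq_left.1 q)))) (mul_mem eU_K1
    (mul_mem kα (mul_mem kβ (mul_mem kα (mul_mem kα (mul_mem kβ kβ)))))) h1
  have : J g * d * (J g)⁻¹ = d * J e := by
    rw [show J g * d * (J g)⁻¹ = d * (d⁻¹ * J g * d⁻¹⁻¹ * (J g)⁻¹) by group, ha.inv _ k1,
      ← h.inv k1, ← h.mul _ (conj_K1.2 k1) _ (inv_mem k1),
      show σ⁻¹ * g * σ⁻¹⁻¹ * g⁻¹ = σ⁻¹ * (g * σ * g⁻¹) by group, hg, inv_mul_cancel_left]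
  rw [← hc, conj_mul, ← this, hc]
  exact (cj rfl).symm.trans ((cj rfl).symm.trans hd)

theorem a1 : A1Stmt.{u} := fun _ _ _ J h ⟨g, h1, h2⟩ => by
  have hd := (cj (rfl : g * J eU * g⁻¹ = _)).symm
  obtain ⟨σ, hσ⟩ := h.dom _ h1
  by_cases k : σ ∈ K1
  · exact h.inn1 hd h2 k hσ
  obtain ⟨m, hm, e⟩ := out_class k (h.sq_out hσ (h.d_sq hd ▸ Cn.one) k)
  have a1 := (h.ac hm).conj hσ
  have d2 := (cj (rfl : J m * _ * (J m)⁻¹ = _)).symm.trans hd
  rcases e with e | e <;> rw [e] at a1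
  · obtain ⟨p1, p2, p3, p4, p5, p6⟩ := g_o2
    exact h.out1 d2 eZ_K1 a1 p1 p2 p3 p4 p5 (conj_of_mul (p6.trans (by simp only [mul_assoc])))
  · obtain ⟨p1, p2, p3, p4, p5, p6⟩ := g_o1
    exact h.out1 d2 zt_K1 a1 p1 p2 (p3.trans (mul_assoc _ _ _).symm) (p4.trans (mul_assoc _ _ _).symm)
      p5 (conj_of_mul (p6.trans (by simp only [mul_assoc])))

theorem a2 : A2Stmt.{u} := fun _ _ _ J h c τ hτ hd => by
  have k1 : τ ∈ K1 := by
    rcases hτ with rfl | rfl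
    exacts [eT_K1, mul_mem eU_K1 eT_K1]
  have ct : ∀ {a}, a * eT = eT * a → a * τ = τ * a := fun e => by
    rcases hτ with rfl | rfl
    exacts [e, comm_U e]
  have ne : J τ ≠ J eU := fun e => by
    have := h.inj _ k1 _ eU_K1 e
    rcases hτ with rfl | rfl
    exacts [f_tu this, f_t1 (mul_eq_left.1 this)]
  have hc : c * J eU ≠ J eU * c := fun e => ne (conj_injective (hd.trans (conj_of_mul e).symm))
  refine ⟨fun k hk => ?_, fun s hs h2 => h.lemU hc (h.tr hd k1 eU_K1 (cU _)) hs h2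
    (hd ▸ comm_conj c (hs _ k1))⟩
  have fin : ∀ {k}, Cn J k → ¬ Cn J (c * (k * J eR) * c⁻¹) := fun hk hx => by
    have := h.lemE hd ne (h.jt k1) f_rrr f_r13 ((h.comm (K1_of_cube f_r13) k1).2 (ct f_r1t)) hk hx
      (comm_sq f_rrr f_r13 g_y1.1) fun e => g_y1.2.1 (by
        rw [← mul_assoc, e, mul_assoc, ← mul_assoc eR1 eR1 (eR * eR), ← mul_assoc eR1, f_r13,
          one_mul, f_rrr])
    have := h.inj _ (mul_mem (conj_K1.2 eR_K1) (inv_mem eR_K1)) _ k1 this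
    rw [three_inv f_rrr, three_inv f_r13] at this
    simp only [mul_assoc] at this
    exact hτ.elim (fun e => g_y1.2.2.1 (this.trans e)) fun e => g_y1.2.2.2 (this.trans e)
  obtain ⟨ρ, hρ, r3⟩ := h.exists_three (h.tr hd k1 eR_K1 (ct f_tr.symm)) (by
    rw [conj_mul, conj_mul, ← h.mul _ eR_K1 _ eR_K1, ← h.mul _ eR_K1 _ (sq_K1 _), f_rrr, h.one]
    group)
  obtain ⟨η, hη⟩ := h.dom _ (h.tr hd k1 hY_K1 (ct g_y.2.2.1))
  obtain ⟨α, hα⟩ := h.dom (c * k * c⁻¹) (hd ▸ comm_conj c (hk _ k1))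
  have h2 : Ac J (c * J eU * c⁻¹) (η * η) := by
    rw [← g_y.1, h.mul _ hY_K1 _ hY_K1, ← conj_mul]; exact hη.mul hη
  have h4 := (hα.mul hα).mul (hα.mul hα)
  rw [conj_mul, conj_mul] at h4
  have k4 := (hk.mul hk).mul (hk.mul hk)
  rcases KF1 r3 (fun e => fin Cn.one (by rw [one_mul]; exact hρ.cn (Or.inl e)))
    (h.comm_three hη hρ (comm_conj c ((h.comm hY_K1 eR_K1).2 g_y.2.1)) r3)
    (h.sq_u2 h2 (by rw [conj_mul, h.tt]; group))
    (fun e => hc (h.tight _ c h.tt h.t1 h.cn_t (h2.cn e)))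
    (h.comm_three hα hρ (comm_conj c (hk _ eR_K1)) r3)
    (h.comm_or hα hη (comm_conj c (hk _ hY_K1))) with e | e | e
  · exact h4.cn (Or.inl e)
  · refine absurd ?_ (fin k4.inv)
    rw [← conj_mul, ← conj_inv]
    exact (h4.inv.mul hρ).cn (Or.inl (by rw [e, inv_mul_cancel]))
  · refine absurd ?_ (fin k4)
    rw [← conj_mul]
    exact (h4.mul hρ).cn (Or.inl (by rw [e, mul_assoc, r3]))

end Cfsg.Agent.H48.HS
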