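import Cfsg.Agent.H48.HsW

/-! The product of the central involution with a fused inner involution is not fused. -/

set_option autoImplicit false
set_option maxRecDepth 100000

namespace Cfsg.Agent.H48.HS

open Cfsg.Agent.H68.DCE Cfsg.Agent.H68.HN Cfsg.Agent.H63 Cfsg.Agent.H67 Subgroup

variable {Γ : Type*} [Group Γ] {J : K → Γ}

theorem SQ.odd (h : SQ J) {n : Γ} (hn : n * J eU = J eU * n) (h15 : n ^ 15 = 1) :
    ∃ a ∈ K1, n = J a := by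
  obtain ⟨k, hk⟩ := h.dom n hn
  obtain ⟨z, hz, e⟩ := h.split (hk.mul hk) (sq_K1 k)
  refine ⟨(k * k) ^ 8, pow_mem (sq_K1 k) 8, ?_⟩
  have c : Commute (J (k * k)) z := (hz _ (sq_K1 k)).symm
  have z8 : z ^ 8 = 1 := by
    rw [show z ^ 8 = (z * z * (z * z)) ^ 2 by simp only [pow_succ, pow_zero, one_mul, mul_assoc], h.z4 z hz, one_pow]
  rw [h.pow (sq_K1 k), ← mul_one (J _ ^ 8), ← z8, ← c.mul_pow, ← e, ← sq, ← pow_mul,
    show 2 * 8 = 15 + 1 from rfl, pow_succ, h15, one_mul]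

theorem S0.d_sq (h : S0 J) {d : Γ} (hd : IsConj d (J eU)) : d * d = 1 := by
  obtain ⟨c, rfl⟩ := isConj_iff.1 hd.symm
  rw [conj_mul, h.tt]; group

theorem S0.d_ne (h : S0 J) {d : Γ} (hd : IsConj d (J eU)) : d ≠ 1 := fun e =>
  h.t1 (isConj_one_right.1 (e ▸ hd))

theorem IN.inn (hin : IN J) (h : S0 J) {d : Γ} (hd : IsConj d (J eU)) (ne : d ≠ J eU) {σ : K}
    (hσ : σ ∈ K1) (ha : Ac J d σ) : ∃ υ ∈ K1, d = J υ ∧ υ * υ = 1 ∧ ¬ U2 υ := by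
  obtain ⟨c, rfl⟩ := isConj_iff.1 hd.symm
  obtain ⟨υ, hυ, e⟩ := hin c σ hσ (fun e => ne (conj_of_mul e)) ha
  refine ⟨υ, hυ, e, h.eq_one (mul_mem hυ hυ) (by rw [h.mul _ hυ _ hυ, ← e, h.d_sq hd]), ?_⟩
  rintro (rfl | rfl)
  exacts [h.d_ne hd (e.trans h.one), ne e]

theorem S0.tr (h : S0 J) {c : Γ} {τ a : K} (hc : c * J τ * c⁻¹ = J eU) (hτ : τ ∈ K1) (ha : a ∈ K1)
    (e : a * τ = τ * a) : c * J a * c⁻¹ * J eU = J eU * (c * J a * c⁻¹) :=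
  hc ▸ comm_conj c ((h.comm ha hτ).2 e)

theorem comm_U {a b : K} (e : a * b = b * a) : a * (eU * b) = eU * b * a := by
  rw [← mul_assoc, ← cU, mul_assoc, e, mul_assoc]

theorem nU1 (a b : K) : a * (eU * b) = eU * (a * b) := by rw [← mul_assoc, ← cU, mul_assoc]

theorem nU2 (a : K) : a * eU = eU * a := (cU a).symm

theorem nU3 (b : K) : eU * (eU * b) = b := by rw [← mul_assoc, f_uu, one_mul]

theorem IN.tp (hin : IN J) (h : S0 J) {c : Γ} {τ : K} (hτ : τ = eT ∨ τ = eU * eT)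
    (hc : c * J τ * c⁻¹ = J eU) : ∃ υ ∈ K1, c * J eU * c⁻¹ = J υ ∧ υ * υ = 1 ∧ ¬ U2 υ := by
  have h1 : τ ∈ K1 := by
    rcases hτ with rfl | rfl
    exacts [eT_K1, mul_mem eU_K1 eT_K1]
  obtain ⟨η, hη⟩ := h.dom _ (h.tr hc h1 hY_K1 (by
    rcases hτ with rfl | rfl
    exacts [g_y.2.2.1, comm_U g_y.2.2.1]))
  refine hin.inn h (isConj_iff.2 ⟨c, rfl⟩).symm (fun e => ?_) (sq_K1 η) (by
    have := hη.mul hη
    rwa [conj_mul, ← h.mul _ hY_K1 _ hY_K1, g_y.1] at this)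
  have := h.inj _ h1 _ eU_K1 (conj_injective (hc.trans e.symm))
  rcases hτ with rfl | rfl
  exacts [f_tu this, f_t1 (mul_eq_left.1 this)]

theorem exists_m7 : ∃ m ∈ K1, m * eT * m⁻¹ = eT7 := conjK1 (conj_of_mul f_mt) eZ_K1 zt7

theorem hP_K1 : hP ∈ K1 := gS_K1 (val_mem_cl (by decide))

/-- An element of order five in the centraliser of a fused involution, transported. -/
theorem SQ.five (h : SQ J) {c : Γ} {τ a : K} (hc : c * J τ * c⁻¹ = J eU) (hτ : τ ∈ K1)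
    (h5 : a ^ 5 = 1) (e : a * τ = τ * a) : ∃ b ∈ K1, c * J a * c⁻¹ = J b :=
  h.odd (h.tr hc hτ (K1_of_five h5) e) (by
    rw [conj_pow, ← h.pow (K1_of_five h5), show 15 = 5 * 3 from rfl, pow_mul, h5, one_pow, h.one]
    group)

theorem SQ.three (h : SQ J) {c : Γ} {τ a : K} (hc : c * J τ * c⁻¹ = J eU) (hτ : τ ∈ K1)
    (h3 : a * (a * a) = 1) (e : a * τ = τ * a) : ∃ b ∈ K1, c * J a * c⁻¹ = J b :=
  h.odd (h.tr hc hτ (K1_of_cube h3) e) (by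
    rw [conj_pow, ← h.pow (K1_of_cube h3), show 15 = 3 * 5 from rfl, pow_mul, pow_three, h3,
      one_pow, h.one]
    group)

theorem SQ.nfu (h : SQ J) (hin : IN J) : ¬ IsConj (J (eU * eT)) (J eU) := fun hf => by
  obtain ⟨c0, hc0⟩ := isConj_iff.1 hf
  obtain ⟨υ, hυ, h1, h2, h3⟩ := hin.tp h.toS0 (Or.inr rfl) hc0
  obtain ⟨m, hm, e7⟩ := exists_m7
  have k7 := mul_mem eU_K1 eT7_K1
  have hc : c0 * (J m)⁻¹ * J (eU * eT7) * (c0 * (J m)⁻¹)⁻¹ = J eU := by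
    rw [conj_conj', (h.ac hm).inv _ k7, conj_Umul, conj_symm e7, hc0]
  have h1 : c0 * (J m)⁻¹ * J eU * (c0 * (J m)⁻¹)⁻¹ = J υ := by
    rw [conj_conj', (h.ac hm).inv _ eU_K1, conj_eU, h1]
  generalize c0 * (J m)⁻¹ = c at hc h1
  have k5 := K1_of_five f5
  obtain ⟨b, hb, e5⟩ := h.five hc k7 f5 (comm_U f_f5t)
  obtain ⟨α, hα⟩ := h.dom _ (h.tr hc k7 eX0_K1 (comm_U f_x0t))
  obtain ⟨π, hπ⟩ := h.dom _ (h.tr hc k7 hP_K1 (comm_U g_p.1))
  have b5 : b ^ 5 = 1 := h.eq_one (pow_mem hb 5) (by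
    rw [h.pow hb, ← e5, conj_pow, ← h.pow k5, f5, h.one]; group)
  have b1 : b ≠ 1 := fun e => f_f51 (h.eq_one k5 (conj_eq_one_iff.1 (by rw [e5, e, h.one])))
  have c1 : b * υ = υ * b := (h.comm hb hυ).1 (e5 ▸ h1 ▸ comm_conj c (h.jt k5))
  have c2 : α * b = b * α := (h.ac_comm hα hb).1 (e5 ▸ comm_conj c ((h.comm eX0_K1 k5).2 f_x0f))
  have c3 : α * υ = υ * α := (h.ac_comm hα hυ).1 (h1 ▸ comm_conj c (h.jt eX0_K1))
  have a2 : U2 (α * α) := h.u2 (hα.mul hα) (by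
    rw [conj_mul, ← h.mul _ eX0_K1 _ eX0_K1, f_x0x0, hc]; exact h.cn_t)
  have a3 : U2 α ∨ α = υ ∨ α = eU * υ := by
    obtain ⟨l, -, e | e⟩ := inn_class hυ h2 h3
    · have := KF2 e b5 b1 c1 c2 c3
      exact this.2.1 (a2.resolve_right this.1)
    · have := KF2 (m := l) (τ := eU * υ) (by rw [conj_Umul, e, ← mul_assoc, f_uu, one_mul]) b5 b1
        (comm_U c1) c2 (comm_U c3)
      refine (this.2.1 (a2.resolve_right this.1)).imp_right fun e => e.symm.imp_left fun e => ?_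
      rwa [← mul_assoc, f_uu, one_mul] at e
  have fin : ∀ ξ ∈ K1, hP * ξ * hP⁻¹ = ξ * (ξ * (ξ * eU)) → ¬ Cn J (c * J ξ * c⁻¹) :=
    fun ξ hξ e hn => by
      have h4 := hπ.cn_conj hn
      rw [conj_mul, conj_inv, conj_mul, h.ac hP_K1 _ hξ, e,
        h.mul _ hξ _ (mul_mem hξ (mul_mem hξ eU_K1)), h.mul _ hξ _ (mul_mem hξ eU_K1),
        h.mul _ hξ _ eU_K1, ← conj_mul, ← conj_mul, ← conj_mul, h1] at h4
      have := hn.inv.mul (hn.inv.mul (hn.inv.mul h4))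
      simp only [inv_mul_cancel_left] at this
      exact h3 ((h.cn_iff hυ).1 this)
  have p0 : hP * eX0 * hP⁻¹ = eX0 * (eX0 * (eX0 * eU)) := conj_of_mul (by
    rw [g_p.2]; simp only [mul_assoc])
  rcases a3 with e | e
  · exact fin _ eX0_K1 p0 (hα.cn e)
  · refine fin (eU * eX0) (mul_mem eU_K1 eX0_K1) ?_ ?_
    · rw [conj_Umul, p0]; simp only [mul_assoc, nU1, nU2, nU3]
    · rw [h.mul _ eU_K1 _ eX0_K1, ← conj_mul, h1]
      refine ((h.ac hυ).mul hα).cn ?_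
      rcases e with e | e <;> rw [e]
      exacts [Or.inl h2, Or.inr (by rw [comm_U rfl, mul_assoc, h2, mul_one])]

end Cfsg.Agent.H48.HS
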