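import Cfsg.Agent.H48.HsB1

/-! The outer involution, the centraliser of the component and the extension to `2.HS.2`. -/

set_option autoImplicit false
set_option maxRecDepth 100000

namespace Cfsg.Agent.H48.HS

open Cfsg.Agent.H68.DCE Cfsg.Agent.H68.HN Cfsg.Agent.H63 Cfsg.Agent.H67 Subgroup

variable {Γ : Type*} [Group Γ] {J : K → Γ}

theorem cj {c a b : Γ} (h : c * a * c⁻¹ = b) : IsConj a b := isConj_iff.2 ⟨c, h⟩

theorem SQ.cls (h : SQ J) (hin : IN J) {υ : K} (hυ : υ ∈ K1) (h2 : υ * υ = 1) (h3 : ¬ U2 υ)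
    (hd : IsConj (J υ) (J eU)) : ∃ m ∈ K1, m * υ * m⁻¹ = eT := by
  obtain ⟨m, hm, e | e⟩ := inn_class hυ h2 h3
  · exact ⟨m, hm, e⟩
  · exact absurd ((cj (e ▸ h.ac hm _ hυ)).symm.trans hd) (h.nfu hin)

theorem SQ.swap (h : SQ J) (hin : IN J) (ft : IsConj (J eT) (J eU)) :
    ∃ c, c * J eT * c⁻¹ = J eU ∧ c * J eU * c⁻¹ = J eT := by
  obtain ⟨c, hc⟩ := isConj_iff.1 ft
  obtain ⟨υ, hυ, h1, h2, h3⟩ := hin.tp h.toS0 (Or.inl rfl) hc
  obtain ⟨m, hm, e⟩ := h.cls hin hυ h2 h3 (cj h1).symm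
  exact ⟨J m * c, by rw [conj_conj', hc, h.ac hm _ eU_K1, conj_eU],
    by rw [conj_conj', h1, h.ac hm _ hυ, e]⟩

theorem SQ.nf2 (h : SQ J) (hin : IN J) {d : Γ} (hd : IsConj d (J eU)) (ne : d ≠ J eU) {σ : K}
    (ha : Ac J d σ) (h2 : IsConj (J eU * d) (J eU)) : σ ∉ K1 := fun hσ => by
  obtain ⟨υ, hυ, rfl, h1, h3⟩ := hin.inn h.toS0 hd ne hσ ha
  obtain ⟨m, hm, e⟩ := h.cls hin hυ h1 h3 hd
  rw [← h.mul _ eU_K1 _ hυ] at h2
  exact h.nfu hin ((cj ((h.ac hm _ (mul_mem eU_K1 hυ)).trans (by rw [conj_Umul, e]))).symm.trans h2)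

theorem S0.out (h : S0 J) {d : Γ} {σ : K} (ha : Ac J d σ) (h2 : d * d = 1) (hσ : σ ∉ K1) :
    ∃ k ∈ K1, J k * d * (J k)⁻¹ = J eU * d := by
  obtain ⟨k, hk, e⟩ := out_swap hσ (h.sq_out ha (h2 ▸ Cn.one) hσ)
  refine ⟨k, hk, ?_⟩
  have : J k * d * (J k)⁻¹ = J k * (d * J k⁻¹ * d⁻¹) * d := by rw [h.inv hk]; group
  rw [this, ha _ (inv_mem hk), ← h.mul _ hk _ (conj_K1.2 (inv_mem hk)), ← mul_assoc, ← mul_assoc, e,
    mul_inv_cancel_right]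

theorem eT2_K1 : eT2 ∈ K1 := T8_K1 eT2_T8

theorem t_U2 : ¬ U2 eT := fun e => e.elim f_t1 f_tu

theorem SQ.kb (h : SQ J) {c κ : Γ} (h1 : c * J eT * c⁻¹ = J eU) (h2 : c * J eU * c⁻¹ = J eT)
    (hκ : Cn J κ) (h3 : κ * κ = J eU) :
    κ * (c * J eT2 * c⁻¹) * κ⁻¹ = J eU * (c * J eT2 * c⁻¹) := by
  have tr : ∀ {a b}, b ∈ K1 → c * J a * c⁻¹ = J b → c⁻¹ * κ * c⁻¹⁻¹ * J a = J a * (c⁻¹ * κ * c⁻¹⁻¹) :=
    fun hb e => conj_symm e ▸ comm_conj c⁻¹ (hκ _ hb)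
  obtain ⟨η, hη⟩ := h.dom _ (tr eT_K1 h2)
  obtain ⟨ρ, hρ, e3⟩ := h.three h1 eT_K1 f_rrr f_tr.symm
  obtain ⟨q1, q2⟩ := q_t (mem_centralizer_singleton_iff.2 ((h.ac_comm hη eR_K1).1 (tr hρ e3)))
    ((h.ac_comm hη eT_K1).1 (tr eU_K1 h1))
  have s2 : η * η = eT ∨ η * η = eU * eT := h.uniq (hη.mul hη) (by
    rw [conj_mul, h3, conj_symm h1]; exact h.ac eT_K1)
  have e := hη _ eT2_K1
  rw [conj_of_mul ((q1.resolve_left fun q => ?_).trans (mul_assoc _ _ _).symm),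
    h.mul _ eT_K1 _ eT2_K1] at e
  · rw [← h1, conj_mul, ← e]; group
  · have : U2 (η * η) := q2 q (Or.inl (by
      rw [← mul_assoc]
      rcases s2 with e | e <;> rw [e]
      exacts [f_tt, by simp only [mul_assoc, nU1, nU3, f_tt]]))
    rcases s2 with e | e <;> rw [e] at this
    exacts [t_U2 this, t_U2 (U2.u.left this)]

theorem SQ.sq (h : SQ J) {z : Γ} (hz : Cn J z) : z = 1 ∨ z = J eU ∨ z * z = J eU :=
  (h.z2 _ (hz.mul hz) (h.z4 z hz)).elim (fun e => (h.z2 z hz e).imp_right Or.inl)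
    fun e => Or.inr (Or.inr e)

theorem SQ.w1 (h : SQ J) (ft : IsConj (J eT) (J eU)) :
    IsConj (J eT2) (J eU) ∧ IsConj (J (eT * eT2)) (J eU) := by
  have hw := K1_of_cube f_w13
  have a1 := (cj ((h.ac hw _ eT_K1).trans (congrArg J (conj_of_mul f_w1t)))).symm.trans ft
  exact ⟨a1, (cj ((h.ac hw _ eT2_K1).trans (congrArg J (conj_of_mul
    (f_w1t2.trans (mul_assoc _ _ _).symm))))).symm.trans a1⟩

theorem SQ.z3 (h : SQ J) (hin : IN J) (ft : IsConj (J eT) (J eU)) {κ κ' : Γ} (hκ : Cn J κ)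
    (hκ' : Cn J κ') (e : κ * κ = J eU) (e' : κ' * κ' = J eU) : κ * κ' = 1 ∨ κ * κ' = J eU := by
  obtain ⟨c, h1, h2⟩ := h.swap hin ft
  refine (h.sq (hκ.mul hκ')).imp_right fun a => a.resolve_right fun a => h.t1 ?_
  have := h.kb h1 h2 (hκ.mul hκ') a
  rwa [conj_conj', h.kb h1 h2 hκ' e', ← conj_mul (b := κ), h.kb h1 h2 hκ e, conj_of_mul hκ.t, ← mul_assoc,
    h.tt, one_mul, eq_comm, mul_eq_right] at this

/-- An involution that acts as `eZ`. -/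
theorem SQ.exists_n (h : SQ J) (hin : IN J) (ft : IsConj (J eT) (J eU)) :
    ∃ n, Ac J n eZ ∧ n * n = 1 ∧ (IsConj n (J eU) ∨ IsConj (n * J eT) (J eU)) ∧
      ∀ κ, Cn J κ → κ * κ = J eU → κ * n * κ⁻¹ = J eU * n := by
  obtain ⟨c, h1, h2⟩ := h.swap hin ft
  obtain ⟨σ, hσ⟩ := h.dom _ (h.tr h1 eT_K1 eT2_K1 f_tt2.symm)
  have d1 := (cj (rfl : c * J eT2 * c⁻¹ = _)).symm.trans (h.w1 ft).1
  have o := h.nf2 hin d1 (fun e => (by decide : (8 : Fin 16) ≠ 4) (eE_inj (eE8.trans ((h.inj _ eT2_K1 _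
    eT_K1 (conj_injective (e.trans h1.symm))).trans eE4.symm)))) hσ (by
    rw [← h1, conj_mul, ← h.mul _ eT_K1 _ eT2_K1, h1]
    exact (cj rfl).symm.trans (h.w1 ft).2)
  have kb := fun κ => h.kb (κ := κ) h1 h2
  generalize c * J eT2 * c⁻¹ = b at hσ d1 kb
  obtain ⟨m, hm, e⟩ := out_class o (h.sq_out hσ (h.d_sq d1 ▸ Cn.one) o)
  have a1 := (h.ac hm).conj hσ
  have d2 := (cj (rfl : J m * b * (J m)⁻¹ = _)).symm.trans d1
  have kn : ∀ κ, Cn J κ → κ * κ = J eU → κ * (J m * b * (J m)⁻¹) * κ⁻¹ = J eU * (J m * b * (J m)⁻¹) :=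
    fun κ hκ e => by
      rw [← conj_conj', hκ _ hm, conj_conj', kb κ hκ e, ← conj_mul, conj_of_mul (h.jt hm)]
  generalize J m * b * (J m)⁻¹ = n at a1 d2 kn
  have tt : J eT * J eT = 1 := by rw [← h.mul _ eT_K1 _ eT_K1, f_tt, h.one]
  rcases e with e | e <;> rw [e] at a1
  · exact ⟨n, a1, h.d_sq d2, Or.inl d2, kn⟩
  · have c1 : n * J eT = J eT * n := (h.ac_comm a1 eT_K1).2 (by rw [← mul_assoc, f_zt])
    refine ⟨n * J eT, ?_, ?_, Or.inr (by rwa [mul_assoc, tt, mul_one]), fun κ hκ e => ?_⟩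
    · have := a1.mul (h.ac eT_K1)
      rwa [mul_assoc, f_tt, mul_one] at this
    · rw [mul_assoc, ← mul_assoc (J eT), ← c1, mul_assoc, tt, mul_one, h.d_sq d2]
    · rw [← conj_mul, kn κ hκ e, conj_of_mul (hκ _ eT_K1), mul_assoc]

theorem f_ac {f : K →* Γ} (hf : ∀ a ∈ K1, f a = J a) (k : K) : Ac J (f k) k :=
  fun a ha => by rw [← hf a ha, fconj, hf _ (conj_K1.2 ha)]

theorem S0.f_inj (h : S0 J) {f : K →* Γ} (hf : ∀ a ∈ K1, f a = J a) : Function.Injective f :=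
  (injective_iff_map_eq_one f).2 fun a e => by
    have := (h.u2 (f_ac hf a) (e ▸ Cn.one)).mem
    exact h.eq_one this ((hf a this).symm.trans e)

theorem S0.exists_f (h : S0 J) {n : Γ} (hn : Ac J n eZ) (h2 : n * n = 1) :
    ∃ f : K →* Γ, (∀ a ∈ K1, f a = J a) ∧ f eZ = n := by
  classical
  have ho : ∀ {a : K}, a ∉ K1 → a * eZ ∈ K1 := fun h => mul_K1.2 (iff_of_false h eZ_K1)
  have hz : eZ⁻¹ = eZ := inv_eq_of_mul_eq_one_right f_zz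
  have zz : ∀ a, eZ * (eZ * a) = a := fun a => by rw [← mul_assoc, f_zz, one_mul]
  have hk : ∀ a ∈ K1, n * J a = J (eZ * a * eZ⁻¹) * n := fun a ha =>
    mul_inv_eq_iff_eq_mul.1 (hn a ha)
  refine ⟨MonoidHom.mk' (fun a => if a ∈ K1 then J a else J (a * eZ) * n) fun a b => ?_,
    fun a ha => if_pos ha, (if_neg eZ_K1).trans (by rw [f_zz, h.one, one_mul])⟩
  by_cases ha : a ∈ K1 <;> by_cases hb : b ∈ K1
  · simp only [ha, hb, mul_mem ha hb, if_true, h.mul _ ha _ hb]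
  · have : a * b ∉ K1 := fun h => hb ((mul_K1.1 h).1 ha)
    simp only [ha, hb, this, if_true, if_false]
    rw [mul_assoc a, h.mul _ ha _ (ho hb), mul_assoc]
  · have : a * b ∉ K1 := fun h => ha ((mul_K1.1 h).2 hb)
    simp only [ha, hb, this, if_true, if_false]
    rw [mul_assoc _ n, hk b hb, ← mul_assoc, ← h.mul _ (ho ha) _ (conj_K1.2 hb)]
    simp only [mul_assoc, hz, zz]
  · have : a * b ∈ K1 := mul_K1.2 (iff_of_false ha hb)
    simp only [ha, hb, this, if_true, if_false]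
    rw [mul_assoc _ n, ← mul_assoc n, hk _ (ho hb), mul_assoc _ n, h2, mul_one,
      ← h.mul _ (ho ha) _ (conj_K1.2 (ho hb))]
    simp only [mul_assoc, hz, zz, f_zz, mul_one]

end Cfsg.Agent.H48.HS
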