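import Cfsg.Agent.H68.HRD4
import Cfsg.Agent.H68.HRD3

/-! Checked facts in the model of `2.HS.2`. -/

set_option autoImplicit false
set_option maxRecDepth 1000000
set_option linter.all false
set_option Elab.async false

namespace Cfsg.Agent.H48.HS

open Cfsg.Agent.H68.DCE Cfsg.Agent.H68.HN

noncomputable def hY : K := S.val 1838485006

noncomputable def hQz : K := S.val 593183015

noncomputable def hQy : K := S.val 2105159704

noncomputable def hQ : K := S.val 1799

noncomputable def hMr : K := S.val 658444

noncomputable def hMq : K := S.val 592908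

noncomputable def hMrq : K := S.val 9070917

noncomputable def hMrqq : K := S.val 208425553

noncomputable def hA1 : K := S.val 2234910988

noncomputable def hB1 : K := S.val 1232247555

noncomputable def hC1 : K := S.val 33033

noncomputable def hA2 : K := S.val 185338891

noncomputable def hB2 : K := S.val 2121831230

noncomputable def hC2 : K := S.val 5411

noncomputable def hH0 : K := S.val 2417191259

noncomputable def hH1 : K := S.val 135662088

noncomputable def hP : K := S.val 2039583

theorem g_y : (hY * hY = eU) ∧ ((hY * eR = eR * hY) ∧ ((hY * eT = eT * hY) ∧ (hY * eZ = eU * (eZ * hY)))) :=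
  Fm.of_chk (.and (.eq [1838485006, 1838485006] [6]) (.and (.eq [1838485006, 2522225159] [2522225159, 1838485006]) (.and (.eq [1838485006, 118098183] [118098183, 1838485006]) (.eq [1838485006, 3] [6, 3, 1838485006])))) (by decide +kernel)

theorem g_qz : (hQz * (hQz * hQz) = 1) ∧ (hQz * (eZ * eT) = eZ * (eT * hQz)) :=
  Fm.of_chk (.and (.eq [593183015, 593183015, 593183015] []) (.eq [593183015, 3, 118098183] [3, 118098183, 593183015])) (by decide +kernel)

theorem g_qy : (hQy * (hQy * hQy) = 1) ∧ (hQy * hY = hY * hQy) :=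
  Fm.of_chk (.and (.eq [2105159704, 2105159704, 2105159704] []) (.eq [2105159704, 1838485006] [1838485006, 2105159704])) (by decide +kernel)

theorem g_q : (hQ * (hQ * hQ) = 1) ∧ ((hQ * hY = hY * hQ) ∧ (hQ * eR = eR * hQ)) :=
  Fm.of_chk (.and (.eq [1799, 1799, 1799] []) (.and (.eq [1799, 1838485006] [1838485006, 1799]) (.eq [1799, 2522225159] [2522225159, 1799]))) (by decide +kernel)

theorem g_mr : (hMr * (hMr * hMr) = 1) ∧ ((hMr * hY = hY * hMr) ∧ ((hMr * (eR * (hMr * (hMr * (eR * (eR * (hMr * (eR * (hMr * (hMr * (eR * eR)))))))))) = 1) ∧ (¬ (hMr * eR = eR * hMr)))) :=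
  Fm.of_chk (.and (.eq [658444, 658444, 658444] []) (.and (.eq [658444, 1838485006] [1838485006, 658444]) (.and (.eq [658444, 2522225159, 658444, 658444, 2522225159, 2522225159, 658444, 2522225159, 658444, 658444, 2522225159, 2522225159] []) (.not (.eq [658444, 2522225159] [2522225159, 658444]))))) (by decide +kernel)

theorem g_mq : (hMq * (hMq * hMq) = 1) ∧ ((hMq * hY = hY * hMq) ∧ ((hMq * (hQ * (hMq * (hMq * (hQ * (hQ * (hMq * (hQ * (hMq * (hMq * (hQ * hQ)))))))))) = 1) ∧ (¬ (hMq * hQ = hQ * hMq)))) :=
  Fm.of_chk (.and (.eq [592908, 592908, 592908] []) (.and (.eq [592908, 1838485006] [1838485006, 592908]) (.and (.eq [592908, 1799, 592908, 592908, 1799, 1799, 592908, 1799, 592908, 592908, 1799, 1799] []) (.not (.eq [592908, 1799] [1799, 592908]))))) (by decide +kernel)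

theorem g_mrq : (hMrq * (hMrq * hMrq) = 1) ∧ ((hMrq * hY = hY * hMrq) ∧ ((hMrq * (eR * (hQ * (hMrq * (hMrq * (eR * (hQ * (eR * (hQ * (hMrq * (eR * (hQ * (hMrq * (hMrq * (eR * (hQ * (eR * hQ)))))))))))))))) = 1) ∧ (¬ (hMrq * (eR * hQ) = eR * (hQ * hMrq))))) :=
  Fm.of_chk (.and (.eq [9070917, 9070917, 9070917] []) (.and (.eq [9070917, 1838485006] [1838485006, 9070917]) (.and (.eq [9070917, 2522225159, 1799, 9070917, 9070917, 2522225159, 1799, 2522225159, 1799, 9070917, 2522225159, 1799, 9070917, 9070917, 2522225159, 1799, 2522225159, 1799] []) (.not (.eq [9070917, 2522225159, 1799] [2522225159, 1799, 9070917]))))) (by decide +kernel)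

theorem g_mrqq : (hMrqq * (hMrqq * hMrqq) = 1) ∧ ((hMrqq * hY = hY * hMrqq) ∧ ((hMrqq * (eR * (hQ * (hQ * (hMrqq * (hMrqq * (eR * (hQ * (hQ * (eR * (hQ * (hQ * (hMrqq * (eR * (hQ * (hQ * (hMrqq * (hMrqq * (eR * (hQ * (hQ * (eR * (hQ * hQ)))))))))))))))))))))) = 1) ∧ (¬ (hMrqq * (eR * (hQ * hQ)) = eR * (hQ * (hQ * hMrqq)))))) :=
  Fm.of_chk (.and (.eq [208425553, 208425553, 208425553] []) (.and (.eq [208425553, 1838485006] [1838485006, 208425553]) (.and (.eq [208425553, 2522225159, 1799, 1799, 208425553, 208425553, 2522225159, 1799, 1799, 2522225159, 1799, 1799, 208425553, 2522225159, 1799, 1799, 208425553, 208425553, 2522225159, 1799, 1799, 2522225159, 1799, 1799] []) (.not (.eq [208425553, 2522225159, 1799, 1799] [2522225159, 1799, 1799, 208425553]))))) (by decide +kernel)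

theorem g_o1 : (hA1 * (hA1 * hA1) = 1) ∧ ((hB1 * (hB1 * hB1) = 1) ∧ ((hA1 * (eZ * eT) = eZ * (eT * hA1)) ∧ ((hB1 * (eZ * eT) = eZ * (eT * hB1)) ∧ ((¬ (hA1 * hB1 = hB1 * hA1)) ∧ (hC1 * (eZ * eT) = eZ * (eT * (hA1 * (hB1 * (hA1 * (hA1 * (hB1 * (hB1 * hC1)))))))))))) :=
  Fm.of_chk (.and (.eq [2234910988, 2234910988, 2234910988] []) (.and (.eq [1232247555, 1232247555, 1232247555] []) (.and (.eq [2234910988, 3, 118098183] [3, 118098183, 2234910988]) (.and (.eq [1232247555, 3, 118098183] [3, 118098183, 1232247555]) (.and (.not (.eq [2234910988, 1232247555] [1232247555, 2234910988])) (.eq [33033, 3, 118098183] [3, 118098183, 2234910988, 1232247555, 2234910988, 2234910988, 1232247555, 1232247555, 33033])))))) (by decide +kernel)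

theorem g_o2 : (hA2 * (hA2 * hA2) = 1) ∧ ((hB2 * (hB2 * hB2) = 1) ∧ ((hA2 * eZ = eZ * hA2) ∧ ((hB2 * eZ = eZ * hB2) ∧ ((¬ (hA2 * hB2 = hB2 * hA2)) ∧ (hC2 * eZ = eZ * (hA2 * (hB2 * (hA2 * (hA2 * (hB2 * (hB2 * hC2))))))))))) :=
  Fm.of_chk (.and (.eq [185338891, 185338891, 185338891] []) (.and (.eq [2121831230, 2121831230, 2121831230] []) (.and (.eq [185338891, 3] [3, 185338891]) (.and (.eq [2121831230, 3] [3, 2121831230]) (.and (.not (.eq [185338891, 2121831230] [2121831230, 185338891])) (.eq [5411, 3] [3, 185338891, 2121831230, 185338891, 185338891, 2121831230, 2121831230, 5411])))))) (by decide +kernel)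

theorem g_y1 : (eR1 * (eR * (eR1 * (eR1 * (eR * (eR * (eR1 * (eR * (eR1 * (eR1 * (eR * eR)))))))))) = 1) ∧ ((¬ (eR1 * (eR * (eR1 * (eR1 * (eR * eR)))) = 1)) ∧ ((¬ (eR1 * (eR * (eR1 * (eR1 * (eR * eR)))) = eT)) ∧ (¬ (eR1 * (eR * (eR1 * (eR1 * (eR * eR)))) = eU * eT)))) :=
  Fm.of_chk (.and (.eq [118033174, 2522225159, 118033174, 118033174, 2522225159, 2522225159, 118033174, 2522225159, 118033174, 118033174, 2522225159, 2522225159] []) (.and (.not (.eq [118033174, 2522225159, 118033174, 118033174, 2522225159, 2522225159] [])) (.and (.not (.eq [118033174, 2522225159, 118033174, 118033174, 2522225159, 2522225159] [118098183])) (.not (.eq [118033174, 2522225159, 118033174, 118033174, 2522225159, 2522225159] [6, 118098183]))))) (by decide +kernel)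

theorem g_p : (hP * eT7 = eT7 * hP) ∧ (hP * eX0 = eX0 * (eX0 * (eX0 * (eU * hP)))) :=
  Fm.of_chk (.and (.eq [2039583, 151914247] [151914247, 2039583]) (.eq [2039583, 74670637] [74670637, 74670637, 74670637, 6, 2039583])) (by decide +kernel)

theorem q_z_chk : AllOn (Fm.at (.imp (.eq [0, 8] [8, 0]) (.imp (.eq [0, 151721479] [151721479, 0]) (.imp (.eq [0, 642745424] [642745424, 0]) (.or (.eq [0] []) (.or (.eq [0] [6]) (.or (.eq [0] [3]) (.eq [0] [6, 3]))))))) X0 (fun _ => 0)) 0 1440 := allOn_of_allR (m := 1440) (by decide +kernel) rfl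

theorem q_z {a : K} (ha : a ∈ Subgroup.centralizer {eR}) : (a * eB0 = eB0 * a) → ((a * eB1 = eB1 * a) → ((a * eB3 = eB3 * a) → ((a = 1) ∨ ((a = eU) ∨ ((a = eZ) ∨ (a = eU * eZ)))))) := by
  obtain ⟨i, -, h⟩ := X0_en.pass (by decide +kernel) q_z_chk ha
  exact (val_zero ▸ h :)

theorem q_zt_chk : AllOn (Fm.at (.imp (.eq [0, 593183015] [593183015, 0]) (.or (.eq [0] []) (.or (.eq [0] [6]) (.or (.eq [0] [3, 118098183]) (.eq [0] [6, 3, 118098183]))))) X0 (fun _ => 0)) 0 1440 := allOn_of_allR (m := 1440) (by decide +kernel) rfl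

theorem q_zt {a : K} (ha : a ∈ Subgroup.centralizer {eR}) : (a * hQz = hQz * a) → ((a = 1) ∨ ((a = eU) ∨ ((a = eZ * eT) ∨ (a = eU * (eZ * eT))))) := by
  obtain ⟨i, -, h⟩ := X0_en.pass (by decide +kernel) q_zt_chk ha
  exact (val_zero ▸ h :)

theorem q_y_chk : AllOn (Fm.at (.imp (.eq [0, 2105159704] [2105159704, 0]) (.imp (.eq [0, 1838485006] [1838485006, 0]) (.or (.eq [0] []) (.or (.eq [0] [6]) (.or (.eq [0] [1838485006]) (.eq [0] [6, 1838485006])))))) X0 (fun _ => 0)) 0 1440 := allOn_of_allR (m := 1440) (by decide +kernel) rfl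

theorem q_y {a : K} (ha : a ∈ Subgroup.centralizer {eR}) : (a * hQy = hQy * a) → ((a * hY = hY * a) → ((a = 1) ∨ ((a = eU) ∨ ((a = hY) ∨ (a = eU * hY))))) := by
  obtain ⟨i, -, h⟩ := X0_en.pass (by decide +kernel) q_y_chk ha
  exact (val_zero ▸ h :)

theorem q_h0_chk : AllOn (Fm.at (.imp (.or (.eq [0, 2417191259] [2417191259, 0]) (.eq [0, 2417191259] [6, 2417191259, 0])) (.or (.eq [0, 0, 0, 0] []) (.or (.eq [0, 0, 0, 0] [2522225159]) (.eq [0, 0, 0, 0] [2522225159, 2522225159])))) X0 (fun _ => 0)) 0 1440 := allOn_of_allR (m := 1440) (by decide +kernel) rfl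

theorem q_h0 {a : K} (ha : a ∈ Subgroup.centralizer {eR}) : ((a * hH0 = hH0 * a) ∨ (a * hH0 = eU * (hH0 * a))) → ((a * (a * (a * a)) = 1) ∨ ((a * (a * (a * a)) = eR) ∨ (a * (a * (a * a)) = eR * eR))) := by
  obtain ⟨i, -, h⟩ := X0_en.pass (by decide +kernel) q_h0_chk ha
  exact (val_zero ▸ h :)

theorem q_h1_chk : AllOn (Fm.at (.imp (.or (.eq [0, 135662088] [135662088, 0]) (.eq [0, 135662088] [6, 135662088, 0])) (.or (.eq [0, 0, 0, 0] []) (.or (.eq [0, 0, 0, 0] [2522225159]) (.eq [0, 0, 0, 0] [2522225159, 2522225159])))) X0 (fun _ => 0)) 0 1440 := allOn_of_allR (m := 1440) (by decide +kernel) rfl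

theorem q_h1 {a : K} (ha : a ∈ Subgroup.centralizer {eR}) : ((a * hH1 = hH1 * a) ∨ (a * hH1 = eU * (hH1 * a))) → ((a * (a * (a * a)) = 1) ∨ ((a * (a * (a * a)) = eR) ∨ (a * (a * (a * a)) = eR * eR))) := by
  obtain ⟨i, -, h⟩ := X0_en.pass (by decide +kernel) q_h1_chk ha
  exact (val_zero ▸ h :)

theorem q_c_chk : AllOn (Fm.at (.imp (.eq [0, 3] [3, 0]) (.or (.eq [0, 0, 0, 641769231] [641769231, 0, 0, 0]) (.eq [0, 0, 0, 3, 641769231] [641769231, 0, 0, 0, 3]))) X0 (fun _ => 0)) 0 1440 := allOn_of_allR (m := 1440) (by decide +kernel) rfl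

theorem q_c {a : K} (ha : a ∈ Subgroup.centralizer {eR}) : (a * eZ = eZ * a) → ((a * (a * (a * eK)) = eK * (a * (a * a))) ∨ (a * (a * (a * (eZ * eK))) = eK * (a * (a * (a * eZ))))) := by
  obtain ⟨i, -, h⟩ := X0_en.pass (by decide +kernel) q_c_chk ha
  exact (val_zero ▸ h :)

theorem q_e_chk : AllOn (Fm.at (.imp (.eq [0, 0] []) (.imp (.eq [0, 3] [3, 0]) (.imp (.or (.eq [0, 118098183] [118098183, 0]) (.or (.eq [0, 184747777] [184747777, 0]) (.eq [0, 118098183, 184747777] [118098183, 184747777, 0]))) (Fm.inL [0] wE)))) X0 (fun _ => 0)) 0 1440 := allOn_of_allR (m := 1440) (by decide +kernel) rfl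

theorem q_e {a : K} (ha : a ∈ Subgroup.centralizer {eR}) : (a * a = 1) → ((a * eZ = eZ * a) → (((a * eT = eT * a) ∨ ((a * eT2 = eT2 * a) ∨ (a * (eT * eT2) = eT * (eT2 * a)))) → ((Fm.inL [0] wE).Sem a 1))) := by
  obtain ⟨i, -, h⟩ := X0_en.pass (by decide +kernel) q_e_chk ha
  exact (val_zero ▸ h :)

noncomputable def q_hWT : BT :=
 (BT.node (nat_lit 22) (BT.node (nat_lit 11) (BT.node (nat_lit 5) (BT.node (nat_lit 2) (BT.node (nat_lit 1) (BT.leaf (nat_lit 0xb0a07000000000000001194740000000000000000000000000000000000000000000000000000000000000000000000000000000000000000000002309a800000331a6f000000160a000000000300071708240000070809000003160a00000000000000000000000000000000000000000000000000))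
 (BT.leaf (nat_lit 0x447995b000000000000024f4f0c00000000000000000000000000000000000000000000000000000c0d0b070000331a6f00000000000000100a0e000003160a0000000003000000000000000000000002309a80000007080900000000000000335e020000000000000000000000000000000000000000000000160a0000000000000000000000000000000000000000000000000000000000000000000000)))
 (BT.node (nat_lit 3) (BT.leaf (nat_lit 0x404991000003f147000000000000000000000000000000000000000000000000000000000000000000000000000000000000000000000000000000000000000000000000000000000000000000000000000000000000000000000000000000000000000000000000000000000000000000000000000000000119474000000000000000b0a0700000000000000000000000000000000000000000000000000))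
 (BT.node (nat_lit 4) (BT.leaf (nat_lit 0x447995b0000000000000f775a0200000b010700024f4f0c000000000000020b1e47000009732b000000080800000807070000030808000797140100000000000000100a0e0000000000000000000000010d090e000a58483500000000000000335e020000000000000000000000000000000000000000000000000000000000000000000000000000000000000000000000000000))
 (BT.leaf (nat_lit 0x0)))))
 (BT.node (nat_lit 8) (BT.node (nat_lit 6) (BT.leaf (nat_lit 0x809732b00003f1470000000000000000000000000000000000000000000000000000000000000000000000000000000000000000000000000000000000000000000000000000000000000000000000000000000000000000000010d090e00046d050f0000000000000000000000000000000000000000000000000000000000000000000000000000000000000000000000000000))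
 (BT.node (nat_lit 7) (BT.leaf (nat_lit 0x308160a0000000707000000000000000000000009882e04000009732b000b8f4d6800078a45160000000000000000000000000c0b0900020b1e47000a070b0b00076d9501000000080800000807070000000000000000000000000308080007971401000000000000000000000000000000000000000000000000000000000000000000000000000000000000000000000000000000000000000000000000))
 (BT.leaf (nat_lit 0x8160a000003070700000000000000000000))))
 (BT.node (nat_lit 9) (BT.leaf (nat_lit 0x0))
 (BT.node (nat_lit 10) (BT.leaf (nat_lit 0x9e4d71000901090b0000000000))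
 (BT.leaf (nat_lit 0x130138000000000000079342500000000000000000000000000000000000000000000007070800000000000007070803000000000000000000000000000000000000000000000000000000000000000000000000000000000000000000000000000000000000000000000000000000000000000000000000000000000000000000000000000000000000))))))
 (BT.node (nat_lit 16) (BT.node (nat_lit 13) (BT.node (nat_lit 12) (BT.leaf (nat_lit 0x0))
 (BT.leaf (nat_lit 0x707000008160a00000000000000000000000c010b0900078a451600000000000000000000000a070b0b00076d95010000000000000000000000000000000000000000000000000000000000000000000000000000000000000000000000000000000000000000000000000000000000000000000000000000000000000000)))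
 (BT.node (nat_lit 14) (BT.leaf (nat_lit 0x30707000308160a))
 (BT.node (nat_lit 15) (BT.leaf (nat_lit 0x8000000000000000000000000000000000000000000000000000000000308000000000000000000000000000000000000000000000000000000000000000000000000000000000000000000000000000000000000000000000000))
 (BT.leaf (nat_lit 0x0)))))
 (BT.node (nat_lit 19) (BT.node (nat_lit 17) (BT.leaf (nat_lit 0x1104090007070808000295090a0000797c9b00000000000007947c7700000000000001151f0b0000000000000000000000000000000000000000000000000000009e4d7100000000000001632c4e000000000000000000000000000000000000000000000000000000000000))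
 (BT.node (nat_lit 18) (BT.leaf (nat_lit 0x0))
 (BT.leaf (nat_lit 0x130138000000000000000e0b0b00000000000005100413000000000000000a010b0000000000000000000000000000000000000000000000000000000000000000000000000000000000000000000001160901000000000000000707080000000000000000000000000000000000000000000000000000000000000000000000000000000000000000000000000000))))
 (BT.node (nat_lit 20) (BT.leaf (nat_lit 0x0))
 (BT.node (nat_lit 21) (BT.leaf (nat_lit 0x1f0374000000000000005e5691000000000000000000000000000000000000000000000000000000000000000000000000000000000000000000000000000000000000000000000000000000000000000000000000000000000000000000000000000000000000000000000000000000000000000000000000000000000000000000000000000000000000000000000000000000))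
 (BT.leaf (nat_lit 0x0)))))))
 (BT.node (nat_lit 33) (BT.node (nat_lit 27) (BT.node (nat_lit 24) (BT.node (nat_lit 23) (BT.leaf (nat_lit 0x0))
 (BT.leaf (nat_lit 0x0)))
 (BT.node (nat_lit 25) (BT.leaf (nat_lit 0x308000000000000000000000000000000000000000000000000000000000000000000000000000000000000000000000000000000000000000000000000000000000000000000000000000000000000000000000000000000000000000000000000000000000000000000000000000000000000000000000000000000000000000000000000000000))
 (BT.node (nat_lit 26) (BT.leaf (nat_lit 0x5d5c12000000000000023a8d4500000000000000000008000000000000000000000000000000000000000000000000000000000000000000000000000000000000000000))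
 (BT.leaf (nat_lit 0x0)))))
 (BT.node (nat_lit 30) (BT.node (nat_lit 28) (BT.leaf (nat_lit 0x110409000707080800003a7d89000295090a00000000000000000000000000000000024e6f020000000000000000000000000000000001151f0b00000000000000000000000000000000000000000000000000000000000000000000000000000000000000000000000000000000000000000000000000000000000000000000000000000000000000000000000000000000000000000000000000000000))
 (BT.node (nat_lit 29) (BT.leaf (nat_lit 0x4685816000708732b00003a1a9f0009796732000000000000000000000000000000000000000000000000000000000000000000000000000000000000000000000000000000000000000000000000))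
 (BT.leaf (nat_lit 0x0))))
 (BT.node (nat_lit 31) (BT.leaf (nat_lit 0x0))
 (BT.node (nat_lit 32) (BT.leaf (nat_lit 0xe0b0b000000000000000a010b0000000000000000000000000000000000000000000000000000000000000000000000000000000000000000000000000000000000000000000000000000000000000000000000000000000000000000000000000000000000000000000000000000000000000000000000000000000000000000000000000000000000000000000000000000000000000000))
 (BT.leaf (nat_lit 0x0))))))
 (BT.node (nat_lit 39) (BT.node (nat_lit 36) (BT.node (nat_lit 34) (BT.leaf (nat_lit 0x1f0374000000000000005e569100000000000000000000000000000000000000000000000000000000000000000000000000000000000000000000000000000000000000000000000000000000000000000000000000000000000000000000000000000000000000000000000000000000000000000000000000000000000000000000000000000000000000000000000000000000000000000000000000))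
 (BT.node (nat_lit 35) (BT.leaf (nat_lit 0x1f7410000000000000020d380b0000000000))
 (BT.leaf (nat_lit 0x0))))
 (BT.node (nat_lit 37) (BT.leaf (nat_lit 0x0))
 (BT.node (nat_lit 38) (BT.leaf (nat_lit 0x0))
 (BT.leaf (nat_lit 0x5d5c1200000000000002671e3d000000000000000000000000000000000000000000000000000000000000000000000000000000000000000000000000000000000000000000000000000000000000000000000000000000000000000000000000000000000000000000000000000000000000000000000000000000000000000000000000000000000000000000000000000000)))))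
 (BT.node (nat_lit 42) (BT.node (nat_lit 40) (BT.leaf (nat_lit 0x0))
 (BT.node (nat_lit 41) (BT.leaf (nat_lit 0xa284513000d070e010000000000000000000000003a1a9f000708732b0000000000000000000000000000000000000000000000000000000000000000000000000000000000000000000000000000000000000000000000000000000000000000000000000000000000000000000000000000000000000000000000000000000000000000000000000000))
 (BT.leaf (nat_lit 0x0))))
 (BT.node (nat_lit 43) (BT.leaf (nat_lit 0x0))
 (BT.node (nat_lit 44) (BT.leaf (nat_lit 0x1f7410000000000000020d380b000000000000000000000000000000000000000000000000000000000000000000000000000000000000000000000000000000000000000000000000000000000000000000000000000000000000000000000000000000000000000000000000000000000000000000))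
 (BT.leaf (nat_lit 0x0))))))))

noncomputable def q_hW : ℕ → ℕ := look q_hWT (nat_lit 5) (nat_lit 31) (nat_lit 40) (nat_lit 0xffffffffff)

theorem q_h_chk : AllOn (Fm.at (.imp (.or (.eq [0, 0, 0, 0] []) (.eq [0, 0, 0, 0] [6])) (.or (.eq [0, 0] []) (.or (.eq [0, 0] [6]) (.and (.eq [255, 2522225159] [2522225159, 255]) (.or (.eq [255, 0] [2417191259, 255]) (.eq [255, 0] [135662088, 255])))))) X0 (q_hW)) 0 1440 := allOn_of_allR (m := 1440) (by decide +kernel) rfl

theorem q_h {a : K} (ha : a ∈ Subgroup.centralizer {eR}) : ∃ b : K, ((a * (a * (a * a)) = 1) ∨ (a * (a * (a * a)) = eU)) → ((a * a = 1) ∨ ((a * a = eU) ∨ ((b * eR = eR * b) ∧ ((b * a = hH0 * b) ∨ (b * a = hH1 * b))))) := by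
  obtain ⟨i, -, h⟩ := X0_en.pass (by decide +kernel) q_h_chk ha
  exact ⟨_, h⟩

theorem q_f_chk : AllOn (Fm.at (.not (.eq [0, 0] [151914247])) XF (fun _ => 0)) 0 80 := allOn_of_allR (m := 80) (by decide +kernel) rfl

theorem q_f {a : K} (ha : a ∈ Subgroup.centralizer {eF5 * eT7}) : ¬ (a * a = eT7) := by
  obtain ⟨i, -, h⟩ := XF_en.pass (by decide +kernel) q_f_chk ha
  exact (val_zero ▸ h :)

theorem q_t_chk : AllOn (Fm.at (.imp (.eq [0, 118098183] [118098183, 0]) (.and (.or (.eq [0, 184747777] [184747777, 0]) (.eq [0, 184747777] [118098183, 184747777, 0])) (.imp (.eq [0, 184747777] [184747777, 0]) (.imp (.or (.eq [0, 0, 0, 0] []) (.eq [0, 0, 0, 0] [6])) (.or (.eq [0, 0] []) (.eq [0, 0] [6])))))) X0 (fun _ => 0)) 0 1440 := allOn_of_allR (m := 1440) (by decide +kernel) rfl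

theorem q_t {a : K} (ha : a ∈ Subgroup.centralizer {eR}) : (a * eT = eT * a) → (((a * eT2 = eT2 * a) ∨ (a * eT2 = eT * (eT2 * a))) ∧ ((a * eT2 = eT2 * a) → (((a * (a * (a * a)) = 1) ∨ (a * (a * (a * a)) = eU)) → ((a * a = 1) ∨ (a * a = eU))))) := by
  obtain ⟨i, -, h⟩ := X0_en.pass (by decide +kernel) q_t_chk ha
  exact (val_zero ▸ h :)

noncomputable def s_rootWT : BT :=
 (BT.node (nat_lit 32) (BT.node (nat_lit 16) (BT.node (nat_lit 8) (BT.node (nat_lit 4) (BT.node (nat_lit 2) (BT.node (nat_lit 1) (BT.leaf (nat_lit 0x0))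
 (BT.leaf (nat_lit 0x0)))
 (BT.node (nat_lit 3) (BT.leaf (nat_lit 0x0))
 (BT.leaf (nat_lit 0x7b88994c00002c336a0090028f080059737b09006a8a230b005b8c132900042b8b030095032c3b00954f723e002d599d160008365c06003f05186300314e61220014171f06005858660400147c120f0000000000000000000000000000000000000000000000000000000000000000000000000000000000000000000000000000000000000000000000000000000000000000000000000000000000000000))))
 (BT.node (nat_lit 6) (BT.node (nat_lit 5) (BT.leaf (nat_lit 0x0))
 (BT.leaf (nat_lit 0x0)))
 (BT.node (nat_lit 7) (BT.leaf (nat_lit 0x0))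
 (BT.leaf (nat_lit 0x0)))))
 (BT.node (nat_lit 12) (BT.node (nat_lit 10) (BT.node (nat_lit 9) (BT.leaf (nat_lit 0x0))
 (BT.leaf (nat_lit 0x556700419c9f1c00703e46490085272732017c58170100940c892c0046170a4c002a8b4b1300000000000000000000000000000000000000000000000000000000000000000000000000000000006a1a69090053279428003f7f0a040030313b09006a79097a009f496d4f00503e8416005f9c51060000000000000000000000000000000000000000)))
 (BT.node (nat_lit 11) (BT.leaf (nat_lit 0x2549870200228a7737005278205f004147547100000000000000000000000000000000000000000051759247001636915c00947d4f48002d5a6206000000000000000000000000000000000000000000742d5708007b4c7b0f002a5a6d66001941041400000000000000000000000000000000000000000090919c330022437384007c3e86080032185136))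
 (BT.leaf (nat_lit 0x0))))
 (BT.node (nat_lit 14) (BT.node (nat_lit 13) (BT.leaf (nat_lit 0x0))
 (BT.leaf (nat_lit 0x0)))
 (BT.node (nat_lit 15) (BT.leaf (nat_lit 0x0))
 (BT.leaf (nat_lit 0x0))))))
 (BT.node (nat_lit 24) (BT.node (nat_lit 20) (BT.node (nat_lit 18) (BT.node (nat_lit 17) (BT.leaf (nat_lit 0x56604911007b789342001362300221377b1101005f6f560200681f36190058466c05003f0a6d090000000000000000000000000000000000000000000000000000000000000000000000000000000000000000000000000000000000000000000000000000000000000000000000000000000000000000))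
 (BT.leaf (nat_lit 0x91272f00215a764500549d897100685b260d00810a55080022429c5e002c0e487500864925210000000000000000000000000000000000000000000000000000000000000000000000000000000000000000000000000000000000000000000000000000000000000000000000000000000000000000)))
 (BT.node (nat_lit 19) (BT.leaf (nat_lit 0x8b4a560500006c8257000270470f00070e4a38000e2a0c1800797a3926004b74790a00908283050000000000000000000000000000000000000000000000000000000000000000000000000000000000000000000000000000000000000000000000000000000000000000000000000000000000000000))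
 (BT.leaf (nat_lit 0x7a477b4300989d1b15000809214200297b2712004610154600384193070019140710009b1b7217000000000000000000000000000000000000000000000000000000000000000000000000000000000000000000000000000000000000000000000000000000000000000000000000000000000000000000000000000000000000000000000000000000000000000000000000000000000000000000000000))))
 (BT.node (nat_lit 22) (BT.node (nat_lit 21) (BT.leaf (nat_lit 0x0))
 (BT.leaf (nat_lit 0x0)))
 (BT.node (nat_lit 23) (BT.leaf (nat_lit 0x0))
 (BT.leaf (nat_lit 0x0)))))
 (BT.node (nat_lit 28) (BT.node (nat_lit 26) (BT.node (nat_lit 25) (BT.leaf (nat_lit 0x0))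
 (BT.leaf (nat_lit 0x0)))
 (BT.node (nat_lit 27) (BT.leaf (nat_lit 0x0))
 (BT.leaf (nat_lit 0x0))))
 (BT.node (nat_lit 30) (BT.node (nat_lit 29) (BT.leaf (nat_lit 0x0))
 (BT.leaf (nat_lit 0x0)))
 (BT.node (nat_lit 31) (BT.leaf (nat_lit 0x0))
 (BT.leaf (nat_lit 0x0)))))))
 (BT.node (nat_lit 48) (BT.node (nat_lit 40) (BT.node (nat_lit 36) (BT.node (nat_lit 34) (BT.node (nat_lit 33) (BT.leaf (nat_lit 0x0))
 (BT.leaf (nat_lit 0x0)))
 (BT.node (nat_lit 35) (BT.leaf (nat_lit 0x0))
 (BT.leaf (nat_lit 0x0))))
 (BT.node (nat_lit 38) (BT.node (nat_lit 37) (BT.leaf (nat_lit 0x0))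
 (BT.leaf (nat_lit 0x0)))
 (BT.node (nat_lit 39) (BT.leaf (nat_lit 0x0))
 (BT.leaf (nat_lit 0x0)))))
 (BT.node (nat_lit 44) (BT.node (nat_lit 42) (BT.node (nat_lit 41) (BT.leaf (nat_lit 0x0))
 (BT.leaf (nat_lit 0x0)))
 (BT.node (nat_lit 43) (BT.leaf (nat_lit 0x0))
 (BT.leaf (nat_lit 0x0))))
 (BT.node (nat_lit 46) (BT.node (nat_lit 45) (BT.leaf (nat_lit 0x0))
 (BT.leaf (nat_lit 0x0)))
 (BT.node (nat_lit 47) (BT.leaf (nat_lit 0x0))
 (BT.leaf (nat_lit 0x0))))))
 (BT.node (nat_lit 56) (BT.node (nat_lit 52) (BT.node (nat_lit 50) (BT.node (nat_lit 49) (BT.leaf (nat_lit 0x0))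
 (BT.leaf (nat_lit 0x0)))
 (BT.node (nat_lit 51) (BT.leaf (nat_lit 0x0))
 (BT.leaf (nat_lit 0x0))))
 (BT.node (nat_lit 54) (BT.node (nat_lit 53) (BT.leaf (nat_lit 0x0))
 (BT.leaf (nat_lit 0x0)))
 (BT.node (nat_lit 55) (BT.leaf (nat_lit 0x0))
 (BT.leaf (nat_lit 0x0)))))
 (BT.node (nat_lit 60) (BT.node (nat_lit 58) (BT.node (nat_lit 57) (BT.leaf (nat_lit 0x0))
 (BT.leaf (nat_lit 0x0)))
 (BT.node (nat_lit 59) (BT.leaf (nat_lit 0x0))
 (BT.leaf (nat_lit 0x0))))
 (BT.node (nat_lit 62) (BT.node (nat_lit 61) (BT.leaf (nat_lit 0x0))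
 (BT.leaf (nat_lit 0x0)))
 (BT.node (nat_lit 63) (BT.leaf (nat_lit 0x0))
 (BT.leaf (nat_lit 0x0))))))))

noncomputable def s_rootW : ℕ → ℕ := look s_rootWT (nat_lit 5) (nat_lit 31) (nat_lit 40) (nat_lit 0xffffffffff)

theorem s_root {a : K} (ha : a ∈ cl (3 :: gS)) : ∃ b : K, (a * a = eU) → (b * a = hY * b) := by
  obtain ⟨j, h⟩ := pcS.1.pass (acc := []) rfl (f := (.imp (.eq [0, 0] [6]) (.eq [255, 0] [1838485006, 255]))) (by decide +kernel) (W := s_rootW) (i := 0) (by decide +kernel) ha
  exact ⟨_, (mul_one a ▸ h :)⟩

end Cfsg.Agent.H48.HS
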