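import Cfsg.Agent.H48.HsD
import Cfsg.Agent.H68.HRP

/-! An element of order three that cycles the four-group and centralises `A₈`. -/

set_option autoImplicit false
set_option maxRecDepth 100000

namespace Cfsg.Agent.H48.HS

open Cfsg.Agent.H68.DCE Cfsg.Agent.H68.HN Cfsg.Agent.H63 Cfsg.Agent.H67 Subgroup

variable {Γ : Type*} [Group Γ] {f : K →* Γ}

theorem fconj (f : K →* Γ) (a b : K) : f a * f b * (f a)⁻¹ = f (a * b * a⁻¹) := by
  rw [map_mul, map_mul, map_inv]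

theorem fcomm (inj : Function.Injective f) {a b : K} : f a * f b = f b * f a ↔ a * b = b * a := by
  rw [← map_mul, ← map_mul, inj.eq_iff]

theorem tr_mul {c : Γ} {a b a' b' : K} (ha : c * f a * c⁻¹ = f a')
    (hb : c * f b * c⁻¹ = f b') : c * f (a * b) * c⁻¹ = f (a' * b') := by
  rw [map_mul, map_mul, ← conj_mul, ha, hb]

/-- The element permutes `u`, `z`, `u z` cyclically. -/
def Cy (f : K →* Γ) (w : Γ) : Prop := w * f eU * w⁻¹ = f eZ ∧ w * f eZ * w⁻¹ = f (eU * eZ)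

theorem Cy.uz {w : Γ} (h : Cy f w) : w * f (eU * eZ) * w⁻¹ = f eU := by
  rw [tr_mul h.1 h.2, ← mul_assoc, uz_comm, mul_assoc, f_zz, mul_one]

theorem Cy.fix (inj : Function.Injective f) {w : Γ} (h : Cy f w) {v : K} (hv : InV v)
    (e : w * f v = f v * w) : v = 1 := by
  have e := conj_of_mul e
  rcases hv with rfl | rfl | rfl | rfl
  · rfl
  · exact absurd (inj (h.1.symm.trans e)) f_zu
  · exact absurd (mul_eq_right.1 (inj (h.2.symm.trans e))) f_u1
  · exact absurd ((mul_eq_left.1 (inj (e.symm.trans h.uz))) ▸ one_mem _) eZ_K1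

theorem conj_vs (f : K →* Γ) {v s x : K} (hv : InV v) (hs : s ∈ T8) (hx : x ∈ T8) :
    f (v * s) * f x * (f (v * s))⁻¹ = f (s * x * s⁻¹) := by
  rw [fconj, conj_conj',
    conj_of_mul (hv.comm (T8_z' (mul_mem (mul_mem hs hx) (inv_mem hs))))]

theorem sq_V (inj : Function.Injective f) (sq : ∀ g, g * f eU = f eU * g → ∃ a, f a = g * g)
    {g : Γ} (hu : g * f eU = f eU * g) (hz : g * f eZ = f eZ * g) :
    ∃ v, InV v ∧ ∃ s ∈ T8, g * g = f (v * s) := by
  obtain ⟨a, ha⟩ := sq g hu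
  obtain ⟨v, hv, s, hs, rfl⟩ := cent_z ((fcomm inj).1 (ha ▸ (Commute.mul_left hz hz :)))
  exact ⟨v, hv, s, hs, ha.symm⟩

theorem Cy.norm (inj : Function.Injective f) (sq : ∀ g, g * f eU = f eU * g → ∃ a, f a = g * g)
    {w : Γ} (h : Cy f w) {s : K} (hs : s ∈ T8) : ∃ s' ∈ T8, f s' = w * f s * w⁻¹ := by
  refine cl_le (H := (T8.map f).comap ((MulAut.conj w).toMonoidHom.comp f)) (fun c hc => ?_) hs
  have h1 := T8_z' (val_mem_cl hc)
  obtain ⟨v, hv, s, hs, e⟩ := sq_V inj sq (g := w * f (S.val c) * w⁻¹)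
    (h.uz ▸ comm_conj w ((fcomm inj).2 (by rw [← mul_assoc, ← cU, mul_assoc, h1, mul_assoc])))
    (h.1 ▸ comm_conj w ((fcomm inj).2 (cU _).symm))
  have h2 : v * s * (v * s) = s * s := by
    rw [mul_assoc, ← mul_assoc s, ← hv.comm (T8_z' hs), mul_assoc, ← mul_assoc, hv.sq, one_mul]
  refine ⟨_, mul_mem hs hs, ?_⟩
  change f _ = w * f (S.val c) * w⁻¹
  rw [conj_mul, ← map_mul] at e
  rw [← h2, ← tr_mul e e, mul_assoc (S.val c), b_cube hc, mul_one]

theorem exists_w9 (inj : Function.Injective f) (sq : ∀ g, g * f eU = f eU * g → ∃ a, f a = g * g)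
    {w : Γ} (h0 : Cy f w) : ∃ w, Cy f w ∧ (∀ s ∈ T8, w * f s = f s * w) ∧ w * (w * w) = 1 := by
  obtain ⟨f8, i8, r8⟩ := exists_F8
  have ex : ∀ x, ∃ y, f (f8 y) = w * f (f8 x) * w⁻¹ := fun x => by
    obtain ⟨s, hs, e⟩ := h0.norm inj sq (r8.le ⟨x, rfl⟩)
    obtain ⟨y, rfl⟩ := r8.ge hs
    exact ⟨y, e⟩
  choose y hy using ex
  let α := MonoidHom.mk' y fun a b => i8 (inj (by
    rw [hy, map_mul, map_mul, map_mul, map_mul, hy, hy, conj_mul]))
  have hα : Function.Injective α := fun a b h =>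
    i8 (inj (conj_injective ((hy a).symm.trans ((congrArg (fun x => f (f8 x)) h).trans
      (hy b)))))
  obtain ⟨π, hπ⟩ := (S2119.result 8 (by decide) (by decide)).2
    (MulEquiv.ofBijective α (Finite.injective_iff_bijective.1 hα))
  have hπ : ∀ x, (y x : Equiv.Perm (Fin 8)) = π * x * π⁻¹ := fun x =>
    (congrArg (fun β : MulAut (alternatingGroup (Fin 8)) => (β x : Equiv.Perm (Fin 8))) hπ).symm
  let q : alternatingGroup (Fin 8) := ⟨π * π, by
    rw [Equiv.Perm.mem_alternatingGroup, map_mul, Int.units_mul_self]⟩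
  have hq : f8 q ∈ T8 := r8.le ⟨q, rfl⟩
  have h1 : ∀ s ∈ T8, (w * w)⁻¹ * f (f8 q) * f s = f s * ((w * w)⁻¹ * f (f8 q)) := by
    intro s hs
    obtain ⟨x, rfl⟩ := r8.ge hs
    rw [← mul_inv_eq_iff_eq_mul, conj_conj', fconj, ← map_inv, ← map_mul, ← map_mul,
      show q * x * q⁻¹ = y (y x) from Subtype.ext (by rw [hπ, hπ, ← conj_conj']; rfl), hy, hy]
    group
  have h2 : Cy f ((w * w)⁻¹ * f (f8 q)) := by
    constructor <;> rw [conj_conj', fconj]
    · rw [conj_eU]; exact conj_symm (by rw [conj_conj', h0.2, h0.uz])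
    · rw [conj_of_mul (T8_z' hq)]; exact conj_symm (by rw [conj_conj', h0.uz, h0.1])
  generalize (w * w)⁻¹ * f (f8 q) = w' at h1 h2
  have cu : w' * (w' * w') * f eU * (w' * (w' * w'))⁻¹ = f eU := by
    rw [conj_conj', conj_conj', h2.1, h2.2, h2.uz]
  have cz : w' * (w' * w') * f eZ * (w' * (w' * w'))⁻¹ = f eZ := by
    rw [conj_conj', conj_conj', h2.2, h2.uz, h2.1]
  have c8 : ∀ s ∈ T8, w' * (w' * w') * f s = f s * (w' * (w' * w')) := fun s hs =>
    Commute.mul_left (h1 s hs) (Commute.mul_left (h1 s hs) (h1 s hs))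
  have cw : w' * (w' * (w' * w')) = w' * (w' * w') * w' := by simp only [mul_assoc]
  have e3 : ∀ g, g = w' * (w' * w') → g * g = 1 →
      w' * g * (w' * g * (w' * g)) = 1 := fun g hg h => by
    have c : Commute w' g := hg ▸ cw
    rw [← pow_three, c.mul_pow, pow_three w', ← hg, pow_three, h, mul_one, h]
  generalize hg : w' * (w' * w') = g at cu cz c8 cw
  obtain ⟨v, hv, s, hs, e⟩ := sq_V inj sq (mul_inv_eq_iff_eq_mul.1 cu) (mul_inv_eq_iff_eq_mul.1 cz)
  obtain rfl : s = 1 := T8_center hs fun x hx => mul_inv_eq_iff_eq_mul.1 (inj (by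
    rw [← conj_vs f hv hs hx, ← e, conj_conj', conj_of_mul (c8 x hx), conj_of_mul (c8 x hx)]))
  rw [mul_one] at e
  refine ⟨w' * g, ⟨by rw [conj_conj', cu, h2.1], by rw [conj_conj', cz, h2.2]⟩,
    fun s hs => Commute.mul_left (h1 s hs) (c8 s hs), e3 g hg.symm ?_⟩
  rw [e, h2.fix inj hv (e ▸ (Commute.mul_right cw cw :)), map_one]

end Cfsg.Agent.H48.HS
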