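import Cfsg.Agent.H48.M2Defs

/-! The ark through an involution in a given direction. -/

set_option autoImplicit false

namespace Cfsg.Agent.H48.M2

open Cfsg Subgroup Cfsg.Agent.H48 Cfsg.Agent.H48.Rec Cfsg.Agent.H49 Cfsg.Agent.H95.Par
open Cfsg.Agent.H97.Gr (DD ZZ)
open Cfsg.Agent.H97.Yt (M)

namespace AK0

theorem mem_norm {u y : M} (uu : u * u = 1) {K : Subgroup M} (hK : ∀ x ∈ K, x * u = u * x)
    (h : ∀ x ∈ K, x * y * x⁻¹ = y ∨ x * y * x⁻¹ = y * u) :
    K ≤ normalizer ({y, y * u} : Set M) := by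
  have key : ∀ x ∈ K, ∀ n ∈ ({y, y * u} : Set M), x * n * x⁻¹ ∈ ({y, y * u} : Set M) := by
    intro x hx n hn
    have e : x * (y * u) * x⁻¹ = x * y * x⁻¹ * u := by
      rw [← conj_mul, hK x hx, mul_inv_cancel_right]
    rcases hn with rfl | rfl
    · exact h x hx
    · rcases h x hx with k | k <;> rw [e, k]
      · exact .inr rfl
      · exact .inl (by rw [mul_assoc, uu, mul_one])
  intro x hx n
  refine ⟨key x hx n, fun k => ?_⟩
  simpa [mul_assoc] using key _ (inv_mem hx) _ k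

end AK0

open AK0

theorem ak0_of : Ak0Stmt := by
  intro A u b θ R s y a
  have h := s.ch
  have t := s.ten
  have L := h.hQ
  obtain ⟨-, -, -, -, -, hA, -⟩ := t.exists_hom
  obtain ⟨q, hq, rfl⟩ : ∃ q ∈ Qz u, y = b * q :=
    ⟨_, H74.Mon.ass_sub h s.ass a, (mul_inv_cancel_left b y).symm⟩
  have AP : A ≤ CP A := fun x hx y hy => t.cm hy hx
  have eJ : Jh u (b * q) = Qz u ⊓ CP A := by
    refine le_antisymm (fun x hx => ⟨hx.1, hA ⟨hx.1, ?a⟩⟩) (le_inf inf_le_left
      (mem_norm L.zz (fun x hx => L.cen x hx.1) fun x hx => ?b))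
    case a =>
      obtain ⟨v, r⟩ := h.ex1 x hx.1
      have k := (hx.2 (b * q)).1 (.inl rfl)
      have fx : H49.Fix zt v := (h.uniq (h.inv r) (h.act' a (h.inv r))).2 (by
        generalize b * q = y at k a
        rcases k with k | k
        · refine .inl ?_
          calc y * x⁻¹ * y⁻¹ = x⁻¹ * (x * y * x⁻¹) * y⁻¹ := by group
            _ = _ := by rw [k]; group
        · refine .inr ?_
          rw [Set.mem_singleton_iff, mul_inv_eq_iff_eq_mul] at k
          calc y * x⁻¹ * y⁻¹ = x⁻¹ * (x * y) * x⁻¹ * y⁻¹ := by group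
            _ = x⁻¹ * (y * u) * y⁻¹ := by rw [k]; group
            _ = _ := by rw [a.comm]; group)
      intro n hn
      obtain ⟨m, ⟨w, c⟩, r'⟩ := (s.pre n).1 hn
      exact (h.comm_iff (h.cg r' (c.trans (cong_add_sub _ _).symm)) r).2
        (H74.Mon.dot_cm H49.zt_sq w fx)
    case b =>
      rw [← conj_mul, ← hx.2 b t.bE, mul_inv_cancel_right]
      rcases L.conj hx.1 hq with e | e <;> rw [e]
      exacts [.inl rfl, .inr (mul_assoc _ _ _).symm]
  have eA : Qz u ⊓ CP (A ⊓ Qz u) = Qz u ⊓ CP A :=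
    le_antisymm (le_inf inf_le_left hA) (inf_le_inf_left _ (centralizer_le inf_le_left))
  have bm : b ∈ Qz u ⊔ zpowers (b * q) :=
    (mul_mem_cancel_right (mem_sup_left hq)).1 (mem_sup_right (mem_zpowers _))
  refine ⟨?_, eJ⟩
  rw [Ak, eJ]
  refine le_antisymm (fun x hx => ?_) (le_inf (fun x hx => ?_) fun x hx j hj => (hj.2 x hx).symm)
  · have le : Qz u ⊔ zpowers (b * q) ≤ A ⊔ Qz u := sup_le le_sup_right
      (zpowers_le.2 (mul_mem (mem_sup_left t.bE) (mem_sup_right hq)))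
    obtain ⟨c, hc, p, hp, rfl⟩ := (mem_sup_of_le_normalizer' fun c hc =>
      n_Qz h.zz (t.cm hc t.zE)).1 (le hx.1)
    refine mul_mem hc ((L.centralizer_centralizer (U := A ⊓ Qz u) inf_le_right
      ⟨t.zE, L.mem⟩).le ⟨hp, ?_⟩).1
    change p ∈ CP (Qz u ⊓ CP (A ⊓ Qz u))
    rw [eA]
    exact (mul_mem_cancel_left (H := CP (Qz u ⊓ CP A)) fun j hj => (hj.2 c hc).symm).1 hx.2
  · rcases t.spl x hx with k | k
    · exact mem_sup_left k
    · exact (mul_mem_cancel_right bm).1 (mem_sup_left k)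

end Cfsg.Agent.H48.M2
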