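import Cfsg.Agent.H48.M2Defs
import Cfsg.Agent.H49.MonS5
import Cfsg.Agent.H97.YtMain
import Cfsg.Agent.S1705
import Cfsg.Agent.S5542

/-! Maximal 2-local subgroups of the Monster: assembly. -/

set_option autoImplicit false

namespace Cfsg.Agent.H48.M2

open Cfsg Subgroup Cfsg.Agent.H48 Cfsg.Agent.H48.Rec Cfsg.Agent.H49 Cfsg.Agent.H95.Par
open Cfsg.Agent.H97.Gr (DD ZZ)
open Cfsg.Agent.H97.Yt (M)

namespace Asm

theorem ta_or_tc {w y : M} (hw : w ∈ ZZ) (yy : y * y = 1) (c : y * w = w * y) (hy : y ∉ Qz w) :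
    TA w y ∨ TC w y := by
  obtain ⟨θ, R, h⟩ := chart hw
  obtain ⟨g, a⟩ := exists_ass (θ := θ) c
  rcases H10.CoI.cases_of_sq (neg_gen h a yy) with k | k | k
  · exact (hy ((h.ass_mem_iff a).2 ((QuotientGroup.eq_one_iff g).1 k))).elim
  · exact .inl (tw_of_conj h a k)
  · exact .inr (tw_of_conj h a k)

theorem sng_closure {S : Set M} (h : ∀ x ∈ S, x ∈ ZZ ∧ ∀ y ∈ S, y ∈ Qz x) : Sng (closure S) := by
  intro u hu u1
  obtain ⟨x, hx⟩ : S.Nonempty := by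
    by_contra e
    rw [Set.not_nonempty_iff_eq_empty.1 e, Subgroup.closure_empty] at hu
    exact u1 (mem_bot.1 hu)
  have xZ := (h x hx).1
  obtain ⟨g, e, l⟩ := SgU.closure (lx xZ) (M := S) (fun m hm => by
    obtain ⟨g, e⟩ := isConj_iff.1 (ZZ_conj xZ (h m hm).1)
    exact ⟨g, e, fun y hy => by rw [← Qz_cj xZ, e]; exact (h m hm).2 y hy⟩) u hu u1
  rw [← e, Qz_cj xZ]
  exact ⟨ZZ_cj g xZ, l⟩

theorem mx_cj {V : Subgroup M} {g w : M} (hg : g ∈ NN V) (h : Mx V w) : Mx V (g * w * g⁻¹) := by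
  refine ⟨conj_mem_of_mem_normalizer hg h.mem, ZZ_cj g h.zz, fun u hu uZ => ?_⟩
  rw [Qz_cj h.zz]
  conv_rhs => rw [← cj_eq_iff.2 hg, ← cj_inf, card_cj]
  exact h.max u hu uZ

theorem exists_mx {V : Subgroup M} (h : ∃ x ∈ V, x ∈ ZZ) : ∃ w, Mx V w := by
  obtain ⟨x, h1, h2⟩ := h
  obtain ⟨w, hw, m⟩ := Set.exists_max_image {x : M | x ∈ V ∧ x ∈ ZZ}
    (fun u => Nat.card ↥(V ⊓ Qz u)) (Set.toFinite _) ⟨x, h1, h2⟩
  exact ⟨w, hw.1, hw.2, fun u a b => m u ⟨a, b⟩⟩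

theorem ln_of {R V : Subgroup M} {w w' : M} (h : Bs R V w w') (n : ¬ V ⊓ Qz w ≤ TT w w') :
    ∃ y ∈ V, Ln w w' y := by
  obtain ⟨y, hy, n⟩ := SetLike.not_le_iff_exists.1 n
  exact ⟨y, hy.1, ⟨hy.2, mem_centralizer_singleton_iff.2 (h.vs.el.cm hy.1 h.m2.mem)⟩, n,
    h.vs.el y hy.1⟩

theorem not_bs (f0 : Bf0Stmt) (f1 : Bf1Stmt) (f3 : Bf3Stmt) {R V : Subgroup M} {w w' : M}
    (h : Bs R V w w') : False := by
  have key : ∀ {w w' : M}, Bs R V w w' → V ⊓ Qz w ≤ TT w w' := fun h => by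
    by_contra n
    obtain ⟨y, hy, l⟩ := ln_of h n
    obtain ⟨y₁, h1, y', h2, l1, l2, ne⟩ := f1 _ _ _ _ h y hy l
    exact ne (f3 _ _ _ _ h y₁ h1 y' h2 l1 l2)
  exact f0 _ _ _ _ h (key h) (key h.symm)

section

variable {G H : Type*} [Group G] [Group H]

theorem two_map (φ : G ≃* H) {N : Subgroup G} (h : IsTwoLocal N) :
    IsTwoLocal (N.map φ.toMonoidHom) := by
  obtain ⟨T, h1, h2, rfl⟩ := h
  exact ⟨T.map φ.toMonoidHom, h1.map _, fun e => h2 ((map_eq_bot_iff_of_injective _ φ.injective).1 e),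
    map_equiv_normalizer_eq T φ⟩

theorem map_map_symm (φ : G ≃* H) (N : Subgroup H) :
    (N.map φ.symm.toMonoidHom).map φ.toMonoidHom = N := by
  ext x
  simp [mem_map_equiv]

theorem max_map (φ : G ≃* H) {N : Subgroup G} (h : IsMaximalTwoLocal N) :
    IsMaximalTwoLocal (N.map φ.toMonoidHom) := by
  refine ⟨two_map φ h.1, fun K hK le => ?_⟩
  rw [← h.2 _ (two_map φ.symm hK) fun x hx => mem_map_equiv.2 (le ⟨x, hx, rfl⟩), map_map_symm]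

end

end Asm

open Asm

theorem mn_of (ta : TaStmt) (f0 : Bf0Stmt) (f1 : Bf1Stmt) (f3 : Bf3Stmt) (cc : CcStmt)
    (h3 : H3Stmt) : MnStmt := by
  intro R V vs hz
  obtain ⟨w₀, m₀⟩ := exists_mx hz
  by_cases hp : ∀ w w', Mx V w → Mx V w' → w' ∈ Qz w
  · refine .inl ⟨closure {w | Mx V w}, fun e => ZZ_ne m₀.zz (mem_bot.1 (e ▸ subset_closure m₀)),
      sng_closure fun x hx => ⟨hx.zz, fun y hy => hp x y hx hy⟩, fun g hg => ?_⟩
    rw [← cj_eq_iff, cj_closure]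
    congr 1
    ext x
    exact ⟨fun h => by simpa [mul_assoc] using mx_cj hg h,
      fun h => by simpa using mx_cj (inv_mem hg) h⟩
  push Not at hp
  obtain ⟨w, w', m, m', np⟩ := hp
  have np' : w ∉ Qz w' := fun e => np (sym m'.zz m.zz e)
  have c := vs.el.cm m'.mem m.mem
  have t1 := (ta_or_tc m.zz (ZZ_sq m'.zz) c np).resolve_right (cc _ _ _ _ vs m m'.mem m'.zz)
  have t2 := (ta_or_tc m'.zz (ZZ_sq m.zz) c.symm np').resolve_right (cc _ _ _ _ vs m' m.mem m.zz)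
  have ne : w' * w ≠ 1 := fun e => np (by
    rw [eq_inv_of_mul_eq_one_left e]; exact inv_mem (lx m.zz).mem)
  rcases two (vs.el _ (mul_mem m'.mem m.mem)) ne with k | k
  · have t3 : TA w (w' * w) :=
      let ⟨θ, R, h, a⟩ := t1
      ⟨θ, R, h, H74.Mon.ass_mul h a h.hQ.mem⟩
    obtain ⟨-, -, -, a1, -, -, -, e⟩ := ta _ _ t1
    have a2 := (ta _ _ t3).2.2.2.2.2.2.1 k
    rw [e] at a2
    rw [h3 R V _ w w' ⟨vs, m, m', t1.ark, a1, (mul_mem_cancel_right a1).1 a2, np⟩]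
    exact .inr t1.ark
  · exact (not_bs f0 f1 f3 ⟨vs, m, m', m.zz, m'.zz, c ▸ k, t1, t2⟩).elim

theorem fn_of : FnStmt := by
  intro X h2 hc
  have : Finite Spor.Monster := Nat.finite_of_card_ne_zero (by rw [S1705.result.2]; norm_num)
  obtain ⟨Q, S, z, s, θ, R, h⟩ := H49.exists_MS S5542.result
  obtain ⟨φ⟩ := H97.Yt.mEquiv
  refine h.seven (List.ofFn fun i => (X i).map φ.symm.toMonoidHom) (by simp) (fun Y hY => ?_)
    fun H hH => ?_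
  · obtain ⟨i, rfl⟩ := List.mem_ofFn.1 hY
    exact ⟨(h2 i).1.map _,
      fun e => (h2 i).2 ((map_eq_bot_iff_of_injective _ φ.symm.injective).1 e)⟩
  · obtain ⟨i, g, le⟩ := hc _ (max_map φ hH)
    refine ⟨φ.symm g, _, List.mem_ofFn.2 ⟨i, rfl⟩, fun x hx => ?_⟩
    have e : cj ((X i).map φ.symm.toMonoidHom) (φ.symm g) = (cj (X i) g).map φ.symm.toMonoidHom := by
      ext y
      rw [mem_cj, mem_map_equiv, mem_map_equiv, mem_cj]
      simp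
    rw [e, ← map_equiv_normalizer_eq, mem_map_equiv]
    exact le ⟨x, hx, rfl⟩

/-- the cover by seven normalizers -/
theorem fin_of (ch : ChStmt) (aa : AaStmt) (mn : MnStmt) (sg : SgStmt) (ac : AcStmt)
    (pf : PfStmt) : ∃ S : Finset (Subgroup Spor.Monster), S.card = 7 ∧ (∀ H ∈ S, IsTwoLocal H) ∧
    ∀ H : Subgroup Spor.Monster, IsMaximalTwoLocal H →
      ∃ H₀ ∈ S, ∃ g : Spor.Monster, H = H₀.map (MulAut.conj g).toMonoidHom := by
  obtain ⟨X, x1, x2⟩ := aa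
  obtain ⟨Y, y1, y2⟩ := sg
  obtain ⟨A, a1, a2⟩ := ac
  have p := pf A a1
  refine fn_of ![X 0, X 1, Y 0, Y 1, Y 2, Y 3, A] (fun i => ?_) fun H hH => ?_
  · fin_cases i
    exacts [x1 0, x1 1, y1 0, y1 1, y1 2, y1 3, ⟨IsPGroup.of_card p.card, fun e : A = ⊥ => by
      have := p.card
      rw [e, card_bot] at this
      norm_num at this⟩]
  obtain ⟨R, V, rfl, ne, -, k | ⟨hz, vs⟩⟩ := ch H hH
  · obtain ⟨i, g, e⟩ := x2 V ne k
    fin_cases i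
    exacts [⟨0, g, e ▸ le_rfl⟩, ⟨1, g, e ▸ le_rfl⟩]
  have ark : ∀ B, Ark B → ∃ g, NN B ≤ NN (cj A g) := fun B hB =>
    let ⟨g, e⟩ := a2 B hB
    ⟨g, e ▸ le_rfl⟩
  rcases mn R V vs hz with ⟨U, u1, u2, le⟩ | k
  · rcases y2 U u1 u2 with ⟨i, g, l⟩ | ⟨B, hB, l⟩
    · fin_cases i
      exacts [⟨2, g, le.trans l⟩, ⟨3, g, le.trans l⟩, ⟨4, g, le.trans l⟩, ⟨5, g, le.trans l⟩]
    · obtain ⟨g, l'⟩ := ark B hB
      exact ⟨6, g, le.trans (l.trans l')⟩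
  · obtain ⟨g, l'⟩ := ark V k
    exact ⟨6, g, l'⟩

end Cfsg.Agent.H48.M2
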