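import Cfsg.Agent.H48.M2Defs

/-! The singular subspaces attached to the involutions in the centralizer of an ark. -/

set_option autoImplicit false

namespace Cfsg.Agent.H48.M2

open Cfsg Subgroup Cfsg.Agent.H48 Cfsg.Agent.H48.Rec Cfsg.Agent.H49 Cfsg.Agent.H95.Par
open Cfsg.Agent.H97.Gr (DD ZZ)
open Cfsg.Agent.H97.Yt (M)

namespace TR

variable {A : Subgroup M} {w : M} {α β γ : M → V8} {t : V8 → V8 → V8} {q1 q3 : V8 → ZMod 2}

theorem v8_add (a : V8) : a + a = 0 := by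
  funext i
  exact CharTwo.add_self_eq_zero _

theorem v8_eq {a b : V8} (h : a + b = 0) : a = b := by
  rw [← add_zero a, ← v8_add b, ← add_assoc, h, zero_add]

theorem a_one (m : Md A w α β γ t q1 q3) : α 1 = 0 := (m.a_ker 1 (one_mem _)).2 (.inl rfl)

theorem card_pre (m : Md A w α β γ t q1 q3) (hw : w ∈ A) (wZ : w ∈ ZZ) (el : El A)
    {K : Subgroup M} {N : Set V8} (h : ∀ a, a ∈ K ↔ a ∈ A ⊓ Qz w ∧ α a ∈ N) :
    Nat.card K = 2 * N.ncard := by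
  classical
  have wm : w ∈ A ⊓ Qz w := ⟨hw, (lx wZ).mem⟩
  have aw : α w = 0 := (m.a_ker w wm).2 (.inr rfl)
  choose s s1 s2 using m.a_sur
  have e : (K : Set M) = s '' N ∪ (fun n => s n * w) '' N := by
    ext a
    rw [SetLike.mem_coe, h]
    constructor
    · rintro ⟨h1, h2⟩
      have k := (m.a_ker _ (mul_mem (s1 (α a)) h1)).1 (by rw [m.a_add _ (s1 _) _ h1, s2, v8_add])
      have ss := el _ (s1 (α a)).1
      rcases k with k | k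
      · exact .inl ⟨_, h2, mul_left_cancel (ss.trans k.symm)⟩
      · exact .inr ⟨_, h2, by beta_reduce; rw [← k, ← mul_assoc, ss, one_mul]⟩
    · rintro (⟨n, hn, rfl⟩ | ⟨n, hn, rfl⟩)
      · exact ⟨s1 n, by rwa [s2]⟩
      · exact ⟨mul_mem (s1 n) wm, by rwa [m.a_add _ (s1 n) _ wm, s2, aw, add_zero]⟩
  have inj : Function.Injective s := fun a b e => by rw [← s2 a, e, s2]
  have d : Disjoint (s '' N) ((fun n => s n * w) '' N) := by
    rw [Set.disjoint_left]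
    rintro _ ⟨n, -, rfl⟩ ⟨n', -, e'⟩
    have : n' = n := by
      have := congrArg α e'
      rwa [m.a_add _ (s1 n') _ wm, s2, aw, add_zero, s2] at this
    subst this
    exact (lx wZ).mul_z_ne _ e'
  rw [← SetLike.coe_sort_coe, Nat.card_coe_set_eq, e, Set.ncard_union_eq d,
    Set.ncard_image_of_injective _ inj,
    Set.ncard_image_of_injective _ fun a b e => inj (mul_right_cancel e), two_mul]

theorem key (m : Md A w α β γ t q1 q3) {ν : (Fin 10 → ZMod 2) → M}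
    {q : QuadraticForm (ZMod 2) (Fin 10 → ZMod 2)} (f : Frm A ν q) {u c : M} (hu : u ∈ A ⊓ Qz w)
    (uZ : u ∈ ZZ) (hc : c ∈ A ⊓ Qz w) : c ∈ Qz u ↔ B3 q3 (α u) (α c) = 0 := by
  have n0 : ν 0 = 1 := by simpa using f.add 0 0
  have e : ∀ a, ν a ∈ A ⊓ Qz w → q3 (α (ν a)) = q a := fun a ha => by
    have : q3 (α (ν a)) = 0 ↔ q a = 0 := by
      rw [m.a_q _ ha, f.sing, ← n0, f.inj.eq_iff]
    revert this
    generalize q3 (α (ν a)) = x
    generalize q a = y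
    revert x y
    decide
  obtain ⟨a, rfl⟩ := (f.mem u).1 hu.1
  obtain ⟨b, rfl⟩ := (f.mem c).1 hc.1
  rw [f.perp a uZ, B3, ← m.a_add _ hu _ hc, ← f.add, e _ hu, e _ hc,
    e _ (f.add a b ▸ mul_mem hu hc), QuadraticMap.polar, CharTwo.sub_eq_add, CharTwo.sub_eq_add]

theorem cen {p p₀ x : M} (hx : x ∈ CP A) (h : p₀⁻¹ * p ∈ A) :
    x * p * x⁻¹ * p⁻¹ = x * p₀ * x⁻¹ * p₀⁻¹ := by
  have e : p = p₀ * (p₀⁻¹ * p) := (mul_inv_cancel_left _ _).symm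
  generalize p₀⁻¹ * p = a at h e
  subst e
  calc x * (p₀ * a) * x⁻¹ * (p₀ * a)⁻¹ = x * p₀ * (a * x⁻¹) * a⁻¹ * p₀⁻¹ := by group
    _ = _ := by rw [(inv_mem hx) a h]; group

/-- the product of two representatives -/
theorem rep_mul {p p' p₀ p₁ : M} (h1 : p₁ ∈ CP A)
    (a : p₀⁻¹ * p ∈ A) (b : p₁⁻¹ * p' ∈ A) : ∃ c ∈ A, p * p' = p₀ * p₁ * c := by
  refine ⟨_, mul_mem a b, ?_⟩
  have := h1 _ a
  calc p * p' = p₀ * (p₀⁻¹ * p * p₁) * (p₁⁻¹ * p') := by group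
    _ = _ := by rw [this]; group

theorem pair_data (m : Md A w α β γ t q1 q3) (el : El A) {p p' p₀ p₁ : M} (s : Sp A w p)
    (s' : Sp A w p') (c : p * p' = p' * p) (n : p * p' ∉ A) (h0 : p₀ ∈ Qz w ⊓ CP A)
    (h1 : p₁ ∈ Qz w ⊓ CP A) (a : p₀⁻¹ * p ∈ A) (b : p₁⁻¹ * p' ∈ A) :
    β p₀ + β p₁ ≠ 0 ∧ q1 (β p₀ + β p₁) = 0 := by
  obtain ⟨d, hd, e⟩ := rep_mul h1.2 a b
  rw [← m.b_add _ h0 _ h1]
  refine ⟨fun k => n (e ▸ mul_mem ((m.b_ker _ (mul_mem h0 h1)).1 k) hd),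
    (m.b_q _ (mul_mem h0 h1)).2 ?_⟩
  have k : p * p' * (p * p') = 1 := by
    calc _ = p * (p' * p) * p' := by group
      _ = (p * p) * (p' * p') := by rw [← c]; group
      _ = 1 := by rw [s.sq, s'.sq, one_mul]
  rw [e] at k
  calc _ = p₀ * p₁ * (p₀ * p₁) * (d * d) := by rw [el d hd, mul_one]
    _ = p₀ * p₁ * (p₀ * p₁ * d) * d := by group
    _ = _ := by rw [← (mul_mem h0 h1).2 d hd, ← k]; group

end TR

open TR

theorem tr1_of (gm : GmStmt) (us : UsmStmt) (qa : QaStmt) (pf : PfStmt) (fo : FormStmt) :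
    Tr1Stmt := by
  intro A w p hA hw wZ s
  obtain ⟨α, β, γ, t, q1, q3, tri, m⟩ := gm A hA w hw wZ
  obtain ⟨p₀, h0, a, b0, b1, e⟩ := us A w α β γ t q1 q3 hA hw wZ tri m p s
  obtain ⟨ν, q, f⟩ := fo A hA
  obtain ⟨l1, l2, l3, l4⟩ := tri.l1 _ b0 b1
  have cm : ∀ p' ∈ CP A, p' * p * p'⁻¹ * p⁻¹ ∈ Us A p := fun p' hp' => by
    rw [cen hp' a, e, (m.act _ hp' _ h0).2]
    exact ⟨(m.act _ hp' _ h0).1, l3 _⟩
  have sg : Sng (Us A p) := fun u hu u1 => by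
    obtain ⟨k1, k2⟩ := (e u).1 hu
    have uZ := ((m.a_q u k1).1 (l2 _ k2)).resolve_left u1
    refine ⟨uZ, fun c hc => ?_⟩
    obtain ⟨c1, c2⟩ := (e c).1 hc
    rw [key m f k1 uZ c1, B3, l2 _ k2, l2 _ c2, l2 _ (l4 _ k2 _ c2), add_zero, add_zero]
  refine ⟨by rw [card_pre m hw wZ (pf A hA).el e, l1], fun u hu => ((e u).1 hu).1.1, sg,
    fun u hu u1 => ?_, cm⟩
  exact (qa A hA u ((e u).1 hu).1.1 (sg u hu u1).1 p s.cp).2 fun p' hp' => (sg u hu u1).2 (cm p' hp')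

theorem tr2_of (gm : GmStmt) (us : UsmStmt) (pf : PfStmt) : Tr2Stmt := by
  intro A w p p' hA hw wZ s s' c n
  obtain ⟨α, β, γ, t, q1, q3, tri, m⟩ := gm A hA w hw wZ
  obtain ⟨p₀, h0, a, b0, b1, e⟩ := us A w α β γ t q1 q3 hA hw wZ tri m p s
  obtain ⟨p₁, h1, a', b0', b1', e'⟩ := us A w α β γ t q1 q3 hA hw wZ tri m p' s'
  obtain ⟨k1, k2⟩ := pair_data m (pf A hA).el s s' c n h0 h1 a a'
  rw [card_pre m hw wZ (pf A hA).el (N := Nb t q3 (β p₀) ∩ Nb t q3 (β p₁)) fun x => by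
    rw [mem_inf, e, e', Set.mem_inter_iff]; tauto, tri.l2 _ _ b0 b0' k1 b1 b1' k2]

theorem tr3_of (gm : GmStmt) (us : UsmStmt) (pf : PfStmt) : Tr3Stmt := by
  intro A w p p' p'' hA hw wZ s s' s'' c n le
  have el := (pf A hA).el
  obtain ⟨α, β, γ, t, q1, q3, tri, m⟩ := gm A hA w hw wZ
  obtain ⟨p₀, h0, a, b0, b1, e⟩ := us A w α β γ t q1 q3 hA hw wZ tri m p s
  obtain ⟨p₁, h1, a', b0', b1', e'⟩ := us A w α β γ t q1 q3 hA hw wZ tri m p' s'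
  obtain ⟨p₂, h2, a'', b0'', -, e''⟩ := us A w α β γ t q1 q3 hA hw wZ tri m p'' s''
  obtain ⟨k1, k2⟩ := pair_data m el s s' c n h0 h1 a a'
  have fin : ∀ {x y x₀ y₀ : M}, x₀ ∈ Qz w ⊓ CP A → y₀ ∈ Qz w ⊓ CP A → x₀⁻¹ * x ∈ A →
      y₀⁻¹ * y ∈ A → β y₀ = β x₀ → x * y ∈ A := fun {x y x₀ y₀} i1 i2 i3 i4 i5 => by
    obtain ⟨d, hd, k⟩ := rep_mul i2.2 i3 i4
    rw [k]
    exact mul_mem ((m.b_ker _ (mul_mem i1 i2)).1 (by rw [m.b_add _ i1 _ i2, i5, v8_add])) hd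
  rcases tri.l3 _ _ (β p₂) b0 b0' k1 b1 b1' k2 (fun x hx => by
    obtain ⟨y, hy, rfl⟩ := m.a_sur x
    exact ((e'' y).1 (le ⟨(e y).2 ⟨hy, hx.1⟩, (e' y).2 ⟨hy, hx.2⟩⟩)).2) with k | k | k | k
  · exact (b0'' k).elim
  · exact .inl (fin h0 h2 a a'' k)
  · exact .inr (.inl (fin h1 h2 a' a'' k))
  · obtain ⟨d, hd, i⟩ := rep_mul h1.2 a a'
    exact .inr (.inr (fin (mul_mem h0 h1) h2 (by rwa [i, inv_mul_cancel_left]) a''
      (by rw [k, m.b_add _ h0 _ h1])))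

theorem tr4_of (gm : GmStmt) (us : UsmStmt) (pf : PfStmt) : Tr4Stmt := by
  intro A K w p p' hA hw wZ s s' c n hK hc
  obtain ⟨α, β, γ, t, q1, q3, tri, m⟩ := gm A hA w hw wZ
  obtain ⟨p₀, h0, a, b0, b1, -⟩ := us A w α β γ t q1 q3 hA hw wZ tri m p s
  obtain ⟨p₁, h1, a', b0', b1', -⟩ := us A w α β γ t q1 q3 hA hw wZ tri m p' s'
  obtain ⟨k1, k2⟩ := pair_data m (pf A hA).el s s' c n h0 h1 a a'
  let φ : K →* Multiplicative V8 := MonoidHom.mk' (fun k => Multiplicative.ofAdd (γ k))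
    fun x y => congrArg Multiplicative.ofAdd (m.c_mul _ (hK x.2) _ (hK y.2))
  have e1 : φ.ker = (Qz w ⊔ A).subgroupOf K := Subgroup.ext fun k => m.c_ker _ (hK k.2)
  have e2 : Nat.card φ.range ≤ 4 := by
    refine le_trans ?_ (tri.l4 _ _ b0 b0' k1 b1 b1' k2)
    rw [← Nat.card_coe_set_eq]
    have z : ∀ {x x₀ : M} (k : K), x₀ ∈ Qz w ⊓ CP A → x₀⁻¹ * x ∈ A → k * x = x * k →
        t (γ k) (β x₀) = 0 := fun k i1 i2 i3 => by
      rw [← (m.act _ (hK k.2) _ i1).2, ← cen (hK k.2) i2, i3, mul_inv_cancel_right,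
        mul_inv_cancel, a_one m]
    refine Nat.card_le_card_of_injective (fun x => ⟨x.1.toAdd, ?_⟩) fun x y e =>
      Subtype.ext (Subtype.mk.inj e)
    obtain ⟨_, k, rfl⟩ := x
    exact ⟨z k h0 a (hc k k.2).1, z k h1 a' (hc k k.2).2⟩
  have e3 := φ.ker.card_mul_index
  rw [index_ker, e1, ← card_map_of_injective (f := K.subtype) K.subtype_injective,
    subgroupOf_map_subtype, inf_comm] at e3
  rw [← e3, mul_comm 4]
  exact Nat.mul_le_mul_left _ e2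

end Cfsg.Agent.H48.M2
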