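import Cfsg.Agent.H48.MidLat

/-! Recognition of the Leech lattice modulo two and of its section for `Co2`. -/

set_option autoImplicit false
set_option maxRecDepth 1000000

namespace Cfsg.Agent.H48.Mid

open Cfsg MulAction Cfsg.Agent.H48 Cfsg.Agent.H49 Cfsg.Agent.H42 Cfsg.Agent.H47.Bu
open Cfsg.Agent.H10.Co (Sg)

variable {V : Type*} [AddCommGroup V] {H : Subgroup Co0} {a : Co0 → V → V} {v0 : V}

namespace Act

variable (h : Act H a)
include h

theorem zero {g : Co0} (hg : g ∈ H) : a g 0 = 0 := by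
  have := h.add g hg 0 0
  rwa [add_zero, h.two] at this

theorem inv_act {g : Co0} (hg : g ∈ H) (v : V) : a g⁻¹ (a g v) = v := by
  rw [← h.mul _ (inv_mem hg) _ hg, inv_mul_cancel, h.one]

theorem act_inv {g : Co0} (hg : g ∈ H) (v : V) : a g (a g⁻¹ v) = v := by
  rw [← h.mul _ hg _ (inv_mem hg), mul_inv_cancel, h.one]

theorem ne_zero {g : Co0} (hg : g ∈ H) {v : V} (hv : v ≠ 0) : a g v ≠ 0 := fun e =>
  hv (by rw [← h.inv_act hg v, e, h.zero (inv_mem hg)])

theorem neg (v : V) : -v = v := neg_eq_of_add_eq_zero_left (h.two v)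

theorem eq_of_add {u v w : V} (e : u + v = w) : v = u + w := by
  rw [← e, ← add_assoc, h.two, zero_add]

theorem cancel (u v : V) : u + v + v = u := by rw [add_assoc, h.two, add_zero]

/-- the stabilizer of a vector -/
def stab (y : V) : Subgroup Co0 where
  carrier := {g | g ∈ H ∧ a g y = y}
  one_mem' := ⟨one_mem _, h.one y⟩
  mul_mem' := fun {g k} hg hk => ⟨mul_mem hg.1 hk.1, by rw [h.mul _ hg.1 _ hk.1, hk.2, hg.2]⟩
  inv_mem' := fun {g} hg => ⟨inv_mem hg.1, by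
    have := h.inv_act hg.1 y
    rwa [hg.2] at this⟩

theorem exists_fun (r0 : Lam) (y : V) (hy : ∀ g ∈ H, g • r0 = r0 → a g y = y) :
    ∃ f : Lam → V, f r0 = y ∧ ∀ g ∈ H, ∀ x, (∃ k ∈ H, k • r0 = x) → f (g • x) = a g (f x) := by
  classical
  have key : ∀ g ∈ H, (if e : ∃ k ∈ H, k • r0 = g • r0 then a e.choose y else 0) = a g y :=
    fun g hg => by
      have e : ∃ k ∈ H, k • r0 = g • r0 := ⟨g, hg, rfl⟩
      have s := e.choose_spec
      rw [dif_pos e, ← mul_inv_cancel_left g e.choose, h.mul _ hg _ (mul_mem (inv_mem hg) s.1),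
        hy _ (mul_mem (inv_mem hg) s.1) (by rw [mul_smul, s.2, inv_smul_smul])]
  refine ⟨fun x => if e : ∃ k ∈ H, k • r0 = x then a e.choose y else 0, ?_, ?_⟩
  · have := key 1 (one_mem _)
    rwa [h.one, one_smul] at this
  · rintro g hg _ ⟨k, hk, rfl⟩
    beta_reduce
    rw [← mul_smul, key _ (mul_mem hg hk), key _ hk, h.mul _ hg _ hk]

theorem hom_two (ψ : Lam →+ V) {x y : Lam} (c : cong x y) : ψ y = ψ x := by
  obtain ⟨u, rfl⟩ := c
  rw [map_add, map_add, h.two, add_zero]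

/-- a function on minimal vectors that respects triangles extends to an equivariant map -/
theorem extend {T P : Lam → Prop} {f : Lam → V} {b d : Fin 24 → Lam} (db : DB b d)
    {S : Fin 24 → Prop} (hP : ∀ x, P x → ∀ i, S i → 16 ∣ dotInt x.1 (d i).1)
    (Psm : ∀ g ∈ H, ∀ x, P x → P (g • x)) (hT : Clo T) (Tsm : ∀ g ∈ H, ∀ x, T x → T (g • x))
    (Tb : ∀ i, ¬ S i → T (b i)) (fsm : ∀ g ∈ H, ∀ x, T x → f (g • x) = a g (f x))
    (fneg : ∀ x, T x → f (-x) = f x)
    (fadd : ∀ x y, T x → T y → sqNorm (x + y).1 = 32 → f (x + y) = f x + f y)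
    {r0 : Lam} (P0 : P r0) {L : List ℕ} (hL : ∀ g ∈ L, el g ∈ H)
    (ct : ∀ S', Clo S' → (∀ i, ¬ S i → S' (b i)) →
      S' r0 ∧ ∀ g ∈ L, ∀ i, ¬ S i → S' (el g • b i))
    (tr : ∀ K : Subgroup Co0, (∀ g ∈ L, el g ∈ K) →
      (negEl ∈ H → (∀ v, a negEl v = v) → negEl ∈ K) → ∀ r, T r → ∃ k ∈ K, k • r0 = r) :
    ∃ ψ : Lam →+ V, (∀ x, T x → ψ x = f x) ∧ ∀ g ∈ H, ∀ x, P x → ψ (g • x) = a g (ψ x) := by
  obtain ⟨ψ, hψ⟩ := db.exists_hom h.two fun i => f (b i)
  let K : Subgroup Co0 :=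
    { carrier := {g | g ∈ H ∧ ∀ x, P x → ψ (g • x) = a g (ψ x)}
      one_mem' := ⟨one_mem _, fun x _ => by rw [one_smul, h.one]⟩
      mul_mem' := fun {g k} hg hk => ⟨mul_mem hg.1 hk.1, fun x hx => by
        rw [mul_smul, hg.2 _ (Psm k hk.1 x hx), hk.2 x hx, h.mul _ hg.1 _ hk.1]⟩
      inv_mem' := fun {g} hg => ⟨inv_mem hg.1, fun x hx => by
        have := hg.2 _ (Psm _ (inv_mem hg.1) x hx)
        rw [smul_inv_smul] at this
        rw [this, h.inv_act hg.1]⟩ }
  have mK : ∀ g ∈ H, (∀ i, ¬ S i → ψ (g • b i) = f (g • b i)) → g ∈ K := fun g hg e =>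
    ⟨hg, fun x hx => db.gen (fun x => ψ (g • x) = a g (ψ x))
      (fun u => by rw [co_add, map_add, map_add, h.two, h.two, h.zero hg])
      (fun v w p q => by rw [co_add, map_add, map_add, p, q, h.add g hg]) S
      (fun i hi => by rw [e i hi, fsm g hg _ (Tb i hi), hψ]) x (hP x hx)⟩
  have cl : Clo fun x => T x ∧ ψ x = f x :=
    ⟨fun x p => hT.nm x p.1,
      fun x p => ⟨hT.neg x p.1, by rw [map_neg, h.neg, fneg x p.1, p.2]⟩,
      fun x y p q e => ⟨hT.add x y p.1 q.1 e, by rw [map_add, fadd x y p.1 q.1 e, p.2, q.2]⟩⟩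
  obtain ⟨c0, c1⟩ := ct _ cl fun i hi => ⟨Tb i hi, hψ i⟩
  have all : ∀ x, T x → ψ x = f x := fun x hx => by
    obtain ⟨k, hk, rfl⟩ := tr K (fun g hg => mK _ (hL g hg) fun i hi => (c1 g hg i hi).2)
      (fun n e => ⟨n, fun x _ => by rw [negEl_smul, map_neg, h.neg, e]⟩) x hx
    rw [hk.2 _ P0, fsm k hk.1 _ c0.1, c0.2]
  exact ⟨ψ, all, fun g hg => (mK g hg fun i hi => all _ (Tsm g hg _ (Tb i hi))).2⟩

end Act

/-- the hypotheses on the module -/
structure Su (H : Subgroup Co0) (a : Co0 → V → V) (v0 : V) : Prop where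
  act : Act H a
  ne : v0 ≠ 0
  fix : ∀ v, (∀ g ∈ Sg ⊓ H, a g v = v) ↔ v = 0 ∨ v = v0
  mv : ∃ g ∈ H, a g v0 ≠ v0

/-- the sign changes act on `u` as on `x` -/
def Rl (H : Subgroup Co0) (a : Co0 → V → V) (v0 : V) (x : Lam) (u : V) : Prop :=
  ∀ s ∈ Sg ⊓ H, (cong x (s • x) ∧ a s u = u) ∨ (cong (x + e8 none) (s • x) ∧ a s u = u + v0)

namespace Su

variable (h : Su H a v0)
include h

theorem mono_fix {g : Co0} (hg : g ∈ Mono) (hH : g ∈ H) : a g v0 = v0 := by
  refine ((h.fix _).1 fun s hs => ?_).resolve_left (h.act.ne_zero hH h.ne)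
  have m : g⁻¹ * s * g ∈ Sg ⊓ H := ⟨Sg_conj hg hs.1, H.mul_mem (H.mul_mem (H.inv_mem hH) hs.2) hH⟩
  rw [← h.act.mul _ hs.2 _ hH, show s * g = g * (g⁻¹ * s * g) by group, h.act.mul _ hH _ m.2,
    (h.fix v0).2 (Or.inr rfl) _ m]

theorem rl_add {x y : Lam} {u w : V} (p : Rl H a v0 x u) (q : Rl H a v0 y w) :
    Rl H a v0 (x + y) (u + w) := fun s hs => by
  rw [co_add, h.act.add s hs.2]
  rcases p s hs with ⟨p1, p2⟩ | ⟨p1, p2⟩ <;> rcases q s hs with ⟨q1, q2⟩ | ⟨q1, q2⟩ <;>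
    have := p1.add q1 <;> rw [p2, q2]
  · exact Or.inl ⟨this, rfl⟩
  · exact Or.inr ⟨by rwa [add_assoc], by abel⟩
  · exact Or.inr ⟨by rwa [add_right_comm], by abel⟩
  · refine Or.inl ⟨cong.trans ⟨e8 none, by abel⟩ this, ?_⟩
    rw [show u + v0 + (w + v0) = u + w + v0 + v0 by abel, h.act.cancel]

omit h in
theorem rl_cong {x y : Lam} {u : V} (p : Rl H a v0 x u) (c : cong x y) : Rl H a v0 y u :=
  fun s hs => (p s hs).imp (fun e => ⟨(c.symm.trans e.1).trans (c.smul s), e.2⟩)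
    fun e => ⟨((c.symm.add (cong.refl _)).trans e.1).trans (c.smul s), e.2⟩

theorem rl_smul {x : Lam} {u : V} (p : Rl H a v0 x u) {g : Co0} (hg : g ∈ Mono) (hH : g ∈ H) :
    Rl H a v0 (g • x) (a g u) := fun s hs => by
  have m : g⁻¹ * s * g ∈ Sg ⊓ H := ⟨Sg_conj hg hs.1, H.mul_mem (H.mul_mem (H.inv_mem hH) hs.2) hH⟩
  rw [← mul_smul, ← h.act.mul _ hs.2 _ hH, show s * g = g * (g⁻¹ * s * g) by group, mul_smul,
    h.act.mul _ hH _ m.2]
  rcases p _ m with ⟨p1, p2⟩ | ⟨p1, p2⟩ <;> rw [p2]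
  · exact Or.inl ⟨p1.smul g, rfl⟩
  · refine Or.inr ⟨cong.trans ?_ (p1.smul g), by rw [h.act.add g hH, h.mono_fix hg hH]⟩
    rw [co_add]
    exact (cong.refl _).add (cong_of_mem_mono hg none)

omit h in
theorem rl_fix {x : Lam} {u : V} (p : Rl H a v0 x u) {s : Co0} (hs : s ∈ Sg ⊓ H)
    (c : cong x (s • x)) : a s u = u :=
  ((p s hs).resolve_right fun e => not_cong_e8 x (c.trans e.1.symm)).2

theorem rl_zero {x : Lam} {u : V} (p : Rl H a v0 x u) (c : cong x 0) : u = 0 ∨ u = v0 :=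
  (h.fix u).1 fun s hs => rl_fix (rl_cong p c) hs (by rw [co_zero]; exact cong.refl _)

theorem rl_base {x : Lam} {u : V} (h4 : ∀ i, 4 ∣ x.1 i)
    (h1 : ∀ s ∈ Sg ⊓ H, ∀ t ∈ Sg ⊓ H, cong (s • x) (t • x) → a s u = a t u)
    {ε : Co0} (hε : ε ∈ Sg ⊓ H) (c : cong (x + e8 none) (ε • x)) (n0 : u ≠ 0) (n1 : u ≠ v0) :
    Rl H a v0 x u := by
  have k : ∀ s ∈ Sg ⊓ H, (cong x (s • x) ∧ a s u = u) ∨
      (cong (x + e8 none) (s • x) ∧ a s u = a ε u) := fun s hs =>
    (sign_cases h4 hs.1).imp (fun e => ⟨e, by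
      rw [← h1 1 (one_mem _) s hs (by rwa [one_smul]), h.act.one]⟩)
      fun e => ⟨e, h1 s hs ε hε (e.symm.trans c)⟩
  have : u + a ε u = v0 := by
    refine ((h.fix _).1 fun s hs => ?_).resolve_left fun e => ?_
    · rw [h.act.add s hs.2, ← h.act.mul _ hs.2 _ hε.2, Sg_comm hs.1 hε.1, h.act.mul _ hε.2 _ hs.2]
      rcases k s hs with e | e <;> rw [e.2]
      rw [← h.act.mul _ hε.2 _ hε.2, Sg_sq hε.1, h.act.one, add_comm]
    · have e' := h.act.eq_of_add e
      rw [add_zero] at e'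
      rcases (h.fix u).1 (fun s hs => (k s hs).elim (·.2) fun e => e.2.trans e') with e | e
      exacts [n0 e, n1 e]
  exact fun s hs => (k s hs).imp_right fun e => ⟨e.1, e.2.trans (h.act.eq_of_add this)⟩

/-- a vector that behaves as `vU'` is fixed by `2¹⁰ : M₂₂` -/
theorem e22_fix (hM : Mono ≤ H) {y : V} (p : Rl H a v0 vU' y) {g : Co0}
    (hg : g ∈ St vU ⊓ St vU') : a g y = y := by
  have alt : ∀ g ∈ Mono, g • vU' = vU' → a g y = y ∨ a g y = y + v0 := fun g m e => by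
    have := h.rl_add p (h.rl_smul p m (hM m))
    rw [e] at this
    exact (h.rl_zero this (cong_add_self _)).imp
      (fun e => by simpa using h.act.eq_of_add e) h.act.eq_of_add
  have pU : ∀ σ : G22, permEl σ.1 • vU' = vU' := fun σ => permEl_leechU' σ.2.1 σ.2.2
  let φ : G22 →* Co0 := permHom.comp G22.subtype
  have mφ : ∀ σ, φ σ ∈ Mono := fun σ => permEl_mem_mono _
  have hW : ((h.act.stab y).comap φ).Normal := ⟨fun w hw σ => ⟨hM (mφ _), by
    have a1 := hM (mφ σ)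
    have a2 := hM (mφ w)
    have a3 := hM (mφ σ⁻¹)
    rw [map_mul, map_mul, h.act.mul _ (mul_mem a1 a2) _ a3, h.act.mul _ a1 _ a2]
    have : a (φ w) (a (φ σ⁻¹) y) = a (φ σ⁻¹) y := by
      rcases alt _ (mφ σ⁻¹) (pU σ⁻¹) with e | e <;> rw [e]
      · exact hw.2
      · rw [h.act.add _ a2, hw.2, h.mono_fix (mφ w) a2]
    rw [this, map_inv, h.act.act_inv a1]⟩⟩
  have := G22_simple
  have top : (h.act.stab y).comap φ = ⊤ := by
    refine hW.eq_bot_or_eq_top.resolve_left fun e => ?_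
    obtain ⟨σ, s1, s2, s3, s4⟩ := exists_perm4 (a := none) (b := some 0) (c := some 1) (d := some 2)
      (a' := none) (b' := some 0) (c' := some 2) (d' := some 3) (by decide) (by decide) (by decide)
      (by decide) (by decide) (by decide) (by decide) (by decide) (by decide) (by decide)
      (by decide) (by decide)
    let τ : G22 := ⟨σ, s1, s2⟩
    have m : τ * τ ∈ (h.act.stab y).comap φ := ⟨hM (mφ _), by
      have a1 := hM (mφ τ)
      rw [map_mul, h.act.mul _ a1 _ a1]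
      rcases alt _ (mφ τ) (pU τ) with e | e
      · rw [e, e]
      · rw [e, h.act.add _ a1, e, h.mono_fix (mφ τ) a1, h.act.cancel]⟩
    rw [e, Subgroup.mem_bot] at m
    have := congrArg (fun x : G22 => x.1.1 (some 1)) m
    simp only [τ, Subgroup.coe_mul, Equiv.Perm.mul_apply, s3, s4] at this
    exact absurd this (by decide)
  rw [St_U_U'_eq] at hg
  obtain ⟨σ, c, hc, rfl⟩ := mono_structure (mem_mono_of_e8 (Or.inl hg.1))
  have f1 := perm_fix_of_e8 (Or.inl hg.1)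
  have f2 := perm_fix_of_e8 (Or.inl hg.2)
  have m : (⟨σ, f1, f2⟩ : G22) ∈ (h.act.stab y).comap φ := top ▸ Subgroup.mem_top _
  rw [← St_U_U'_eq] at hg
  have e : (signEl c hc * permEl σ) • vU' = vU' := hg.2
  rw [mul_smul, permEl_leechU' f1 f2] at e
  rw [h.act.mul _ (hM (signEl_mem_mono c hc)) _ (hM (permEl_mem_mono σ)), show a (permEl σ) y = y
    from m.2]
  exact rl_fix p ⟨⟨c, hc, rfl⟩, hM (signEl_mem_mono c hc)⟩ (by rw [e]; exact cong.refl _)

end Su

/-- vectors of shape `4 ^ 4` -/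
def pA : Lam := lam [0, 0, -4, 0, 4, 0, 0, 0, 0, 0, 0, 0, 0, -4, 0, 0, 0, 0, 0, 0, 0, 0, 0, 4] (by decide +kernel)
/-- vectors of shape `4 ^ 4` -/
def pB : Lam := lam [4, 0, -4, 0, 4, 0, 0, 0, 0, 0, 0, 0, 0, -4, 0, 0, 0, 0, 0, 0, 0, 0, 0, 0] (by decide +kernel)
/-- vectors of shape `4 ^ 4` -/
def pC : Lam := lam [0, 4, -4, 0, 4, 0, 0, 0, 0, 0, 0, 0, 0, -4, 0, 0, 0, 0, 0, 0, 0, 0, 0, 0] (by decide +kernel)
/-- vectors of shape `4 ^ 4` -/
def pT : Lam := lam [-4, -4, -4, 0, 0, 0, 0, 0, 0, 0, 0, 0, 0, 0, 0, 0, 0, 0, 0, 0, 0, 0, 0, 4] (by decide +kernel)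

/-- a vector of type three -/
def w48 : Lam := lam [-2, 0, 2, 0, 0, 2, 2, 0, 0, 2, 0, 0, 0, 0, 0, 0, 0, 2, 0, 0, 2, 2, 0, 4] (by decide +kernel)

theorem xi_smul {x y : Lam} (hx : sqNorm x.1 ≤ 80) (hy : sqNorm y.1 ≤ 80)
    (e : act xiG (cd x) = cd y) : xi • x = y := el_xiG ▸ ok_xiG.smul_eq hx hy e

theorem exists_min (h : Su ⊤ a v0) :
    ∃ f : Lam → V, f vU + f vU' = v0 ∧ (∀ g x, sqNorm x.1 = 32 → f (g • x) = a g (f x)) ∧
      ∀ x y, sqNorm x.1 = 32 → sqNorm y.1 = 32 → sqNorm (x + y).1 = 32 →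
        f (x + y) = f x + f y := by
  have T := fun g : Co0 => Subgroup.mem_top g
  obtain ⟨F, F0, F1⟩ := h.act.exists_fun (e8 none) v0 fun g _ e =>
    h.mono_fix (mem_mono_of_e8 (Or.inl e)) (T g)
  have F2 : ∀ g x, sqNorm x.1 = 64 → F (g • x) = a g (F x) := fun g x hx =>
    F1 g (T g) x ((trans64 (sqNorm_e8 none) hx).imp fun k e => ⟨T k, e⟩)
  have F3 : ∀ x y, sqNorm x.1 = 64 → sqNorm y.1 = 64 → cong x y → F x = F y := fun x y hx hy c => by
    obtain ⟨g, rfl⟩ := trans64 (sqNorm_e8 none) hx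
    obtain ⟨k, rfl⟩ := trans64 (sqNorm_e8 none) hy
    have m : g⁻¹ * k ∈ Mono := mem_mono_of_cong (a := none) (by
      have := c.smul g⁻¹
      rwa [inv_smul_smul, ← mul_smul] at this)
    rw [F2 _ _ (sqNorm_e8 _), F2 _ _ (sqNorm_e8 _), F0, ← mul_inv_cancel_left g k,
      h.act.mul _ (T _) _ (T _), h.mono_fix m (T _)]
  have nT : sqNorm pT.1 = 64 := by decide +kernel
  have nA : sqNorm pA.1 = 64 := by decide +kernel
  have nB : sqNorm pB.1 = 64 := by decide +kernel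
  have eT : xi • e8 none = pT := xi_smul (by decide +kernel) (by decide +kernel) (by decide +kernel)
  have rT : Rl ⊤ a v0 pT (F pT) := by
    refine h.rl_base (by decide +kernel) (fun s _ t _ c => ?_) (ε := mo 6053905 pid)
      ⟨mo_sign (by decide +kernel), T _⟩ ?_ ?_ fun e => ?_
    · rw [← F2 _ _ nT, ← F2 _ _ nT]
      exact F3 _ _ ((co_sqNorm _ _).trans nT) ((co_sqNorm _ _).trans nT) c
    · refine ⟨-vU', (mo_smul (by decide +kernel) (by decide +kernel) (by decide +kernel)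
        (by decide +kernel))⟩
    · rw [← eT, F2 _ _ (sqNorm_e8 _), F0]
      exact h.act.ne_zero (T _) h.ne
    · rw [← eT, F2 _ _ (sqNorm_e8 _), F0] at e
      obtain ⟨g, -, hg⟩ := h.mv
      have : h.act.stab v0 = ⊤ :=
        eq_top_of_mono_xi (fun g hg => ⟨T g, h.mono_fix hg (T g)⟩) ⟨T _, e⟩
      exact hg (this.ge (T g)).2
  let m := mo 2543385 970250034937305323151174272144422018
  let s1 := mo 0 30080384995387866888524333643827713
  let s2 := mo 0 976907791134299798555324425644902401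
  have e1 : m • pT = pA :=
    mo_smul (by decide +kernel) (by decide +kernel) (by decide +kernel) (by decide +kernel)
  have e2 : s1 • pA = pB :=
    mo_smul (by decide +kernel) (by decide +kernel) (by decide +kernel) (by decide +kernel)
  have e3 : s1 • pB = pC :=
    mo_smul (by decide +kernel) (by decide +kernel) (by decide +kernel) (by decide +kernel)
  have e4 : s2 • pA = pA :=
    mo_smul (by decide +kernel) (by decide +kernel) (by decide +kernel) (by decide +kernel)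
  have e5 : s2 • pB = pC :=
    mo_smul (by decide +kernel) (by decide +kernel) (by decide +kernel) (by decide +kernel)
  have e6 : xi • pA = pA := xi_smul (by decide +kernel) (by decide +kernel) (by decide +kernel)
  have e7 : xi • pB = pB := xi_smul (by decide +kernel) (by decide +kernel) (by decide +kernel)
  have e8' : vU' = pA - pB := Subtype.ext (by decide +kernel)
  have rA : Rl ⊤ a v0 pA (F pA) := by
    have := h.rl_smul rT (g := m) (mo_mem (by decide +kernel)) (T _)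
    rwa [← F2 _ _ nT, e1] at this
  have rB : Rl ⊤ a v0 pB (F pB) := by
    have := h.rl_smul rA (g := s1) (mo_mem (by decide +kernel)) (T _)
    rwa [← F2 _ _ nA, e2] at this
  have rU : Rl ⊤ a v0 vU' (F pA + F pB) :=
    Su.rl_cong (h.rl_add rA rB) (e8' ▸ cong_add_sub _ _)
  have back : a ε0 (a ε0 (F pA + F pB)) = F pA + F pB := by
    rw [← h.act.mul _ (T _) _ (T _), Sg_sq ε0_mem, h.act.one]
  have hy : St vU ≤ h.act.stab (a ε0 (F pA + F pB)) := co2_le (fun g hg => ⟨T g, by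
      have := h.e22_fix le_top rU (ε0_conj hg)
      rw [h.act.mul _ (T _) _ (T _), h.act.mul _ (T _) _ (T _)] at this
      have k := congrArg (a ε0) this
      rwa [← h.act.mul ε0 (T _) ε0 (T _), Sg_sq ε0_mem, h.act.one] at k⟩)
    ⟨T _, by
      rw [xi2, h.act.mul _ (T _) _ (T _), h.act.mul _ (T _) _ (T _), back, h.act.add _ (T _),
        ← F2 _ _ nA, ← F2 _ _ nB, e6, e7]⟩
  obtain ⟨f, f0, f1⟩ := h.act.exists_fun vU _ fun g _ e => (hy e).2
  have f2 : ∀ g x, sqNorm x.1 = 32 → f (g • x) = a g (f x) := fun g x hx =>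
    f1 g (T g) x ((trans32 nU hx).imp fun k e => ⟨T k, e⟩)
  have f3 : f vU' = F pA + F pB := by rw [← ε0_U, f2 _ _ nU, f0, back]
  refine ⟨f, ?_, f2, fun x y hx hy e => ?_⟩
  · rcases rU ε0 ⟨ε0_mem, T _⟩ with ⟨c, -⟩ | ⟨-, c⟩
    · rw [ε0_U'] at c
      exact absurd (eq_or_neg nU' nU c) (by decide +kernel)
    · rw [f0, f3, c, add_right_comm, h.act.two, zero_add]
  · have n1 : sqNorm (s1 • vU').1 = 32 := (co_sqNorm _ _).trans nU'
    have e9 : vU' + s1 • vU' = s2 • vU' := by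
      rw [e8', co_sub, co_sub, e2, e3, e4, e5]; abel
    obtain ⟨g, rfl, rfl⟩ := pair_min nU' n1 hx hy
      ((dot_of_add nU' n1 (by rw [e9, co_sqNorm, nU'])).trans (dot_of_add hx hy e).symm)
    rw [← co_add, e9, f2 _ _ ((co_sqNorm _ _).trans nU'), f2 _ _ n1, f2 g _ nU',
      ← h.act.add _ (T _), f2 _ _ nU', f2 _ _ nU', f3, h.act.add s2 (T _), h.act.add s1 (T _),
      ← F2 _ _ nA, ← F2 _ _ nB, ← F2 _ _ nA, ← F2 _ _ nB, e2, e3, e4, e5, ← add_assoc,
      h.act.cancel]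

universe u

theorem modM : ModMStmt.{u} := by
  intro V _ a v0 hA hc hn h0 hf hm
  have T := fun g : Co0 => Subgroup.mem_top g
  have h : Su ⊤ a v0 := ⟨hA, h0, by simpa only [inf_top_eq] using hf, hm.imp fun g e => ⟨T g, e⟩⟩
  obtain ⟨f, f0, f1, f2⟩ := exists_min h
  obtain ⟨ψ, p1, p2⟩ := hA.extend (T := fun x => sqNorm x.1 = 32) (P := fun _ => True) (f := f) dbM
    (S := fun _ => False) (fun _ _ _ e => e.elim) (fun _ _ _ _ => trivial)
    ⟨fun _ e => e, fun x e => by rw [AddSubgroup.coe_neg, sqNorm_neg, e], fun _ _ _ _ e => e⟩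
    (fun g _ x e => (co_sqNorm g x).trans e) (fun i _ => bM_norm i) (fun g _ => f1 g)
    (fun x e => by rw [← negEl_smul, f1 _ _ e, hn]) f2 (r0 := vU) trivial
    (L := [gCo2a, gCo2b, gAl]) (fun _ _ => T _)
    (fun S' c hb => (c.imgM fun i => hb i not_false).imp_right fun e g hg i _ => e g hg i)
    fun K e1 e2 r hr => transM e1 (e2 (T _) hn) hr
  have p3 : ∀ g x, ψ (g • x) = a g (ψ x) := fun g x => p2 g (T g) x trivial
  have p4 : ψ (e8 none) ≠ 0 := by rw [← U_add_U', map_add, p1 _ nU, p1 _ nU', f0]; exact h0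
  have p5 : ∀ x, ψ x = 0 ↔ cong 0 x := fun x => by
    refine ⟨fun e => ?_, fun c => by rw [hA.hom_two ψ c, map_zero]⟩
    obtain ⟨y, c, hy⟩ := short_all x
    rw [← hA.hom_two ψ c] at e
    have z : ∀ w, (∃ g : Co0, g • y = w) → ψ w = 0 := by
      rintro _ ⟨g, rfl⟩
      rw [p3, e, hA.zero (T g)]
    rcases norm_cases y.2 hy with n | n | n | n
    · rw [show y = 0 from Subtype.ext n] at c
      exact c.symm
    · refine absurd ?_ p4
      rw [← U_add_U', map_add, z _ (trans32 n nU), z _ (trans32 n nU'), add_zero]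
    · refine absurd ?_ p4
      have n1 : sqNorm (e8 none - w48).1 = 48 := by decide +kernel
      have n2 : sqNorm w48.1 = 48 := by decide +kernel
      have := z _ (trans48 n n1)
      rwa [map_sub, z _ (trans48 n n2), sub_zero] at this
    · exact absurd (z _ (trans64 n (sqNorm_e8 none))) p4
  refine ⟨ψ, ?_, p5, p3⟩
  have hk : ψ.ker = twoLam := by
    ext x
    rw [AddMonoidHom.mem_ker, p5, cong_zero_iff, mem_twoLam]
    simp only [two_nsmul]
  have : Finite V := Nat.finite_of_card_ne_zero (by rw [hc]; norm_num)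
  rw [← AddMonoidHom.range_eq_top]
  refine AddSubgroup.eq_top_of_card_eq _ ?_
  rw [← AddSubgroup.index_ker, hk, index_twoLam, hc]

/-- minimal vectors orthogonal to `vU` -/
def r0 : Lam := lam [0, -4, 4, 0, 0, 0, 0, 0, 0, 0, 0, 0, 0, 0, 0, 0, 0, 0, 0, 0, 0, 0, 0, 0] (by decide +kernel)
/-- minimal vectors orthogonal to `vU` -/
def r1 : Lam := lam [0, 0, 0, 0, 4, 0, 0, 0, 0, 0, 0, 0, 0, -4, 0, 0, 0, 0, 0, 0, 0, 0, 0, 0] (by decide +kernel)
/-- minimal vectors orthogonal to `vU` -/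
def r2 : Lam := lam [0, 0, 0, 0, 0, 0, 0, 0, 0, 0, 0, 0, 0, 4, 0, 0, -4, 0, 0, 0, 0, 0, 0, 0] (by decide +kernel)

theorem not_fix (h : Su (St vU) a v0) : a xi2 v0 ≠ v0 := fun e => by
  obtain ⟨g, hg, n⟩ := h.mv
  exact n (co2_le (K := h.act.stab v0) (fun g hg => ⟨hg.1, h.mono_fix (E22_le_Mono hg) hg.1⟩)
    ⟨xi2_mem, e⟩ hg).2

theorem mo_U {c p : ℕ} (h : (isCode c && inM p) = true) (e : act (monoG c p) (cd vU) = cd vU) :
    mo c p ∈ St vU := mo_smul h (by decide +kernel) (by decide +kernel) e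

theorem exists_minB (h : Su (St vU) a v0) :
    ∃ f : Lam → V, f vU' = v0 ∧ (∀ g ∈ St vU, ∀ x, TB x → f (g • x) = a g (f x)) ∧
      (∀ x, TB x → f (-x) = f x) ∧
      ∀ x y, TB x → TB y → sqNorm (x + y).1 = 32 → f (x + y) = f x + f y := by
  obtain ⟨f, f0, f1⟩ := h.act.exists_fun vU' v0 fun g hg e =>
    h.mono_fix (E22_le_Mono ⟨hg, e⟩) hg
  have f2 : ∀ g ∈ St vU, ∀ x, TB x → f (g • x) = a g (f x) := fun g hg x hx =>
    f1 g hg x (TB_U'.trans hx)
  have f3 : ∀ x, TB x → f (-x) = f x := fun x hx => by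
    obtain ⟨g, hg, rfl⟩ := TB_U'.trans hx
    have e : mo 0 5902947680920985846093828470738167 • vU' = -vU' :=
      mo_smul (by decide +kernel) (by decide +kernel) (by decide +kernel) (by decide +kernel)
    have m : mo 0 5902947680920985846093828470738167 ∈ St vU :=
      mo_U (by decide +kernel) (by decide +kernel)
    rw [← co_neg, f2 g hg _ TB_U'.neg, ← e, f2 _ m _ TB_U', f2 g hg _ TB_U', f0,
      h.mono_fix (mo_mem (by decide +kernel)) m]
  have t0 : TB r0 := by unfold TB; decide +kernel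
  have t1 : TB r1 := by unfold TB; decide +kernel
  have t2 : TB r2 := by unfold TB; decide +kernel
  have t3 : TB (r1 + r2) := by unfold TB; decide +kernel
  have e0 : xi2 • vU' = r0 := xi2_smul (by decide +kernel) (by decide +kernel) (by decide +kernel)
  have e1 : xi2 • r1 = r1 := xi2_smul (by decide +kernel) (by decide +kernel) (by decide +kernel)
  have e2 : xi2 • r2 = r2 := xi2_smul (by decide +kernel) (by decide +kernel) (by decide +kernel)
  have q0 : Rl (St vU) a v0 r0 (f r0) := by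
    refine h.rl_base (by decide +kernel) (fun s hs t ht c => ?_) (ε := mo 6554826 pid)
      ⟨mo_sign (by decide +kernel), mo_U (by decide +kernel) (by decide +kernel)⟩ ?_ ?_ ?_
    · rw [← f2 _ hs.2 _ t0, ← f2 _ ht.2 _ t0]
      rcases eq_or_neg (t0.smul hs.2).1 (t0.smul ht.2).1 c with e | e <;> rw [e]
      rw [f3 _ (t0.smul hs.2)]
    · refine ⟨vX - e8 none, (mo_smul (by decide +kernel) (by decide +kernel) (by decide +kernel)
        (by decide +kernel))⟩
    · rw [← e0, f2 _ xi2_mem _ TB_U', f0]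
      exact h.act.ne_zero xi2_mem h.ne
    · rw [← e0, f2 _ xi2_mem _ TB_U', f0]
      exact not_fix h
  have mv : ∀ {c p : ℕ} {r : Lam}, (isCode c && inM p) = true → act (monoG c p) (cd vU) = cd vU →
      sqNorm r.1 ≤ 80 → act (monoG c p) (cd r0) = cd r → Rl (St vU) a v0 r (f r) :=
    fun a1 a2 a3 a4 => by
      have := h.rl_smul q0 (mo_mem a1) (mo_U a1 a2)
      rwa [← f2 _ (mo_U a1 a2) _ t0, mo_smul a1 (by decide +kernel) a3 a4] at this
  have q1 := mv (c := 681662) (p := 979042469307917327657538541863974016) (r := r1)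
    (by decide +kernel) (by decide +kernel) (by decide +kernel) (by decide +kernel)
  have q2 := mv (c := 2358342) (p := 980215952497627223298749534676795808) (r := r2)
    (by decide +kernel) (by decide +kernel) (by decide +kernel) (by decide +kernel)
  have q3 := mv (c := 2726648) (p := 977702901777736032627154629240864896) (r := r1 + r2)
    (by decide +kernel) (by decide +kernel) (by decide +kernel) (by decide +kernel)
  have tri : f (r1 + r2) = f r1 + f r2 := by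
    have := (h.rl_zero (h.rl_add (h.rl_add q1 q2) q3) (cong_add_self _)).resolve_right fun e =>
      not_fix h (by
        rw [← e, h.act.add _ xi2_mem, h.act.add _ xi2_mem, ← f2 _ xi2_mem _ t1,
          ← f2 _ xi2_mem _ t2, ← f2 _ xi2_mem _ t3, co_add, e1, e2])
    simpa using h.act.eq_of_add this
  refine ⟨f, f0, f2, f3, fun x y hx hy e => ?_⟩
  obtain ⟨g, hg, rfl, rfl⟩ := pairB t1 t2 hx hy (dot_of_add t1.1 t2.1 t3.1) (dot_of_add hx.1 hy.1 e)
  rw [← co_add, f2 g hg _ t3, f2 g hg _ t1, f2 g hg _ t2, tri, h.act.add g hg]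

theorem modB : ModBStmt.{u} := by
  intro V _ a v0 hA hc h0 hf hm
  have h : Su (St vU) a v0 := ⟨hA, h0, hf, hm⟩
  obtain ⟨f, f0, f1, f2, f3⟩ := exists_minB h
  have lt : ∀ i : Fin 24, ¬ i = 0 ↔ 1 ≤ i.1 := by decide
  obtain ⟨ψ, p1, p2⟩ := hA.extend (T := TB) (P := PU) (f := f) dbB (S := fun i => i = 0)
    (fun x e i hi => by rw [hi, dB_zero]; exact e) (fun g hg x e => e.smul hg)
    ⟨fun _ e => e.1, fun _ e => e.neg, fun _ _ p q e => p.add q e⟩ (fun g hg x e => e.smul hg)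
    (fun i hi => bB_spec i ((lt i).1 hi)) f1 f2 f3 (r0 := vU') TB_U'.pu
    (L := [gCo2a, gCo2b, gU62a, gU62b])
    (by
      simp only [List.forall_mem_cons]
      exact ⟨mem_gCo2 _ (by simp [gCo2]), mem_gCo2 _ (by simp [gCo2]),
        (mem_gU62 _ (by simp [gU62])).1, (mem_gU62 _ (by simp [gU62])).1, fun _ h => nomatch h⟩)
    (fun S' c hb => (c.imgB fun i hi => hb i ((lt i).2 hi)).imp_right
      fun e g hg i hi => e g hg i ((lt i).1 hi))
    fun K e1 _ r hr => transB e1 hr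
  have pU : ψ vU = 0 := by
    have k : ∀ g ∈ St vU, a g (ψ vU) = ψ vU := fun g hg => by rw [← p2 g hg _ PW_U.pu, hg]
    refine ((hf _).1 fun g hg => k g hg.2).resolve_right fun e => ?_
    obtain ⟨g, hg, n⟩ := hm
    exact n (e ▸ k g hg)
  have p3 : ∀ x y, cong2 x y → ψ y = ψ x := by
    rintro x y (c | c) <;> rw [hA.hom_two ψ c]
    rw [map_add, pU, add_zero]
  have p4 : ∀ x, PU x → (ψ x = 0 ↔ cong2 0 x) := fun x hx => by
    refine ⟨fun e => by_contra fun n => ?_, fun c => by rw [p3 _ _ c, map_zero]⟩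
    obtain ⟨y, hy, n', k⟩ := descent (fun y => PU y ∧ ψ y = 0)
      (fun x y p q => ⟨p.1.add q.1, by rw [map_add, p.2, q.2, add_zero]⟩)
      (fun s hs x p => ⟨p.1.smul hs.2, by rw [p2 s hs.2 x p.1, p.2, hA.zero hs.2]⟩) ⟨hx, e⟩ n
    have := p3 _ _ ((fixB' hy.1 k).resolve_left n')
    rw [hy.2, p1 _ TB_U', f0] at this
    exact h0 this.symm
  refine ⟨ψ, fun v => ?_, p4, p2⟩
  obtain ⟨F, F1, F2⟩ := exists_reps
  have : Finite V := Nat.finite_of_card_ne_zero (by rw [hc]; norm_num)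
  have inj : Function.Injective fun c => ψ (F c) := fun c c' e => F2 c c'
    ((p4 _ ((F1 c).add (F1 c'))).1 (by rw [map_add, show ψ (F c) = ψ (F c') from e, hA.two]))
  obtain ⟨c, e⟩ := (inj.bijective_of_nat_card_le (by rw [hc]; simp)).2 v
  exact ⟨_, F1 c, e⟩

end Cfsg.Agent.H48.Mid
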