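import Cfsg.Agent.H44.Coset
import Cfsg.Agent.H48.RecT1D0
import Cfsg.Agent.H48.RecT1D1
import Cfsg.Agent.H48.RecT1D2

set_option autoImplicit false
set_option maxRecDepth 1000000
set_option linter.all false
set_option Elab.async false

namespace Cfsg.Agent.H48.RecT1
open Cfsg.Agent.H44

/-- The relators. -/
def R : List (List ℕ) := [[1, 1],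
  [2, 2],
  [3, 3],
  [4, 4],
  [5, 5],
  [6, 6],
  [7, 7],
  [8, 8],
  [9, 9],
  [4, 1, 4, 1],
  [4, 3, 4, 3],
  [5, 2, 5, 2],
  [6, 1, 6, 1],
  [6, 3, 6, 3],
  [6, 4, 6, 4],
  [7, 2, 7, 2],
  [7, 3, 7, 3],
  [9, 1, 9, 1],
  [9, 3, 9, 3],
  [9, 4, 9, 4],
  [8, 2, 8, 2],
  [9, 6, 9, 6],
  [5, 4, 5, 4, 5, 4],
  [6, 2, 6, 2, 6, 2],
  [7, 4, 7, 4, 7, 4],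
  [7, 5, 7, 5, 7, 5],
  [8, 3, 8, 3, 8, 3],
  [7, 6, 7, 6, 7, 6],
  [9, 7, 9, 7, 9, 7],
  [2, 1, 2, 1, 2, 1, 2, 1],
  [2, 1, 5, 1, 2, 1, 5, 1],
  [3, 1, 3, 1, 3, 1, 3, 1],
  [3, 1, 5, 1, 3, 1, 5, 1],
  [3, 2, 3, 2, 3, 2, 3, 2],
  [3, 5, 3, 2, 3, 5, 3, 2],
  [4, 2, 4, 2, 4, 2, 4, 2],
  [5, 1, 5, 1, 5, 1, 5, 1],
  [5, 3, 5, 3, 5, 3, 5, 3],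
  [5, 6, 5, 1, 5, 6, 5, 1],
  [6, 5, 6, 5, 6, 5, 6, 5],
  [5, 1, 7, 1, 5, 1, 7, 1],
  [9, 2, 9, 2, 9, 2, 9, 2],
  [2, 1, 8, 1, 2, 1, 8, 1],
  [4, 8, 4, 2, 4, 8, 4, 2],
  [8, 1, 8, 1, 8, 1, 8, 1],
  [8, 4, 8, 4, 8, 4, 8, 4],
  [8, 5, 8, 5, 8, 5, 8, 5],
  [6, 5, 3, 5, 6, 5, 3, 5],
  [8, 7, 8, 7, 8, 7, 8, 7],
  [9, 8, 9, 2, 9, 8, 9, 2],
  [8, 9, 8, 9, 8, 9, 8, 9],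
  [2, 9, 8, 1, 8, 9, 2, 1],
  [9, 8, 7, 9, 7, 8, 9, 7],
  [1, 4, 5, 1, 4, 5, 4, 1, 5],
  [2, 5, 9, 2, 9, 5, 9, 2, 9],
  [2, 4, 2, 4, 6, 8, 4, 8, 6],
  [2, 7, 9, 2, 7, 9, 7, 2, 9],
  [3, 5, 3, 5, 1, 5, 3, 5, 3, 1],
  [5, 4, 8, 5, 8, 4, 8, 5, 8, 4],
  [3, 2, 8, 3, 7, 8, 7, 3, 8, 2],
  [2, 4, 2, 1, 9, 8, 4, 8, 9, 1],
  [5, 9, 5, 8, 1, 8, 5, 9, 5, 1],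
  [4, 5, 3, 5, 1, 4, 5, 3, 5, 1],
  [2, 4, 2, 4, 5, 4, 2, 4, 8, 5, 8],
  [2, 3, 2, 3, 6, 7, 5, 3, 5, 7, 6],
  [2, 4, 2, 4, 9, 7, 4, 2, 4, 7, 9],
  [1, 4, 7, 4, 2, 4, 7, 1, 8, 4, 8],
  [2, 5, 9, 8, 9, 8, 5, 8, 9, 8, 9],
  [2, 1, 3, 2, 3, 1, 2, 1, 3, 2, 3, 1],
  [2, 3, 2, 1, 3, 1, 2, 3, 2, 1, 3, 1],
  [2, 6, 5, 6, 2, 1, 2, 6, 5, 6, 2, 1],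
  [4, 5, 6, 5, 4, 2, 4, 5, 6, 5, 4, 2],
  [3, 1, 3, 4, 2, 3, 7, 4, 1, 7, 3, 2],
  [7, 1, 7, 1, 4, 7, 4, 1, 7, 1, 7, 4],
  [2, 1, 4, 2, 1, 4, 2, 4, 1, 2, 4, 1],
  [2, 1, 9, 2, 1, 9, 2, 9, 1, 2, 9, 1],
  [2, 5, 9, 2, 5, 1, 5, 2, 9, 5, 2, 1],
  [4, 5, 9, 5, 3, 4, 9, 5, 9, 5, 9, 3],
  [4, 9, 2, 4, 9, 2, 9, 4, 2, 9, 4, 2],
  [9, 5, 4, 2, 4, 5, 9, 5, 4, 2, 4, 5],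
  [2, 1, 4, 8, 1, 4, 2, 4, 1, 8, 4, 1],
  [2, 3, 1, 3, 2, 1, 8, 3, 1, 3, 8, 1],
  [2, 5, 1, 2, 8, 1, 8, 5, 8, 1, 8, 1],
  [2, 8, 4, 2, 8, 1, 8, 2, 4, 8, 2, 1],
  [3, 8, 1, 8, 5, 3, 4, 8, 4, 5, 8, 1],
  [8, 1, 2, 5, 3, 5, 8, 3, 1, 8, 3, 2],
  [8, 5, 1, 8, 4, 5, 8, 5, 1, 8, 4, 5],
  [2, 4, 2, 1, 6, 7, 4, 2, 4, 7, 6, 1],
  [6, 7, 1, 6, 7, 1, 6, 7, 6, 1, 7, 1],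
  [7, 6, 5, 6, 7, 6, 5, 6, 7, 6, 5, 6],
  [6, 5, 9, 5, 6, 5, 9, 5, 6, 5, 9, 5],
  [9, 5, 9, 5, 9, 5, 9, 5, 9, 5, 9, 5],
  [2, 8, 6, 2, 8, 1, 8, 2, 6, 8, 2, 1],
  [6, 2, 8, 6, 2, 8, 6, 8, 2, 6, 8, 2],
  [6, 8, 6, 2, 1, 2, 6, 8, 6, 2, 1, 2],
  [4, 8, 1, 4, 8, 1, 4, 8, 4, 1, 8, 1],
  [5, 8, 5, 1, 8, 1, 5, 8, 5, 1, 8, 1],
  [5, 8, 5, 6, 5, 8, 5, 4, 8, 6, 8, 4],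
  [6, 5, 8, 1, 8, 5, 6, 5, 8, 1, 8, 5],
  [8, 1, 5, 8, 1, 5, 1, 8, 5, 1, 8, 5],
  [8, 6, 8, 1, 8, 6, 8, 6, 8, 1, 8, 6],
  [7, 1, 7, 9, 7, 1, 7, 1, 7, 9, 7, 1],
  [9, 5, 1, 5, 9, 5, 9, 2, 1, 2, 9, 5],
  [3, 7, 5, 8, 5, 4, 8, 7, 3, 1, 7, 1],
  [5, 1, 8, 7, 8, 1, 5, 1, 8, 7, 8, 1],
  [5, 8, 5, 8, 7, 4, 8, 7, 8, 4, 7, 4],
  [7, 8, 7, 1, 8, 1, 7, 8, 7, 1, 8, 1],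
  [7, 8, 7, 5, 8, 5, 7, 8, 7, 5, 8, 5],
  [8, 7, 1, 2, 1, 7, 8, 7, 1, 2, 1, 7],
  [7, 8, 7, 4, 8, 4, 7, 8, 7, 4, 8, 4],
  [2, 4, 2, 9, 2, 8, 9, 1, 8, 4, 2, 1],
  [9, 2, 3, 8, 3, 2, 9, 2, 3, 8, 3, 2],
  [8, 5, 9, 5, 8, 5, 4, 8, 9, 8, 4, 5],
  [2, 8, 1, 4, 2, 9, 8, 4, 2, 9, 2, 1],
  [5, 8, 9, 2, 5, 1, 5, 8, 9, 5, 2, 1],
  [9, 8, 4, 9, 8, 4, 9, 8, 9, 4, 8, 4],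
  [8, 3, 1, 3, 9, 2, 8, 9, 3, 1, 3, 2],
  [8, 5, 1, 5, 9, 2, 8, 9, 5, 1, 5, 2],
  [9, 2, 6, 8, 6, 2, 9, 2, 6, 8, 6, 2],
  [8, 6, 8, 6, 8, 9, 8, 6, 8, 6, 8, 9],
  [6, 8, 9, 2, 8, 6, 8, 2, 9, 8, 6, 2],
  [9, 7, 5, 8, 5, 7, 8, 9, 8, 5, 8, 5],
  [9, 5, 8, 7, 9, 2, 9, 7, 8, 5, 9, 2],
  [9, 8, 5, 7, 9, 2, 9, 7, 5, 8, 9, 2],
  [1, 5, 6, 2, 4, 5, 1, 5, 4, 2, 6, 1, 5],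
  [1, 2, 4, 2, 1, 4, 6, 9, 2, 4, 2, 9, 6],
  [1, 2, 9, 2, 1, 4, 6, 9, 2, 9, 2, 6, 4],
  [1, 2, 1, 4, 5, 6, 8, 6, 8, 6, 8, 5, 4],
  [1, 2, 5, 1, 6, 8, 5, 1, 5, 8, 6, 5, 2],
  [5, 8, 1, 6, 8, 4, 6, 8, 6, 8, 1, 5, 8],
  [1, 2, 4, 7, 1, 8, 1, 8, 7, 8, 4, 1, 8],
  [1, 3, 1, 3, 8, 7, 1, 7, 2, 1, 7, 8, 4],
  [1, 3, 2, 8, 4, 2, 7, 4, 8, 2, 3, 1, 7],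
  [2, 5, 8, 7, 8, 5, 8, 7, 8, 5, 8, 7, 8],
  [1, 4, 2, 1, 2, 4, 6, 9, 2, 1, 2, 9, 6],
  [2, 9, 8, 6, 8, 6, 5, 8, 5, 9, 6, 2, 4],
  [2, 1, 2, 4, 7, 9, 2, 8, 9, 7, 1, 8, 4],
  [2, 3, 1, 2, 3, 1, 3, 2, 1, 5, 3, 5, 2, 1],
  [3, 2, 3, 6, 5, 3, 6, 2, 3, 2, 6, 5, 6, 2],
  [6, 5, 4, 2, 3, 4, 5, 6, 5, 4, 3, 2, 4, 5],
  [5, 4, 7, 4, 2, 3, 5, 4, 7, 4, 5, 3, 5, 2],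
  [5, 3, 5, 7, 1, 4, 7, 5, 3, 5, 2, 4, 1, 2],
  [3, 1, 2, 9, 2, 1, 3, 1, 3, 2, 9, 2, 3, 1],
  [3, 1, 3, 2, 5, 3, 8, 5, 1, 5, 8, 5, 3, 2],
  [3, 2, 3, 4, 8, 1, 8, 4, 5, 3, 5, 2, 3, 1],
  [3, 4, 8, 4, 8, 3, 2, 3, 8, 4, 8, 4, 3, 2],
  [3, 8, 5, 8, 3, 2, 5, 3, 8, 5, 8, 3, 5, 2],
  [8, 1, 3, 1, 8, 3, 5, 4, 1, 8, 4, 1, 5, 3],
  [2, 1, 3, 4, 8, 5, 4, 8, 5, 4, 3, 5, 2, 1],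
  [6, 7, 6, 2, 1, 4, 2, 6, 7, 6, 2, 4, 1, 2],
  [3, 2, 1, 4, 2, 7, 1, 3, 1, 7, 2, 4, 1, 2],
  [4, 6, 5, 1, 9, 2, 1, 9, 5, 6, 4, 2, 9, 2],
  [2, 5, 3, 8, 5, 3, 1, 4, 3, 8, 4, 3, 2, 1],
  [4, 5, 3, 1, 8, 1, 3, 5, 4, 3, 1, 8, 1, 3],
  [4, 5, 3, 8, 3, 5, 3, 8, 1, 8, 4, 1, 8, 3],
  [4, 8, 3, 2, 1, 2, 8, 4, 3, 1, 5, 8, 5, 3],
  [6, 8, 6, 5, 6, 8, 1, 8, 6, 8, 5, 6, 8, 4],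
  [5, 1, 9, 7, 1, 5, 9, 5, 9, 5, 1, 7, 9, 1],
  [5, 7, 9, 2, 5, 7, 9, 5, 7, 9, 5, 7, 9, 2],
  [7, 1, 7, 5, 9, 5, 9, 7, 1, 7, 9, 5, 9, 5],
  [7, 1, 5, 7, 1, 7, 1, 7, 1, 7, 1, 7, 5, 1],
  [2, 5, 1, 7, 4, 5, 8, 4, 1, 8, 5, 4, 7, 1],
  [2, 7, 8, 7, 8, 1, 4, 8, 7, 8, 7, 2, 4, 1],
  [3, 1, 2, 4, 2, 1, 8, 7, 4, 8, 3, 1, 7, 1],
  [3, 1, 3, 4, 7, 8, 1, 8, 7, 2, 1, 7, 1, 2],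
  [3, 1, 7, 8, 7, 1, 3, 8, 2, 1, 3, 1, 8, 2],
  [3, 1, 8, 3, 1, 7, 4, 8, 4, 7, 1, 3, 8, 1],
  [3, 1, 8, 5, 7, 1, 3, 8, 3, 1, 7, 5, 8, 1],
  [3, 5, 7, 5, 8, 3, 2, 7, 3, 8, 5, 7, 3, 2],
  [3, 7, 1, 4, 8, 3, 2, 7, 3, 8, 4, 1, 3, 2],
  [4, 2, 1, 5, 8, 5, 4, 7, 5, 8, 5, 7, 1, 2],
  [4, 2, 1, 7, 8, 4, 8, 7, 8, 4, 8, 7, 1, 2],
  [3, 5, 4, 9, 5, 3, 8, 5, 8, 9, 2, 4, 5, 2],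
  [3, 5, 8, 3, 9, 5, 3, 1, 5, 9, 8, 5, 3, 1],
  [5, 4, 8, 4, 5, 3, 8, 9, 5, 3, 5, 9, 8, 3],
  [5, 9, 5, 9, 5, 3, 8, 5, 9, 5, 9, 5, 8, 3],
  [9, 8, 5, 1, 2, 4, 8, 1, 8, 4, 5, 9, 8, 2],
  [8, 3, 1, 2, 8, 9, 2, 8, 1, 3, 8, 2, 9, 2],
  [4, 7, 1, 6, 9, 7, 1, 4, 7, 9, 6, 4, 7, 1],
  [2, 3, 1, 3, 8, 1, 9, 8, 3, 1, 3, 2, 9, 1],
  [2, 3, 2, 1, 2, 8, 3, 1, 8, 1, 3, 8, 2, 1],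
  [2, 8, 3, 1, 4, 8, 4, 5, 8, 5, 3, 8, 2, 1],
  [3, 8, 1, 8, 3, 1, 2, 1, 3, 8, 1, 8, 3, 2],
  [5, 8, 5, 9, 2, 1, 8, 9, 5, 8, 5, 1, 8, 2],
  [9, 2, 3, 2, 9, 2, 8, 9, 3, 8, 9, 3, 8, 2],
  [9, 2, 9, 5, 6, 2, 4, 8, 2, 9, 4, 8, 6, 5],
  [9, 8, 3, 1, 3, 4, 8, 9, 2, 4, 3, 1, 3, 2],
  [9, 8, 9, 5, 1, 4, 5, 9, 8, 9, 5, 4, 1, 5],
  [8, 1, 3, 1, 8, 4, 5, 1, 3, 8, 3, 1, 5, 4],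
  [8, 3, 1, 3, 8, 9, 2, 8, 9, 8, 3, 1, 3, 2],
  [8, 5, 4, 6, 8, 1, 6, 2, 4, 2, 1, 8, 6, 5],
  [8, 5, 8, 4, 9, 8, 4, 6, 8, 6, 8, 9, 6, 5],
  [8, 6, 9, 2, 8, 4, 2, 8, 9, 6, 8, 2, 4, 2],
  [2, 8, 4, 7, 8, 7, 1, 8, 2, 4, 7, 8, 7, 1],
  [3, 7, 1, 7, 5, 1, 3, 7, 1, 8, 5, 4, 8, 1],
  [3, 8, 3, 1, 3, 7, 5, 1, 8, 1, 5, 7, 3, 1],
  [3, 8, 9, 8, 1, 3, 1, 3, 8, 9, 8, 1, 3, 1],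
  [4, 5, 8, 5, 7, 8, 5, 4, 2, 4, 5, 7, 4, 2],
  [4, 7, 1, 7, 5, 1, 7, 8, 1, 8, 5, 3, 1, 3],
  [4, 7, 5, 1, 7, 8, 7, 1, 5, 7, 4, 1, 8, 1],
  [4, 7, 5, 3, 5, 8, 3, 5, 3, 5, 7, 4, 8, 3],
  [4, 9, 2, 5, 1, 8, 1, 5, 9, 4, 5, 8, 5, 2],
  [4, 8, 1, 5, 7, 4, 8, 4, 7, 5, 8, 4, 8, 1],
  [4, 8, 7, 8, 3, 1, 3, 4, 8, 7, 8, 3, 1, 3],
  [5, 1, 8, 5, 4, 2, 4, 5, 8, 1, 5, 4, 2, 4],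
  [5, 1, 8, 7, 1, 2, 8, 5, 8, 1, 7, 8, 2, 1],
  [5, 4, 7, 8, 7, 4, 2, 4, 7, 8, 7, 4, 5, 2],
  [5, 7, 8, 5, 8, 7, 5, 1, 8, 1, 7, 1, 8, 1],
  [5, 7, 8, 7, 8, 5, 1, 7, 8, 4, 8, 4, 7, 1],
  [5, 8, 1, 5, 4, 8, 1, 8, 4, 5, 1, 8, 5, 1],
  [9, 8, 9, 5, 4, 2, 4, 9, 8, 9, 5, 4, 2, 4],
  [8, 1, 3, 4, 8, 3, 9, 7, 4, 1, 7, 9, 8, 3],
  [8, 4, 8, 5, 7, 5, 4, 8, 4, 8, 5, 7, 5, 4],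
  [1, 2, 4, 2, 5, 1, 2, 4, 5, 2, 1, 2, 4, 5, 2],
  [1, 2, 1, 2, 3, 1, 3, 6, 2, 1, 2, 6, 3, 1, 3],
  [1, 3, 2, 6, 5, 6, 2, 4, 2, 6, 5, 6, 2, 4, 3],
  [1, 4, 7, 5, 1, 5, 7, 4, 5, 7, 1, 7, 4, 5, 7],
  [3, 2, 4, 2, 8, 3, 4, 5, 4, 3, 8, 2, 4, 3, 5],
  [1, 2, 1, 7, 4, 5, 6, 2, 4, 1, 2, 6, 5, 4, 7],
  [1, 5, 7, 1, 5, 7, 1, 5, 7, 5, 1, 5, 7, 1, 7],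
  [1, 4, 6, 5, 9, 5, 1, 5, 9, 5, 6, 4, 2, 1, 2],
  [5, 6, 9, 5, 6, 9, 5, 6, 9, 5, 9, 6, 5, 9, 6],
  [1, 2, 1, 5, 8, 4, 6, 8, 1, 8, 6, 4, 8, 5, 2],
  [1, 2, 5, 4, 6, 8, 6, 5, 1, 8, 5, 6, 8, 5, 2],
  [1, 2, 5, 6, 5, 4, 8, 1, 8, 4, 5, 6, 1, 5, 2],
  [1, 3, 4, 5, 4, 8, 1, 8, 5, 1, 3, 8, 4, 5, 8],
  [1, 3, 8, 3, 1, 3, 6, 2, 3, 1, 3, 2, 6, 8, 3],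
  [1, 3, 8, 5, 1, 4, 8, 3, 5, 8, 4, 1, 5, 8, 4],
  [1, 8, 1, 3, 1, 3, 6, 8, 1, 8, 6, 3, 1, 3, 8],
  [1, 2, 9, 7, 1, 2, 7, 1, 7, 9, 2, 4, 3, 1, 3],
  [1, 3, 2, 1, 9, 5, 1, 2, 9, 2, 9, 3, 1, 5, 9],
  [1, 3, 5, 4, 9, 5, 7, 1, 5, 7, 1, 7, 9, 3, 5],
  [1, 7, 5, 9, 7, 1, 7, 5, 9, 7, 1, 7, 5, 9, 7],
  [5, 1, 7, 5, 3, 4, 9, 5, 1, 3, 5, 9, 7, 1, 7],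
  [1, 4, 5, 1, 2, 8, 5, 4, 9, 5, 8, 2, 1, 5, 9],
  [2, 3, 9, 2, 3, 9, 2, 5, 3, 8, 9, 8, 9, 3, 5],
  [2, 5, 9, 5, 9, 8, 9, 5, 4, 2, 9, 2, 4, 5, 8],
  [2, 9, 5, 4, 2, 8, 9, 2, 8, 4, 8, 9, 8, 5, 9],
  [3, 1, 4, 8, 5, 1, 5, 3, 4, 5, 3, 8, 1, 3, 5],
  [1, 2, 1, 2, 3, 5, 6, 2, 3, 1, 3, 2, 6, 3, 5],
  [1, 2, 1, 9, 7, 6, 2, 9, 2, 6, 1, 2, 1, 7, 9],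
  [1, 4, 5, 7, 5, 1, 4, 5, 7, 5, 4, 1, 5, 7, 5],
  [1, 7, 4, 5, 1, 7, 5, 3, 2, 4, 2, 3, 5, 1, 5],
  [1, 7, 5, 4, 7, 1, 5, 7, 1, 5, 4, 7, 5, 4, 7],
  [2, 1, 2, 6, 5, 1, 3, 2, 3, 1, 3, 5, 2, 6, 3],
  [2, 6, 7, 1, 3, 1, 4, 5, 3, 5, 4, 7, 6, 2, 3],
  [1, 2, 1, 8, 4, 5, 1, 2, 4, 2, 1, 5, 4, 8, 5],
  [1, 2, 4, 5, 8, 4, 5, 1, 5, 4, 8, 1, 5, 4, 2],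
  [1, 2, 4, 8, 1, 6, 5, 1, 8, 1, 5, 6, 8, 6, 2],
  [1, 2, 5, 8, 1, 5, 8, 4, 5, 8, 1, 5, 8, 4, 2],
  [1, 2, 5, 8, 4, 9, 5, 1, 5, 4, 8, 2, 9, 1, 5],
  [3, 2, 4, 2, 3, 2, 6, 2, 3, 2, 4, 2, 3, 2, 6, 2],
  [2, 1, 2, 3, 1, 3, 4, 2, 1, 7, 2, 1, 7, 1, 7, 1],
  [2, 1, 2, 5, 7, 1, 2, 1, 5, 7, 5, 1, 2, 1, 7, 1],
  [2, 1, 3, 7, 1, 2, 1, 4, 2, 1, 7, 3, 1, 2, 4, 1],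
  [2, 1, 4, 2, 1, 3, 7, 4, 2, 4, 1, 2, 4, 7, 3, 1],
  [2, 1, 4, 2, 3, 1, 7, 1, 3, 2, 4, 1, 2, 1, 7, 1],
  [2, 1, 7, 1, 4, 5, 7, 4, 2, 4, 7, 5, 4, 1, 7, 1],
  [2, 3, 2, 1, 2, 7, 1, 4, 7, 2, 1, 2, 3, 2, 4, 1],
  [2, 3, 5, 7, 1, 2, 4, 2, 1, 7, 5, 3, 2, 1, 7, 1],
  [3, 1, 3, 7, 1, 3, 1, 4, 7, 4, 1, 3, 1, 7, 4, 1],
  [3, 1, 4, 2, 5, 7, 1, 2, 7, 4, 1, 3, 5, 4, 7, 1],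
  [5, 3, 5, 4, 2, 3, 2, 4, 5, 3, 5, 4, 2, 3, 2, 4],
  [2, 3, 1, 3, 4, 9, 2, 1, 2, 9, 4, 3, 1, 3, 2, 1],
  [2, 3, 1, 9, 2, 3, 1, 9, 2, 9, 3, 1, 2, 9, 3, 1],
  [3, 1, 2, 4, 5, 3, 9, 5, 3, 5, 9, 5, 4, 2, 3, 1],
  [3, 2, 9, 2, 3, 2, 9, 2, 3, 2, 9, 2, 3, 2, 9, 2],
  [4, 5, 9, 5, 1, 4, 2, 1, 4, 5, 9, 5, 4, 1, 2, 1],
  [9, 2, 3, 2, 9, 5, 3, 5, 9, 2, 3, 2, 9, 5, 3, 5],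
  [9, 5, 4, 2, 3, 5, 9, 5, 9, 5, 9, 5, 3, 2, 4, 5],
  [2, 1, 4, 8, 1, 3, 1, 8, 4, 5, 3, 8, 5, 3, 2, 1],
  [2, 3, 4, 8, 5, 8, 3, 5, 3, 8, 4, 1, 8, 3, 2, 1],
  [2, 1, 7, 4, 6, 2, 1, 3, 4, 1, 3, 2, 6, 4, 7, 1],
  [2, 3, 1, 2, 1, 3, 4, 5, 3, 5, 4, 2, 1, 3, 2, 1],
  [2, 7, 6, 5, 7, 4, 2, 4, 7, 5, 6, 7, 2, 1, 7, 1],
  [3, 1, 2, 5, 3, 7, 4, 5, 4, 7, 3, 5, 2, 4, 3, 1],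
  [3, 1, 2, 7, 4, 5, 1, 2, 3, 2, 1, 5, 4, 7, 2, 1],
  [3, 1, 7, 1, 3, 7, 4, 2, 4, 7, 3, 1, 7, 1, 3, 2],
  [3, 2, 5, 7, 1, 2, 7, 5, 3, 5, 7, 2, 1, 7, 5, 2],
  [3, 7, 1, 3, 7, 1, 7, 1, 7, 3, 1, 7, 3, 1, 7, 1],
  [3, 7, 1, 4, 5, 1, 2, 4, 2, 3, 1, 7, 4, 5, 7, 1],
  [3, 7, 4, 2, 3, 1, 7, 1, 7, 1, 3, 2, 4, 7, 3, 1],
  [4, 2, 3, 1, 2, 3, 5, 1, 3, 2, 1, 3, 5, 2, 4, 1],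
  [4, 2, 3, 2, 4, 5, 1, 2, 7, 1, 5, 3, 1, 7, 2, 1],
  [4, 2, 5, 3, 1, 4, 5, 3, 5, 4, 1, 2, 3, 5, 4, 3],
  [4, 2, 6, 5, 7, 5, 6, 2, 4, 2, 6, 5, 7, 5, 6, 2],
  [2, 1, 5, 4, 2, 4, 6, 9, 2, 4, 1, 2, 9, 6, 5, 1],
  [2, 3, 5, 9, 5, 3, 2, 1, 2, 3, 5, 9, 5, 3, 2, 1],
  [2, 5, 4, 6, 2, 9, 5, 1, 5, 9, 2, 6, 4, 5, 2, 1],
  [2, 9, 5, 6, 5, 9, 2, 1, 2, 9, 5, 6, 5, 9, 2, 1],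
  [3, 2, 5, 9, 2, 3, 5, 1, 3, 5, 2, 9, 2, 3, 5, 1],
  [3, 4, 9, 2, 3, 1, 3, 2, 5, 3, 5, 9, 4, 2, 1, 2],
  [3, 5, 9, 5, 3, 5, 9, 2, 5, 9, 5, 3, 5, 9, 3, 2],
  [5, 1, 5, 3, 9, 5, 3, 4, 2, 1, 2, 4, 3, 5, 9, 3],
  [6, 9, 2, 6, 9, 2, 1, 2, 9, 6, 2, 9, 6, 2, 1, 2],
  [9, 2, 1, 4, 9, 2, 1, 4, 9, 2, 9, 4, 1, 2, 4, 1],
  [9, 2, 9, 5, 4, 2, 1, 6, 2, 9, 2, 6, 1, 2, 4, 5],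
  [9, 5, 1, 3, 5, 9, 5, 1, 9, 2, 1, 2, 9, 3, 1, 5],
  [9, 5, 3, 1, 4, 2, 9, 5, 9, 5, 9, 1, 2, 4, 3, 5],
  [2, 1, 7, 9, 7, 1, 4, 2, 9, 2, 4, 2, 1, 7, 9, 1],
  [2, 3, 1, 3, 4, 7, 9, 2, 1, 2, 9, 7, 2, 1, 7, 1],
  [3, 1, 7, 9, 5, 9, 7, 1, 3, 1, 7, 9, 5, 9, 7, 1],
  [3, 2, 9, 2, 1, 4, 7, 1, 7, 1, 7, 2, 9, 2, 3, 1],
  [3, 4, 9, 5, 3, 1, 2, 1, 3, 5, 3, 1, 2, 9, 4, 1],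
  [3, 5, 1, 4, 2, 4, 5, 1, 5, 4, 2, 4, 3, 1, 5, 1],
  [3, 5, 3, 9, 5, 7, 9, 2, 9, 7, 5, 9, 3, 5, 3, 2],
  [3, 5, 4, 2, 3, 4, 5, 1, 5, 4, 3, 2, 4, 5, 3, 1],
  [4, 7, 4, 2, 5, 1, 4, 5, 3, 5, 1, 7, 4, 5, 3, 2]]
/-- The subgroup generators. -/
def S : List (List ℕ) := [[1],
  [2],
  [3],
  [4],
  [5],
  [6],
  [7],
  [8]]
def Wr : List (List ℕ) := [[9, 9],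
  [1, 9, 1, 9],
  [2, 2],
  [3, 9, 3, 9],
  [4, 9, 4, 9],
  [5, 5],
  [6, 9, 6, 9],
  [7, 7],
  [8, 4, 2, 1, 2, 4, 2, 9, 2, 8, 9, 1],
  [1, 2, 9, 8, 1, 8, 9, 2],
  [3, 3],
  [4, 2, 1, 9, 8, 4, 8, 9, 1, 2],
  [6, 6],
  [8, 8],
  [1, 5, 9, 5, 8, 1, 8, 5, 9, 5],
  [3, 1, 5, 9, 8, 5, 3, 1, 3, 5, 8, 3, 9, 5],
  [4, 4],
  [1, 1],
  [3, 7, 3, 7],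
  [8, 9, 7, 9, 8, 7, 9, 7],
  [9, 7, 9, 7, 9, 7],
  [1, 8, 3, 2, 8, 1, 2, 5, 3, 5, 8, 3],
  [4, 3, 4, 3],
  [8, 3, 8, 3, 8, 3],
  [1, 2, 1, 5, 1, 2, 1, 5],
  [2, 5, 2, 5],
  [8, 5, 9, 5, 8, 5, 4, 8, 9, 8, 4, 5],
  [1, 6, 1, 6],
  [2, 6, 2, 6, 2, 6],
  [4, 6, 4, 6],
  [5, 1, 9, 2, 1, 9, 5, 6, 4, 2, 9, 2, 4, 6],
  [7, 9, 1, 2, 1, 9, 7, 6, 2, 9, 2, 6, 1, 2, 1],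
  [8, 6, 2, 9, 2, 6, 8, 6, 2, 9, 2, 6],
  [9, 2, 9, 2, 6, 4, 1, 2, 9, 2, 1, 4, 6],
  [2, 7, 2, 7],
  [6, 7, 6, 7, 6, 7],
  [8, 7, 8, 7, 8, 7, 8, 7],
  [1, 4, 1, 4],
  [2, 4, 5, 4, 2, 4, 8, 5, 8, 2, 4],
  [3, 4, 3, 4],
  [5, 4, 5, 4, 5, 4],
  [3, 6, 3, 6],
  [8, 7, 3, 8, 2, 3, 2, 8, 3, 7],
  [9, 7, 9, 8, 7, 9, 7, 8],
  [7, 1, 5, 9, 5, 9, 5, 1, 7, 9, 1, 5, 1, 9],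
  [2, 4, 7, 1, 8, 1, 8, 7, 8, 4, 1, 8, 1],
  [3, 1, 7, 2, 4, 1, 2, 3, 2, 1, 4, 2, 7, 1],
  [4, 7, 3, 2, 4, 3, 1, 3, 2, 3, 7, 1],
  [7, 4, 7, 1, 7, 1, 4, 7, 4, 1, 7, 1],
  [9, 1, 9, 1],
  [1, 3, 2, 3, 1, 2, 1, 3, 2, 3, 1, 2],
  [3, 2, 3, 2, 3, 2, 3, 2],
  [4, 1, 3, 2, 6, 4, 7, 1, 2, 1, 7, 4, 6, 2, 1, 3],
  [6, 4, 1, 2, 9, 2, 1, 4, 6, 9, 2, 9, 2],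
  [8, 2, 8, 2],
  [1, 5, 8, 5, 3, 2, 3, 1, 3, 2, 5, 3, 8, 5],
  [3, 2, 3, 5, 3, 2, 3, 5],
  [8, 3, 1, 8, 3, 2, 8, 1, 2, 5, 3, 5],
  [2, 9, 3, 1, 2, 3, 1, 9, 2, 3, 1, 9, 2, 9, 3, 1],
  [5, 3, 5, 6, 5, 3, 5, 6],
  [7, 5, 3, 5, 7, 6, 2, 3, 2, 3, 6],
  [9, 8, 5, 3, 1, 3, 5, 8, 3, 9, 5, 3, 1, 5],
  [2, 4, 2, 4, 2, 4, 2, 4],
  [8, 4, 5, 8, 1, 3, 8, 1, 8, 5, 3, 4],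
  [5, 6, 5, 6, 5, 6, 5, 6],
  [2, 9, 5, 9, 2, 9, 2, 5, 9],
  [8, 9, 8, 5, 8, 9, 8, 9, 2, 5, 9],
  [2, 1, 2, 1, 2, 1, 2, 1],
  [6, 1, 6, 1],
  [8, 9, 2, 1, 2, 9, 8, 1],
  [3, 5, 7, 6, 2, 3, 2, 3, 6, 7, 5],
  [8, 5, 7, 3, 1, 7, 1, 3, 7, 8, 4, 5],
  [5, 6, 2, 4, 2, 6, 5, 6, 2, 4, 3, 1, 3, 2, 6],
  [5, 9, 5, 9, 3, 4, 5, 9, 5, 3, 4, 9],
  [8, 4, 8, 9, 1, 2, 4, 2, 1, 9],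
  [1, 2, 6, 5, 6, 2, 1, 2, 6, 5, 6, 2],
  [4, 2, 4, 6, 8, 4, 8, 6, 2],
  [9, 2, 4, 2, 9, 6, 1, 2, 4, 2, 1, 4, 6],
  [1, 5, 6, 5, 1, 5, 6, 5],
  [2, 1, 5, 1, 2, 1, 5, 1],
  [3, 5, 6, 5, 3, 5, 6, 5],
  [4, 5, 4, 5, 4, 5],
  [6, 5, 6, 5, 6, 5, 6, 5],
  [9, 5, 6, 5, 9, 5, 6, 5, 9, 5, 6, 5],
  [1, 8, 5, 9, 5, 1, 5, 9, 5, 8],
  [6, 8, 6, 8, 5, 4, 1, 2, 1, 4, 5, 6, 8],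
  [2, 5, 1, 7, 4, 5, 8, 4, 1, 8, 5, 4, 7, 1],
  [5, 1, 7, 1, 5, 1, 7, 1],
  [8, 1, 8, 7, 8, 4, 1, 8, 1, 2, 4, 7, 1],
  [2, 4, 7, 1, 8, 4, 8, 1, 4, 7, 4],
  [5, 4, 1, 5, 1, 4, 5, 1, 4],
  [7, 5, 7, 5, 7, 5],
  [8, 5, 7, 8, 9, 8, 5, 8, 5, 9, 7, 5],
  [9, 5, 8, 1, 8, 5, 9, 5, 1, 5],
  [3, 1, 5, 1, 3, 1, 5, 1],
  [7, 1, 5, 1, 7, 1, 5, 1],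
  [9, 3, 9, 3],
  [3, 5, 7, 1, 5, 4, 7, 1, 5, 1, 5, 3, 2, 4, 2],
  [7, 4, 7, 4, 7, 4],
  [7, 9, 7, 9, 7, 9],
  [8, 7, 9, 7, 8, 9, 7, 9],
  [8, 5, 8, 1, 6, 8, 4, 6, 8, 6, 8, 1, 5],
  [5, 3, 5, 7, 6, 2, 3, 2, 3, 6, 7],
  [9, 2, 7, 9, 7, 2, 9, 2, 7],
  [2, 9, 2, 9, 2, 9, 2, 9],
  [5, 9, 2, 9, 2, 5, 9, 2, 9],
  [2, 1, 3, 2, 3, 1, 2, 1, 3, 2, 3, 1],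
  [3, 4, 2, 3, 7, 4, 1, 7, 3, 2, 3, 1],
  [8, 3, 2, 8, 1, 2, 5, 3, 5, 8, 3, 1],
  [8, 5, 8, 5, 8, 5, 8, 5],
  [5, 4, 2, 4, 5, 6, 5, 4, 2, 4, 5, 6],
  [5, 7, 9, 5, 7, 9, 5, 7, 9, 2, 5, 7, 9, 2],
  [9, 7, 8, 9, 7, 9, 8, 7],
  [2, 7, 9, 7, 2, 9, 2, 7, 9],
  [5, 8, 9, 8, 9, 2, 5, 9, 8, 9, 8],
  [8, 9, 8, 9, 8, 9, 8, 9],
  [4, 2, 4, 2, 4, 2, 4, 2],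
  [5, 2, 5, 2],
  [6, 2, 6, 2, 6, 2],
  [1, 8, 5, 6, 5, 8, 1, 8, 5, 6, 5, 8],
  [4, 8, 6, 2, 4, 2, 4, 6, 8],
  [9, 8, 2, 9, 2, 4, 2, 1, 2, 4, 8, 1],
  [5, 1, 2, 1, 5, 1, 2, 1],
  [8, 1, 2, 1, 8, 1, 2, 1],
  [8, 4, 1, 8, 5, 4, 7, 1, 2, 5, 1, 7, 4, 5],
  [3, 4, 9, 5, 9, 5, 9, 3, 4, 5, 9, 5],
  [6, 5, 1, 5, 6, 5, 1, 5],
  [8, 5, 8, 4, 8, 5, 8, 4, 5, 4],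
  [9, 2, 9, 5, 9, 2, 9, 2, 5],
  [8, 1, 8, 5, 8, 1, 8, 1, 2, 5, 1, 2],
  [9, 2, 4, 2, 4, 9, 7, 4, 2, 4, 7],
  [7, 6, 7, 6, 7, 6],
  [8, 9, 2, 9, 8, 9, 2, 9],
  [1, 4, 2, 1, 4, 2, 4, 1, 2, 4, 1, 2],
  [3, 2, 3, 6, 7, 5, 3, 5, 7, 6, 2],
  [9, 5, 4, 2, 4, 5, 9, 5, 4, 2, 4, 5],
  [1, 8, 5, 3, 4, 8, 4, 5, 8, 1, 3, 8],
  [5, 8, 2, 4, 2, 4, 5, 4, 2, 4, 8],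
  [9, 1, 8, 4, 2, 1, 2, 4, 2, 9, 2, 8],
  [2, 9, 8, 1, 8, 9, 2, 1],
  [7, 1, 7, 9, 7, 1, 7, 1, 7, 9, 7, 1],
  [9, 4, 9, 4],
  [9, 6, 9, 6],
  [1, 3, 2, 1, 5, 3, 5, 2, 1, 2, 3, 1, 2, 3],
  [1, 2, 1, 8, 1, 2, 1, 8],
  [2, 8, 2, 8],
  [5, 8, 4, 8, 5, 8, 4, 5, 4, 8],
  [1, 8, 9, 2, 1, 2, 9, 8],
  [4, 2, 4, 8, 4, 2, 4, 8],
  [1, 3, 2, 1, 8, 3, 1, 3, 8, 1, 2, 3],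
  [2, 1, 4, 5, 6, 8, 6, 8, 6, 8, 5, 4, 1],
  [6, 3, 6, 3],
  [5, 9, 2, 9, 5, 9, 2, 9, 2],
  [6, 8, 6, 8, 9, 8, 6, 8, 6, 8, 9, 8],
  [2, 3, 5, 3, 2, 3, 5, 3],
  [4, 5, 9, 5, 3, 4, 9, 5, 9, 5, 9, 3],
  [7, 3, 7, 3],
  [8, 3, 7, 8, 7, 3, 8, 2, 3, 2],
  [2, 1, 9, 8, 4, 8, 9, 1, 2, 4],
  [4, 1, 4, 1],
  [5, 1, 5, 1, 5, 1, 5, 1],
  [6, 1, 5, 1, 5, 6, 2, 4, 5, 1, 5, 4, 2],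
  [1, 8, 6, 3, 1, 3, 1, 8, 1, 8, 3, 1, 3, 6, 8],
  [8, 1, 4, 7, 4, 2, 4, 7, 1, 8, 4],
  [2, 1, 2, 9, 8, 1, 8, 9],
  [5, 1, 5, 2, 9, 5, 2, 1, 2, 5, 9, 2],
  [3, 1, 3, 1, 3, 1, 3, 1],
  [7, 3, 2, 3, 1, 3, 4, 2, 3, 7, 4, 1],
  [9, 2, 4, 6, 5, 1, 9, 2, 1, 9, 5, 6, 4, 2],
  [1, 8, 6, 8, 5, 6, 8, 4, 6, 8, 6, 5, 6, 8],
  [9, 8, 1, 3, 1, 3, 8, 9, 8, 1, 3, 1, 3, 8],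
  [8, 4, 2, 4, 8, 4, 2, 4],
  [2, 3, 2, 6, 5, 6, 2, 3, 2, 3, 6, 5, 3, 6],
  [1, 4, 7, 3, 2, 4, 3, 1, 3, 2, 3, 7],
  [5, 7, 5, 7, 5, 7],
  [5, 9, 8, 9, 8, 5, 8, 9, 8, 9, 2],
  [4, 5, 1, 4, 5, 4, 1, 5, 1],
  [6, 7, 4, 2, 4, 7, 6, 1, 2, 4, 2, 1],
  [5, 3, 4, 9, 5, 9, 5, 9, 3, 4, 5, 9],
  [3, 2, 6, 7, 5, 3, 5, 7, 6, 3, 2],
  [9, 3, 2, 9, 3, 2, 5, 3, 9, 8, 9, 8, 3, 5, 2],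
  [9, 2, 9, 2, 5, 9, 2, 9, 5],
  [4, 8, 4, 8, 4, 8, 4, 8],
  [5, 8, 5, 8, 5, 8, 5, 8],
  [6, 2, 4, 2, 4, 6, 8, 4, 8],
  [9, 1, 2, 4, 2, 1, 9, 8, 4, 8],
  [5, 1, 3, 1, 5, 1, 3, 1],
  [8, 1, 8, 1, 8, 1, 8, 1],
  [5, 6, 7, 6, 5, 6, 7, 6, 5, 6, 7, 6],
  [9, 2, 9, 2, 9, 2, 9, 2],
  [9, 8, 9, 8, 9, 8, 9, 8],
  [9, 2, 6, 4, 1, 2, 9, 2, 1, 4, 6, 9, 2],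
  [2, 4, 8, 4, 2, 4, 8, 4],
  [8, 4, 8, 4, 8, 4, 8, 4],
  [2, 9, 8, 9, 2, 9, 8, 9],
  [5, 8, 1, 8, 5, 9, 5, 1, 5, 9],
  [7, 8, 9, 7, 9, 8, 7, 9],
  [8, 1, 8, 9, 2, 1, 2, 9],
  [7, 2, 7, 2],
  [9, 2, 6, 8, 6, 2, 9, 2, 6, 8, 6, 2],
  [1, 8, 6, 8, 6, 8, 1, 8, 6, 8, 6, 8],
  [5, 4, 8, 5, 8, 4, 8, 5, 8, 4],
  [3, 5, 1, 5, 3, 5, 3, 1, 3, 5],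
  [5, 3, 4, 8, 4, 5, 8, 1, 3, 8, 1, 8],
  [7, 9, 7, 2, 9, 2, 7, 9, 2],
  [7, 8, 7, 8, 7, 8, 7, 8],
  [7, 1, 2, 3, 1, 3, 4, 7, 8, 1, 8, 7, 2, 1],
  [5, 7, 4, 2, 4, 7, 5, 4, 1, 7, 1, 2, 1, 7, 1, 4],
  [1, 3, 1, 2, 3, 2, 1, 3, 1, 2, 3, 2],
  [2, 3, 2, 3, 2, 3, 2, 3],
  [5, 1, 4, 5, 3, 5, 1, 4, 5, 3],
  [8, 6, 2, 8, 6, 8, 2, 6, 8, 2, 6, 2],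
  [5, 8, 3, 5, 9, 5, 9, 5, 3, 8, 5, 9, 5, 9],
  [2, 7, 1, 7, 8, 3, 1, 3, 1, 4, 8, 7, 1],
  [7, 1, 3, 7, 5, 8, 5, 4, 8, 7, 3, 1],
  [2, 4, 7, 9, 2, 4, 2, 4, 9, 7, 4],
  [1, 2, 1, 2, 1, 2, 1, 2],
  [9, 5, 6, 4, 1, 2, 1, 2, 4, 6, 5, 9, 5, 1, 5],
  [4, 7, 8, 1, 2, 4, 2, 1, 3, 1, 7, 1, 3, 8],
  [7, 6, 1, 7, 1, 6, 7, 6, 1, 7, 6, 1],
  [9, 5, 3, 2, 1, 2, 3, 5, 9, 5, 3, 2, 1, 2, 3, 5],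
  [5, 7, 8, 9, 8, 5, 8, 5, 9, 7, 5, 8],
  [2, 1, 7, 5, 2, 4, 1, 3, 1, 7, 4, 5, 3, 1, 4, 7],
  [5, 9, 7, 5, 9, 7, 5, 2, 9, 7, 5, 2, 9, 7],
  [7, 2, 1, 7, 8, 4, 1, 3, 1, 3, 8, 7, 1],
  [2, 8, 3, 7, 8, 7, 3, 8, 2, 3],
  [2, 1, 8, 1, 4, 8, 7, 8, 1, 8, 1, 7, 4],
  [4, 8, 5, 4, 3, 5, 2, 1, 2, 1, 3, 4, 8, 5],
  [4, 7, 4, 7, 4, 7],
  [7, 9, 2, 7, 9, 7, 2, 9, 2],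
  [9, 7, 8, 5, 9, 2, 9, 5, 8, 7, 9, 2],
  [4, 7, 1, 8, 4, 8, 1, 4, 7, 4, 2],
  [7, 9, 7, 8, 9, 7, 9, 8],
  [8, 5, 4, 7, 1, 2, 5, 1, 7, 4, 5, 8, 4, 1],
  [2, 8, 9, 7, 1, 8, 4, 2, 1, 2, 4, 7, 9],
  [5, 4, 7, 4, 5, 3, 5, 2, 5, 4, 7, 4, 2, 3],
  [9, 2, 1, 4, 6, 9, 2, 9, 2, 6, 4, 1, 2],
  [6, 5, 6, 7, 6, 5, 6, 7, 6, 5, 6, 7],
  [1, 8, 1, 8, 1, 8, 1, 8],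
  [6, 8, 1, 8, 6, 8, 6, 8, 1, 8, 6, 8],
  [1, 2, 4, 6, 9, 2, 1, 2, 9, 6, 1, 4, 2],
  [7, 5, 6, 2, 4, 2, 6, 5, 7, 5, 6, 2, 4, 2, 6, 5],
  [9, 5, 3, 4, 9, 5, 9, 5, 9, 3, 4, 5],
  [1, 5, 1, 3, 1, 5, 1, 3],
  [5, 1, 5, 3, 5, 3, 1, 3, 5, 3],
  [2, 9, 5, 6, 2, 4, 8, 2, 9, 4, 8, 6, 5, 9],
  [5, 8, 1, 6, 8, 4, 6, 8, 6, 8, 1, 5, 8],
  [9, 8, 7, 9, 7, 8, 9, 7],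
  [7, 6, 2, 1, 4, 2, 6, 7, 6, 2, 4, 1, 2, 6],
  [1, 5, 1, 7, 1, 5, 1, 7],
  [1, 6, 7, 1, 6, 7, 6, 1, 7, 1, 6, 7],
  [2, 3, 1, 4, 3, 1, 2, 6, 4, 7, 1, 2, 1, 7, 4, 6],
  [9, 2, 9, 4, 2, 9, 4, 2, 4, 9, 2, 4],
  [3, 5, 3, 5, 3, 5, 3, 5],
  [4, 1, 8, 4, 8, 1, 7, 4, 2, 4, 7],
  [7, 6, 1, 2, 4, 2, 1, 6, 7, 4, 2, 4],
  [1, 2, 3, 1, 3, 4, 7, 8, 1, 8, 7, 2, 1, 7],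
  [2, 4, 5, 6, 5, 4, 2, 4, 5, 6, 5, 4],
  [9, 8, 9, 5, 2, 9, 8, 9, 8, 5, 8],
  [6, 4, 6, 4],
  [7, 8, 1, 2, 4, 2, 1, 3, 1, 7, 1, 3, 8, 4],
  [2, 8, 3, 1, 3, 9, 2, 8, 9, 3, 1, 3],
  [7, 9, 8, 7, 9, 7, 8, 9],
  [1, 2, 9, 6, 1, 4, 2, 1, 2, 4, 6, 9, 2],
  [4, 2, 9, 6, 1, 2, 4, 2, 1, 4, 6, 9, 2],
  [6, 9, 2, 1, 2, 9, 6, 2, 9, 6, 2, 1, 2, 6, 9, 2],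
  [8, 7, 1, 2, 1, 7, 8, 7, 1, 2, 1, 7],
  [5, 8, 4, 2, 4, 5, 4, 2, 4, 2, 8],
  [7, 9, 6, 4, 7, 1, 4, 7, 1, 6, 9, 7, 1, 4],
  [1, 6, 9, 7, 1, 4, 7, 9, 6, 4, 7, 1, 4, 7],
  [4, 6, 9, 7, 4, 1, 7, 9, 6, 1, 7, 4, 1, 7],
  [4, 1, 7, 3, 2, 3, 1, 3, 4, 2, 3, 7],
  [5, 4, 2, 4, 5, 8, 7, 5, 8, 5, 4, 2, 4, 7],
  [8, 7, 4, 2, 8, 1, 7, 8, 7, 4, 8, 2, 1, 7],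
  [7, 6, 1, 7, 1, 6, 7, 1, 6, 7, 1, 6],
  [1, 9, 2, 1, 2, 9, 3, 1, 5, 9, 5, 1, 3, 5, 9, 5],
  [7, 1, 2, 1, 7, 8, 7, 1, 2, 1, 7, 8],
  [6, 1, 2, 4, 2, 1, 4, 6, 9, 2, 4, 2, 9],
  [2, 9, 2, 3, 8, 3, 2, 9, 2, 3, 8, 3],
  [4, 8, 4, 3, 5, 8, 1, 8, 3, 1, 8, 5],
  [6, 8, 4, 6, 8, 6, 8, 1, 5, 8, 5, 8, 1],
  [8, 4, 8, 5, 8, 4, 5, 4, 8, 5],
  [9, 5, 8, 5, 4, 8, 9, 8, 4, 5, 8, 5],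
  [6, 8, 9, 8, 6, 8, 6, 8, 9, 8, 6, 8],
  [9, 4, 8, 4, 9, 8, 4, 9, 8, 4, 9, 8],
  [6, 4, 2, 1, 2, 1, 4, 6, 5, 9, 5, 1, 5, 9, 5],
  [1, 5, 1, 2, 1, 5, 1, 2],
  [3, 5, 3, 2, 3, 5, 3, 2],
  [9, 6, 1, 7, 4, 1, 7, 4, 6, 9, 7, 4, 1, 7],
  [6, 2, 9, 2, 6, 8, 6, 2, 9, 2, 6, 8],
  [9, 2, 9, 8, 9, 2, 9, 8],
  [4, 2, 4, 8, 5, 8, 2, 4, 2, 4, 5],
  [4, 3, 4, 2, 5, 3, 1, 4, 5, 3, 5, 4, 1, 2, 3, 5],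
  [4, 2, 1, 2, 3, 4, 9, 2, 3, 1, 3, 2, 5, 3, 5, 9],
  [3, 5, 4, 9, 5, 7, 1, 5, 7, 1, 7, 9, 3, 5, 1],
  [9, 7, 1, 4, 7, 9, 6, 4, 7, 1, 4, 7, 1, 6],
  [4, 8, 1, 4, 7, 4, 2, 4, 7, 1, 8],
  [5, 8, 1, 7, 8, 2, 1, 5, 1, 8, 7, 1, 2, 8],
  [7, 8, 4, 7, 4, 5, 8, 5, 8, 7, 4, 8],
  [6, 1, 7, 6, 1, 7, 6, 1, 7, 1, 6, 7],
  [7, 6, 5, 6, 7, 6, 5, 6, 7, 6, 5, 6],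
  [4, 8, 5, 7, 5, 4, 8, 4, 8, 5, 7, 5, 4, 8],
  [5, 1, 2, 4, 2, 1, 7, 5, 8, 5, 7, 4, 5, 8],
  [4, 8, 7, 8, 1, 8, 1, 7, 4, 2, 1, 8, 1],
  [7, 1, 8, 1, 8, 7, 8, 4, 1, 8, 1, 2, 4],
  [7, 5, 8, 5, 7, 1, 2, 4, 2, 1, 5, 8, 5, 4],
  [7, 4, 5, 1, 7, 5, 1, 7, 4, 5, 7, 1, 7, 4, 5],
  [7, 4, 2, 4, 7, 4, 1, 8, 4, 8, 1],
  [8, 5, 4, 7, 4, 8, 7, 8, 4, 7, 8, 5],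
  [2, 9, 7, 8, 5, 9, 2, 9, 5, 8, 7, 9],
  [2, 9, 3, 2, 9, 3, 2, 5, 3, 9, 8, 9, 8, 3, 5],
  [5, 4, 3, 1, 8, 1, 3, 4, 5, 3, 1, 8, 1, 3],
  [9, 1, 2, 9, 1, 2, 1, 9, 2, 1, 9, 2],
  [9, 5, 7, 1, 7, 9, 5, 7, 1, 7, 9, 5, 7, 1, 7],
  [9, 4, 2, 9, 4, 2, 4, 9, 2, 4, 9, 2],
  [9, 7, 1, 7, 1, 7, 9, 7, 1, 7, 1, 7],
  [1, 4, 8, 1, 4, 8, 4, 1, 8, 1, 4, 8],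
  [2, 4, 8, 5, 8, 2, 4, 2, 4, 5, 4],
  [9, 5, 8, 3, 5, 9, 5, 9, 5, 3, 8, 5, 9, 5],
  [1, 3, 8, 1, 2, 3, 1, 3, 2, 1, 8, 3],
  [2, 3, 1, 4, 8, 3, 7, 2, 3, 8, 4, 1, 7, 3],
  [7, 4, 8, 3, 1, 7, 1, 3, 1, 2, 4, 2, 1, 8],
  [9, 8, 3, 1, 3, 2, 9, 1, 2, 3, 1, 3, 8, 1],
  [7, 8, 7, 2, 4, 1, 2, 7, 8, 7, 8, 1, 4, 8],
  [1, 3, 8, 5, 3, 5, 2, 1, 8, 2, 3, 8],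
  [1, 3, 1, 5, 1, 3, 1, 5],
  [6, 8, 6, 8, 1, 8, 6, 8, 6, 8, 1, 8],
  [3, 2, 3, 1, 2, 1, 3, 2, 3, 1, 2, 1],
  [8, 4, 8, 1, 4, 7, 4, 2, 4, 7, 1],
  [9, 6, 8, 2, 4, 2, 8, 6, 9, 2, 8, 4, 2, 8],
  [7, 5, 8, 5, 7, 8, 7, 5, 8, 5, 7, 8],
  [1, 5, 3, 5, 4, 1, 5, 3, 5, 4],
  [5, 3, 2, 3, 5, 3, 2, 3],
  [9, 2, 6, 9, 2, 1, 2, 9, 6, 2, 9, 6, 2, 1, 2, 6],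
  [3, 5, 4, 1, 5, 3, 5, 4, 1, 5],
  [4, 5, 8, 5, 1, 8, 4, 5, 8, 5, 1, 8],
  [7, 1, 6, 7, 1, 6, 7, 6, 1, 7, 1, 6],
  [7, 2, 9, 2, 7, 9, 2, 7, 9],
  [2, 9, 7, 5, 9, 3, 5, 3, 2, 3, 5, 3, 9, 5, 7, 9],
  [6, 7, 5, 3, 5, 7, 6, 3, 2, 3, 2],
  [1, 7, 4, 6, 2, 1, 3, 4, 1, 3, 2, 6, 4, 7, 1, 2],
  [9, 2, 5, 9, 2, 9, 5, 9, 2],
  [2, 1, 4, 8, 1, 4, 2, 4, 1, 8, 4, 1],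
  [8, 2, 4, 2, 4, 5, 4, 2, 4, 8, 5],
  [3, 8, 3, 8, 3, 8],
  [2, 1, 9, 2, 1, 9, 2, 9, 1, 2, 9, 1],
  [1, 7, 9, 7, 1, 7, 1, 7, 9, 7, 1, 7],
  [7, 8, 1, 5, 1, 8, 7, 8, 1, 5, 1, 8],
  [9, 8, 9, 3, 5, 2, 3, 9, 2, 3, 9, 2, 5, 3, 8],
  [6, 5, 3, 6, 2, 3, 2, 6, 5, 6, 2, 3, 2, 3],
  [8, 7, 8, 1, 4, 8, 7, 8, 7, 2, 4, 1, 2, 7],
  [5, 6, 2, 1, 2, 6, 5, 6, 2, 1, 2, 6],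
  [1, 7, 4, 2, 4, 7, 4, 1, 8, 4, 8],
  [9, 2, 6, 7, 9, 1, 2, 1, 9, 7, 1, 2, 1, 6, 2],
  [5, 6, 9, 5, 6, 9, 5, 9, 6, 5, 9, 6, 5, 6, 9],
  [2, 1, 8, 1, 2, 1, 8, 1],
  [2, 5, 3, 1, 3, 2, 3, 1, 5, 6, 2, 1, 2, 3, 6],
  [7, 4, 2, 4, 7, 6, 1, 2, 4, 2, 1, 6],
  [9, 2, 8, 4, 2, 8, 9, 6, 8, 2, 4, 2, 8, 6],
  [2, 4, 2, 4, 6, 8, 4, 8, 6],
  [9, 6, 4, 1, 2, 9, 2, 1, 4, 6, 2, 9, 2],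
  [5, 1, 5, 6, 5, 1, 5, 6],
  [4, 8, 5, 8, 4, 5, 4, 8, 5, 8],
  [2, 5, 1, 5, 2, 9, 5, 2, 1, 2, 5, 9],
  [5, 1, 5, 9, 5, 8, 1, 8, 5, 9],
  [5, 6, 8, 5, 1, 5, 8, 6, 1, 5, 2, 1, 2],
  [8, 4, 5, 4, 8, 5, 8, 4, 8, 5],
  [8, 2, 9, 2, 4, 2, 1, 2, 4, 8, 1, 9],
  [1, 3, 2, 6, 3, 5, 1, 2, 1, 2, 3, 5, 6, 2, 3],
  [4, 7, 9, 2, 4, 2, 4, 9, 7, 4, 2],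
  [7, 1, 7, 8, 3, 1, 3, 1, 4, 8, 7, 1, 2],
  [1, 7, 1, 5, 1, 7, 1, 5],
  [2, 4, 2, 9, 6, 1, 2, 4, 2, 1, 4, 6, 9],
  [7, 1, 4, 7, 9, 6, 4, 7, 1, 4, 7, 1, 6, 9],
  [8, 2, 4, 8, 2, 9, 6, 8, 2, 4, 2, 8, 6, 9],
  [2, 8, 9, 1, 8, 4, 2, 1, 2, 4, 2, 9],
  [8, 1, 8, 2, 6, 8, 2, 1, 2, 8, 6, 2],
  [7, 8, 2, 5, 8, 7, 8, 5, 8, 7, 8, 5, 8],
  [6, 7, 6, 1, 7, 1, 6, 7, 1, 6, 7, 1],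
  [1, 8, 5, 8, 1, 8, 1, 2, 5, 1, 2, 8],
  [4, 7, 4, 2, 4, 7, 1, 8, 4, 8, 1],
  [5, 4, 7, 4, 8, 7, 8, 4, 7, 8, 5, 8],
  [5, 3, 8, 1, 8, 4, 1, 8, 3, 4, 5, 3, 8, 3],
  [8, 5, 8, 9, 8, 9, 2, 5, 9, 8, 9],
  [3, 1, 3, 2, 9, 2, 3, 1, 3, 1, 2, 9, 2, 1],
  [5, 3, 5, 2, 1, 2, 3, 1, 2, 3, 1, 3, 2, 1],
  [7, 1, 3, 2, 8, 4, 2, 7, 4, 8, 2, 3, 1],
  [2, 6, 8, 4, 8, 6, 4, 2, 4],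
  [8, 9, 2, 4, 1, 8, 2, 1, 2, 9, 2, 4],
  [1, 5, 8, 9, 5, 2, 1, 5, 8, 9, 2, 5],
  [4, 8, 4, 3, 2, 3, 4, 8, 4, 8, 3, 2, 3, 8],
  [1, 9, 8, 3, 1, 3, 2, 9, 1, 2, 3, 1, 3, 8],
  [7, 9, 8, 2, 9, 7, 4, 2, 1, 2, 4, 8, 1],
  [5, 8, 4, 5, 4, 8, 5, 8, 4, 8],
  [5, 8, 5, 8, 9, 8, 7, 5, 8, 5, 7, 9],
  [5, 8, 1, 3, 8, 1, 8, 5, 3, 4, 8, 4],
  [8, 3, 9, 8, 2, 9, 2, 3, 2, 9, 2, 8, 3, 9],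
  [5, 8, 7, 9, 2, 9, 7, 8, 5, 9, 2, 9],
  [5, 3, 5, 3, 5, 3, 5, 3],
  [8, 5, 3, 2, 1, 2, 1, 4, 8, 1, 3, 1, 8, 4, 5, 3],
  [7, 4, 8, 7, 8, 4, 7, 4, 5, 8, 5, 8],
  [9, 8, 9, 2, 9, 8, 9, 2],
  [1, 3, 2, 3, 4, 8, 1, 8, 4, 5, 3, 5, 2, 3],
  [2, 3, 6, 7, 5, 3, 5, 7, 6, 2, 3],
  [8, 4, 7, 8, 1, 2, 4, 2, 1, 3, 1, 7, 1, 3],
  [9, 2, 5, 1, 5, 8, 9, 5, 2, 1, 5, 8],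
  [2, 5, 9, 2, 9, 5, 9, 2, 9],
  [4, 2, 1, 7, 3, 1, 2, 4, 1, 2, 1, 3, 7, 1, 2, 1],
  [7, 8, 7, 1, 2, 1, 7, 8, 7, 1, 2, 1],
  [9, 8, 2, 9, 8, 5, 1, 2, 4, 8, 1, 8, 4, 5],
  [8, 6, 8, 6, 8, 5, 4, 1, 2, 1, 4, 5, 6],
  [8, 6, 8, 6, 4, 8, 9, 4, 8, 5, 8, 5, 6, 9],
  [4, 8, 5, 8, 4, 8, 5, 8, 4, 5],
  [8, 9, 8, 9, 5, 2, 9, 8, 9, 8, 5],
  [9, 2, 1, 9, 2, 9, 1, 2, 9, 1, 2, 1],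
  [5, 1, 4, 5, 4, 1, 5, 1, 4],
  [5, 9, 1, 2, 9, 1, 5, 6, 4, 2, 9, 2, 4, 6],
  [4, 7, 5, 3, 5, 2, 4, 1, 2, 5, 3, 5, 7, 1],
  [5, 7, 8, 5, 4, 2, 4, 5, 7, 4, 2, 4, 5, 8],
  [4, 9, 8, 4, 9, 8, 9, 4, 8, 4, 9, 8],
  [6, 3, 5, 1, 2, 1, 2, 3, 5, 6, 2, 3, 1, 3, 2],
  [3, 2, 1, 2, 6, 5, 1, 3, 2, 3, 1, 3, 5, 2, 6],
  [7, 8, 5, 8, 7, 8, 5, 2, 8, 7, 8, 5, 8],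
  [8, 6, 2, 4, 2, 4, 6, 8, 4],
  [8, 6, 8, 1, 5, 8, 5, 8, 1, 6, 8, 4, 6],
  [1, 5, 9, 5, 9, 2, 1, 2, 9, 5, 9, 5],
  [6, 9, 5, 6, 9, 5, 6, 9, 5, 9, 6, 5, 9, 6, 5],
  [8, 2, 6, 8, 2, 6, 2, 8, 6, 2, 8, 6],
  [7, 3, 5, 2, 4, 3, 1, 3, 1, 2, 5, 3, 7, 4, 5, 4],
  [4, 2, 4, 5, 6, 5, 4, 2, 4, 5, 6, 5],
  [8, 5, 4, 8, 6, 8, 4, 5, 8, 5, 6, 5],
  [7, 9, 2, 5, 7, 9, 5, 7, 9, 5, 7, 9, 2, 5],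
  [1, 6, 7, 6, 1, 7, 1, 6, 7, 1, 6, 7],
  [4, 6, 2, 1, 3, 4, 1, 3, 2, 6, 4, 7, 1, 2, 1, 7],
  [6, 1, 2, 4, 2, 1, 6, 7, 4, 2, 4, 7],
  [9, 8, 5, 8, 9, 8, 9, 2, 5, 9, 8],
  [2, 6, 5, 6, 2, 1, 2, 6, 5, 6, 2, 1],
  [1, 4, 8, 5, 4, 7, 1, 5, 2, 1, 7, 4, 5, 8],
  [2, 3, 8, 1, 8, 3, 1, 2, 1, 3, 8, 1, 8, 3],
  [7, 5, 8, 3, 2, 7, 3, 8, 5, 7, 3, 2, 3, 5],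
  [5, 8, 5, 9, 7, 5, 8, 5, 7, 8, 9, 8],
  [1, 2, 1, 3, 2, 3, 1, 2, 1, 3, 2, 3],
  [7, 4, 1, 7, 3, 2, 3, 1, 3, 4, 2, 3],
  [6, 5, 4, 2, 4, 5, 6, 5, 4, 2, 4, 5],
  [7, 5, 1, 2, 1, 7, 1, 2, 1, 2, 5, 7, 1, 2, 1, 5],
  [9, 5, 9, 2, 9, 5, 2, 9, 2],
  [4, 2, 4, 7, 9, 2, 4, 2, 4, 9, 7],
  [9, 4, 2, 4, 2, 9, 7, 4, 2, 4, 7],
  [6, 2, 3, 1, 3, 4, 2, 6, 5, 6, 2, 4, 2, 6, 5],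
  [4, 2, 6, 5, 6, 2, 4, 3, 1, 3, 2, 6, 5, 6, 2],
  [1, 8, 2, 6, 8, 2, 1, 2, 8, 6, 2, 8],
  [5, 4, 8, 7, 3, 1, 7, 1, 3, 7, 5, 8],
  [7, 1, 8, 4, 8, 1, 4, 7, 4, 2, 4],
  [9, 2, 4, 1, 8, 2, 1, 2, 9, 2, 4, 8],
  [2, 3, 8, 4, 8, 4, 3, 2, 3, 4, 8, 4, 8, 3],
  [5, 8, 5, 7, 8, 7, 5, 8, 5, 7, 8, 7],
  [7, 9, 7, 2, 9, 7, 2, 9, 2],
  [2, 4, 2, 6, 5, 6, 2, 4, 3, 1, 3, 2, 6, 5, 6],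
  [4, 8, 3, 2, 1, 2, 8, 4, 3, 1, 5, 8, 5, 3],
  [7, 8, 9, 8, 5, 8, 5, 9, 7, 5, 8, 5],
  [7, 1, 4, 7, 3, 2, 4, 3, 1, 3, 2, 3],
  [3, 2, 6, 5, 6, 2, 3, 2, 3, 6, 5, 3, 6, 2],
  [9, 5, 2, 1, 2, 5, 9, 2, 5, 1, 5, 2],
  [1, 8, 5, 8, 1, 8, 2, 1, 5, 2, 1, 8],
  [5, 2, 9, 2, 9, 5, 9, 2, 9],
  [2, 3, 1, 3, 1, 2, 9, 2, 1, 3, 1, 3, 2, 9],
  [5, 4, 2, 4, 5, 9, 5, 4, 2, 4, 5, 9],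
  [5, 1, 5, 7, 4, 1, 7, 5, 4, 7, 1, 7, 5, 4, 7],
  [7, 1, 7, 2, 1, 7, 9, 2, 1, 3, 1, 3, 4, 2, 9],
  [6, 5, 1, 9, 2, 1, 9, 5, 6, 4, 2, 9, 2, 4],
  [8, 4, 3, 5, 8, 1, 8, 3, 1, 8, 5, 4],
  [8, 1, 4, 2, 4, 1, 8, 4, 1, 2, 1, 4],
  [4, 8, 9, 1, 2, 4, 2, 1, 9, 8],
  [5, 9, 5, 1, 5, 9, 5, 8, 1, 8],
  [1, 5, 1, 5, 1, 5, 1, 5],
  [7, 5, 8, 5, 7, 9, 5, 8, 5, 8, 9, 8],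
  [2, 3, 1, 3, 4, 2, 3, 7, 4, 1, 7, 3],
  [8, 5, 4, 8, 1, 5, 8, 5, 4, 8, 1, 5],
  [7, 2, 4, 8, 2, 3, 1, 7, 1, 3, 2, 8, 4],
  [1, 8, 5, 1, 8, 5, 8, 1, 5, 8, 1, 5],
  [3, 1, 2, 3, 2, 1, 3, 1, 2, 3, 2, 1],
  [4, 2, 4, 7, 1, 8, 4, 8, 1, 4, 7],
  [6, 4, 8, 6, 1, 8, 5, 8, 5, 1, 8, 6, 8],
  [4, 5, 4, 1, 5, 1, 4, 5, 1],
  [7, 1, 3, 1, 4, 7, 4, 1, 3, 1, 7, 4, 1, 3, 1, 3],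
  [7, 1, 4, 7, 4, 1, 7, 1, 7, 4, 7, 1],
  [9, 2, 5, 1, 5, 2, 9, 5, 2, 1, 2, 5],
  [6, 5, 6, 2, 4, 3, 1, 3, 2, 6, 5, 6, 2, 4, 2],
  [9, 1, 5, 1, 9, 7, 1, 5, 9, 5, 9, 5, 1, 7],
  [3, 6, 7, 5, 3, 5, 7, 6, 2, 3, 2],
  [7, 8, 7, 1, 8, 1, 7, 8, 7, 1, 8, 1],
  [4, 2, 3, 7, 4, 1, 7, 3, 2, 3, 1, 3],
  [6, 8, 3, 1, 3, 8, 3, 1, 3, 6, 2, 3, 1, 3, 2],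
  [9, 8, 9, 8, 5, 8, 9, 8, 9, 2, 5],
  [3, 9, 2, 9, 1, 3, 2, 9, 1, 3, 2, 1, 3, 9, 2, 1],
  [4, 3, 1, 3, 2, 3, 7, 1, 4, 7, 3, 2],
  [5, 1, 4, 5, 7, 5, 4, 1, 5, 7, 5, 1, 4, 5, 7],
  [7, 1, 3, 2, 4, 2, 1, 5, 4, 1, 7, 3, 1, 7, 5, 4],
  [5, 8, 1, 5, 1, 8, 5, 1, 8, 5, 8, 1],
  [7, 4, 8, 2, 3, 1, 7, 1, 3, 2, 8, 4, 2],
  [8, 1, 5, 1, 8, 7, 8, 1, 5, 1, 8, 7],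
  [7, 1, 7, 4, 3, 1, 3, 5, 8, 1, 8, 7, 1, 5],
  [2, 7, 3, 8, 5, 7, 3, 2, 3, 5, 7, 5, 8, 3],
  [8, 1, 3, 8, 1, 8, 5, 3, 4, 8, 4, 5],
  [6, 2, 3, 2, 6, 7, 4, 5, 3, 5, 4, 1, 3, 1, 7],
  [4, 8, 7, 8, 4, 7, 4, 5, 8, 5, 8, 7],
  [8, 7, 1, 5, 7, 4, 1, 8, 1, 4, 7, 5, 1, 7],
  [1, 8, 1, 2, 1, 8, 1, 2],
  [9, 2, 7, 9, 2, 7, 9, 7, 2],
  [5, 6, 5, 3, 5, 6, 5, 3],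
  [8, 9, 1, 8, 4, 2, 1, 2, 4, 2, 9, 2],
  [3, 2, 9, 2, 3, 8, 3, 2, 9, 2, 3, 8],
  [9, 2, 9, 5, 9, 2, 9, 5, 2],
  [8, 4, 8, 6, 2, 4, 2, 4, 6],
  [9, 7, 1, 5, 9, 5, 9, 5, 1, 7, 9, 1, 5, 1],
  [9, 2, 4, 1, 2, 9, 6, 5, 1, 2, 1, 5, 4, 2, 4, 6],
  [8, 5, 8, 4, 2, 4, 5, 4, 2, 4, 2],
  [4, 3, 8, 4, 7, 5, 3, 5, 3, 8, 5, 3, 5, 7],
  [1, 8, 1, 7, 8, 7, 1, 8, 1, 7, 8, 7],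
  [7, 9, 2, 4, 2, 4, 9, 7, 4, 2, 4],
  [9, 8, 5, 8, 5, 9, 7, 5, 8, 5, 7, 8],
  [5, 2, 1, 2, 5, 9, 2, 5, 1, 5, 2, 9],
  [2, 4, 2, 4, 9, 7, 4, 2, 4, 7, 9],
  [8, 6, 8, 5, 4, 1, 2, 1, 4, 5, 6, 8, 6],
  [5, 8, 5, 4, 8, 9, 8, 4, 5, 8, 5, 9],
  [5, 9, 5, 1, 5, 9, 5, 9, 2, 1, 2, 9],
  [8, 5, 4, 8, 7, 3, 1, 7, 1, 3, 7, 5],
  [1, 4, 5, 3, 5, 1, 4, 5, 3, 5],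
  [5, 7, 9, 5, 8, 5, 8, 9, 8, 7, 5, 8],
  [1, 3, 1, 3, 1, 3, 1, 3],
  [5, 3, 1, 8, 1, 3, 5, 4, 3, 1, 8, 1, 3, 4],
  [8, 9, 2, 5, 1, 5, 8, 9, 5, 2, 1, 5],
  [8, 4, 2, 8, 1, 8, 2, 4, 8, 2, 1, 2],
  [1, 3, 5, 3, 5, 1, 5, 3, 5, 3],
  [6, 8, 4, 8, 6, 4, 2, 4, 2],
  [8, 1, 8, 2, 4, 8, 2, 1, 2, 8, 4, 2],
  [5, 8, 7, 8, 5, 8, 7, 8, 2, 5, 8, 7, 8],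
  [1, 5, 7, 5, 1, 2, 1, 7, 1, 2, 1, 2, 5, 7, 1, 2],
  [6, 5, 1, 5, 1, 6, 2, 4, 5, 1, 5, 4, 2],
  [8, 9, 5, 1, 5, 2, 8, 5, 1, 5, 9, 2],
  [2, 3, 5, 7, 5, 8, 3, 2, 7, 3, 8, 5, 7, 3],
  [5, 3, 5, 7, 4, 8, 3, 4, 7, 5, 3, 5, 8, 3],
  [9, 7, 4, 2, 4, 7, 9, 2, 4, 2, 4],
  [6, 8, 5, 4, 1, 2, 1, 4, 5, 6, 8, 6, 8],
  [4, 1, 5, 1, 4, 5, 4, 1, 5],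
  [9, 8, 5, 1, 5, 2, 9, 8, 5, 1, 2, 5],
  [3, 5, 3, 1, 3, 5, 3, 5, 1, 5],
  [5, 3, 5, 1, 5, 3, 5, 3, 1, 3],
  [8, 6, 8, 9, 8, 6, 8, 6, 8, 9, 8, 6],
  [8, 6, 8, 6, 5, 8, 5, 9, 6, 2, 4, 2, 9],
  [5, 8, 1, 8, 3, 1, 8, 5, 4, 8, 4, 3],
  [6, 2, 1, 2, 6, 5, 6, 2, 1, 2, 6, 5],
  [7, 5, 9, 7, 5, 9, 7, 5, 2, 9, 7, 5, 2, 9],
  [6, 8, 4, 5, 8, 5, 6, 5, 8, 5, 4, 8],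
  [4, 2, 4, 2, 8, 5, 8, 4, 2, 4, 5],
  [5, 3, 5, 2, 1, 8, 2, 3, 8, 1, 3, 8],
  [1, 8, 1, 5, 8, 5, 1, 8, 1, 5, 8, 5],
  [7, 8, 5, 4, 2, 4, 5, 7, 4, 2, 4, 5, 8, 5],
  [4, 8, 4, 7, 8, 7, 4, 8, 4, 7, 8, 7],
  [9, 2, 1, 2, 9, 8, 1, 8],
  [8, 4, 7, 4, 5, 8, 5, 8, 7, 4, 8, 7],
  [1, 7, 3, 2, 3, 1, 3, 4, 2, 3, 7, 4],
  [1, 8, 2, 4, 8, 2, 1, 2, 8, 4, 2, 8],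
  [7, 3, 8, 5, 7, 3, 2, 3, 5, 7, 5, 8, 3, 2],
  [7, 1, 7, 2, 1, 7, 8, 4, 1, 3, 1, 3, 8],
  [2, 3, 1, 2, 1, 3, 2, 3, 1, 2, 1, 3],
  [5, 2, 3, 1, 3, 2, 3, 5, 8, 5, 1, 5, 8, 3],
  [1, 5, 3, 5, 3, 1, 3, 5, 3, 5],
  [3, 2, 6, 7, 1, 3, 1, 4, 5, 3, 5, 4, 7, 6, 2],
  [5, 7, 6, 2, 3, 2, 3, 6, 7, 5, 3],
  [1, 8, 4, 8, 1, 4, 7, 4, 2, 4, 7],
  [6, 2, 4, 1, 2, 6, 7, 6, 2, 1, 4, 2, 6, 7],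
  [2, 4, 9, 2, 9, 4, 2, 9, 4, 2, 4, 9],
  [5, 9, 5, 8, 1, 8, 5, 9, 5, 1],
  [2, 9, 7, 5, 8, 9, 2, 9, 8, 5, 7, 9],
  [8, 9, 7, 1, 8, 4, 2, 1, 2, 4, 7, 9, 2],
  [1, 3, 4, 2, 3, 7, 4, 1, 7, 3, 2, 3],
  [5, 8, 5, 9, 2, 1, 8, 9, 5, 8, 5, 1, 8, 2],
  [6, 8, 2, 1, 2, 8, 6, 2, 8, 1, 8, 2],
  [4, 2, 3, 5, 4, 7, 4, 5, 3, 5, 2, 5, 4, 7],
  [1, 2, 4, 1, 6, 9, 2, 1, 2, 9, 6, 4, 2],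
  [1, 6, 2, 4, 2, 1, 8, 6, 5, 8, 5, 4, 6, 8],
  [6, 2, 8, 1, 8, 2, 6, 8, 2, 1, 2, 8],
  [9, 5, 1, 5, 9, 5, 8, 1, 8, 5],
  [1, 4, 2, 4, 1, 8, 4, 1, 2, 1, 4, 8],
  [6, 5, 4, 7, 1, 2, 1, 7, 4, 5, 6, 2, 1, 4, 2],
  [1, 3, 1, 2, 9, 2, 1, 3, 1, 3, 2, 9, 2, 3],
  [6, 2, 3, 2, 3, 6, 7, 5, 3, 5, 7],
  [7, 2, 4, 1, 2, 7, 8, 7, 8, 1, 4, 8, 7, 8],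
  [5, 6, 5, 1, 5, 6, 5, 1],
  [1, 2, 5, 3, 5, 8, 3, 1, 8, 3, 2, 8],
  [3, 7, 8, 7, 3, 8, 2, 3, 2, 8],
  [4, 1, 2, 9, 2, 1, 4, 6, 9, 2, 9, 2, 6],
  [7, 4, 8, 7, 8, 4, 7, 8, 5, 8, 5, 4],
  [8, 9, 8, 6, 8, 6, 8, 9, 8, 6, 8, 6],
  [7, 8, 7, 5, 8, 5, 7, 8, 7, 5, 8, 5],
  [1, 2, 3, 2, 1, 3, 1, 2, 3, 2, 1, 3],
  [7, 1, 7, 1, 4, 7, 4, 1, 7, 1, 7, 4],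
  [5, 8, 1, 8, 1, 2, 5, 1, 2, 8, 1, 8],
  [7, 8, 5, 8, 7, 8, 5, 8, 7, 8, 2, 5, 8],
  [7, 8, 4, 7, 8, 5, 8, 5, 4, 7, 4, 8],
  [9, 5, 2, 9, 8, 9, 8, 5, 8, 9, 8],
  [9, 5, 9, 2, 1, 2, 9, 5, 9, 5, 1, 5],
  [8, 5, 1, 8, 4, 5, 8, 5, 1, 8, 4, 5],
  [1, 7, 1, 3, 7, 5, 8, 5, 4, 8, 7, 3],
  [6, 5, 2, 1, 2, 5, 1, 6, 8, 5, 1, 5, 8],
  [8, 6, 8, 6, 8, 9, 8, 6, 8, 6, 8, 9],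
  [2, 3, 8, 3, 2, 9, 2, 3, 8, 3, 2, 9],
  [8, 9, 3, 1, 3, 2, 8, 3, 1, 3, 9, 2],
  [6, 2, 8, 6, 8, 2, 6, 8, 2, 6, 2, 8],
  [6, 2, 1, 2, 6, 3, 1, 3, 2, 1, 2, 1, 3, 1, 3],
  [9, 7, 1, 7, 5, 1, 7, 5, 9, 4, 5, 3, 1, 5, 3],
  [7, 1, 7, 1, 7, 9, 7, 1, 7, 1, 7, 9],
  [5, 4, 8, 1, 5, 8, 5, 4, 8, 1, 5, 8],
  [8, 5, 1, 5, 8, 5, 3, 2, 3, 1, 3, 2, 5, 3],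
  [8, 6, 2, 1, 2, 6, 8, 6, 2, 1, 2, 6],
  [1, 4, 7, 1, 6, 9, 7, 1, 4, 7, 9, 6, 4, 7],
  [8, 1, 8, 5, 3, 4, 8, 4, 5, 8, 1, 3],
  [9, 8, 1, 8, 9, 2, 1, 2],
  [5, 3, 5, 8, 3, 1, 8, 3, 2, 8, 1, 2],
  [3, 4, 8, 4, 5, 8, 1, 3, 8, 1, 8, 5],
  [8, 4, 2, 6, 5, 9, 2, 9, 5, 6, 8, 4, 9, 2],
  [8, 9, 4, 8, 4, 9, 8, 4, 9, 8, 4, 9],
  [1, 2, 3, 1, 3, 6, 2, 1, 2, 6, 3, 1, 3, 1, 2],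
  [1, 8, 6, 4, 8, 5, 2, 1, 2, 1, 5, 8, 4, 6, 8],
  [2, 9, 8, 6, 2, 6, 8, 9, 2, 8, 6, 8],
  [7, 8, 1, 4, 8, 7, 8, 7, 2, 4, 1, 2, 7, 8],
  [2, 6, 8, 6, 2, 1, 2, 6, 8, 6, 2, 1],
  [5, 6, 5, 8, 5, 4, 8, 6, 8, 4, 5, 8],
  [4, 7, 9, 6, 4, 7, 1, 4, 7, 1, 6, 9, 7, 1],
  [9, 6, 5, 8, 5, 8, 4, 9, 8, 4, 6, 8, 6, 8],
  [2, 4, 6, 8, 4, 8, 6, 2, 4],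
  [6, 2, 9, 2, 9, 6, 4, 1, 2, 9, 2, 1, 4],
  [7, 3, 2, 4, 3, 1, 3, 2, 3, 7, 1, 4],
  [8, 7, 8, 4, 7, 4, 5, 8, 5, 8, 7, 4],
  [5, 8, 3, 1, 8, 3, 2, 8, 1, 2, 5, 3],
  [1, 4, 7, 9, 6, 4, 7, 1, 4, 7, 1, 6, 9, 7],
  [8, 3, 1, 7, 1, 3, 1, 2, 4, 2, 1, 8, 7, 4],
  [5, 2, 1, 5, 8, 9, 2, 5, 1, 5, 8, 9],
  [7, 4, 2, 4, 7, 9, 2, 4, 2, 4, 9],
  [9, 5, 3, 8, 5, 8, 9, 2, 4, 5, 2, 3, 5, 4],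
  [1, 2, 6, 3, 1, 3, 1, 2, 1, 2, 3, 1, 3, 6, 2],
  [9, 2, 8, 4, 2, 6, 5, 9, 2, 9, 5, 6, 8, 4],
  [1, 2, 8, 6, 2, 8, 1, 8, 2, 6, 8, 2],
  [7, 1, 3, 1, 7, 2, 4, 1, 2, 3, 2, 1, 4, 2],
  [8, 1, 2, 5, 1, 2, 8, 1, 8, 5, 8, 1],
  [6, 2, 1, 2, 4, 8, 1, 6, 5, 1, 8, 1, 5, 6, 8],
  [7, 6, 5, 7, 4, 2, 4, 7, 5, 6, 7, 2, 1, 7, 1, 2],
  [2, 6, 8, 6, 2, 9, 2, 6, 8, 6, 2, 9],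
  [7, 5, 4, 1, 5, 7, 5, 1, 4, 5, 7, 5, 1, 4, 5],
  [4, 5, 8, 5, 8, 7, 4, 8, 7, 8, 4, 7],
  [8, 6, 8, 1, 8, 6, 8, 6, 8, 1, 8, 6],
  [4, 1, 5, 1, 4, 5, 1, 4, 5],
  [2, 3, 1, 3, 2, 1, 8, 3, 1, 3, 8, 1],
  [9, 3, 4, 5, 9, 5, 3, 4, 9, 5, 9, 5],
  [8, 3, 5, 3, 8, 1, 8, 4, 1, 8, 3, 4, 5, 3],
  [1, 3, 7, 1, 7, 5, 1, 3, 7, 1, 8, 5, 4, 8],
  [6, 1, 5, 2, 1, 2, 5, 6, 8, 5, 1, 5, 8],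
  [7, 3, 1, 5, 7, 1, 7, 3, 1, 8, 4, 5, 8, 1],
  [2, 1, 7, 8, 4, 1, 3, 1, 3, 8, 7, 1, 7],
  [8, 5, 1, 8, 1, 5, 8, 5, 1, 8, 1, 5],
  [6, 9, 2, 1, 2, 9, 6, 1, 4, 2, 1, 2, 4],
  [2, 9, 2, 5, 9, 2, 9, 5, 9],
  [1, 7, 4, 7, 1, 7, 1, 4, 7, 4, 1, 7],
  [6, 2, 1, 2, 6, 3, 1, 3, 1, 2, 1, 2, 3, 1, 3],
  [8, 1, 8, 5, 9, 5, 1, 5, 9, 5],
  [2, 1, 9, 5, 1, 2, 9, 2, 9, 3, 1, 5, 9, 1, 3],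
  [7, 4, 5, 8, 5, 8, 7, 4, 8, 7, 8, 4],
  [7, 4, 1, 3, 5, 4, 7, 1, 3, 1, 4, 2, 5, 7, 1, 2],
  [5, 8, 5, 4, 8, 7, 3, 1, 7, 1, 3, 7],
  [8, 4, 5, 8, 5, 7, 3, 1, 7, 1, 3, 7],
  [5, 8, 1, 3, 1, 8, 5, 7, 1, 3, 8, 3, 1, 7],
  [9, 8, 6, 8, 6, 8, 9, 8, 6, 8, 6, 8],
  [7, 3, 1, 7, 1, 3, 7, 5, 8, 5, 4, 8],
  [7, 9, 7, 1, 7, 1, 7, 9, 7, 1, 7, 1],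
  [2, 4, 9, 7, 4, 2, 4, 7, 9, 2, 4],
  [5, 3, 5, 1, 4, 5, 3, 5, 1, 4],
  [4, 6, 8, 6, 8, 1, 5, 8, 5, 8, 1, 6, 8],
  [7, 4, 1, 7, 1, 7, 4, 7, 1, 7, 1, 4],
  [6, 2, 3, 2, 4, 2, 3, 2, 6, 2, 3, 2, 4, 2, 3, 2],
  [3, 1, 3, 5, 3, 5, 1, 5, 3, 5],
  [4, 2, 4, 7, 9, 4, 2, 4, 2, 9, 7],
  [9, 2, 4, 2, 1, 2, 4, 8, 1, 9, 8, 2],
  [6, 5, 3, 5, 6, 5, 3, 5],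
  [6, 8, 4, 8, 6, 2, 4, 2, 4],
  [6, 7, 5, 3, 5, 7, 6, 2, 3, 2, 3],
  [7, 9, 2, 9, 7, 5, 8, 9, 2, 9, 8, 5],
  [4, 8, 4, 2, 4, 8, 4, 2],
  [4, 1, 2, 3, 2, 1, 4, 2, 7, 1, 3, 1, 7, 2],
  [9, 8, 3, 8, 1, 3, 4, 8, 3, 9, 7, 4, 1, 7],
  [3, 1, 3, 8, 1, 2, 3, 1, 3, 2, 1, 8],
  [4, 7, 1, 4, 7, 1, 6, 9, 7, 1, 4, 7, 9, 6],
  [4, 5, 8, 5, 7, 3, 1, 7, 1, 3, 7, 8],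
  [7, 4, 2, 4, 7, 1, 8, 4, 8, 1, 4],
  [2, 4, 7, 4, 5, 2, 5, 3, 5, 4, 7, 4, 5, 3],
  [9, 2, 3, 1, 3, 2, 9, 2, 1, 4, 7, 1, 7, 1, 7, 2],
  [1, 4, 7, 4, 1, 7, 1, 7, 4, 7, 1, 7],
  [4, 5, 3, 5, 1, 4, 5, 3, 5, 1],
  [8, 3, 1, 3, 8, 1, 2, 3, 1, 3, 2, 1],
  [9, 2, 3, 1, 9, 2, 9, 3, 1, 2, 9, 3, 1, 2, 3, 1],
  [6, 8, 6, 8, 1, 5, 8, 5, 8, 1, 6, 8, 4],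
  [1, 8, 7, 2, 1, 7, 1, 2, 3, 1, 3, 4, 7, 8],
  [5, 3, 1, 3, 5, 3, 5, 1, 5, 3],
  [7, 1, 4, 7, 2, 1, 2, 3, 2, 4, 1, 2, 3, 2, 1, 2],
  [1, 7, 1, 4, 7, 4, 1, 7, 1, 7, 4, 7],
  [7, 4, 2, 3, 5, 4, 7, 4, 5, 3, 5, 2, 5, 4],
  [2, 9, 7, 2, 9, 2, 7, 9, 7],
  [4, 5, 8, 5, 9, 5, 8, 5, 4, 8, 9, 8],
  [5, 9, 4, 3, 5, 9, 5, 4, 3, 9, 5, 9],
  [3, 2, 8, 3, 7, 8, 7, 3, 8, 2],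
  [5, 4, 1, 5, 3, 5, 4, 1, 5, 3],
  [9, 7, 5, 8, 5, 7, 8, 9, 8, 5, 8, 5],
  [6, 2, 1, 2, 6, 8, 6, 2, 1, 2, 6, 8],
  [2, 1, 7, 1, 7, 1, 2, 1, 2, 3, 1, 3, 4, 2, 1, 7],
  [5, 1, 8, 4, 5, 8, 5, 1, 8, 4, 5, 8],
  [7, 8, 7, 8, 1, 4, 8, 7, 8, 7, 2, 4, 1, 2],
  [8, 5, 6, 5, 8, 5, 4, 8, 6, 8, 4, 5],
  [7, 1, 3, 8, 3, 1, 7, 5, 8, 1, 3, 1, 8, 5],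
  [7, 3, 2, 3, 1, 4, 8, 3, 7, 2, 3, 8, 4, 1],
  [4, 3, 9, 5, 9, 5, 9, 4, 3, 5, 9, 5],
  [2, 4, 8, 9, 2, 4, 1, 8, 2, 1, 2, 9],
  [8, 4, 1, 8, 1, 2, 4, 7, 1, 8, 1, 8, 7],
  [8, 1, 8, 6, 8, 6, 8, 1, 8, 6, 8, 6],
  [8, 5, 8, 4, 5, 4, 8, 5, 8, 4],
  [5, 8, 5, 4, 8, 6, 8, 4, 5, 8, 5, 6],
  [8, 1, 3, 1, 2, 8, 3, 1, 7, 8, 7, 1, 3, 2],
  [2, 1, 3, 1, 8, 2, 3, 1, 7, 8, 7, 1, 3, 8],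
  [3, 1, 7, 8, 7, 1, 3, 2, 8, 1, 3, 1, 2, 8],
  [9, 2, 8, 6, 8, 2, 9, 8, 6, 2, 6, 8],
  [1, 3, 2, 8, 3, 1, 3, 9, 2, 8, 9, 3],
  [8, 9, 2, 8, 6, 8, 2, 9, 8, 6, 2, 6],
  [7, 6, 2, 9, 2, 6, 1, 2, 1, 7, 9, 1, 2, 1, 9],
  [1, 2, 7, 1, 7, 8, 3, 1, 3, 1, 4, 8, 7],
  [8, 1, 2, 4, 2, 1, 3, 1, 7, 1, 3, 8, 4, 7],
  [7, 4, 6, 2, 1, 3, 4, 1, 3, 2, 6, 4, 7, 1, 2, 1],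
  [3, 2, 7, 3, 8, 4, 1, 3, 2, 3, 7, 1, 4, 8],
  [8, 7, 1, 8, 1, 7, 8, 7, 1, 8, 1, 7],
  [7, 5, 8, 5, 7, 8, 9, 8, 5, 8, 5, 9],
  [3, 1, 5, 1, 3, 4, 2, 4, 5, 1, 5, 4, 2, 4, 1, 5],
  [2, 8, 7, 8, 5, 8, 7, 8, 5, 8, 7, 8, 5],
  [8, 7, 8, 2, 5, 8, 7, 8, 5, 8, 7, 8, 5],
  [1, 8, 2, 3, 1, 7, 8, 7, 1, 3, 8, 2, 1, 3],
  [4, 8, 3, 9, 7, 4, 1, 7, 9, 8, 3, 8, 1, 3],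
  [2, 4, 2, 8, 6, 9, 2, 8, 4, 2, 8, 9, 6, 8],
  [9, 4, 8, 6, 5, 9, 2, 9, 5, 6, 2, 4, 8, 2],
  [7, 4, 5, 3, 5, 2, 5, 4, 7, 4, 2, 3, 5, 4],
  [3, 2, 4, 2, 3, 2, 6, 2, 3, 2, 4, 2, 3, 2, 6, 2],
  [1, 3, 2, 3, 7, 1, 4, 7, 3, 2, 4, 3],
  [1, 8, 4, 5, 3, 5, 2, 3, 1, 3, 2, 3, 4, 8],
  [8, 9, 5, 4, 2, 4, 9, 8, 9, 5, 4, 2, 4, 9],
  [1, 2, 9, 2, 1, 3, 1, 3, 2, 9, 2, 3, 1, 3],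
  [2, 6, 7, 5, 3, 5, 7, 6, 3, 2, 3],
  [7, 8, 7, 3, 8, 2, 3, 2, 8, 3],
  [9, 2, 8, 9, 3, 1, 3, 2, 8, 3, 1, 3],
  [8, 2, 1, 2, 8, 6, 2, 8, 1, 8, 2, 6],
  [1, 2, 1, 7, 8, 7, 1, 2, 1, 7, 8, 7],
  [8, 6, 2, 8, 1, 8, 2, 6, 8, 2, 1, 2],
  [7, 1, 5, 3, 1, 7, 2, 1, 4, 2, 3, 2, 4, 5, 1, 2],
  [4, 5, 4, 2, 4, 8, 5, 8, 2, 4, 2],
  [3, 1, 3, 7, 1, 3, 1, 4, 7, 4, 1, 3, 1, 7, 4, 1],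
  [6, 4, 2, 4, 2, 6, 8, 4, 8],
  [5, 8, 5, 6, 8, 6, 8, 9, 2, 4, 2, 6, 9],
  [9, 2, 3, 8, 3, 2, 9, 2, 3, 8, 3, 2],
  [8, 1, 8, 5, 8, 1, 8, 2, 1, 5, 2, 1],
  [2, 3, 2, 3, 6, 7, 5, 3, 5, 7, 6],
  [4, 1, 7, 1, 7, 4, 7, 1, 7, 1, 4, 7],
  [2, 8, 4, 5, 1, 5, 9, 4, 8, 5, 2, 1, 5, 1, 9],
  [7, 3, 8, 4, 1, 3, 2, 3, 7, 1, 4, 8, 3, 2],
  [9, 2, 4, 3, 1, 3, 1, 2, 9, 7, 1, 2, 7, 1, 7],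
  [2, 8, 6, 8, 2, 9, 8, 6, 2, 6, 8, 9],
  [3, 1, 3, 9, 2, 8, 9, 3, 1, 3, 2, 8],
  [7, 8, 4, 1, 8, 1, 2, 4, 7, 1, 8, 1, 8],
  [9, 3, 1, 3, 2, 8, 3, 1, 3, 9, 2, 8],
  [7, 8, 4, 5, 8, 5, 7, 3, 1, 7, 1, 3],
  [4, 8, 2, 3, 1, 7, 1, 3, 2, 8, 4, 2, 7],
  [5, 3, 2, 4, 2, 3, 5, 1, 5, 1, 7, 4, 5, 1, 7],
  [1, 5, 6, 8, 6, 4, 5, 2, 1, 2, 5, 8, 6, 5, 8],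
  [4, 7, 1, 6, 9, 7, 1, 4, 7, 9, 6, 4, 7, 1],
  [5, 1, 7, 5, 3, 2, 4, 2, 3, 5, 1, 5, 1, 7, 4],
  [6, 7, 6, 5, 6, 7, 6, 5, 6, 7, 6, 5],
  [7, 4, 2, 4, 7, 8, 7, 4, 5, 2, 5, 4, 7, 8],
  [3, 2, 1, 5, 4, 7, 2, 1, 3, 1, 2, 7, 4, 5, 1, 2],
  [7, 4, 5, 3, 2, 4, 7, 4, 5, 2, 5, 3, 5, 4],
  [3, 4, 5, 6, 5, 4, 3, 2, 4, 5, 6, 5, 4, 2],
  [4, 8, 5, 8, 2, 4, 2, 4, 5, 4, 2],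
  [4, 5, 8, 1, 3, 8, 1, 8, 5, 3, 4, 8],
  [5, 4, 7, 3, 5, 2, 4, 3, 1, 3, 1, 2, 5, 3, 7, 4],
  [5, 8, 7, 5, 1, 8, 1, 7, 1, 8, 1, 5, 7, 8],
  [1, 8, 4, 5, 8, 5, 1, 8, 4, 5, 8, 5],
  [4, 8, 1, 5, 8, 5, 4, 8, 1, 5, 8, 5],
  [7, 6, 2, 3, 2, 3, 6, 7, 5, 3, 5],
  [9, 6, 2, 4, 2, 9, 8, 6, 8, 6, 5, 8, 5],
  [9, 5, 9, 2, 9, 2, 5, 9, 2],
  [4, 8, 3, 4, 7, 5, 3, 5, 8, 3, 5, 3, 5, 7],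
  [1, 5, 8, 1, 5, 1, 8, 5, 1, 8, 5, 8],
  [3, 5, 2, 1, 2, 3, 4, 8, 3, 4, 1, 3, 5, 8],
  [8, 3, 2, 9, 2, 3, 8, 3, 2, 9, 2, 3],
  [8, 5, 6, 8, 5, 2, 1, 2, 5, 4, 6, 8, 6, 5, 1],
  [6, 8, 2, 9, 8, 6, 2, 6, 8, 9, 2, 8],
  [7, 4, 2, 8, 1, 7, 8, 7, 4, 8, 2, 1, 7, 8],
  [8, 5, 9, 5, 1, 5, 9, 5, 8, 1],
  [8, 5, 6, 5, 8, 1, 8, 5, 6, 5, 8, 1],
  [9, 7, 1, 2, 4, 2, 9, 2, 4, 1, 7, 9, 7, 1, 2, 1],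
  [7, 3, 8, 2, 3, 2, 8, 3, 7, 8],
  [9, 7, 4, 1, 7, 9, 8, 3, 8, 1, 3, 4, 8, 3],
  [8, 1, 3, 8, 2, 9, 2, 8, 3, 1, 2, 8, 9, 2],
  [9, 5, 1, 5, 8, 2, 5, 1, 5, 9, 8, 2],
  [8, 1, 3, 5, 4, 3, 1, 8, 1, 3, 4, 5, 3, 1],
  [5, 8, 1, 8, 2, 1, 5, 2, 1, 8, 1, 8],
  [7, 3, 1, 7, 1, 3, 7, 8, 4, 5, 8, 5],
  [8, 4, 9, 8, 4, 9, 8, 9, 4, 8, 4, 9],
  [8, 9, 1, 2, 4, 2, 1, 9, 8, 4],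
  [9, 2, 6, 1, 2, 1, 7, 9, 1, 2, 1, 9, 7, 6, 2],
  [7, 8, 7, 1, 3, 8, 2, 1, 3, 1, 8, 2, 3, 1],
  [1, 2, 1, 7, 4, 6, 2, 1, 3, 4, 1, 3, 2, 6, 4, 7],
  [8, 2, 6, 8, 2, 1, 2, 8, 6, 2, 8, 1],
  [1, 3, 2, 8, 4, 2, 7, 4, 8, 2, 3, 1, 7],
  [4, 9, 5, 3, 1, 2, 1, 3, 5, 3, 1, 2, 9, 4, 1, 3],
  [9, 2, 3, 1, 3, 1, 2, 9, 2, 1, 3, 1, 3, 2],
  [4, 1, 8, 1, 4, 8, 1, 4, 8, 1, 4, 8],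
  [1, 7, 1, 6, 7, 1, 6, 7, 1, 6, 7, 6],
  [6, 7, 1, 6, 7, 1, 6, 7, 6, 1, 7, 1],
  [8, 5, 1, 2, 4, 8, 1, 8, 4, 5, 9, 8, 2, 9],
  [8, 2, 9, 2, 3, 2, 9, 2, 8, 9, 3, 8, 9, 3],
  [5, 3, 5, 2, 4, 1, 2, 5, 3, 5, 7, 1, 4, 7],
  [7, 8, 7, 1, 5, 7, 4, 1, 8, 1, 4, 7, 5, 1],
  [8, 2, 9, 7, 4, 2, 1, 2, 4, 8, 1, 7, 9],
  [8, 1, 8, 3, 1, 8, 5, 4, 8, 4, 3, 5],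
  [7, 5, 4, 8, 4, 8, 5, 7, 5, 4, 8, 4, 8, 5],
  [2, 9, 2, 6, 8, 6, 2, 9, 2, 6, 8, 6],
  [1, 4, 7, 5, 3, 5, 2, 4, 1, 2, 5, 3, 5, 7],
  [7, 9, 4, 2, 4, 2, 9, 7, 4, 2, 4],
  [1, 7, 1, 7, 2, 9, 2, 3, 1, 3, 2, 9, 2, 1, 4, 7],
  [5, 8, 5, 1, 8, 4, 5, 8, 5, 1, 8, 4],
  [7, 1, 5, 4, 7, 1, 5, 1, 5, 3, 2, 4, 2, 3, 5],
  [1, 9, 8, 2, 9, 2, 4, 2, 1, 2, 4, 8],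
  [2, 1, 7, 4, 6, 2, 1, 3, 4, 1, 3, 2, 6, 4, 7, 1],
  [7, 1, 6, 7, 1, 6, 7, 1, 6, 7, 6, 1],
  [8, 4, 8, 6, 4, 2, 4, 2, 6],
  [5, 8, 5, 7, 3, 1, 7, 1, 3, 7, 8, 4],
  [6, 2, 1, 4, 2, 6, 5, 4, 7, 1, 2, 1, 7, 4, 5],
  [8, 3, 7, 2, 3, 8, 5, 7, 5, 3, 2, 3, 7, 5],
  [4, 2, 7, 1, 3, 1, 7, 2, 4, 1, 2, 3, 2, 1],
  [6, 9, 2, 4, 2, 9, 6, 1, 2, 4, 2, 1, 4],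
  [3, 5, 4, 7, 6, 2, 3, 2, 6, 7, 1, 3, 1, 4, 5],
  [7, 2, 1, 7, 1, 7, 1, 2, 1, 2, 3, 1, 3, 4, 2, 1],
  [5, 4, 8, 6, 8, 4, 5, 8, 5, 6, 5, 8],
  [8, 1, 5, 9, 4, 5, 8, 5, 2, 4, 9, 2, 5, 1],
  [5, 8, 5, 7, 9, 5, 8, 5, 8, 9, 8, 7],
  [2, 9, 6, 8, 2, 4, 2, 8, 6, 9, 8, 2, 4, 8],
  [8, 5, 1, 5, 8, 6, 5, 2, 1, 2, 5, 1, 6],
  [2, 1, 5, 7, 5, 1, 2, 1, 7, 1, 2, 1, 2, 5, 7, 1],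
  [5, 8, 7, 4, 8, 7, 8, 4, 7, 4, 5, 8],
  [8, 2, 4, 2, 8, 6, 9, 2, 8, 4, 2, 8, 9, 6],
  [1, 3, 2, 9, 8, 3, 1, 3, 4, 8, 9, 2, 4, 3],
  [8, 7, 1, 3, 2, 8, 1, 3, 1, 2, 8, 3, 1, 7],
  [9, 2, 1, 3, 1, 3, 2, 9, 2, 3, 1, 3, 1, 2],
  [2, 4, 8, 2, 9, 6, 8, 2, 4, 2, 8, 6, 9, 8],
  [1, 3, 1, 7, 2, 4, 1, 2, 3, 2, 1, 4, 2, 7],
  [2, 6, 8, 2, 6, 2, 8, 6, 2, 8, 6, 8],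
  [1, 7, 6, 1, 7, 6, 1, 7, 1, 6, 7, 6],
  [1, 3, 2, 6, 5, 6, 2, 4, 2, 6, 5, 6, 2, 4, 3],
  [8, 7, 4, 8, 2, 1, 7, 8, 7, 4, 2, 8, 1, 7],
  [9, 1, 2, 1, 9, 7, 6, 2, 9, 2, 6, 1, 2, 1, 7],
  [8, 1, 2, 3, 1, 3, 2, 1, 8, 3, 1, 3],
  [1, 7, 1, 7, 9, 7, 1, 7, 1, 7, 9, 7],
  [2, 9, 2, 7, 9, 2, 7, 9, 7],
  [2, 8, 1, 8, 2, 4, 8, 2, 1, 2, 8, 4],
  [2, 1, 2, 8, 6, 2, 8, 1, 8, 2, 6, 8],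
  [5, 1, 8, 5, 1, 8, 5, 8, 1, 5, 8, 1],
  [2, 8, 1, 8, 2, 6, 8, 2, 1, 2, 8, 6],
  [8, 3, 1, 3, 9, 2, 8, 9, 3, 1, 3, 2],
  [1, 2, 1, 2, 3, 1, 3, 6, 2, 1, 2, 6, 3, 1, 3],
  [8, 5, 7, 1, 2, 4, 2, 1, 5, 8, 5, 4, 7, 5],
  [6, 8, 9, 2, 4, 2, 6, 9, 5, 8, 5, 6, 8],
  [4, 1, 7, 4, 6, 9, 7, 4, 1, 7, 9, 6, 1, 7],
  [9, 2, 8, 9, 1, 8, 4, 2, 1, 2, 4, 2],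
  [2, 3, 1, 3, 4, 7, 8, 1, 8, 7, 2, 1, 7, 1],
  [2, 1, 2, 6, 5, 6, 2, 1, 2, 6, 5, 6],
  [5, 8, 5, 8, 7, 4, 8, 7, 8, 4, 7, 4],
  [2, 4, 5, 4, 2, 4, 2, 8, 5, 8, 4],
  [1, 3, 9, 2, 8, 9, 3, 1, 3, 2, 8, 3],
  [9, 7, 4, 1, 7, 9, 6, 1, 7, 4, 1, 7, 4, 6],
  [5, 9, 6, 5, 9, 6, 5, 6, 9, 5, 6, 9, 5, 6, 9],
  [2, 5, 4, 2, 9, 8, 5, 8, 3, 5, 9, 4, 5, 3],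
  [9, 8, 4, 9, 8, 9, 4, 8, 4, 9, 8, 4],
  [7, 1, 6, 7, 6, 1, 7, 1, 6, 7, 1, 6],
  [7, 4, 8, 4, 7, 8, 7, 4, 8, 4, 7, 8],
  [1, 3, 8, 9, 2, 8, 9, 8, 3, 1, 3, 2, 8, 3],
  [7, 1, 5, 7, 1, 7, 9, 5, 3, 1, 5, 9, 4, 3, 5],
  [5, 3, 4, 9, 5, 1, 3, 5, 9, 7, 1, 7, 5, 1, 7],
  [8, 9, 5, 4, 1, 5, 9, 8, 9, 5, 1, 4, 5, 9],
  [4, 7, 5, 3, 5, 3, 8, 5, 3, 5, 7, 4, 3, 8],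
  [8, 5, 3, 1, 4, 3, 8, 4, 3, 2, 1, 2, 5, 3],
  [8, 5, 8, 3, 2, 5, 3, 8, 5, 8, 3, 5, 2, 3],
  [9, 2, 8, 1, 3, 8, 2, 9, 2, 8, 3, 1, 2, 8],
  [8, 5, 8, 7, 8, 5, 8, 7, 8, 5, 2, 8, 7],
  [3, 7, 1, 4, 7, 3, 2, 4, 3, 1, 3, 2],
  [4, 5, 3, 5, 2, 5, 4, 7, 4, 2, 3, 5, 4, 7],
  [8, 7, 5, 8, 5, 7, 8, 7, 5, 8, 5, 7],
  [8, 5, 9, 5, 9, 5, 8, 3, 5, 9, 5, 9, 5, 3],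
  [7, 5, 8, 4, 8, 4, 5, 7, 5, 8, 4, 8, 4, 5],
  [8, 7, 4, 8, 4, 7, 8, 7, 4, 8, 4, 7],
  [1, 2, 9, 1, 5, 6, 4, 2, 9, 2, 4, 6, 5, 9],
  [8, 7, 1, 8, 2, 4, 7, 8, 7, 1, 2, 8, 4, 7],
  [8, 7, 8, 5, 1, 7, 8, 4, 8, 4, 7, 1, 5, 7],
  [3, 5, 2, 3, 1, 3, 2, 3, 5, 8, 5, 1, 5, 8],
  [3, 1, 2, 3, 1, 3, 2, 1, 5, 3, 5, 2, 1, 2],
  [8, 7, 4, 8, 3, 1, 7, 1, 3, 1, 2, 4, 2, 1],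
  [5, 7, 5, 1, 4, 5, 7, 5, 4, 1, 5, 7, 5, 1, 4],
  [2, 9, 5, 2, 1, 2, 5, 9, 2, 5, 1, 5],
  [7, 5, 3, 5, 7, 6, 3, 2, 3, 2, 6],
  [7, 8, 7, 8, 5, 1, 7, 8, 4, 8, 4, 7, 1, 5],
  [8, 1, 8, 5, 6, 5, 8, 1, 8, 5, 6, 5],
  [5, 2, 1, 8, 1, 8, 5, 8, 1, 8, 2, 1],
  [6, 1, 7, 1, 6, 7, 1, 6, 7, 1, 6, 7],
  [7, 4, 3, 1, 3, 5, 8, 1, 8, 7, 1, 5, 7, 1],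
  [2, 4, 7, 5, 4, 1, 7, 1, 2, 1, 7, 1, 4, 5, 7, 4],
  [7, 8, 5, 1, 7, 8, 4, 8, 4, 7, 1, 5, 7, 8],
  [8, 5, 4, 9, 5, 1, 8, 1, 5, 2, 9, 4, 2, 5],
  [5, 3, 5, 4, 1, 5, 3, 5, 4, 1],
  [4, 7, 4, 1, 7, 1, 7, 4, 7, 1, 7, 1],
  [1, 2, 7, 8, 1, 8, 7, 4, 3, 1, 3, 2, 1, 7],
  [9, 3, 8, 2, 9, 2, 3, 2, 9, 2, 8, 9, 3, 8],
  [3, 1, 3, 1, 2, 9, 2, 1, 3, 1, 3, 2, 9, 2],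
  [8, 2, 1, 2, 8, 4, 2, 8, 1, 8, 2, 4],
  [4, 8, 3, 2, 7, 3, 8, 4, 1, 3, 2, 3, 7, 1],
  [5, 7, 1, 7, 4, 5, 7, 1, 4, 7, 5, 1, 5, 7, 4],
  [7, 1, 5, 7, 1, 7, 9, 3, 5, 1, 3, 5, 4, 9, 5],
  [7, 1, 2, 7, 4, 1, 3, 5, 4, 7, 1, 3, 1, 4, 2, 5],
  [5, 4, 8, 4, 3, 5, 8, 1, 8, 3, 1, 8],
  [4, 3, 1, 4, 9, 2, 1, 3, 5, 3, 1, 2, 1, 3, 5, 9],
  [5, 8, 5, 7, 8, 9, 8, 5, 8, 5, 9, 7],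
  [5, 2, 1, 5, 1, 9, 2, 8, 4, 5, 1, 5, 9, 4, 8],
  [2, 5, 1, 6, 8, 5, 1, 5, 8, 6, 5, 2, 1],
  [9, 7, 4, 2, 4, 7, 9, 4, 2, 4, 2],
  [3, 5, 8, 3, 1, 8, 3, 2, 8, 1, 2, 5],
  [8, 5, 4, 8, 9, 8, 4, 5, 8, 5, 9, 5],
  [1, 9, 5, 6, 4, 2, 9, 2, 4, 6, 5, 1, 9, 2],
  [1, 7, 4, 2, 1, 8, 1, 4, 8, 7, 8, 1, 8],
  [1, 2, 4, 2, 1, 9, 8, 4, 8, 9],
  [9, 5, 8, 7, 9, 2, 9, 7, 8, 5, 9, 2],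
  [2, 1, 7, 8, 7, 1, 2, 1, 7, 8, 7, 1],
  [8, 1, 7, 8, 7, 1, 8, 1, 7, 8, 7, 1],
  [9, 1, 2, 1, 9, 2, 1, 9, 2, 9, 1, 2],
  [8, 5, 9, 7, 5, 8, 5, 7, 8, 9, 8, 5],
  [8, 7, 1, 3, 8, 2, 1, 3, 1, 8, 2, 3, 1, 7],
  [2, 1, 5, 4, 2, 3, 2, 4, 1, 2, 7, 1, 3, 5, 1, 7],
  [7, 1, 8, 5, 4, 8, 1, 3, 7, 1, 7, 5, 1, 3],
  [2, 9, 5, 8, 7, 9, 2, 9, 7, 8, 5, 9],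
  [8, 7, 2, 4, 1, 2, 7, 8, 7, 8, 1, 4, 8, 7],
  [2, 9, 2, 4, 2, 1, 2, 4, 8, 1, 9, 8],
  [8, 3, 4, 7, 5, 3, 5, 8, 3, 5, 3, 5, 7, 4],
  [8, 5, 8, 1, 7, 8, 2, 1, 5, 1, 8, 7, 1, 2],
  [1, 4, 8, 1, 4, 2, 4, 1, 8, 4, 1, 2],
  [8, 7, 8, 5, 8, 7, 8, 5, 8, 7, 8, 2, 5],
  [1, 4, 2, 6, 7, 6, 2, 4, 1, 2, 6, 7, 6, 2],
  [6, 5, 9, 5, 6, 5, 9, 5, 6, 5, 9, 5],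
  [3, 5, 3, 5, 1, 5, 3, 5, 3, 1],
  [3, 7, 2, 3, 8, 5, 7, 5, 3, 2, 3, 7, 5, 8],
  [4, 2, 6, 8, 4, 8, 6, 4, 2],
  [8, 5, 8, 7, 8, 5, 8, 7, 8, 2, 5, 8, 7],
  [8, 4, 7, 5, 8, 4, 8, 1, 4, 8, 1, 5, 7, 4],
  [6, 5, 4, 2, 3, 4, 5, 6, 5, 4, 3, 2, 4, 5],
  [3, 8, 5, 8, 3, 2, 5, 3, 8, 5, 8, 3, 5, 2],
  [7, 1, 5, 7, 1, 5, 7, 5, 1, 5, 7, 1, 7, 1, 5],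
  [4, 7, 1, 7, 1, 4, 7, 4, 1, 7, 1, 7],
  [8, 4, 2, 9, 2, 1, 2, 8, 1, 4, 2, 9],
  [2, 7, 3, 8, 4, 1, 3, 2, 3, 7, 1, 4, 8, 3],
  [6, 1, 2, 1, 7, 9, 1, 2, 1, 9, 7, 6, 2, 9, 2],
  [6, 7, 9, 1, 2, 1, 9, 7, 1, 2, 1, 6, 2, 9, 2],
  [1, 2, 4, 2, 1, 6, 7, 4, 2, 4, 7, 6],
  [8, 5, 8, 2, 4, 2, 4, 5, 4, 2, 4],
  [4, 7, 4, 2, 3, 5, 4, 7, 4, 5, 3, 5, 2, 5],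
  [8, 5, 7, 8, 7, 5, 8, 5, 7, 8, 7, 5],
  [7, 1, 7, 5, 1, 7, 8, 1, 8, 5, 3, 1, 3, 4],
  [1, 2, 5, 1, 2, 8, 1, 8, 5, 8, 1, 8],
  [8, 9, 5, 1, 4, 5, 9, 8, 9, 5, 4, 1, 5, 9],
  [7, 4, 1, 8, 4, 8, 1, 7, 4, 2, 4],
  [3, 9, 2, 5, 3, 8, 9, 8, 9, 3, 5, 2, 3, 9, 2],
  [3, 5, 9, 8, 3, 5, 4, 8, 4, 5, 3, 8, 9, 5],
  [1, 7, 5, 1, 7, 8, 1, 8, 5, 3, 1, 3, 4, 7],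
  [5, 1, 4, 5, 1, 4, 5, 4, 1],
  [2, 4, 5, 6, 5, 4, 2, 3, 4, 5, 6, 5, 4, 3],
  [4, 2, 9, 7, 4, 2, 4, 7, 9, 4, 2],
  [7, 8, 1, 5, 1, 2, 8, 7, 1, 8, 5, 8, 2, 1],
  [8, 6, 8, 1, 8, 6, 5, 6, 8, 6, 4, 8, 6, 5],
  [1, 3, 4, 7, 8, 1, 8, 7, 2, 1, 7, 1, 2, 3],
  [3, 2, 1, 4, 2, 7, 1, 3, 1, 7, 2, 4, 1, 2],
  [8, 3, 1, 3, 4, 8, 9, 2, 4, 3, 1, 3, 2, 9],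
  [4, 7, 5, 4, 1, 7, 1, 2, 1, 7, 1, 4, 5, 7, 4, 2],
  [7, 5, 3, 5, 8, 3, 5, 3, 5, 7, 4, 8, 3, 4],
  [3, 2, 3, 5, 7, 5, 8, 3, 2, 7, 3, 8, 5, 7],
  [6, 9, 5, 8, 5, 6, 8, 6, 8, 9, 2, 4, 2],
  [8, 6, 8, 6, 5, 4, 1, 2, 1, 4, 5, 8, 6],
  [5, 2, 1, 7, 4, 5, 8, 1, 4, 8, 5, 4, 7, 1],
  [6, 7, 1, 3, 1, 4, 5, 3, 5, 4, 7, 6, 2, 3, 2],
  [8, 2, 1, 5, 9, 1, 4, 5, 1, 2, 8, 5, 4, 9, 5],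
  [5, 9, 5, 6, 5, 9, 5, 6, 5, 9, 5, 6],
  [8, 3, 1, 3, 7, 5, 1, 8, 1, 5, 7, 3, 1, 3],
  [9, 7, 5, 9, 7, 5, 2, 9, 7, 5, 2, 9, 7, 5],
  [3, 8, 2, 9, 2, 8, 3, 1, 2, 8, 9, 2, 8, 1],
  [1, 7, 1, 7, 1, 7, 1, 7, 5, 1, 7, 1, 5, 7],
  [3, 8, 5, 8, 9, 2, 4, 5, 2, 3, 5, 4, 9, 5],
  [8, 2, 3, 2, 8, 3, 7, 8, 7, 3],
  [4, 2, 1, 8, 1, 4, 8, 7, 8, 1, 8, 1, 7],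
  [2, 4, 5, 8, 2, 5, 9, 5, 9, 8, 9, 5, 4, 2, 9],
  [5, 7, 1, 7, 4, 3, 1, 3, 5, 8, 1, 8, 7, 1],
  [3, 2, 7, 3, 8, 5, 7, 3, 2, 3, 5, 7, 5, 8],
  [5, 7, 3, 1, 7, 1, 3, 7, 8, 4, 5, 8],
  [2, 3, 7, 5, 8, 3, 7, 2, 3, 8, 5, 7, 5, 3],
  [4, 2, 9, 4, 2, 4, 9, 2, 4, 9, 2, 9],
  [7, 3, 1, 3, 8, 3, 1, 3, 7, 5, 1, 8, 1, 5],
  [5, 1, 8, 1, 5, 7, 3, 1, 3, 8, 3, 1, 3, 7],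
  [8, 1, 8, 1, 2, 5, 1, 2, 8, 1, 8, 5],
  [4, 8, 4, 7, 1, 3, 8, 1, 3, 1, 8, 3, 1, 7],
  [7, 8, 5, 8, 7, 8, 2, 5, 8, 7, 8, 5, 8],
  [9, 5, 2, 1, 5, 8, 9, 2, 5, 1, 5, 8],
  [6, 8, 1, 8, 6, 3, 1, 3, 8, 1, 8, 1, 3, 1, 3],
  [7, 1, 3, 7, 8, 4, 5, 8, 5, 7, 3, 1],
  [5, 3, 5, 2, 1, 4, 2, 5, 3, 5, 7, 4, 1, 7],
  [3, 2, 1, 8, 3, 1, 3, 8, 1, 2, 3, 1],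
  [3, 5, 1, 4, 5, 3, 5, 1, 4, 5],
  [1, 4, 7, 4, 2, 4, 7, 1, 8, 4, 8],
  [8, 4, 3, 1, 3, 8, 9, 2, 3, 1, 3, 4, 2, 9],
  [4, 7, 2, 4, 8, 2, 3, 1, 7, 1, 3, 2, 8],
  [7, 1, 7, 1, 2, 1, 2, 3, 1, 3, 4, 2, 1, 7, 2, 1],
  [9, 2, 4, 2, 9, 6, 4, 1, 2, 4, 2, 1, 6],
  [5, 2, 3, 8, 5, 8, 3, 2, 5, 3, 8, 5, 8, 3],
  [4, 7, 9, 4, 2, 4, 2, 9, 7, 4, 2],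
  [2, 1, 7, 9, 2, 1, 3, 1, 3, 4, 2, 9, 7, 1, 7],
  [8, 4, 7, 8, 7, 4, 8, 4, 7, 8, 7, 4],
  [5, 6, 5, 4, 2, 4, 5, 6, 5, 4, 2, 4],
  [5, 4, 1, 7, 1, 2, 1, 7, 1, 4, 5, 7, 4, 2, 4, 7],
  [3, 2, 9, 3, 2, 5, 3, 9, 8, 9, 8, 3, 5, 2, 9],
  [3, 8, 5, 7, 3, 2, 3, 5, 7, 5, 8, 3, 2, 7],
  [2, 4, 2, 1, 6, 7, 4, 2, 4, 7, 6, 1],
  [3, 2, 8, 1, 2, 5, 3, 5, 8, 3, 1, 8],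
  [7, 5, 3, 5, 7, 2, 1, 7, 5, 2, 3, 2, 5, 7, 1, 2],
  [1, 2, 8, 4, 2, 8, 1, 8, 2, 4, 8, 2],
  [5, 8, 5, 7, 1, 2, 4, 2, 1, 5, 8, 5, 4, 7],
  [3, 5, 9, 3, 8, 5, 3, 1, 3, 5, 8, 9, 5, 1],
  [2, 1, 6, 7, 4, 2, 4, 7, 6, 1, 2, 4],
  [1, 4, 8, 7, 8, 1, 8, 1, 7, 4, 2, 1, 8],
  [8, 7, 8, 5, 8, 7, 8, 5, 8, 7, 8, 5, 2],
  [4, 7, 4, 5, 8, 5, 8, 7, 4, 8, 7, 8],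
  [1, 3, 5, 4, 9, 5, 7, 1, 5, 7, 1, 7, 9, 3, 5],
  [3, 1, 3, 2, 1, 8, 3, 1, 3, 8, 1, 2],
  [8, 1, 7, 4, 2, 4, 7, 4, 1, 8, 4],
  [9, 5, 9, 5, 1, 7, 9, 1, 5, 1, 9, 7, 1, 5],
  [3, 1, 8, 9, 8, 3, 1, 3, 1, 8, 9, 8, 3, 1],
  [2, 4, 3, 1, 3, 2, 9, 8, 3, 1, 3, 4, 8, 9],
  [2, 1, 8, 3, 1, 3, 8, 1, 2, 3, 1, 3],
  [1, 5, 8, 5, 4, 8, 1, 5, 8, 5, 4, 8],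
  [2, 7, 1, 7, 9, 2, 4, 3, 1, 3, 1, 2, 9, 7, 1],
  [1, 8, 4, 2, 1, 2, 4, 2, 9, 2, 8, 9],
  [2, 5, 8, 7, 8, 5, 8, 7, 8, 5, 8, 7, 8],
  [8, 3, 2, 7, 3, 8, 5, 7, 3, 2, 3, 5, 7, 5],
  [2, 9, 5, 2, 9, 2, 9, 5, 9],
  [2, 6, 8, 9, 2, 8, 6, 8, 2, 9, 8, 6],
  [8, 2, 9, 8, 6, 2, 6, 8, 9, 2, 8, 6],
  [1, 2, 9, 1, 2, 1, 9, 2, 1, 9, 2, 9],
  [5, 9, 2, 1, 2, 9, 5, 9, 5, 1, 5, 9],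
  [8, 5, 7, 9, 5, 8, 5, 8, 9, 8, 7, 5],
  [9, 8, 3, 9, 8, 2, 9, 2, 3, 2, 9, 2, 8, 3],
  [2, 1, 2, 3, 8, 4, 3, 5, 8, 5, 1, 3, 4, 8],
  [9, 2, 8, 3, 1, 8, 2, 9, 8, 2, 1, 3, 8, 2],
  [1, 9, 2, 9, 1, 2, 9, 1, 2, 1, 9, 2],
  [8, 9, 3, 8, 2, 9, 2, 3, 2, 9, 2, 8, 9, 3],
  [9, 2, 8, 3, 1, 2, 8, 9, 2, 8, 1, 3, 8, 2],
  [8, 9, 2, 4, 3, 1, 3, 2, 9, 8, 3, 1, 3, 4],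
  [8, 3, 1, 7, 8, 7, 1, 3, 2, 8, 1, 3, 1, 2],
  [2, 3, 2, 8, 3, 7, 8, 7, 3, 8],
  [5, 9, 5, 9, 5, 9, 5, 9, 5, 9, 5, 9],
  [8, 5, 3, 8, 2, 1, 2, 8, 3, 1, 4, 8, 4, 5],
  [8, 9, 5, 4, 8, 1, 8, 4, 2, 1, 5, 8, 9, 2],
  [2, 9, 8, 9, 8, 5, 8, 9, 8, 9, 5],
  [8, 4, 5, 1, 5, 9, 4, 8, 5, 2, 1, 5, 1, 9, 2],
  [1, 2, 4, 2, 9, 2, 8, 9, 1, 8, 4, 2],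
  [9, 4, 2, 5, 8, 5, 4, 9, 5, 1, 8, 1, 5, 2],
  [7, 1, 7, 4, 7, 1, 7, 1, 4, 7, 4, 1],
  [2, 1, 2, 5, 3, 5, 1, 2, 3, 1, 3, 2, 1, 3],
  [6, 8, 4, 9, 2, 8, 4, 2, 6, 5, 9, 2, 9, 5],
  [1, 8, 4, 8, 1, 7, 4, 2, 4, 7, 4],
  [6, 2, 9, 2, 6, 7, 9, 1, 2, 1, 9, 7, 1, 2, 1],
  [5, 3, 1, 4, 3, 8, 4, 3, 2, 1, 2, 5, 3, 8],
  [4, 5, 4, 8, 5, 8, 4, 8, 5, 8],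
  [9, 4, 5, 3, 1, 5, 3, 9, 7, 1, 7, 5, 1, 7, 5],
  [9, 2, 9, 5, 6, 2, 4, 8, 2, 9, 4, 8, 6, 5],
  [8, 4, 5, 3, 8, 9, 5, 3, 5, 9, 8, 3, 5, 4],
  [2, 1, 2, 4, 2, 9, 2, 8, 9, 1, 8, 4],
  [7, 4, 5, 8, 5, 1, 2, 4, 2, 1, 7, 5, 8, 5],
  [9, 2, 1, 2, 9, 6, 1, 4, 2, 1, 2, 4, 6],
  [4, 8, 2, 1, 2, 8, 4, 2, 8, 1, 8, 2],
  [5, 9, 5, 8, 3, 5, 9, 5, 9, 5, 3, 8, 5, 9],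
  [9, 1, 5, 6, 4, 2, 9, 2, 4, 6, 5, 9, 1, 2],
  [1, 5, 9, 4, 5, 8, 5, 2, 4, 9, 2, 5, 1, 8],
  [9, 5, 4, 1, 2, 1, 4, 5, 9, 5, 1, 4, 2, 1, 4, 5],
  [1, 9, 8, 4, 8, 9, 1, 2, 4, 2],
  [9, 8, 4, 2, 9, 2, 1, 2, 8, 1, 4, 2],
  [8, 4, 2, 4, 5, 4, 2, 4, 2, 8, 5],
  [9, 5, 9, 5, 8, 3, 5, 9, 5, 9, 5, 3, 8, 5],
  [4, 5, 6, 5, 4, 2, 4, 5, 6, 5, 4, 2],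
  [6, 5, 4, 1, 2, 1, 4, 5, 8, 6, 8, 6, 8],
  [1, 3, 8, 2, 3, 1, 3, 9, 8, 2, 9, 3],
  [9, 2, 5, 1, 8, 1, 5, 9, 4, 5, 8, 5, 2, 4],
  [5, 3, 2, 3, 1, 3, 2, 5, 3, 8, 5, 1, 5, 8],
  [4, 7, 2, 1, 2, 3, 2, 4, 1, 2, 3, 2, 1, 2, 7, 1],
  [1, 7, 2, 1, 2, 3, 2, 1, 4, 2, 3, 2, 1, 2, 7, 4],
  [1, 2, 1, 9, 7, 6, 2, 9, 2, 6, 1, 2, 1, 7, 9],
  [3, 5, 9, 3, 5, 4, 2, 1, 3, 1, 3, 2, 4, 5, 9, 5],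
  [9, 6, 5, 9, 6, 5, 6, 9, 5, 6, 9, 5, 6, 9, 5],
  [1, 6, 7, 4, 2, 4, 7, 6, 1, 2, 4, 2],
  [9, 7, 2, 9, 2, 7, 9, 7, 2],
  [9, 7, 5, 8, 9, 2, 9, 8, 5, 7, 9, 2],
  [8, 1, 3, 4, 8, 3, 9, 7, 4, 1, 7, 9, 8, 3],
  [8, 9, 8, 9, 2, 5, 9, 8, 9, 8, 5],
  [7, 1, 8, 5, 8, 2, 1, 7, 8, 1, 5, 1, 2, 8],
  [2, 4, 2, 9, 7, 4, 2, 4, 7, 9, 4],
  [8, 1, 8, 7, 2, 1, 7, 1, 2, 3, 1, 3, 4, 7],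
  [6, 7, 1, 6, 7, 6, 1, 7, 1, 6, 7, 1],
  [9, 7, 6, 2, 9, 2, 6, 1, 2, 1, 7, 9, 1, 2, 1],
  [1, 8, 1, 8, 7, 8, 4, 1, 8, 1, 2, 4, 7],
  [2, 4, 1, 8, 4, 1, 2, 1, 4, 8, 1, 4],
  [4, 8, 7, 8, 7, 2, 4, 1, 2, 7, 8, 7, 8, 1],
  [2, 8, 1, 2, 5, 3, 5, 8, 3, 1, 8, 3],
  [1, 6, 2, 9, 2, 6, 7, 9, 1, 2, 1, 9, 7, 1, 2],
  [4, 2, 6, 7, 6, 2, 4, 1, 2, 6, 7, 6, 2, 1],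
  [8, 3, 5, 9, 4, 5, 3, 2, 5, 4, 2, 9, 8, 5],
  [6, 2, 3, 1, 3, 2, 6, 3, 5, 1, 2, 1, 2, 3, 5],
  [5, 9, 5, 1, 7, 9, 1, 5, 1, 9, 7, 1, 5, 9],
  [2, 1, 5, 8, 9, 2, 5, 1, 5, 8, 9, 5],
  [9, 2, 8, 9, 5, 1, 5, 2, 8, 5, 1, 5],
  [4, 3, 5, 8, 1, 8, 3, 1, 8, 5, 4, 8],
  [1, 2, 6, 8, 6, 2, 1, 2, 6, 8, 6, 2],
  [4, 2, 8, 1, 8, 2, 4, 8, 2, 1, 2, 8],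
  [8, 4, 7, 1, 3, 8, 1, 3, 1, 8, 3, 1, 7, 4],
  [4, 2, 4, 5, 1, 8, 5, 4, 2, 4, 5, 8, 1, 5],
  [7, 1, 8, 1, 7, 8, 7, 1, 8, 1, 7, 8],
  [4, 8, 4, 5, 8, 1, 3, 8, 1, 8, 5, 3],
  [8, 4, 5, 8, 5, 9, 5, 8, 5, 4, 8, 9],
  [8, 7, 1, 2, 8, 4, 7, 8, 7, 1, 8, 2, 4, 7],
  [1, 8, 2, 1, 5, 2, 1, 8, 1, 8, 5, 8],
  [4, 8, 5, 2, 1, 5, 1, 9, 2, 8, 4, 5, 1, 5, 9],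
  [7, 1, 3, 8, 2, 1, 3, 1, 8, 2, 3, 1, 7, 8],
  [9, 2, 1, 8, 9, 5, 8, 5, 1, 8, 2, 5, 8, 5],
  [4, 1, 8, 1, 2, 4, 7, 1, 8, 1, 8, 7, 8],
  [1, 7, 9, 8, 3, 8, 1, 3, 4, 8, 3, 9, 7, 4],
  [1, 4, 5, 3, 8, 1, 3, 1, 8, 3, 5, 1, 4, 8],
  [5, 4, 3, 5, 2, 1, 2, 1, 3, 4, 8, 5, 4, 8],
  [5, 2, 1, 8, 2, 3, 8, 1, 3, 8, 5, 3],
  [3, 1, 5, 3, 2, 9, 5, 2, 3, 1, 5, 3, 2, 9, 2, 5],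
  [9, 5, 1, 7, 9, 1, 5, 1, 9, 7, 1, 5, 9, 5],
  [1, 7, 8, 7, 1, 2, 1, 7, 8, 7, 1, 2],
  [8, 5, 8, 7, 4, 8, 7, 8, 4, 7, 4, 5],
  [8, 6, 8, 2, 6, 8, 2, 6, 2, 8, 6, 2],
  [3, 7, 1, 8, 5, 4, 8, 1, 3, 7, 1, 7, 5, 1],
  [4, 7, 8, 5, 8, 5, 4, 7, 4, 8, 7, 8],
  [5, 8, 4, 5, 8, 4, 3, 1, 2, 1, 2, 5, 3, 4],
  [9, 8, 9, 5, 4, 1, 5, 9, 8, 9, 5, 1, 4, 5],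
  [3, 5, 9, 4, 5, 3, 2, 5, 4, 2, 9, 8, 5, 8],
  [4, 8, 7, 3, 1, 7, 1, 3, 7, 5, 8, 5],
  [5, 8, 1, 5, 8, 1, 5, 1, 8, 5, 1, 8],
  [8, 9, 2, 5, 9, 8, 9, 8, 5, 8, 9],
  [4, 6, 8, 6, 8, 9, 6, 5, 8, 5, 8, 4, 9, 8],
  [1, 7, 3, 1, 8, 4, 5, 8, 1, 7, 3, 1, 5, 7],
  [2, 4, 7, 9, 4, 2, 4, 2, 9, 7, 4],
  [2, 4, 6, 9, 2, 1, 2, 9, 6, 1, 4, 2, 1],
  [1, 3, 7, 8, 4, 5, 8, 5, 7, 3, 1, 7],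
  [5, 8, 4, 1, 8, 5, 4, 7, 1, 2, 5, 1, 7, 4],
  [8, 1, 5, 8, 5, 4, 8, 1, 5, 8, 5, 4],
  [6, 1, 8, 5, 8, 5, 1, 8, 6, 8, 6, 4, 8],
  [9, 8, 2, 9, 7, 4, 2, 1, 2, 4, 8, 1, 7],
  [7, 4, 5, 1, 7, 5, 3, 2, 4, 2, 3, 5, 1, 5, 1],
  [5, 7, 1, 5, 4, 7, 5, 4, 7, 1, 7, 5, 4, 7, 1],
  [4, 1, 2, 1, 4, 8, 1, 4, 2, 4, 1, 8],
  [4, 9, 7, 4, 2, 4, 7, 9, 2, 4, 2],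
  [4, 7, 5, 1, 7, 8, 7, 1, 5, 7, 4, 1, 8, 1],
  [8, 5, 2, 4, 9, 2, 5, 1, 8, 1, 5, 9, 4, 5],
  [5, 7, 9, 5, 7, 9, 2, 5, 7, 9, 2, 5, 7, 9],
  [2, 1, 4, 2, 1, 4, 2, 4, 1, 2, 4, 1],
  [3, 7, 8, 4, 5, 8, 5, 7, 3, 1, 7, 1],
  [5, 7, 5, 1, 2, 1, 7, 1, 2, 1, 2, 5, 7, 1, 2, 1],
  [8, 4, 7, 8, 5, 8, 5, 4, 7, 4, 8, 7],
  [2, 8, 1, 8, 5, 8, 1, 8, 1, 2, 5, 1],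
  [7, 8, 4, 1, 3, 1, 3, 8, 7, 1, 7, 2, 1],
  [6, 9, 8, 2, 4, 8, 2, 9, 6, 8, 2, 4, 2, 8],
  [7, 1, 2, 1, 7, 4, 6, 2, 1, 3, 4, 1, 3, 2, 6, 4],
  [5, 4, 8, 5, 4, 3, 5, 2, 1, 2, 1, 3, 4, 8],
  [4, 2, 4, 7, 6, 1, 2, 4, 2, 1, 6, 7],
  [8, 2, 1, 7, 8, 7, 4, 2, 8, 1, 7, 8, 7, 4],
  [3, 1, 9, 5, 1, 3, 9, 2, 9, 2, 1, 5, 9, 1, 2],
  [4, 2, 9, 2, 1, 2, 8, 1, 4, 2, 9, 8],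
  [1, 2, 6, 5, 4, 7, 1, 2, 1, 7, 4, 5, 6, 2, 4],
  [1, 8, 7, 8, 4, 1, 8, 1, 2, 4, 7, 1, 8],
  [7, 8, 5, 8, 5, 4, 7, 4, 8, 7, 8, 4],
  [8, 4, 8, 4, 7, 1, 5, 7, 8, 7, 8, 5, 1, 7],
  [7, 5, 2, 9, 7, 5, 2, 9, 7, 5, 9, 7, 5, 9],
  [8, 1, 4, 8, 4, 1, 8, 1, 4, 8, 1, 4],
  [4, 7, 4, 5, 2, 5, 3, 5, 4, 7, 4, 5, 3, 2],
  [3, 5, 7, 4, 8, 3, 4, 7, 5, 3, 5, 8, 3, 5],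
  [2, 5, 3, 8, 5, 8, 3, 5, 2, 3, 8, 5, 8, 3],
  [3, 5, 8, 1, 8, 7, 1, 5, 7, 1, 7, 4, 3, 1],
  [8, 7, 3, 1, 7, 1, 3, 7, 5, 8, 5, 4],
  [2, 1, 5, 2, 1, 8, 1, 8, 5, 8, 1, 8],
  [3, 2, 3, 7, 1, 4, 7, 3, 2, 4, 3, 1],
  [1, 8, 1, 2, 5, 1, 2, 8, 1, 8, 5, 8],
  [9, 8, 4, 8, 9, 1, 2, 4, 2, 1],
  [8, 4, 5, 8, 5, 1, 8, 4, 5, 8, 5, 1],
  [2, 1, 9, 2, 9, 1, 2, 9, 1, 2, 1, 9],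
  [8, 2, 4, 8, 2, 1, 2, 8, 4, 2, 8, 1],
  [2, 3, 2, 6, 7, 1, 3, 1, 4, 5, 3, 5, 4, 7, 6],
  [5, 6, 2, 4, 3, 1, 3, 2, 6, 5, 6, 2, 4, 2, 6],
  [4, 5, 7, 1, 7, 4, 5, 7, 1, 4, 7, 5, 1, 5, 7],
  [2, 5, 9, 2, 5, 1, 5, 2, 9, 5, 2, 1],
  [5, 2, 9, 5, 2, 1, 2, 5, 9, 2, 5, 1],
  [2, 1, 7, 4, 5, 6, 2, 4, 1, 2, 6, 5, 4, 7, 1],
  [8, 4, 3, 1, 2, 1, 2, 5, 3, 4, 5, 8, 4, 5],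
  [5, 7, 1, 5, 7, 1, 7, 9, 3, 5, 1, 3, 5, 4, 9],
  [6, 2, 4, 2, 9, 8, 6, 8, 6, 5, 8, 5, 9],
  [7, 1, 5, 7, 5, 1, 5, 7, 1, 7, 1, 5, 7, 1, 5],
  [3, 2, 5, 3, 8, 5, 8, 3, 5, 2, 3, 8, 5, 8],
  [1, 7, 5, 9, 5, 9, 7, 1, 7, 9, 5, 9, 5, 7],
  [8, 2, 9, 5, 1, 5, 8, 2, 5, 1, 5, 9],
  [8, 4, 6, 8, 6, 5, 6, 8, 1, 8, 6, 8, 5, 6],
  [9, 6, 4, 1, 2, 4, 2, 1, 6, 9, 2, 4, 2],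
  [4, 2, 4, 7, 4, 1, 8, 4, 8, 1, 7],
  [3, 2, 3, 7, 5, 8, 3, 7, 2, 3, 8, 5, 7, 5],
  [7, 5, 2, 9, 7, 5, 9, 7, 5, 9, 7, 5, 2, 9],
  [8, 1, 5, 7, 3, 1, 3, 8, 3, 1, 3, 7, 5, 1],
  [8, 2, 6, 2, 8, 6, 2, 8, 6, 8, 2, 6],
  [8, 2, 1, 5, 1, 8, 7, 1, 2, 8, 5, 8, 1, 7],
  [5, 9, 4, 5, 3, 1, 5, 3, 9, 7, 1, 7, 5, 1, 7],
  [2, 9, 2, 1, 4, 6, 9, 2, 9, 2, 6, 4, 1],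
  [8, 1, 4, 5, 3, 8, 1, 3, 1, 8, 3, 5, 1, 4],
  [9, 5, 1, 5, 9, 5, 6, 4, 2, 1, 2, 1, 4, 6, 5],
  [8, 5, 8, 9, 2, 4, 5, 2, 3, 5, 4, 9, 5, 3],
  [8, 9, 5, 2, 9, 8, 9, 8, 5, 8, 9],
  [8, 1, 5, 7, 4, 8, 4, 7, 5, 8, 4, 8, 1, 4],
  [3, 8, 1, 3, 8, 5, 3, 5, 2, 1, 8, 2],
  [3, 1, 8, 5, 7, 1, 3, 8, 3, 1, 7, 5, 8, 1],
  [9, 1, 8, 3, 1, 3, 2, 1, 9, 2, 3, 1, 3, 8],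
  [2, 8, 4, 2, 8, 1, 8, 2, 4, 8, 2, 1],
  [5, 6, 5, 9, 5, 6, 5, 9, 5, 6, 5, 9],
  [4, 3, 1, 3, 2, 1, 7, 1, 2, 7, 8, 1, 8, 7],
  [4, 5, 1, 5, 9, 4, 8, 5, 2, 1, 5, 1, 9, 2, 8],
  [9, 8, 9, 2, 5, 9, 8, 9, 8, 5, 8],
  [2, 1, 2, 4, 8, 1, 9, 8, 2, 9, 2, 4],
  [6, 2, 3, 2, 6, 5, 6, 2, 3, 2, 3, 6, 5, 3],
  [1, 9, 2, 1, 9, 2, 9, 1, 2, 9, 1, 2],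
  [1, 7, 8, 7, 1, 8, 1, 7, 8, 7, 1, 8],
  [2, 4, 5, 7, 4, 2, 4, 5, 8, 5, 7, 8, 5, 4],
  [3, 1, 2, 9, 2, 1, 3, 1, 3, 2, 9, 2, 3, 1],
  [3, 2, 9, 2, 3, 1, 3, 1, 2, 9, 2, 1, 3, 1],
  [9, 5, 3, 1, 2, 1, 3, 5, 3, 1, 2, 9, 4, 1, 3, 4],
  [3, 7, 2, 3, 8, 4, 1, 7, 3, 2, 3, 1, 4, 8],
  [3, 8, 1, 3, 1, 8, 3, 5, 4, 1, 8, 4, 1, 5],
  [9, 2, 3, 1, 3, 8, 9, 1, 8, 3, 1, 3, 2, 1],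
  [4, 7, 1, 2, 1, 7, 4, 6, 2, 1, 3, 4, 1, 3, 2, 6],
  [9, 4, 5, 8, 2, 1, 5, 4, 1, 9, 5, 1, 2, 8, 5],
  [2, 5, 9, 8, 9, 8, 5, 8, 9, 8, 9],
  [1, 7, 4, 8, 4, 7, 1, 3, 8, 1, 3, 1, 8, 3],
  [2, 4, 2, 1, 9, 8, 4, 8, 9, 1],
  [9, 2, 8, 9, 7, 1, 8, 4, 2, 1, 2, 4, 7],
  [9, 4, 8, 9, 4, 8, 4, 9, 8, 9, 4, 8],
  [9, 6, 1, 4, 2, 1, 2, 4, 6, 9, 2, 1, 2],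
  [9, 1, 4, 5, 1, 2, 8, 5, 4, 9, 5, 8, 2, 1, 5],
  [3, 1, 3, 4, 8, 7, 8, 3, 1, 3, 4, 8, 7, 8],
  [2, 9, 7, 4, 2, 4, 7, 9, 4, 2, 4],
  [2, 4, 2, 8, 3, 4, 5, 4, 3, 8, 2, 4, 3, 5, 3],
  [1, 2, 3, 1, 3, 2, 1, 8, 3, 1, 3, 8],
  [6, 8, 6, 8, 6, 8, 5, 4, 1, 2, 1, 4, 5],
  [9, 5, 8, 2, 1, 5, 9, 1, 4, 5, 1, 2, 8, 5, 4],
  [4, 9, 5, 8, 2, 1, 5, 9, 1, 4, 5, 1, 2, 8, 5],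
  [9, 7, 2, 9, 2, 7, 9, 2, 7],
  [8, 3, 1, 8, 2, 9, 8, 2, 1, 3, 8, 2, 9, 2],
  [2, 9, 2, 1, 4, 6, 2, 9, 2, 9, 6, 4, 1],
  [1, 4, 7, 4, 1, 3, 1, 7, 3, 1, 3, 1, 4, 7, 1, 3],
  [6, 8, 6, 8, 6, 5, 4, 1, 2, 1, 4, 5, 8],
  [9, 5, 1, 8, 1, 5, 2, 9, 4, 2, 5, 8, 5, 4],
  [2, 9, 1, 2, 1, 9, 2, 1, 9, 2, 9, 1],
  [2, 3, 7, 1, 4, 7, 3, 2, 4, 3, 1, 3],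
  [7, 9, 1, 5, 1, 9, 7, 1, 5, 9, 5, 9, 5, 1],
  [3, 1, 4, 8, 7, 1, 2, 7, 1, 7, 8, 3, 1],
  [3, 5, 2, 5, 4, 7, 4, 2, 3, 5, 4, 7, 4, 5],
  [1, 4, 7, 5, 1, 5, 7, 4, 5, 7, 1, 7, 4, 5, 7],
  [2, 1, 4, 2, 7, 1, 3, 1, 7, 2, 4, 1, 2, 3],
  [6, 8, 4, 6, 8, 6, 5, 6, 8, 1, 8, 6, 8, 5],
  [7, 1, 8, 2, 4, 7, 8, 7, 1, 2, 8, 4, 7, 8],
  [8, 4, 7, 8, 7, 1, 8, 2, 4, 7, 8, 7, 1, 2],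
  [9, 8, 2, 4, 8, 2, 9, 6, 8, 2, 4, 2, 8, 6],
  [8, 1, 2, 4, 7, 1, 8, 1, 8, 7, 8, 4, 1],
  [9, 5, 7, 9, 2, 5, 7, 9, 2, 5, 7, 9, 5, 7],
  [4, 7, 1, 8, 1, 8, 7, 8, 4, 1, 8, 1, 2],
  [9, 5, 9, 5, 9, 3, 4, 5, 9, 5, 3, 4],
  [8, 5, 8, 9, 8, 7, 5, 8, 5, 7, 9, 5],
  [2, 3, 2, 6, 7, 5, 3, 5, 7, 6, 3],
  [8, 1, 8, 2, 1, 5, 2, 1, 8, 1, 8, 5],
  [9, 1, 2, 1, 7, 9, 7, 1, 4, 2, 9, 2, 4, 2, 1, 7],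
  [6, 2, 1, 4, 2, 6, 7, 6, 2, 4, 1, 2, 6, 7],
  [6, 2, 4, 5, 1, 5, 4, 2, 6, 1, 5, 1, 5],
  [3, 8, 3, 2, 9, 2, 3, 8, 3, 2, 9, 2],
  [7, 1, 2, 5, 1, 7, 4, 5, 8, 4, 1, 8, 5, 4],
  [4, 5, 8, 4, 1, 8, 5, 4, 7, 1, 2, 5, 1, 7],
  [7, 1, 7, 1, 7, 1, 7, 1, 7, 5, 1, 7, 1, 5],
  [5, 7, 9, 2, 5, 7, 9, 2, 5, 7, 9, 5, 7, 9],
  [8, 2, 5, 8, 7, 8, 5, 8, 7, 8, 5, 8, 7],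
  [7, 5, 1, 7, 5, 1, 7, 1, 7, 5, 1, 5, 7, 5, 1],
  [4, 7, 5, 1, 5, 7, 4, 1, 7, 5, 4, 7, 1, 7, 5],
  [4, 1, 2, 6, 5, 4, 7, 1, 2, 1, 7, 4, 5, 6, 2],
  [4, 1, 7, 5, 3, 5, 2, 1, 4, 2, 5, 3, 5, 7],
  [3, 7, 5, 8, 5, 4, 8, 7, 3, 1, 7, 1],
  [9, 5, 9, 7, 1, 7, 9, 5, 9, 5, 7, 1, 7, 5],
  [3, 8, 1, 2, 3, 1, 3, 2, 1, 8, 3, 1],
  [9, 6, 4, 7, 1, 4, 7, 1, 6, 9, 7, 1, 4, 7],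
  [1, 7, 2, 1, 7, 8, 4, 1, 3, 1, 3, 8, 7],
  [8, 1, 4, 2, 9, 8, 4, 2, 9, 2, 1, 2],
  [8, 5, 4, 9, 5, 8, 2, 1, 5, 9, 1, 4, 5, 1, 2],
  [3, 2, 1, 7, 1, 2, 7, 8, 1, 8, 7, 4, 3, 1],
  [8, 5, 7, 8, 5, 4, 2, 4, 5, 7, 4, 2, 4, 5],
  [4, 1, 2, 1, 4, 5, 6, 8, 6, 8, 6, 8, 5],
  [9, 1, 2, 9, 1, 5, 6, 4, 2, 9, 2, 4, 6, 5],
  [8, 1, 2, 9, 5, 8, 5, 2, 8, 1, 5, 8, 5, 9],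
  [9, 2, 1, 2, 9, 4, 3, 1, 3, 2, 1, 2, 3, 1, 3, 4],
  [8, 9, 8, 4, 5, 8, 5, 9, 5, 8, 5, 4],
  [1, 7, 4, 1, 3, 1, 3, 7, 1, 3, 1, 4, 7, 4, 1, 3],
  [6, 8, 2, 6, 8, 2, 6, 2, 8, 6, 2, 8],
  [4, 2, 3, 4, 5, 6, 5, 4, 3, 2, 4, 5, 6, 5],
  [6, 9, 2, 9, 2, 6, 4, 1, 2, 9, 2, 1, 4],
  [9, 4, 8, 5, 2, 1, 5, 1, 9, 2, 8, 4, 5, 1, 5],
  [3, 4, 5, 4, 3, 8, 2, 4, 3, 5, 3, 2, 4, 2, 8],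
  [4, 7, 9, 3, 8, 4, 3, 1, 8, 3, 8, 9, 7, 1],
  [5, 8, 9, 5, 2, 1, 5, 8, 9, 2, 5, 1],
  [9, 2, 9, 4, 1, 2, 4, 1, 9, 2, 1, 4, 9, 2, 1, 4],
  [5, 1, 5, 2, 8, 5, 1, 5, 9, 2, 8, 9],
  [5, 9, 5, 4, 2, 4, 5, 9, 5, 4, 2, 4],
  [9, 2, 9, 8, 5, 7, 9, 2, 9, 7, 5, 8],
  [5, 1, 7, 1, 5, 7, 1, 7, 1, 7, 1, 7, 1, 7],
  [7, 8, 7, 4, 8, 4, 7, 8, 7, 4, 8, 4],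
  [9, 5, 8, 5, 6, 8, 6, 8, 9, 2, 4, 2, 6],
  [4, 8, 3, 1, 7, 1, 3, 1, 2, 4, 2, 1, 8, 7],
  [1, 4, 2, 6, 5, 4, 7, 1, 2, 1, 7, 4, 5, 6, 2],
  [3, 1, 3, 8, 7, 1, 7, 2, 1, 7, 8, 4, 1],
  [6, 1, 2, 4, 5, 9, 2, 9, 5, 4, 2, 1, 6, 2, 9, 2],
  [9, 7, 5, 2, 9, 7, 5, 2, 9, 7, 5, 9, 7, 5],
  [5, 1, 7, 4, 5, 8, 4, 1, 8, 5, 4, 7, 1, 2],
  [5, 1, 7, 8, 1, 8, 5, 3, 1, 3, 4, 7, 1, 7],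
  [8, 1, 4, 8, 1, 4, 8, 1, 4, 8, 4, 1],
  [7, 9, 2, 9, 7, 8, 5, 9, 2, 9, 5, 8],
  [7, 6, 2, 4, 1, 2, 6, 7, 6, 2, 1, 4, 2, 6],
  [2, 9, 2, 9, 5, 9, 2, 9, 5],
  [8, 5, 8, 1, 8, 1, 2, 5, 1, 2, 8, 1],
  [2, 9, 2, 6, 1, 2, 1, 7, 9, 1, 2, 1, 9, 7, 6],
  [4, 5, 3, 8, 9, 5, 3, 5, 9, 8, 3, 5, 4, 8],
  [7, 5, 9, 3, 5, 3, 2, 3, 5, 3, 9, 5, 7, 9, 2, 9],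
  [4, 2, 4, 5, 4, 2, 4, 8, 5, 8, 2],
  [1, 5, 1, 8, 7, 8, 1, 5, 1, 8, 7, 8],
  [3, 5, 3, 8, 1, 8, 4, 1, 8, 3, 4, 5, 3, 8],
  [2, 1, 3, 4, 8, 5, 4, 8, 5, 4, 3, 5, 2, 1],
  [1, 9, 7, 1, 5, 9, 5, 9, 5, 1, 7, 9, 1, 5],
  [9, 2, 1, 9, 5, 6, 4, 2, 9, 2, 4, 6, 5, 1],
  [5, 2, 1, 2, 5, 1, 6, 8, 5, 1, 5, 8, 6],
  [1, 7, 5, 1, 7, 1, 5, 7, 1, 7, 1, 7, 1, 7],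
  [6, 9, 2, 8, 4, 2, 8, 9, 6, 8, 2, 4, 2, 8],
  [5, 2, 5, 4, 7, 8, 7, 4, 2, 4, 7, 8, 7, 4],
  [5, 4, 1, 2, 4, 1, 5, 9, 5, 4, 1, 2, 1, 4, 5, 9],
  [1, 3, 7, 5, 8, 5, 4, 8, 7, 3, 1, 7],
  [7, 9, 5, 8, 5, 8, 9, 8, 7, 5, 8, 5],
  [9, 2, 9, 7, 8, 5, 9, 2, 9, 5, 8, 7],
  [6, 2, 1, 2, 6, 9, 2, 6, 9, 2, 1, 2, 9, 6, 2, 9],
  [6, 2, 9, 6, 2, 1, 2, 6, 9, 2, 6, 9, 2, 1, 2, 9],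
  [5, 7, 4, 8, 4, 7, 5, 1, 8, 4, 1, 8, 4, 8],
  [3, 5, 2, 1, 8, 2, 3, 8, 1, 3, 8, 5],
  [5, 1, 6, 8, 5, 1, 5, 8, 6, 5, 2, 1, 2],
  [8, 7, 8, 4, 8, 7, 1, 2, 4, 2, 1, 7, 8, 4],
  [2, 8, 6, 2, 8, 6, 8, 2, 6, 8, 2, 6],
  [8, 1, 7, 4, 2, 1, 8, 1, 4, 8, 7, 8, 1],
  [5, 9, 5, 9, 5, 1, 7, 9, 1, 5, 1, 9, 7, 1],
  [8, 6, 4, 8, 6, 1, 8, 5, 8, 5, 1, 8, 6],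
  [6, 8, 2, 4, 2, 8, 6, 9, 2, 8, 4, 2, 8, 9],
  [3, 2, 9, 2, 8, 9, 3, 8, 9, 3, 8, 2, 9, 2],
  [8, 5, 8, 5, 4, 7, 4, 8, 7, 8, 4, 7],
  [7, 4, 2, 4, 7, 5, 6, 7, 2, 1, 7, 1, 2, 7, 6, 5],
  [6, 5, 6, 2, 3, 2, 3, 6, 5, 3, 6, 2, 3, 2],
  [9, 5, 3, 5, 9, 5, 4, 2, 3, 1, 3, 1, 2, 4, 5, 3],
  [3, 1, 8, 1, 3, 5, 4, 3, 1, 8, 1, 3, 4, 5],
  [1, 3, 9, 8, 2, 9, 3, 1, 3, 8, 2, 3],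
  [8, 4, 3, 2, 1, 2, 3, 8, 1, 4, 8, 3, 5, 3, 8, 5],
  [8, 5, 1, 5, 8, 6, 1, 5, 2, 1, 2, 5, 6],
  [1, 3, 2, 1, 9, 5, 1, 2, 9, 2, 9, 3, 1, 5, 9],
  [7, 4, 3, 1, 3, 2, 1, 7, 1, 2, 7, 8, 1, 8],
  [4, 3, 1, 3, 2, 1, 2, 3, 1, 3, 4, 9, 2, 1, 2, 9],
  [3, 8, 4, 7, 5, 3, 5, 3, 8, 5, 3, 5, 7, 4],
  [7, 1, 2, 7, 5, 3, 5, 7, 2, 1, 7, 5, 2, 3, 2, 5],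
  [5, 6, 2, 3, 2, 3, 6, 5, 3, 6, 2, 3, 2, 6],
  [2, 4, 1, 2, 4, 1, 2, 1, 4, 2, 1, 4],
  [7, 6, 1, 7, 6, 1, 7, 6, 1, 7, 1, 6],
  [8, 4, 1, 2, 1, 4, 8, 1, 4, 2, 4, 1],
  [4, 5, 1, 5, 4, 8, 1, 5, 4, 2, 1, 2, 4, 5, 8],
  [3, 9, 2, 8, 9, 3, 1, 3, 2, 8, 3, 1],
  [4, 2, 6, 1, 5, 1, 5, 6, 2, 4, 5, 1, 5],
  [9, 5, 1, 5, 4, 8, 2, 9, 1, 5, 1, 2, 5, 8, 4],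
  [9, 5, 6, 9, 5, 6, 9, 5, 9, 6, 5, 9, 6, 5, 6],
  [5, 9, 5, 9, 7, 1, 7, 9, 5, 9, 5, 7, 1, 7],
  [7, 1, 4, 7, 5, 3, 5, 2, 4, 1, 2, 5, 3, 5],
  [6, 8, 5, 1, 5, 8, 6, 5, 2, 1, 2, 5, 1],
  [6, 2, 6, 8, 9, 2, 8, 6, 8, 2, 9, 8],
  [4, 2, 7, 4, 8, 2, 3, 1, 7, 1, 3, 2, 8],
  [8, 4, 8, 3, 2, 3, 8, 4, 8, 4, 3, 2, 3, 4],
  [3, 8, 1, 8, 5, 3, 4, 8, 4, 5, 8, 1],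
  [5, 8, 3, 2, 7, 3, 8, 5, 7, 3, 2, 3, 5, 7],
  [7, 1, 7, 9, 5, 7, 1, 7, 9, 5, 7, 1, 7, 9, 5],
  [6, 5, 7, 4, 2, 4, 7, 5, 6, 7, 2, 1, 7, 1, 2, 7],
  [4, 7, 4, 1, 8, 4, 8, 1, 7, 4, 2],
  [7, 8, 7, 2, 1, 4, 2, 7, 8, 7, 8, 4, 1, 8],
  [9, 4, 5, 8, 5, 2, 4, 9, 2, 5, 1, 8, 1, 5],
  [9, 5, 7, 9, 5, 7, 9, 2, 5, 7, 9, 2, 5, 7],
  [5, 9, 5, 7, 1, 7, 5, 9, 5, 9, 7, 1, 7, 9],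
  [4, 8, 4, 8, 3, 2, 3, 8, 4, 8, 4, 3, 2, 3],
  [8, 2, 3, 1, 7, 1, 3, 2, 8, 4, 2, 7, 4],
  [4, 9, 5, 3, 8, 5, 8, 9, 2, 4, 5, 2, 3, 5],
  [2, 6, 5, 6, 2, 3, 2, 3, 6, 5, 3, 6, 2, 3],
  [1, 2, 1, 4, 2, 3, 1, 7, 1, 3, 2, 4, 1, 2, 1, 7],
  [5, 9, 2, 4, 1, 3, 5, 9, 5, 3, 4, 2, 1, 9, 5, 9],
  [5, 3, 5, 3, 1, 3, 5, 3, 5, 1],
  [8, 5, 3, 4, 8, 4, 5, 8, 1, 3, 8, 1],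
  [5, 9, 6, 2, 4, 2, 9, 8, 6, 8, 6, 5, 8],
  [8, 9, 4, 8, 9, 4, 8, 9, 4, 8, 4, 9],
  [1, 3, 8, 7, 1, 7, 2, 1, 7, 8, 4, 1, 3],
  [2, 3, 5, 8, 5, 1, 5, 8, 3, 5, 2, 3, 1, 3],
  [5, 1, 2, 3, 1, 3, 2, 1, 3, 2, 1, 2, 5, 3],
  [2, 4, 8, 2, 9, 4, 8, 6, 5, 9, 2, 9, 5, 6],
  [4, 2, 9, 2, 4, 6, 5, 1, 9, 2, 1, 9, 5, 6],
  [1, 2, 9, 2, 1, 4, 6, 9, 2, 9, 2, 6, 4],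
  [8, 9, 4, 2, 4, 5, 9, 8, 9, 4, 2, 4, 5, 9],
  [6, 5, 8, 6, 8, 1, 8, 6, 5, 6, 8, 6, 4, 8],
  [1, 3, 8, 7, 8, 4, 3, 1, 3, 8, 7, 8, 4, 3],
  [4, 7, 4, 5, 3, 5, 2, 5, 4, 7, 4, 2, 3, 5],
  [5, 6, 1, 5, 2, 1, 2, 5, 6, 5, 4, 8, 1, 8, 4],
  [8, 7, 4, 3, 1, 3, 2, 1, 7, 1, 2, 7, 8, 1],
  [9, 4, 3, 5, 9, 5, 4, 3, 9, 5, 9, 5],
  [4, 5, 3, 1, 4, 7, 2, 1, 7, 5, 2, 4, 1, 3, 1, 7],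
  [5, 4, 3, 2, 4, 5, 6, 5, 4, 2, 3, 4, 5, 6],
  [7, 8, 3, 1, 3, 4, 8, 7, 8, 3, 1, 3, 4, 8],
  [9, 8, 6, 8, 6, 4, 8, 9, 4, 8, 5, 8, 5, 6],
  [3, 4, 5, 3, 8, 3, 5, 3, 8, 1, 8, 4, 1, 8],
  [1, 8, 7, 4, 3, 1, 3, 2, 1, 7, 1, 2, 7, 8],
  [1, 3, 8, 3, 1, 3, 6, 2, 3, 1, 3, 2, 6, 8, 3],
  [4, 8, 6, 8, 4, 5, 8, 5, 6, 5, 8, 5],
  [8, 7, 5, 1, 7, 4, 8, 4, 8, 7, 1, 5, 8, 7],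
  [6, 8, 2, 4, 2, 8, 6, 9, 8, 2, 4, 8, 2, 9],
  [8, 1, 3, 1, 3, 8, 9, 8, 1, 3, 1, 3, 8, 9],
  [2, 6, 7, 9, 1, 2, 1, 9, 7, 1, 2, 1, 6, 2, 9],
  [5, 7, 3, 1, 3, 8, 3, 1, 3, 7, 5, 1, 8, 1],
  [6, 2, 9, 5, 1, 5, 9, 2, 6, 4, 5, 2, 1, 2, 5, 4],
  [5, 7, 4, 2, 4, 7, 5, 6, 7, 2, 1, 7, 1, 2, 7, 6],
  [6, 2, 4, 5, 1, 5, 4, 2, 6, 5, 1, 5, 1],
  [5, 8, 5, 6, 5, 8, 5, 4, 8, 6, 8, 4],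
  [4, 6, 2, 9, 5, 1, 5, 9, 2, 6, 4, 5, 2, 1, 2, 5],
  [2, 1, 4, 2, 5, 3, 5, 7, 4, 1, 7, 5, 3, 5],
  [8, 6, 5, 2, 1, 2, 5, 1, 6, 8, 5, 1, 5],
  [7, 4, 1, 7, 5, 3, 5, 2, 1, 4, 2, 5, 3, 5],
  [9, 2, 1, 4, 2, 9, 6, 4, 2, 4, 5, 1, 2, 1, 5, 6],
  [5, 3, 5, 8, 3, 5, 3, 5, 7, 4, 8, 3, 4, 7],
  [8, 3, 4, 1, 3, 5, 8, 3, 5, 2, 1, 2, 3, 4],
  [7, 4, 3, 8, 4, 7, 5, 3, 5, 3, 8, 5, 3, 5],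
  [5, 9, 5, 8, 5, 4, 8, 9, 8, 4, 5, 8],
  [6, 2, 9, 2, 6, 1, 2, 1, 7, 9, 1, 2, 1, 9, 7],
  [3, 1, 7, 9, 5, 9, 7, 1, 3, 1, 7, 9, 5, 9, 7, 1],
  [9, 7, 2, 9, 7, 2, 9, 2, 7],
  [2, 3, 2, 1, 3, 1, 2, 3, 2, 1, 3, 1],
  [3, 8, 3, 5, 3, 8, 1, 8, 4, 1, 8, 3, 4, 5],
  [7, 9, 5, 7, 9, 5, 7, 9, 2, 5, 7, 9, 2, 5],
  [8, 3, 1, 3, 2, 9, 1, 2, 3, 1, 3, 8, 1, 9],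
  [2, 4, 1, 2, 1, 4, 2, 1, 4, 2, 4, 1],
  [5, 4, 2, 4, 5, 7, 4, 2, 4, 5, 8, 5, 7, 8],
  [4, 7, 1, 3, 2, 4, 2, 1, 5, 4, 1, 7, 3, 1, 7, 5],
  [8, 1, 7, 9, 8, 2, 9, 7, 4, 2, 1, 2, 4],
  [1, 8, 9, 5, 8, 5, 1, 8, 2, 5, 8, 5, 9, 2],
  [5, 1, 5, 9, 5, 6, 4, 2, 1, 2, 1, 4, 6, 5, 9],
  [7, 1, 7, 9, 3, 5, 1, 3, 5, 4, 9, 5, 7, 1, 5],
  [3, 1, 3, 1, 4, 7, 1, 3, 1, 4, 7, 4, 1, 3, 1, 7],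
  [4, 5, 1, 5, 4, 2, 6, 1, 5, 1, 5, 6, 2],
  [2, 4, 6, 5, 1, 9, 2, 1, 9, 5, 6, 4, 2, 9],
  [5, 6, 2, 4, 8, 2, 9, 4, 8, 6, 5, 9, 2, 9],
  [4, 8, 6, 4, 2, 4, 2, 6, 8],
  [5, 3, 1, 4, 5, 3, 5, 4, 1, 2, 3, 5, 4, 3, 4, 2],
  [2, 6, 4, 1, 2, 9, 2, 1, 4, 6, 9, 2, 9],
  [2, 4, 7, 4, 1, 8, 4, 8, 1, 7, 4],
  [6, 2, 1, 3, 4, 1, 3, 2, 6, 4, 7, 1, 2, 1, 7, 4],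
  [4, 1, 7, 1, 2, 1, 7, 1, 4, 5, 7, 4, 2, 4, 7, 5],
  [8, 6, 8, 5, 6, 8, 4, 6, 8, 6, 5, 6, 8, 1],
  [5, 8, 3, 5, 9, 4, 5, 3, 2, 5, 4, 2, 9, 8],
  [8, 3, 1, 7, 5, 8, 1, 3, 1, 8, 5, 7, 1, 3],
  [9, 5, 4, 2, 9, 2, 4, 5, 8, 2, 5, 9, 5, 9, 8],
  [2, 1, 7, 4, 5, 8, 1, 4, 8, 5, 4, 7, 1, 5],
  [7, 1, 2, 4, 3, 1, 3, 2, 1, 2, 1, 7, 1, 7, 1, 2],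
  [1, 5, 2, 1, 2, 5, 6, 8, 5, 1, 5, 8, 6],
  [4, 5, 4, 2, 4, 2, 8, 5, 8, 4, 2],
  [5, 1, 4, 5, 3, 5, 1, 7, 4, 5, 3, 2, 4, 7, 4, 2],
  [4, 5, 8, 5, 6, 5, 8, 5, 4, 8, 6, 8],
  [4, 1, 7, 9, 6, 1, 7, 4, 1, 7, 4, 6, 9, 7],
  [2, 1, 4, 6, 9, 2, 9, 2, 6, 4, 1, 2, 9],
  [5, 1, 5, 9, 2, 6, 4, 5, 2, 1, 2, 5, 4, 6, 2, 9],
  [1, 3, 1, 4, 8, 7, 1, 2, 7, 1, 7, 8, 3],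
  [7, 5, 1, 7, 5, 9, 4, 5, 3, 1, 5, 3, 9, 7, 1],
  [3, 5, 4, 1, 8, 4, 1, 5, 3, 8, 1, 3, 1, 8],
  [6, 9, 5, 6, 9, 5, 9, 6, 5, 9, 6, 5, 6, 9, 5],
  [6, 8, 6, 2, 9, 2, 6, 8, 6, 2, 9, 2],
  [3, 2, 5, 4, 2, 9, 8, 5, 8, 3, 5, 9, 4, 5],
  [5, 6, 2, 1, 2, 3, 6, 2, 5, 3, 1, 3, 2, 3, 1],
  [5, 9, 3, 5, 3, 2, 3, 5, 3, 9, 5, 7, 9, 2, 9, 7],
  [7, 5, 8, 5, 4, 8, 7, 3, 1, 7, 1, 3],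
  [8, 4, 5, 3, 5, 2, 3, 1, 3, 2, 3, 4, 8, 1],
  [8, 4, 6, 8, 6, 8, 9, 6, 5, 8, 5, 8, 4, 9],
  [5, 9, 7, 5, 2, 9, 7, 5, 2, 9, 7, 5, 9, 7],
  [6, 5, 8, 1, 5, 6, 8, 6, 4, 5, 2, 1, 2, 5, 8],
  [5, 4, 8, 9, 8, 4, 5, 8, 5, 9, 5, 8],
  [7, 2, 4, 1, 2, 3, 2, 1, 4, 2, 7, 1, 3, 1],
  [9, 2, 6, 4, 5, 2, 1, 2, 5, 4, 6, 2, 9, 5, 1, 5],
  [1, 8, 4, 2, 1, 2, 4, 7, 9, 2, 8, 9, 7],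
  [4, 8, 1, 4, 2, 4, 1, 8, 4, 1, 2, 1],
  [8, 5, 4, 2, 4, 5, 7, 4, 2, 4, 5, 8, 5, 7],
  [1, 3, 2, 9, 2, 3, 1, 3, 1, 2, 9, 2, 1, 3],
  [5, 6, 4, 2, 9, 2, 4, 6, 5, 1, 9, 2, 1, 9],
  [9, 5, 3, 1, 5, 9, 4, 3, 5, 7, 1, 5, 7, 1, 7],
  [1, 7, 8, 3, 1, 3, 1, 4, 8, 7, 1, 2, 7],
  [5, 1, 8, 5, 8, 1, 5, 8, 1, 5, 1, 8],
  [4, 5, 7, 1, 7, 4, 5, 7, 4, 5, 1, 7, 5, 1, 7],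
  [8, 5, 8, 1, 8, 2, 1, 5, 2, 1, 8, 1],
  [2, 3, 7, 4, 1, 7, 3, 2, 3, 1, 3, 4],
  [9, 5, 2, 9, 2, 9, 5, 9, 2],
  [8, 1, 3, 5, 3, 1, 4, 8, 5, 1, 5, 3, 4, 5, 3],
  [4, 1, 2, 1, 4, 2, 1, 4, 2, 4, 1, 2],
  [9, 2, 1, 2, 9, 6, 4, 2, 1, 2, 4, 1, 6],
  [6, 5, 1, 3, 2, 3, 1, 3, 5, 2, 6, 3, 2, 1, 2],
  [6, 5, 1, 8, 1, 5, 6, 8, 6, 2, 1, 2, 4, 8, 1],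
  [8, 7, 4, 5, 2, 5, 4, 7, 8, 7, 4, 2, 4, 7],
  [8, 4, 1, 3, 1, 3, 8, 7, 1, 7, 2, 1, 7],
  [7, 5, 8, 9, 2, 9, 8, 5, 7, 9, 2, 9],
  [5, 8, 9, 2, 9, 8, 5, 7, 9, 2, 9, 7],
  [8, 5, 9, 2, 9, 5, 8, 7, 9, 2, 9, 7],
  [6, 8, 1, 5, 8, 5, 8, 1, 6, 8, 4, 6, 8],
  [7, 9, 6, 1, 7, 4, 1, 7, 4, 6, 9, 7, 4, 1],
  [4, 7, 1, 3, 8, 1, 3, 1, 8, 3, 1, 7, 4, 8],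
  [4, 2, 5, 8, 5, 4, 9, 5, 1, 8, 1, 5, 2, 9],
  [9, 8, 6, 2, 6, 8, 9, 2, 8, 6, 8, 2],
  [2, 1, 7, 9, 1, 2, 1, 7, 9, 7, 1, 4, 2, 9, 2, 4],
  [9, 5, 9, 5, 9, 5, 9, 5, 9, 5, 9, 5],
  [7, 1, 5, 7, 8, 7, 8, 5, 1, 7, 8, 4, 8, 4],
  [4, 1, 8, 1, 4, 7, 5, 1, 7, 8, 7, 1, 5, 7],
  [9, 2, 4, 9, 2, 9, 4, 2, 9, 4, 2, 4],
  [7, 8, 7, 5, 1, 7, 4, 8, 4, 8, 7, 1, 5, 8],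
  [2, 8, 9, 5, 1, 5, 2, 8, 5, 1, 5, 9],
  [5, 7, 1, 3, 8, 3, 1, 7, 5, 8, 1, 3, 1, 8],
  [2, 3, 4, 5, 6, 5, 4, 3, 2, 4, 5, 6, 5, 4],
  [7, 5, 1, 8, 4, 1, 8, 4, 8, 5, 7, 4, 8, 4],
  [7, 1, 7, 5, 9, 5, 9, 7, 1, 7, 9, 5, 9, 5],
  [5, 3, 4, 2, 8, 3, 4, 5, 4, 3, 8, 2, 4, 2, 3],
  [9, 6, 1, 2, 4, 2, 1, 4, 6, 9, 2, 4, 2],
  [6, 8, 6, 8, 9, 2, 4, 2, 6, 9, 5, 8, 5],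
  [4, 1, 3, 5, 8, 3, 5, 2, 1, 2, 3, 4, 8, 3],
  [9, 4, 2, 4, 9, 2, 4, 9, 2, 9, 4, 2],
  [3, 1, 5, 3, 9, 7, 1, 7, 5, 1, 7, 5, 9, 4, 5],
  [2, 4, 1, 8, 2, 1, 2, 9, 2, 4, 8, 9],
  [5, 2, 9, 8, 9, 8, 5, 8, 9, 8, 9],
  [6, 5, 4, 7, 1, 2, 1, 7, 4, 5, 6, 2, 4, 1, 2],
  [5, 1, 2, 8, 1, 8, 5, 8, 1, 8, 1, 2],
  [5, 1, 3, 7, 1, 8, 5, 4, 8, 1, 3, 7, 1, 7],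
  [2, 6, 1, 2, 1, 7, 9, 1, 2, 1, 9, 7, 6, 2, 9],
  [8, 9, 3, 5, 2, 3, 9, 2, 3, 9, 2, 5, 3, 8, 9],
  [7, 8, 5, 9, 2, 9, 5, 8, 7, 9, 2, 9],
  [5, 3, 2, 4, 7, 4, 5, 2, 5, 3, 5, 4, 7, 4],
  [4, 8, 4, 5, 3, 8, 9, 5, 3, 5, 9, 8, 3, 5],
  [9, 8, 9, 4, 8, 4, 9, 8, 4, 9, 8, 4],
  [8, 6, 5, 1, 8, 5, 6, 8, 5, 2, 1, 2, 5, 4, 6],
  [4, 2, 1, 2, 4, 2, 9, 2, 8, 9, 1, 8],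
  [4, 2, 1, 6, 2, 9, 2, 6, 1, 2, 4, 5, 9, 2, 9, 5],
  [9, 5, 9, 7, 1, 3, 1, 7, 9, 5, 9, 7, 1, 3, 1, 7],
  [9, 2, 3, 2, 9, 2, 3, 2, 9, 2, 3, 2, 9, 2, 3, 2],
  [8, 2, 3, 8, 1, 3, 8, 5, 3, 5, 2, 1],
  [9, 5, 1, 4, 5, 9, 8, 9, 5, 4, 1, 5, 9, 8],
  [1, 4, 8, 1, 4, 5, 3, 8, 1, 3, 1, 8, 3, 5],
  [4, 1, 8, 4, 1, 5, 3, 8, 1, 3, 1, 8, 3, 5],
  [6, 2, 3, 1, 3, 2, 6, 8, 3, 1, 3, 8, 3, 1, 3],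
  [6, 8, 5, 1, 5, 8, 6, 1, 5, 2, 1, 2, 5],
  [4, 9, 5, 9, 5, 9, 3, 4, 5, 9, 5, 3],
  [2, 5, 6, 8, 5, 1, 5, 8, 6, 1, 5, 2, 1],
  [8, 3, 1, 3, 1, 8, 9, 8, 3, 1, 3, 1, 8, 9],
  [5, 8, 5, 4, 8, 1, 5, 8, 5, 4, 8, 1],
  [7, 8, 4, 3, 1, 3, 8, 7, 8, 4, 3, 1, 3, 8],
  [7, 4, 1, 3, 1, 7, 4, 1, 3, 1, 3, 7, 1, 3, 1, 4],
  [8, 1, 8, 6, 4, 8, 5, 2, 1, 2, 1, 5, 8, 4, 6],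
  [5, 9, 5, 3, 1, 4, 2, 9, 5, 9, 5, 9, 1, 2, 4, 3],
  [9, 3, 8, 4, 3, 1, 8, 3, 8, 9, 7, 1, 4, 7],
  [4, 8, 1, 8, 4, 5, 6, 1, 5, 2, 1, 2, 5, 6, 5],
  [9, 4, 5, 3, 2, 5, 4, 2, 9, 8, 5, 8, 3, 5],
  [7, 1, 7, 4, 5, 7, 4, 5, 1, 7, 5, 1, 7, 4, 5],
  [1, 2, 7, 1, 7, 9, 2, 4, 3, 1, 3, 1, 2, 9, 7],
  [5, 6, 7, 2, 1, 7, 1, 2, 7, 6, 5, 7, 4, 2, 4, 7],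
  [2, 1, 9, 7, 6, 2, 9, 2, 6, 1, 2, 1, 7, 9, 1],
  [1, 3, 8, 1, 8, 5, 3, 4, 8, 4, 5, 8],
  [3, 4, 1, 3, 5, 8, 3, 5, 2, 1, 2, 3, 4, 8],
  [2, 4, 2, 6, 8, 4, 8, 6, 4],
  [1, 5, 8, 6, 5, 2, 1, 2, 5, 1, 6, 8, 5],
  [5, 8, 5, 4, 2, 4, 7, 5, 4, 2, 4, 5, 8, 7],
  [6, 9, 7, 1, 4, 7, 9, 6, 4, 7, 1, 4, 7, 1],
  [6, 9, 7, 4, 1, 7, 9, 6, 1, 7, 4, 1, 7, 4],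
  [5, 8, 1, 4, 8, 5, 4, 7, 1, 5, 2, 1, 7, 4],
  [2, 7, 6, 5, 7, 4, 2, 4, 7, 5, 6, 7, 2, 1, 7, 1],
  [5, 8, 5, 9, 5, 8, 5, 4, 8, 9, 8, 4],
  [2, 4, 3, 1, 3, 2, 6, 5, 6, 2, 4, 2, 6, 5, 6],
  [9, 2, 6, 1, 2, 4, 5, 9, 2, 9, 5, 4, 2, 1, 6, 2],
  [6, 3, 2, 3, 2, 6, 7, 5, 3, 5, 7],
  [5, 1, 5, 9, 5, 9, 2, 1, 2, 9, 5, 9],
  [1, 5, 9, 8, 2, 9, 5, 1, 5, 8, 2, 5],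
  [2, 1, 2, 5, 1, 6, 8, 5, 1, 5, 8, 6, 5],
  [6, 2, 9, 2, 6, 1, 2, 4, 5, 9, 2, 9, 5, 4, 2, 1],
  [5, 9, 8, 3, 5, 4, 8, 4, 5, 3, 8, 9, 5, 3],
  [6, 5, 9, 2, 9, 5, 6, 8, 4, 9, 2, 8, 4, 2],
  [5, 3, 5, 9, 5, 4, 2, 3, 1, 3, 1, 2, 4, 5, 3, 9],
  [4, 7, 1, 3, 1, 4, 2, 5, 7, 1, 2, 7, 4, 1, 3, 5],
  [9, 5, 9, 4, 3, 5, 9, 5, 4, 3, 9, 5],
  [5, 1, 2, 4, 5, 2, 1, 2, 4, 5, 2, 1, 2, 4, 2],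
  [1, 8, 5, 4, 8, 5, 1, 8, 5, 2, 1, 2, 4, 8, 5],
  [5, 8, 5, 9, 6, 2, 4, 2, 9, 8, 6, 8, 6],
  [5, 9, 5, 3, 4, 9, 5, 9, 5, 9, 3, 4],
  [6, 5, 8, 5, 9, 6, 2, 4, 2, 9, 8, 6, 8],
  [7, 9, 5, 7, 9, 2, 5, 7, 9, 2, 5, 7, 9, 5],
  [5, 9, 3, 4, 5, 9, 5, 3, 4, 9, 5, 9],
  [5, 8, 5, 1, 8, 1, 5, 8, 5, 1, 8, 1],
  [1, 3, 4, 8, 9, 2, 4, 3, 1, 3, 2, 9, 8, 3],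
  [5, 8, 1, 5, 6, 8, 6, 4, 5, 2, 1, 2, 5, 8, 6],
  [6, 4, 5, 2, 1, 2, 5, 4, 6, 2, 9, 5, 1, 5, 9, 2],
  [5, 4, 9, 5, 3, 8, 5, 8, 9, 2, 4, 5, 2, 3],
  [7, 1, 7, 9, 5, 9, 5, 7, 1, 7, 5, 9, 5, 9],
  [2, 3, 2, 9, 5, 3, 5, 9, 2, 3, 2, 9, 5, 3, 5, 9],
  [3, 1, 4, 7, 4, 1, 3, 1, 7, 4, 1, 3, 1, 3, 7, 1],
  [5, 4, 2, 4, 8, 5, 8, 2, 4, 2, 4],
  [4, 5, 7, 4, 2, 4, 5, 8, 5, 7, 8, 5, 4, 2],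
  [8, 7, 4, 2, 4, 7, 8, 7, 4, 5, 2, 5, 4, 7],
  [7, 1, 3, 1, 4, 7, 4, 1, 3, 1, 7, 3, 1, 3, 1, 4],
  [5, 7, 4, 2, 4, 5, 8, 5, 7, 8, 5, 4, 2, 4],
  [9, 5, 9, 5, 2, 8, 5, 4, 2, 9, 2, 4, 5, 9, 8],
  [5, 9, 7, 5, 8, 5, 7, 8, 9, 8, 5, 8],
  [7, 2, 1, 4, 2, 7, 8, 7, 8, 4, 1, 8, 7, 8],
  [8, 1, 8, 6, 5, 6, 8, 6, 4, 8, 6, 5, 8, 6],
  [1, 7, 9, 1, 5, 1, 9, 7, 1, 5, 9, 5, 9, 5],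
  [1, 7, 8, 4, 1, 3, 1, 3, 8, 7, 1, 7, 2],
  [7, 9, 3, 8, 4, 3, 1, 8, 3, 8, 9, 7, 1, 4],
  [4, 7, 5, 3, 5, 8, 3, 5, 3, 5, 7, 4, 8, 3],
  [4, 2, 4, 5, 7, 4, 2, 4, 5, 8, 5, 7, 8, 5],
  [2, 1, 4, 2, 6, 5, 4, 7, 1, 2, 1, 7, 4, 5, 6],
  [1, 4, 7, 9, 3, 8, 4, 3, 1, 8, 3, 8, 9, 7],
  [9, 7, 1, 7, 9, 5, 9, 5, 7, 1, 7, 5, 9, 5],
  [7, 8, 1, 8, 7, 2, 1, 7, 1, 2, 3, 1, 3, 4],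
  [8, 7, 9, 2, 9, 7, 8, 5, 9, 2, 9, 5],
  [9, 3, 5, 4, 2, 1, 3, 1, 3, 2, 4, 5, 9, 5, 3, 5],
  [5, 3, 8, 5, 8, 9, 2, 4, 5, 2, 3, 5, 4, 9],
  [5, 9, 7, 1, 7, 9, 5, 9, 5, 7, 1, 7, 5, 9],
  [6, 5, 3, 2, 1, 2, 1, 5, 3, 6, 2, 3, 1, 3, 2],
  [5, 2, 1, 2, 5, 6, 8, 5, 1, 5, 8, 6, 1],
  [2, 1, 2, 5, 6, 8, 5, 1, 5, 8, 6, 1, 5],
  [7, 9, 2, 5, 7, 9, 2, 5, 7, 9, 5, 7, 9, 5],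
  [9, 5, 6, 4, 2, 1, 2, 1, 4, 6, 5, 9, 5, 1, 5],
  [9, 8, 3, 1, 3, 1, 8, 9, 8, 3, 1, 3, 1, 8],
  [4, 1, 8, 4, 1, 8, 1, 4, 8, 4, 1, 8],
  [9, 5, 4, 1, 5, 9, 8, 9, 5, 1, 4, 5, 9, 8],
  [5, 6, 8, 6, 8, 9, 2, 4, 2, 6, 9, 5, 8],
  [8, 7, 8, 1, 8, 1, 7, 4, 2, 1, 8, 1, 4],
  [6, 2, 4, 2, 6, 5, 6, 2, 4, 3, 1, 3, 2, 6, 5],
  [2, 1, 4, 2, 6, 7, 6, 2, 4, 1, 2, 6, 7, 6],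
  [5, 3, 5, 4, 7, 4, 5, 3, 2, 4, 7, 4, 5, 2],
  [8, 9, 6, 5, 8, 5, 8, 4, 9, 8, 4, 6, 8, 6],
  [3, 1, 7, 1, 3, 7, 5, 8, 5, 4, 8, 7],
  [5, 9, 2, 9, 5, 6, 8, 4, 9, 2, 8, 4, 2, 6],
  [6, 5, 6, 2, 4, 2, 6, 5, 6, 2, 4, 3, 1, 3, 2],
  [9, 2, 3, 5, 1, 3, 2, 5, 9, 2, 3, 5, 1, 3, 5, 2],
  [1, 2, 5, 3, 5, 1, 2, 3, 1, 3, 2, 1, 3, 2],
  [7, 5, 9, 7, 5, 2, 9, 7, 5, 2, 9, 7, 5, 9],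
  [9, 2, 4, 6, 5, 9, 1, 2, 9, 1, 5, 6, 4, 2],
  [5, 1, 4, 5, 7, 5, 1, 4, 5, 7, 5, 4, 1, 5, 7],
  [4, 2, 4, 9, 7, 4, 2, 4, 7, 9, 2],
  [5, 9, 7, 1, 7, 5, 9, 7, 1, 7, 5, 9, 7, 1, 7],
  [5, 4, 2, 6, 1, 5, 1, 5, 6, 2, 4, 5, 1],
  [8, 5, 3, 5, 2, 1, 8, 2, 3, 8, 1, 3],
  [5, 6, 8, 6, 4, 5, 2, 1, 2, 5, 8, 6, 5, 8, 1],
  [5, 7, 5, 8, 4, 8, 4, 5, 7, 5, 8, 4, 8, 4],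
  [8, 9, 7, 1, 4, 7, 9, 3, 8, 4, 3, 1, 8, 3],
  [3, 5, 2, 1, 2, 1, 3, 4, 8, 5, 4, 8, 5, 4],
  [1, 7, 1, 3, 2, 8, 4, 2, 7, 4, 8, 2, 3],
  [5, 8, 5, 4, 6, 8, 1, 6, 2, 4, 2, 1, 8, 6],
  [1, 7, 2, 9, 2, 3, 1, 3, 2, 9, 2, 1, 4, 7, 1, 7],
  [5, 4, 2, 9, 8, 5, 8, 3, 5, 9, 4, 5, 3, 2],
  [3, 2, 3, 6, 5, 3, 6, 2, 3, 2, 6, 5, 6, 2],
  [3, 2, 9, 5, 3, 5, 9, 2, 3, 2, 9, 5, 3, 5, 9, 2],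
  [1, 5, 4, 8, 2, 9, 1, 5, 1, 2, 5, 8, 4, 9, 5],
  [7, 1, 7, 9, 2, 4, 3, 1, 3, 1, 2, 9, 7, 1, 2],
  [5, 3, 5, 4, 1, 3, 1, 7, 6, 2, 3, 2, 6, 7, 4],
  [3, 5, 7, 6, 3, 2, 3, 2, 6, 7, 5],
  [4, 5, 3, 5, 4, 1, 3, 1, 7, 6, 2, 3, 2, 6, 7],
  [9, 5, 3, 5, 2, 3, 1, 3, 2, 9, 4, 3, 2, 1, 2, 4],
  [4, 3, 8, 4, 3, 2, 1, 2, 5, 3, 8, 5, 3, 1],
  [2, 5, 1, 2, 8, 1, 8, 5, 8, 1, 8, 1],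
  [4, 5, 9, 2, 9, 5, 4, 2, 1, 6, 2, 9, 2, 6, 1, 2],
  [3, 9, 5, 3, 1, 5, 9, 8, 5, 3, 1, 3, 5, 8],
  [6, 8, 1, 6, 2, 4, 2, 1, 8, 6, 5, 8, 5, 4],
  [4, 7, 8, 7, 4, 8, 4, 7, 8, 7, 4, 8],
  [6, 5, 4, 3, 2, 4, 5, 6, 5, 4, 2, 3, 4, 5],
  [6, 4, 2, 9, 2, 4, 6, 5, 1, 9, 2, 1, 9, 5],
  [8, 2, 9, 4, 8, 6, 5, 9, 2, 9, 5, 6, 2, 4],
  [4, 9, 5, 1, 8, 1, 5, 2, 9, 4, 2, 5, 8, 5],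
  [9, 5, 9, 5, 1, 5, 9, 5, 9, 2, 1, 2],
  [6, 8, 5, 6, 8, 4, 6, 8, 6, 5, 6, 8, 1, 8],
  [9, 8, 4, 5, 8, 5, 9, 5, 8, 5, 4, 8],
  [9, 5, 9, 3, 4, 5, 9, 5, 3, 4, 9, 5],
  [5, 6, 2, 4, 2, 6, 5, 7, 5, 6, 2, 4, 2, 6, 5, 7],
  [4, 6, 8, 1, 6, 2, 4, 2, 1, 8, 6, 5, 8, 5],
  [8, 6, 1, 8, 5, 8, 5, 1, 8, 6, 8, 6, 4],
  [9, 8, 9, 5, 4, 2, 4, 9, 8, 9, 5, 4, 2, 4],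
  [3, 1, 2, 8, 9, 2, 8, 1, 3, 8, 2, 9, 2, 8],
  [9, 2, 3, 1, 3, 2, 5, 3, 5, 9, 4, 2, 1, 2, 3, 4],
  [4, 2, 9, 8, 4, 2, 9, 2, 1, 2, 8, 1],
  [8, 4, 5, 7, 5, 8, 4, 8, 4, 5, 7, 5, 8, 4],
  [4, 3, 1, 5, 8, 5, 3, 4, 8, 3, 2, 1, 2, 8],
  [4, 6, 9, 2, 1, 2, 9, 6, 1, 4, 2, 1, 2],
  [6, 5, 6, 2, 1, 2, 6, 5, 6, 2, 1, 2],
  [3, 6, 5, 3, 6, 2, 3, 2, 6, 5, 6, 2, 3, 2],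
  [6, 3, 5, 6, 3, 2, 3, 2, 6, 5, 6, 2, 3, 2],
  [5, 3, 6, 2, 3, 2, 6, 5, 6, 2, 3, 2, 3, 6],
  [3, 1, 8, 5, 4, 8, 4, 3, 5, 8, 1, 8],
  [1, 5, 4, 7, 1, 5, 1, 5, 3, 2, 4, 2, 3, 5, 7],
  [4, 2, 8, 9, 2, 8, 4, 8, 9, 8, 5, 9, 2, 9, 5],
  [4, 2, 9, 8, 4, 3, 1, 3, 8, 9, 2, 3, 1, 3],
  [9, 2, 9, 2, 1, 5, 9, 1, 2, 3, 1, 9, 5, 1, 3],
  [9, 8, 4, 6, 8, 6, 8, 9, 6, 5, 8, 5, 8, 4],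
  [9, 5, 9, 5, 9, 4, 3, 5, 9, 5, 4, 3],
  [1, 7, 3, 1, 7, 5, 4, 7, 1, 3, 2, 4, 2, 1, 5, 4],
  [7, 8, 1, 8, 5, 3, 1, 3, 4, 7, 1, 7, 5, 1],
  [2, 4, 5, 9, 5, 4, 2, 4, 5, 9, 5, 4],
  [5, 8, 5, 2, 8, 1, 5, 8, 5, 9, 8, 1, 2, 9],
  [5, 8, 5, 7, 4, 5, 8, 5, 1, 2, 4, 2, 1, 7],
  [9, 2, 1, 3, 9, 2, 9, 1, 3, 2, 9, 1, 3, 2, 1, 3],
  [5, 1, 8, 6, 8, 6, 4, 8, 6, 1, 8, 5, 8],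
  [5, 3, 4, 8, 3, 2, 1, 2, 8, 4, 3, 1, 5, 8],
  [4, 2, 8, 3, 4, 5, 4, 3, 8, 2, 4, 2, 3, 5, 3],
  [8, 6, 2, 3, 1, 3, 2, 6, 3, 1, 3, 8, 3, 1, 3],
  [8, 3, 5, 4, 1, 8, 4, 1, 5, 3, 8, 1, 3, 1],
  [1, 8, 4, 1, 8, 4, 8, 5, 7, 4, 8, 4, 7, 5],
  [4, 5, 3, 2, 4, 7, 4, 5, 2, 5, 3, 5, 4, 7],
  [9, 8, 2, 9, 2, 3, 2, 9, 2, 8, 3, 9, 8, 3],
  [8, 1, 5, 8, 5, 8, 1, 6, 8, 4, 6, 8, 6],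
  [1, 2, 7, 4, 5, 1, 2, 3, 2, 1, 5, 4, 7, 2, 1, 3],
  [7, 1, 7, 5, 4, 7, 5, 1, 5, 7, 4, 1, 7, 5, 4],
  [3, 5, 8, 3, 9, 5, 3, 1, 5, 9, 8, 5, 3, 1],
  [2, 3, 5, 4, 7, 4, 5, 3, 5, 2, 5, 4, 7, 4],
  [5, 8, 3, 9, 5, 3, 1, 5, 9, 8, 5, 3, 1, 3],
  [8, 1, 8, 5, 3, 1, 3, 4, 7, 1, 7, 5, 1, 7],
  [5, 4, 7, 3, 5, 2, 1, 3, 1, 3, 4, 2, 5, 3, 7, 4],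
  [4, 5, 4, 7, 3, 5, 2, 1, 3, 1, 3, 4, 2, 5, 3, 7],
  [1, 5, 3, 9, 7, 1, 7, 5, 1, 7, 5, 9, 4, 5, 3],
  [4, 6, 8, 4, 8, 6, 2, 4, 2],
  [9, 8, 9, 8, 3, 5, 2, 9, 3, 2, 9, 3, 2, 5, 3],
  [3, 1, 7, 4, 8, 4, 7, 1, 3, 8, 1, 3, 1, 8],
  [5, 1, 3, 9, 2, 1, 2, 9, 1, 5, 9, 5, 3, 1, 5, 9],
  [2, 5, 9, 8, 5, 1, 5, 2, 9, 8, 5, 1],
  [9, 5, 6, 4, 2, 9, 2, 4, 6, 5, 1, 9, 2, 1],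
  [6, 5, 9, 1, 2, 9, 1, 5, 6, 4, 2, 9, 2, 4],
  [3, 5, 2, 1, 2, 3, 1, 2, 3, 1, 3, 2, 1, 5],
  [5, 4, 8, 4, 8, 5, 7, 5, 4, 8, 4, 8, 5, 7],
  [6, 2, 3, 2, 6, 7, 1, 3, 1, 4, 5, 3, 5, 4, 7],
  [8, 3, 1, 3, 8, 3, 1, 3, 6, 2, 3, 1, 3, 2, 6],
  [8, 5, 4, 7, 1, 5, 2, 1, 7, 4, 5, 8, 1, 4],
  [6, 5, 9, 5, 1, 5, 9, 5, 6, 4, 2, 1, 2, 1, 4],
  [6, 8, 6, 5, 6, 8, 1, 8, 6, 8, 5, 6, 8, 4],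
  [8, 7, 8, 4, 1, 8, 7, 8, 7, 2, 1, 4, 2, 7],
  [9, 7, 5, 9, 7, 5, 9, 7, 5, 2, 9, 7, 5, 2],
  [1, 7, 4, 5, 8, 1, 4, 8, 5, 4, 7, 1, 5, 2],
  [3, 5, 4, 7, 4, 5, 3, 5, 2, 5, 4, 7, 4, 2],
  [9, 2, 5, 9, 8, 9, 8, 5, 8, 9, 8],
  [1, 6, 2, 4, 5, 1, 5, 4, 2, 6, 5, 1, 5],
  [8, 9, 5, 2, 1, 5, 8, 9, 2, 5, 1, 5],
  [7, 5, 9, 5, 9, 7, 1, 7, 9, 5, 9, 5, 7, 1],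
  [1, 7, 2, 4, 1, 2, 3, 2, 1, 4, 2, 7, 1, 3],
  [4, 8, 1, 9, 8, 2, 9, 2, 4, 2, 1, 2],
  [4, 5, 9, 8, 9, 5, 4, 1, 5, 9, 8, 9, 5, 1],
  [4, 5, 8, 5, 1, 2, 4, 2, 1, 7, 5, 8, 5, 7],
  [5, 9, 2, 9, 5, 2, 9, 2, 9],
  [1, 4, 5, 6, 8, 6, 8, 6, 8, 5, 4, 1, 2],
  [2, 9, 2, 4, 6, 5, 1, 9, 2, 1, 9, 5, 6, 4],
  [4, 5, 7, 1, 4, 7, 5, 1, 5, 7, 4, 5, 7, 1, 7],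
  [5, 1, 5, 2, 9, 8, 5, 1, 2, 5, 9, 8],
  [6, 5, 1, 8, 5, 6, 8, 5, 2, 1, 2, 5, 4, 6, 8],
  [8, 1, 4, 8, 1, 8, 3, 5, 3, 8, 3, 5, 4, 3],
  [9, 1, 3, 2, 1, 9, 5, 1, 2, 9, 2, 9, 3, 1, 5],
  [5, 1, 3, 9, 2, 9, 2, 1, 5, 9, 1, 2, 3, 1, 9],
  [5, 8, 5, 1, 8, 2, 5, 8, 5, 9, 2, 1, 8, 9],
  [5, 1, 2, 9, 2, 9, 3, 1, 5, 9, 1, 3, 2, 1, 9],
  [9, 4, 1, 3, 4, 9, 5, 3, 1, 2, 1, 3, 5, 3, 1, 2],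
  [1, 5, 2, 9, 5, 2, 1, 2, 5, 9, 2, 5],
  [8, 6, 2, 6, 8, 9, 2, 8, 6, 8, 2, 9],
  [2, 4, 2, 9, 2, 8, 9, 1, 8, 4, 2, 1],
  [1, 2, 8, 1, 8, 5, 8, 1, 8, 1, 2, 5],
  [4, 5, 6, 5, 4, 3, 2, 4, 5, 6, 5, 4, 2, 3],
  [3, 1, 7, 1, 3, 1, 2, 4, 2, 1, 8, 7, 4, 8],
  [4, 1, 5, 3, 5, 4, 1, 5, 3, 5],
  [8, 5, 7, 3, 2, 3, 5, 7, 5, 8, 3, 2, 7, 3],
  [2, 4, 1, 5, 9, 5, 4, 1, 2, 1, 4, 5, 9, 5, 4, 1],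
  [4, 5, 8, 4, 3, 1, 2, 1, 2, 5, 3, 4, 5, 8],
  [2, 5, 9, 5, 3, 5, 9, 3, 2, 3, 5, 9, 5, 3, 5, 9],
  [3, 2, 8, 4, 2, 7, 4, 8, 2, 3, 1, 7, 1],
  [8, 4, 7, 5, 3, 5, 3, 8, 5, 3, 5, 7, 4, 3],
  [1, 4, 2, 9, 2, 4, 2, 1, 7, 9, 1, 2, 1, 7, 9, 7],
  [5, 3, 5, 7, 6, 3, 2, 3, 2, 6, 7],
  [3, 1, 8, 3, 2, 8, 1, 2, 5, 3, 5, 8],
  [8, 5, 1, 5, 2, 9, 8, 5, 1, 2, 5, 9],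
  [9, 8, 4, 9, 8, 4, 9, 8, 9, 4, 8, 4],
  [2, 3, 2, 1, 2, 8, 3, 1, 8, 1, 3, 8, 2, 1],
  [7, 8, 3, 1, 3, 1, 4, 8, 7, 1, 2, 7, 1],
  [7, 8, 5, 2, 8, 7, 8, 5, 8, 7, 8, 5, 8],
  [6, 3, 2, 1, 2, 6, 5, 1, 3, 2, 3, 1, 3, 5, 2],
  [9, 7, 1, 3, 1, 7, 9, 5, 9, 7, 1, 3, 1, 7, 9, 5],
  [5, 6, 5, 4, 3, 2, 4, 5, 6, 5, 4, 2, 3, 4],
  [1, 4, 5, 1, 4, 5, 4, 1, 5],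
  [9, 5, 1, 3, 9, 2, 9, 2, 1, 5, 9, 1, 2, 3, 1],
  [1, 7, 8, 7, 1, 5, 7, 4, 1, 8, 1, 4, 7, 5],
  [8, 3, 1, 8, 5, 4, 8, 4, 3, 5, 8, 1],
  [8, 6, 1, 5, 2, 1, 2, 5, 6, 8, 5, 1, 5],
  [4, 8, 1, 7, 4, 2, 4, 7, 4, 1, 8],
  [4, 7, 1, 5, 1, 5, 3, 2, 4, 2, 3, 5, 7, 1, 5],
  [4, 2, 9, 2, 4, 2, 1, 7, 9, 1, 2, 1, 7, 9, 7, 1],
  [4, 5, 6, 5, 4, 2, 3, 4, 5, 6, 5, 4, 3, 2],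
  [5, 4, 9, 5, 7, 1, 5, 7, 1, 7, 9, 3, 5, 1, 3],
  [7, 9, 1, 2, 1, 9, 7, 1, 2, 1, 6, 2, 9, 2, 6],
  [7, 6, 3, 2, 3, 2, 6, 7, 5, 3, 5],
  [3, 7, 4, 5, 4, 7, 3, 5, 2, 4, 3, 1, 3, 1, 2, 5],
  [8, 9, 8, 5, 8, 5, 9, 7, 5, 8, 5, 7],
  [5, 3, 1, 5, 9, 8, 5, 3, 1, 3, 5, 8, 3, 9],
  [9, 3, 5, 1, 3, 5, 4, 9, 5, 7, 1, 5, 7, 1, 7],
  [8, 1, 5, 1, 8, 5, 1, 8, 5, 8, 1, 5],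
  [8, 5, 6, 8, 4, 6, 8, 6, 5, 6, 8, 1, 8, 6],
  [8, 6, 4, 2, 4, 2, 6, 8, 4],
  [1, 7, 9, 6, 1, 7, 4, 1, 7, 4, 6, 9, 7, 4],
  [1, 5, 8, 4, 5, 8, 1, 5, 8, 4, 2, 1, 2, 5, 8],
  [7, 5, 1, 7, 8, 7, 1, 5, 7, 4, 1, 8, 1, 4],
  [5, 7, 8, 7, 5, 8, 5, 7, 8, 7, 5, 8],
  [7, 1, 2, 1, 5, 7, 5, 1, 2, 1, 7, 1, 2, 1, 2, 5],
  [7, 8, 1, 8, 1, 7, 4, 2, 1, 8, 1, 4, 8],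
  [5, 3, 5, 1, 2, 3, 1, 3, 2, 1, 3, 2, 1, 2],
  [1, 3, 1, 7, 9, 5, 9, 7, 1, 3, 1, 7, 9, 5, 9, 7],
  [6, 8, 6, 5, 4, 1, 2, 1, 4, 5, 8, 6, 8],
  [9, 2, 5, 7, 9, 5, 7, 9, 5, 7, 9, 2, 5, 7],
  [6, 2, 3, 2, 3, 6, 5, 3, 6, 2, 3, 2, 6, 5],
  [3, 4, 8, 7, 8, 3, 1, 3, 4, 8, 7, 8, 3, 1],
  [4, 7, 4, 8, 7, 8, 4, 7, 8, 5, 8, 5],
  [4, 8, 4, 8, 5, 7, 5, 4, 8, 4, 8, 5, 7, 5],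
  [5, 1, 5, 6, 2, 4, 5, 1, 5, 4, 2, 6, 1],
  [4, 5, 3, 5, 2, 3, 1, 3, 2, 3, 4, 8, 1, 8],
  [7, 2, 1, 3, 1, 2, 7, 4, 5, 1, 2, 3, 2, 1, 5, 4],
  [2, 1, 2, 6, 3, 1, 3, 2, 1, 2, 1, 3, 1, 3, 6],
  [9, 2, 9, 7, 5, 8, 9, 2, 9, 8, 5, 7],
  [9, 8, 7, 5, 8, 5, 7, 9, 5, 8, 5, 8],
  [3, 8, 4, 7, 8, 1, 2, 4, 2, 1, 3, 1, 7, 1],
  [9, 5, 1, 3, 5, 9, 5, 1, 9, 2, 1, 2, 9, 3, 1, 5],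
  [5, 1, 2, 1, 7, 5, 2, 1, 2, 1, 7, 1, 2, 1, 5, 7],
  [9, 8, 3, 5, 2, 9, 3, 2, 9, 3, 2, 5, 3, 9, 8],
  [5, 7, 5, 6, 2, 4, 2, 6, 5, 7, 5, 6, 2, 4, 2, 6],
  [5, 9, 2, 5, 1, 5, 2, 9, 5, 2, 1, 2],
  [7, 1, 2, 7, 1, 2, 4, 3, 1, 3, 2, 1, 2, 1, 7, 1],
  [2, 9, 2, 9, 6, 4, 1, 2, 9, 2, 1, 4, 6],
  [9, 5, 9, 2, 4, 1, 3, 5, 9, 5, 3, 4, 2, 1, 9, 5],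
  [7, 1, 4, 7, 5, 1, 5, 7, 4, 5, 7, 1, 7, 4, 5],
  [9, 6, 2, 1, 2, 6, 9, 2, 6, 9, 2, 1, 2, 9, 6, 2],
  [8, 2, 1, 2, 9, 2, 4, 8, 9, 2, 4, 1],
  [4, 2, 4, 5, 9, 5, 4, 2, 4, 5, 9, 5],
  [5, 3, 1, 4, 2, 9, 5, 9, 5, 9, 1, 2, 4, 3, 5, 9],
  [5, 3, 7, 4, 5, 4, 7, 3, 5, 2, 4, 3, 1, 3, 1, 2],
  [7, 4, 1, 7, 9, 6, 1, 7, 4, 1, 7, 4, 6, 9],
  [2, 1, 3, 1, 3, 2, 9, 2, 3, 1, 3, 1, 2, 9],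
  [2, 7, 4, 8, 2, 3, 1, 7, 1, 3, 2, 8, 4],
  [5, 9, 1, 2, 3, 1, 9, 5, 1, 3, 9, 2, 9, 2, 1],
  [5, 3, 1, 5, 9, 4, 3, 5, 7, 1, 5, 7, 1, 7, 9],
  [3, 9, 8, 3, 9, 8, 2, 9, 2, 3, 2, 9, 2, 8],
  [9, 7, 1, 7, 5, 9, 7, 1, 7, 5, 9, 7, 1, 7, 5],
  [8, 5, 3, 4, 8, 3, 2, 1, 2, 8, 4, 3, 1, 5],
  [8, 5, 1, 7, 8, 4, 8, 4, 7, 1, 5, 7, 8, 7],
  [5, 8, 2, 5, 1, 5, 9, 8, 2, 9, 5, 1],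
  [1, 8, 1, 5, 7, 3, 1, 3, 8, 3, 1, 3, 7, 5],
  [4, 8, 5, 4, 8, 5, 4, 3, 5, 2, 1, 2, 1, 3],
  [5, 7, 1, 7, 5, 9, 5, 9, 7, 1, 7, 9, 5, 9],
  [7, 9, 3, 5, 1, 3, 5, 4, 9, 5, 7, 1, 5, 7, 1],
  [2, 1, 4, 5, 9, 5, 4, 1, 2, 1, 4, 5, 9, 5, 1, 4],
  [4, 3, 5, 9, 5, 4, 3, 9, 5, 9, 5, 9],
  [2, 1, 2, 5, 4, 2, 1, 5, 2, 4, 2, 1, 2, 5, 4],
  [1, 2, 4, 7, 1, 8, 1, 8, 7, 8, 4, 1, 8],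
  [4, 1, 3, 8, 5, 1, 4, 8, 3, 5, 8, 4, 1, 5, 8],
  [9, 3, 1, 3, 8, 2, 3, 1, 3, 9, 8, 2],
  [3, 1, 3, 1, 4, 8, 7, 1, 2, 7, 1, 7, 8],
  [8, 7, 8, 4, 7, 8, 5, 8, 5, 4, 7, 4],
  [4, 2, 1, 2, 4, 7, 9, 2, 8, 9, 7, 1, 8],
  [5, 3, 5, 2, 5, 4, 7, 4, 2, 3, 5, 4, 7, 4],
  [9, 4, 3, 2, 1, 2, 4, 9, 5, 3, 5, 2, 3, 1, 3, 2],
  [3, 8, 4, 3, 5, 8, 5, 1, 3, 4, 8, 2, 1, 2],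
  [2, 4, 2, 1, 2, 4, 8, 1, 9, 8, 2, 9],
  [3, 1, 7, 1, 3, 2, 8, 4, 2, 7, 4, 8, 2],
  [9, 2, 1, 2, 8, 1, 4, 2, 9, 8, 4, 2],
  [5, 9, 8, 5, 3, 1, 3, 5, 8, 3, 9, 5, 3, 1],
  [9, 5, 4, 2, 3, 1, 3, 1, 2, 4, 5, 3, 9, 5, 3, 5],
  [4, 1, 7, 2, 1, 2, 3, 2, 1, 4, 2, 3, 2, 1, 2, 7],
  [9, 2, 9, 5, 8, 7, 9, 2, 9, 7, 8, 5],
  [6, 2, 5, 3, 1, 3, 2, 3, 1, 5, 6, 2, 1, 2, 3],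
  [2, 9, 2, 6, 1, 2, 4, 5, 9, 2, 9, 5, 4, 2, 1, 6],
  [9, 1, 2, 3, 1, 3, 8, 1, 9, 8, 3, 1, 3, 2],
  [4, 8, 5, 2, 1, 2, 1, 5, 8, 4, 6, 8, 1, 8, 6],
  [1, 7, 9, 5, 9, 5, 7, 1, 7, 5, 9, 5, 9, 7],
  [8, 4, 8, 7, 8, 4, 8, 7, 1, 2, 4, 2, 1, 7],
  [3, 1, 2, 1, 3, 2, 3, 1, 2, 1, 3, 2],
  [3, 4, 5, 1, 5, 4, 3, 2, 4, 5, 3, 1, 3, 5, 4, 2],
  [7, 5, 1, 4, 5, 7, 5, 4, 1, 5, 7, 5, 1, 4, 5],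
  [7, 2, 9, 7, 2, 9, 2, 7, 9],
  [2, 8, 3, 1, 4, 8, 4, 5, 8, 5, 3, 8, 2, 1],
  [8, 1, 3, 4, 5, 3, 1, 8, 1, 3, 5, 4, 3, 1],
  [4, 7, 1, 7, 5, 4, 7, 5, 1, 5, 7, 4, 1, 7, 5],
  [7, 1, 2, 1, 7, 4, 5, 6, 2, 1, 4, 2, 6, 5, 4],
  [6, 2, 4, 8, 2, 9, 4, 8, 6, 5, 9, 2, 9, 5],
  [5, 8, 9, 2, 4, 5, 2, 3, 5, 4, 9, 5, 3, 8],
  [2, 1, 7, 1, 4, 5, 7, 4, 2, 4, 7, 5, 4, 1, 7, 1],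
  [5, 3, 2, 4, 2, 8, 3, 4, 5, 4, 3, 8, 2, 4, 3],
  [5, 9, 8, 5, 1, 5, 2, 9, 8, 5, 1, 2],
  [7, 8, 7, 8, 4, 1, 8, 7, 8, 7, 2, 1, 4, 2],
  [1, 3, 2, 9, 1, 2, 3, 1, 3, 8, 1, 9, 8, 3],
  [1, 5, 7, 4, 5, 7, 1, 7, 4, 5, 7, 1, 4, 7, 5],
  [4, 1, 3, 1, 7, 4, 1, 3, 1, 3, 7, 1, 3, 1, 4, 7],
  [5, 8, 7, 5, 8, 5, 4, 2, 4, 7, 5, 4, 2, 4],
  [3, 5, 2, 4, 3, 1, 3, 1, 2, 5, 3, 7, 4, 5, 4, 7],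
  [1, 7, 2, 1, 7, 9, 2, 1, 3, 1, 3, 4, 2, 9, 7],
  [3, 5, 9, 2, 5, 9, 5, 3, 5, 9, 3, 2, 3, 5, 9, 5],
  [2, 7, 8, 7, 8, 4, 1, 8, 7, 8, 7, 2, 1, 4],
  [2, 3, 2, 3, 6, 5, 3, 6, 2, 3, 2, 6, 5, 6],
  [4, 9, 5, 7, 1, 5, 7, 1, 7, 9, 3, 5, 1, 3, 5],
  [3, 6, 2, 5, 3, 1, 3, 2, 3, 1, 5, 6, 2, 1, 2],
  [1, 7, 4, 5, 7, 1, 4, 7, 5, 1, 5, 7, 4, 5, 7],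
  [4, 5, 1, 7, 5, 1, 7, 4, 5, 7, 1, 7, 4, 5, 7],
  [7, 5, 1, 7, 8, 1, 8, 5, 3, 1, 3, 4, 7, 1],
  [9, 5, 8, 5, 8, 9, 8, 7, 5, 8, 5, 7],
  [1, 2, 6, 7, 6, 2, 1, 4, 2, 6, 7, 6, 2, 4],
  [6, 1, 8, 4, 2, 1, 2, 6, 8, 6, 5, 1, 8, 1, 5],
  [9, 6, 8, 2, 4, 2, 8, 6, 9, 8, 2, 4, 8, 2],
  [9, 8, 5, 8, 9, 8, 9, 5, 2, 9, 8],
  [2, 3, 2, 9, 2, 3, 2, 9, 2, 3, 2, 9, 2, 3, 2, 9],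
  [7, 5, 8, 5, 4, 2, 4, 7, 5, 4, 2, 4, 5, 8],
  [8, 2, 1, 5, 2, 1, 8, 1, 8, 5, 8, 1],
  [4, 1, 3, 5, 4, 7, 1, 3, 1, 4, 2, 5, 7, 1, 2, 7],
  [7, 9, 5, 9, 7, 1, 3, 1, 7, 9, 5, 9, 7, 1, 3, 1],
  [4, 5, 1, 2, 3, 2, 1, 5, 4, 7, 2, 1, 3, 1, 2, 7],
  [5, 4, 7, 5, 1, 5, 7, 4, 1, 7, 5, 4, 7, 1, 7],
  [5, 4, 3, 9, 5, 9, 5, 9, 4, 3, 5, 9],
  [1, 8, 7, 8, 1, 5, 1, 8, 7, 8, 1, 5],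
  [8, 1, 3, 1, 8, 5, 7, 1, 3, 8, 3, 1, 7, 5],
  [4, 7, 1, 2, 5, 1, 7, 4, 5, 8, 4, 1, 8, 5],
  [2, 8, 6, 2, 8, 1, 8, 2, 6, 8, 2, 1],
  [8, 2, 3, 1, 7, 8, 7, 1, 3, 8, 2, 1, 3, 1],
  [7, 1, 8, 4, 2, 1, 2, 4, 7, 9, 2, 8, 9],
  [1, 7, 4, 5, 1, 7, 5, 3, 2, 4, 2, 3, 5, 1, 5],
  [5, 1, 7, 9, 1, 5, 1, 9, 7, 1, 5, 9, 5, 9],
  [5, 1, 7, 8, 7, 1, 5, 7, 4, 1, 8, 1, 4, 7],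
  [8, 3, 2, 7, 3, 8, 4, 1, 3, 2, 3, 7, 1, 4],
  [4, 1, 8, 5, 4, 7, 1, 2, 5, 1, 7, 4, 5, 8],
  [1, 4, 5, 9, 5, 4, 1, 2, 1, 4, 5, 9, 5, 1, 4, 2],
  [4, 1, 5, 9, 5, 4, 1, 2, 1, 4, 5, 9, 5, 4, 1, 2],
  [8, 7, 2, 1, 4, 2, 7, 8, 7, 8, 4, 1, 8, 7],
  [5, 9, 5, 4, 3, 9, 5, 9, 5, 9, 4, 3],
  [5, 3, 9, 8, 9, 8, 3, 5, 2, 9, 3, 2, 9, 3, 2],
  [4, 2, 4, 5, 8, 7, 5, 8, 5, 4, 2, 4, 7, 5],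
  [4, 5, 2, 5, 3, 5, 4, 7, 4, 5, 3, 2, 4, 7],
  [7, 2, 1, 7, 5, 2, 4, 1, 3, 1, 7, 4, 5, 3, 1, 4],
  [5, 2, 9, 7, 5, 9, 7, 5, 9, 7, 5, 2, 9, 7],
  [8, 5, 7, 1, 3, 8, 3, 1, 7, 5, 8, 1, 3, 1],
  [3, 1, 5, 4, 8, 1, 3, 1, 8, 4, 5, 1, 3, 8],
  [3, 9, 7, 1, 7, 5, 1, 7, 5, 9, 4, 5, 3, 1, 5],
  [2, 1, 4, 2, 4, 1, 2, 4, 1, 2, 1, 4],
  [1, 4, 3, 8, 4, 3, 2, 1, 2, 5, 3, 8, 5, 3],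
  [2, 4, 1, 2, 1, 3, 7, 1, 2, 1, 4, 2, 1, 7, 3, 1],
  [8, 4, 5, 1, 3, 8, 3, 1, 5, 4, 8, 1, 3, 1],
  [5, 2, 5, 3, 5, 4, 7, 4, 5, 3, 2, 4, 7, 4],
  [1, 7, 9, 5, 7, 1, 7, 9, 5, 7, 1, 7, 9, 5, 7],
  [8, 4, 5, 8, 1, 5, 8, 4, 2, 1, 2, 5, 8, 1, 5],
  [1, 5, 7, 3, 1, 3, 8, 3, 1, 3, 7, 5, 1, 8],
  [2, 9, 5, 1, 5, 9, 2, 6, 4, 5, 2, 1, 2, 5, 4, 6],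
  [4, 2, 4, 7, 5, 6, 7, 2, 1, 7, 1, 2, 7, 6, 5, 7],
  [5, 3, 5, 2, 3, 1, 3, 2, 3, 4, 8, 1, 8, 4],
  [8, 5, 8, 5, 9, 7, 5, 8, 5, 7, 8, 9],
  [5, 7, 1, 2, 7, 5, 3, 5, 7, 2, 1, 7, 5, 2, 3, 2],
  [1, 7, 4, 5, 8, 4, 1, 8, 5, 4, 7, 1, 2, 5],
  [4, 1, 5, 3, 8, 1, 3, 1, 8, 3, 5, 4, 1, 8],
  [3, 5, 8, 1, 8, 3, 1, 8, 5, 4, 8, 4],
  [4, 7, 2, 1, 3, 1, 2, 7, 4, 5, 1, 2, 3, 2, 1, 5],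
  [5, 3, 5, 4, 7, 6, 2, 3, 2, 6, 7, 1, 3, 1, 4],
  [5, 1, 5, 1, 6, 2, 4, 5, 1, 5, 4, 2, 6],
  [5, 2, 3, 1, 5, 3, 2, 9, 2, 5, 3, 1, 5, 3, 2, 9],
  [7, 1, 3, 1, 4, 5, 3, 5, 4, 7, 6, 2, 3, 2, 6],
  [8, 5, 8, 7, 8, 2, 5, 8, 7, 8, 5, 8, 7],
  [3, 5, 4, 3, 8, 1, 4, 8, 1, 8, 3, 5, 3, 8],
  [5, 8, 4, 5, 1, 2, 4, 2, 1, 5, 4, 8, 1, 2, 1],
  [5, 8, 1, 5, 4, 2, 4, 5, 1, 8, 5, 4, 2, 4],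
  [1, 4, 5, 4, 1, 5, 1, 4, 5],
  [4, 1, 5, 4, 1, 5, 1, 4, 5],
  [7, 4, 1, 8, 1, 4, 7, 5, 1, 7, 8, 7, 1, 5],
  [1, 8, 5, 8, 1, 5, 8, 1, 5, 1, 8, 5],
  [7, 5, 1, 8, 1, 7, 1, 8, 1, 5, 7, 8, 5, 8],
  [4, 5, 3, 8, 1, 3, 1, 8, 3, 5, 1, 4, 8, 1],
  [9, 7, 1, 2, 1, 9, 7, 1, 2, 4, 2, 9, 2, 4, 1, 7],
  [1, 7, 9, 2, 4, 3, 1, 3, 1, 2, 9, 7, 1, 2, 7],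
  [5, 8, 5, 4, 7, 4, 8, 7, 8, 4, 7, 8],
  [1, 2, 9, 5, 8, 5, 2, 8, 1, 5, 8, 5, 9, 8],
  [3, 4, 7, 5, 3, 5, 8, 3, 5, 3, 5, 7, 4, 8],
  [6, 8, 9, 6, 5, 8, 5, 8, 4, 9, 8, 4, 6, 8],
  [1, 5, 8, 5, 8, 1, 6, 8, 4, 6, 8, 6, 8],
  [9, 2, 9, 6, 4, 1, 2, 9, 2, 1, 4, 6, 2],
  [1, 2, 4, 1, 2, 1, 4, 2, 1, 4, 2, 4],
  [2, 8, 3, 1, 7, 8, 7, 1, 3, 2, 8, 1, 3, 1],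
  [2, 3, 1, 3, 8, 9, 1, 8, 3, 1, 3, 2, 1, 9],
  [9, 7, 1, 7, 5, 1, 7, 5, 3, 4, 9, 5, 1, 3, 5],
  [1, 7, 1, 5, 7, 1, 5, 7, 1, 5, 7, 5, 1, 5, 7],
  [2, 4, 2, 1, 2, 5, 4, 2, 1, 2, 5, 4, 2, 1, 5],
  [5, 4, 3, 8, 1, 4, 8, 1, 8, 3, 5, 3, 8, 3],
  [8, 5, 8, 5, 1, 8, 6, 8, 6, 4, 8, 6, 1],
  [4, 7, 2, 1, 7, 5, 2, 4, 1, 3, 1, 7, 4, 5, 3, 1],
  [4, 2, 4, 5, 8, 5, 7, 8, 5, 4, 2, 4, 5, 7],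
  [3, 4, 9, 5, 1, 3, 5, 9, 7, 1, 7, 5, 1, 7, 5],
  [4, 3, 1, 2, 1, 3, 2, 1, 2, 3, 1, 2, 4, 5, 3, 5],
  [6, 9, 5, 9, 6, 5, 9, 6, 5, 6, 9, 5, 6, 9, 5],
  [2, 1, 5, 3, 5, 2, 1, 2, 3, 1, 2, 3, 1, 3],
  [5, 8, 9, 8, 7, 5, 8, 5, 7, 9, 5, 8],
  [7, 1, 2, 7, 1, 7, 9, 2, 4, 3, 1, 3, 1, 2, 9],
  [2, 3, 2, 1, 4, 2, 7, 1, 3, 1, 7, 2, 4, 1],
  [5, 7, 9, 2, 5, 7, 9, 5, 7, 9, 5, 7, 9, 2],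
  [3, 8, 5, 9, 5, 9, 5, 8, 3, 5, 9, 5, 9, 5],
  [5, 4, 2, 4, 2, 8, 5, 8, 4, 2, 4],
  [7, 1, 6, 9, 7, 1, 4, 7, 9, 6, 4, 7, 1, 4],
  [4, 3, 8, 1, 4, 8, 1, 8, 3, 5, 3, 8, 3, 5],
  [8, 2, 9, 2, 3, 2, 9, 2, 8, 3, 9, 8, 3, 9],
  [5, 6, 8, 6, 8, 6, 8, 5, 4, 1, 2, 1, 4],
  [2, 1, 3, 1, 2, 7, 4, 5, 1, 2, 3, 2, 1, 5, 4, 7],
  [1, 7, 5, 3, 2, 4, 2, 3, 5, 1, 5, 1, 7, 4, 5],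
  [3, 4, 8, 4, 8, 3, 2, 3, 8, 4, 8, 4, 3, 2],
  [9, 5, 1, 4, 2, 1, 4, 5, 9, 5, 4, 1, 2, 1, 4, 5],
  [8, 6, 8, 6, 8, 6, 5, 4, 1, 2, 1, 4, 5],
  [2, 1, 5, 9, 1, 2, 3, 1, 9, 5, 1, 3, 9, 2, 9],
  [1, 7, 4, 1, 2, 9, 2, 3, 1, 3, 2, 9, 2, 7, 1, 7],
  [8, 3, 1, 3, 6, 8, 1, 8, 6, 3, 1, 3, 1, 8, 1],
  [8, 3, 5, 2, 1, 2, 3, 4, 8, 3, 4, 1, 3, 5],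
  [9, 5, 1, 5, 9, 5, 9, 2, 1, 2, 9, 5],
  [1, 8, 1, 8, 5, 8, 1, 8, 2, 1, 5, 2],
  [4, 1, 3, 2, 3, 7, 1, 4, 8, 3, 2, 7, 3, 8],
  [3, 5, 2, 3, 8, 5, 8, 3, 2, 5, 3, 8, 5, 8],
  [1, 2, 4, 2, 1, 5, 8, 5, 4, 7, 5, 8, 5, 7],
  [7, 1, 2, 4, 2, 1, 5, 8, 5, 4, 7, 5, 8, 5],
  [6, 9, 2, 4, 2, 9, 6, 4, 1, 2, 4, 2, 1],
  [4, 2, 3, 5, 4, 7, 1, 5, 3, 5, 4, 1, 5, 2, 4, 7],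
  [5, 1, 3, 5, 9, 7, 1, 7, 5, 1, 7, 5, 3, 4, 9],
  [5, 3, 8, 5, 3, 5, 7, 4, 3, 8, 4, 7, 5, 3],
  [4, 3, 1, 8, 1, 3, 4, 5, 3, 1, 8, 1, 3, 5],
  [9, 5, 1, 2, 8, 5, 9, 4, 5, 8, 2, 1, 5, 4, 1],
  [2, 8, 1, 3, 1, 2, 8, 3, 1, 7, 8, 7, 1, 3],
  [1, 2, 3, 1, 2, 3, 1, 3, 2, 1, 5, 3, 5, 2],
  [3, 5, 3, 8, 5, 3, 5, 7, 4, 3, 8, 4, 7, 5],
  [8, 1, 2, 4, 2, 6, 1, 8, 6, 4, 5, 8, 5, 6],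
  [5, 1, 5, 7, 4, 5, 7, 1, 7, 4, 5, 7, 1, 4, 7],
  [5, 8, 2, 1, 5, 9, 1, 4, 5, 1, 2, 8, 5, 4, 9],
  [5, 3, 8, 3, 5, 4, 3, 8, 1, 4, 8, 1, 8, 3],
  [4, 1, 7, 9, 8, 3, 8, 1, 3, 4, 8, 3, 9, 7],
  [7, 1, 2, 7, 1, 7, 8, 3, 1, 3, 1, 4, 8],
  [5, 9, 7, 1, 3, 1, 7, 9, 5, 9, 7, 1, 3, 1, 7, 9],
  [2, 9, 6, 1, 2, 4, 2, 1, 4, 6, 9, 2, 4],
  [1, 5, 9, 5, 9, 5, 1, 7, 9, 1, 5, 1, 9, 7],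
  [5, 4, 7, 6, 2, 3, 2, 6, 7, 1, 3, 1, 4, 5, 3],
  [8, 2, 9, 3, 1, 3, 8, 2, 3, 1, 3, 9],
  [8, 5, 4, 3, 5, 2, 1, 2, 1, 3, 4, 8, 5, 4],
  [1, 8, 1, 5, 2, 9, 4, 2, 5, 8, 5, 4, 9, 5],
  [5, 3, 8, 5, 9, 5, 9, 5, 8, 3, 5, 9, 5, 9],
  [5, 7, 5, 1, 4, 5, 7, 5, 1, 4, 5, 7, 5, 4, 1],
  [6, 5, 9, 2, 9, 5, 6, 2, 4, 8, 2, 9, 4, 8],
  [6, 2, 4, 1, 2, 6, 5, 4, 7, 1, 2, 1, 7, 4, 5],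
  [7, 9, 5, 9, 5, 7, 1, 7, 5, 9, 5, 9, 7, 1],
  [8, 2, 5, 1, 5, 9, 8, 2, 9, 5, 1, 5],
  [3, 2, 3, 2, 6, 7, 5, 3, 5, 7, 6],
  [8, 4, 8, 1, 7, 4, 2, 4, 7, 4, 1],
  [7, 1, 2, 1, 7, 4, 5, 6, 2, 4, 1, 2, 6, 5, 4],
  [2, 1, 2, 6, 8, 6, 2, 1, 2, 6, 8, 6],
  [2, 9, 2, 4, 8, 9, 2, 4, 1, 8, 2, 1],
  [5, 7, 1, 7, 1, 7, 1, 7, 1, 7, 5, 1, 7, 1],
  [8, 5, 4, 8, 5, 4, 3, 5, 2, 1, 2, 1, 3, 4],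
  [8, 7, 4, 8, 7, 8, 4, 7, 4, 5, 8, 5],
  [3, 8, 5, 8, 3, 5, 2, 3, 8, 5, 8, 3, 2, 5],
  [5, 3, 5, 4, 2, 3, 2, 4, 5, 3, 5, 4, 2, 3, 2, 4],
  [5, 3, 2, 3, 7, 5, 8, 3, 7, 2, 3, 8, 5, 7],
  [6, 5, 8, 1, 8, 5, 6, 5, 8, 1, 8, 5],
  [6, 2, 8, 6, 2, 8, 6, 8, 2, 6, 8, 2],
  [1, 8, 6, 4, 8, 5, 1, 2, 1, 2, 5, 8, 4, 6, 8],
  [2, 3, 1, 7, 4, 5, 7, 1, 3, 7, 1, 4, 5, 1, 2, 4],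
  [2, 3, 2, 6, 7, 4, 5, 3, 5, 4, 1, 3, 1, 7, 6],
  [1, 7, 1, 2, 7, 8, 1, 8, 7, 4, 3, 1, 3, 2],
  [8, 5, 3, 1, 3, 5, 8, 3, 9, 5, 3, 1, 5, 9],
  [1, 8, 3, 1, 8, 5, 4, 8, 4, 3, 5, 8],
  [6, 2, 3, 2, 6, 3, 5, 6, 3, 2, 3, 2, 6, 5],
  [2, 6, 7, 1, 3, 1, 4, 5, 3, 5, 4, 7, 6, 2, 3],
  [8, 1, 5, 8, 5, 1, 8, 1, 5, 8, 5, 1],
  [7, 5, 4, 2, 4, 5, 8, 7, 5, 8, 5, 4, 2, 4],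
  [9, 6, 4, 2, 1, 2, 4, 1, 6, 9, 2, 1, 2],
  [2, 4, 5, 1, 5, 4, 2, 6, 1, 5, 1, 5, 6],
  [4, 8, 5, 1, 2, 1, 8, 4, 5, 1, 2, 4, 2, 1, 5],
  [5, 7, 5, 8, 3, 2, 7, 3, 8, 5, 7, 3, 2, 3],
  [8, 5, 8, 9, 8, 9, 5, 2, 9, 8, 9],
  [9, 5, 3, 5, 9, 3, 2, 3, 5, 9, 5, 3, 5, 9, 2, 5],
  [9, 8, 2, 9, 5, 1, 5, 8, 2, 5, 1, 5],
  [5, 8, 1, 8, 5, 6, 5, 8, 1, 8, 5, 6],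
  [4, 2, 7, 8, 7, 8, 4, 1, 8, 7, 8, 7, 2, 1],
  [3, 2, 9, 2, 3, 2, 9, 2, 3, 2, 9, 2, 3, 2, 9, 2],
  [3, 5, 3, 8, 3, 5, 4, 3, 8, 1, 4, 8, 1, 8],
  [5, 7, 9, 2, 9, 7, 5, 9, 3, 5, 3, 2, 3, 5, 3, 9],
  [5, 3, 2, 5, 4, 2, 9, 8, 5, 8, 3, 5, 9, 4],
  [2, 9, 8, 5, 1, 2, 5, 9, 8, 5, 1, 5],
  [5, 3, 8, 9, 5, 3, 5, 9, 8, 3, 5, 4, 8, 4],
  [1, 7, 1, 3, 7, 8, 4, 5, 8, 5, 7, 3],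
  [8, 3, 2, 5, 3, 8, 5, 8, 3, 5, 2, 3, 8, 5],
  [4, 2, 4, 5, 4, 2, 4, 2, 8, 5, 8],
  [5, 3, 5, 9, 2, 3, 2, 9, 5, 3, 5, 9, 2, 3, 2, 9],
  [3, 6, 2, 1, 2, 6, 3, 1, 3, 1, 2, 1, 2, 3, 1],
  [6, 3, 2, 3, 2, 6, 5, 6, 2, 3, 2, 6, 3, 5],
  [9, 5, 3, 1, 5, 9, 8, 5, 3, 1, 3, 5, 8, 3],
  [2, 8, 9, 2, 8, 4, 8, 9, 8, 5, 9, 2, 9, 5, 4],
  [5, 8, 4, 8, 1, 4, 8, 1, 5, 7, 4, 8, 4, 7],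
  [7, 4, 5, 3, 5, 4, 1, 3, 1, 7, 6, 2, 3, 2, 6],
  [9, 7, 1, 4, 7, 9, 3, 8, 4, 3, 1, 8, 3, 8],
  [4, 7, 6, 2, 3, 2, 6, 7, 1, 3, 1, 4, 5, 3, 5],
  [2, 3, 1, 3, 8, 1, 9, 8, 3, 1, 3, 2, 9, 1],
  [7, 9, 2, 8, 9, 7, 1, 8, 4, 2, 1, 2, 4],
  [8, 7, 8, 1, 5, 1, 8, 7, 8, 1, 5, 1],
  [2, 1, 2, 8, 4, 3, 1, 5, 8, 5, 3, 4, 8, 3],
  [7, 1, 3, 7, 1, 4, 5, 1, 2, 4, 2, 3, 1, 7, 4, 5],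
  [9, 4, 8, 5, 8, 5, 6, 9, 8, 6, 8, 6, 4, 8],
  [5, 8, 3, 7, 2, 3, 8, 5, 7, 5, 3, 2, 3, 7],
  [3, 8, 7, 1, 7, 2, 1, 7, 8, 4, 1, 3, 1],
  [7, 4, 5, 4, 7, 3, 5, 2, 1, 3, 1, 3, 4, 2, 5, 3],
  [7, 8, 5, 8, 7, 5, 1, 8, 1, 7, 1, 8, 1, 5],
  [3, 7, 4, 1, 7, 3, 2, 3, 1, 3, 4, 2],
  [3, 1, 2, 9, 3, 1, 2, 3, 1, 9, 2, 3, 1, 9, 2, 9],
  [3, 1, 2, 1, 3, 5, 9, 4, 3, 1, 4, 9, 2, 1, 3, 5],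
  [3, 7, 4, 5, 4, 7, 3, 5, 2, 1, 3, 1, 3, 4, 2, 5],
  [1, 8, 5, 6, 8, 5, 2, 1, 2, 5, 4, 6, 8, 6, 5],
  [2, 4, 1, 2, 6, 7, 6, 2, 1, 4, 2, 6, 7, 6],
  [1, 4, 8, 4, 1, 8, 4, 1, 8, 4, 1, 8],
  [5, 6, 3, 2, 3, 2, 6, 5, 6, 2, 3, 2, 6, 3],
  [4, 6, 2, 9, 2, 9, 6, 4, 1, 2, 9, 2, 1],
  [1, 5, 1, 8, 5, 1, 8, 5, 8, 1, 5, 8],
  [4, 9, 8, 4, 9, 8, 4, 9, 8, 9, 4, 8],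
  [7, 4, 8, 4, 7, 5, 8, 4, 8, 1, 4, 8, 1, 5],
  [7, 5, 9, 7, 1, 7, 5, 9, 7, 1, 7, 5, 9, 7, 1],
  [6, 8, 6, 4, 5, 2, 1, 2, 5, 8, 6, 5, 8, 1, 5],
  [5, 3, 9, 7, 1, 7, 5, 1, 7, 5, 9, 4, 5, 3, 1],
  [3, 1, 3, 4, 2, 3, 7, 4, 1, 7, 3, 2],
  [5, 3, 1, 2, 3, 1, 5, 3, 2, 1, 3, 2, 4, 1, 4, 2],
  [2, 1, 4, 2, 3, 2, 4, 5, 1, 2, 7, 1, 5, 3, 1, 7],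
  [7, 4, 5, 4, 7, 3, 5, 2, 4, 3, 1, 3, 1, 2, 5, 3],
  [5, 4, 6, 2, 9, 5, 1, 5, 9, 2, 6, 4, 5, 2, 1, 2],
  [5, 9, 1, 3, 2, 1, 9, 5, 1, 2, 9, 2, 9, 3, 1],
  [2, 4, 2, 1, 5, 4, 8, 5, 1, 2, 1, 8, 4, 5, 1],
  [8, 3, 2, 1, 2, 8, 4, 3, 1, 5, 8, 5, 3, 4],
  [6, 1, 7, 4, 1, 7, 4, 6, 9, 7, 4, 1, 7, 9],
  [8, 7, 8, 5, 8, 7, 8, 2, 5, 8, 7, 8, 5],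
  [1, 9, 2, 1, 9, 5, 6, 4, 2, 9, 2, 4, 6, 5],
  [7, 2, 1, 7, 1, 2, 3, 1, 3, 4, 7, 8, 1, 8],
  [2, 6, 1, 5, 1, 5, 6, 2, 4, 5, 1, 5, 4],
  [8, 5, 1, 8, 5, 8, 1, 5, 8, 1, 5, 1],
  [3, 5, 3, 1, 8, 3, 5, 4, 3, 5, 1, 5, 8, 4, 1],
  [1, 7, 1, 7, 1, 2, 1, 2, 3, 1, 3, 4, 2, 1, 7, 2],
  [5, 9, 5, 1, 5, 9, 5, 6, 4, 2, 1, 2, 1, 4, 6],
  [2, 6, 3, 1, 3, 2, 1, 2, 1, 3, 1, 3, 6, 2, 1],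
  [8, 3, 5, 2, 9, 3, 2, 9, 3, 2, 5, 3, 9, 8, 9],
  [5, 3, 8, 9, 8, 9, 3, 5, 2, 3, 9, 2, 3, 9, 2],
  [2, 1, 2, 9, 5, 9, 5, 1, 5, 9, 5, 9],
  [8, 7, 8, 4, 1, 8, 1, 2, 4, 7, 1, 8, 1],
  [4, 7, 3, 5, 2, 1, 3, 1, 3, 4, 2, 5, 3, 7, 4, 5],
  [2, 1, 3, 5, 2, 4, 1, 4, 2, 3, 1, 2, 3, 5, 1, 3],
  [8, 3, 1, 3, 4, 8, 7, 8, 3, 1, 3, 4, 8, 7],
  [5, 1, 9, 7, 1, 5, 9, 5, 9, 5, 1, 7, 9, 1],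
  [5, 1, 5, 8, 6, 5, 2, 1, 2, 5, 1, 6, 8],
  [2, 4, 5, 8, 7, 5, 8, 5, 4, 2, 4, 7, 5, 4],
  [8, 6, 8, 6, 4, 8, 6, 1, 8, 5, 8, 5, 1],
  [8, 4, 3, 2, 3, 1, 3, 2, 5, 3, 5, 4, 8, 1],
  [4, 3, 1, 3, 5, 8, 1, 8, 7, 1, 5, 7, 1, 7],
  [9, 5, 3, 5, 9, 2, 5, 9, 5, 3, 5, 9, 3, 2, 3, 5],
  [2, 3, 8, 1, 3, 8, 5, 3, 5, 2, 1, 8],
  [4, 2, 1, 2, 4, 8, 1, 7, 9, 8, 2, 9, 7],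
  [6, 8, 6, 4, 8, 9, 4, 8, 5, 8, 5, 6, 9, 8],
  [1, 5, 7, 1, 7, 9, 3, 5, 1, 3, 5, 4, 9, 5, 7],
  [5, 6, 2, 4, 5, 1, 5, 4, 2, 6, 1, 5, 1],
  [5, 1, 2, 1, 5, 6, 9, 2, 1, 4, 2, 9, 6, 4, 2, 4],
  [4, 5, 6, 2, 4, 1, 2, 6, 5, 4, 7, 1, 2, 1, 7],
  [3, 5, 8, 3, 5, 3, 5, 7, 4, 8, 3, 4, 7, 5],
  [5, 2, 9, 7, 5, 2, 9, 7, 5, 9, 7, 5, 9, 7],
  [9, 5, 6, 9, 5, 9, 6, 5, 9, 6, 5, 6, 9, 5, 6],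
  [3, 4, 5, 9, 5, 3, 4, 9, 5, 9, 5, 9],
  [2, 3, 2, 1, 2, 7, 4, 1, 7, 2, 1, 2, 3, 2, 1, 4],
  [5, 8, 5, 4, 9, 5, 1, 8, 1, 5, 2, 9, 4, 2],
  [1, 7, 1, 2, 7, 1, 2, 4, 3, 1, 3, 2, 1, 2, 1, 7],
  [7, 2, 1, 7, 1, 2, 7, 6, 5, 7, 4, 2, 4, 7, 5, 6],
  [6, 5, 8, 5, 4, 8, 6, 8, 4, 5, 8, 5],
  [8, 2, 3, 1, 3, 9, 8, 2, 9, 3, 1, 3],
  [2, 4, 2, 3, 5, 7, 1, 5, 4, 7, 1, 5, 1, 5, 3],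
  [2, 4, 2, 6, 5, 7, 5, 6, 2, 4, 2, 6, 5, 7, 5, 6],
  [5, 1, 8, 7, 1, 2, 8, 5, 8, 1, 7, 8, 2, 1],
  [8, 1, 3, 8, 5, 3, 5, 2, 1, 8, 2, 3],
  [5, 3, 1, 4, 7, 2, 1, 7, 5, 2, 4, 1, 3, 1, 7, 4],
  [5, 3, 5, 7, 2, 1, 7, 5, 2, 3, 2, 5, 7, 1, 2, 7],
  [2, 3, 1, 2, 3, 1, 3, 2, 1, 5, 3, 5, 2, 1],
  [3, 1, 8, 3, 5, 4, 1, 8, 4, 1, 5, 3, 8, 1],
  [8, 1, 3, 1, 8, 3, 1, 7, 4, 8, 4, 7, 1, 3],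
  [2, 3, 7, 1, 4, 8, 3, 2, 7, 3, 8, 4, 1, 3],
  [5, 4, 2, 1, 2, 5, 4, 2, 1, 5, 2, 4, 2, 1, 2],
  [6, 2, 3, 1, 3, 2, 6, 3, 1, 3, 8, 3, 1, 3, 8],
  [5, 8, 6, 8, 1, 8, 6, 5, 6, 8, 6, 4, 8, 6],
  [3, 6, 2, 3, 2, 6, 5, 6, 2, 3, 2, 3, 6, 5],
  [9, 6, 5, 6, 9, 5, 6, 9, 5, 6, 9, 5, 9, 6, 5],
  [2, 6, 7, 6, 2, 1, 4, 2, 6, 7, 6, 2, 4, 1],
  [7, 5, 4, 7, 1, 7, 5, 4, 7, 1, 5, 7, 1, 5, 4],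
  [7, 3, 1, 2, 1, 4, 2, 1, 3, 7, 4, 2, 4, 1, 2, 4],
  [8, 5, 7, 9, 2, 9, 7, 5, 8, 9, 2, 9],
  [3, 2, 4, 5, 9, 5, 4, 2, 3, 5, 9, 5, 9, 5, 9, 5],
  [8, 3, 1, 3, 1, 4, 8, 7, 1, 2, 7, 1, 7],
  [9, 2, 3, 2, 9, 5, 3, 5, 9, 2, 3, 2, 9, 5, 3, 5],
  [5, 4, 2, 3, 4, 5, 6, 5, 4, 3, 2, 4, 5, 6],
  [7, 2, 1, 7, 9, 2, 1, 3, 1, 3, 4, 2, 9, 7, 1],
  [9, 5, 3, 1, 4, 2, 9, 5, 9, 5, 9, 1, 2, 4, 3, 5],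
  [9, 4, 3, 1, 4, 9, 2, 1, 3, 5, 3, 1, 2, 1, 3, 5],
  [9, 7, 5, 9, 3, 5, 3, 2, 3, 5, 3, 9, 5, 7, 9, 2],
  [1, 4, 8, 4, 1, 8, 1, 4, 8, 1, 4, 8],
  [1, 5, 2, 1, 8, 1, 8, 5, 8, 1, 8, 2],
  [5, 9, 4, 3, 5, 7, 1, 5, 7, 1, 7, 9, 5, 3, 1],
  [1, 7, 4, 5, 6, 2, 1, 4, 2, 6, 5, 4, 7, 1, 2],
  [3, 1, 5, 6, 2, 1, 2, 3, 6, 2, 5, 3, 1, 3, 2],
  [5, 9, 2, 3, 5, 1, 3, 5, 2, 9, 2, 3, 5, 1, 3, 2],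
  [1, 5, 8, 5, 3, 4, 8, 3, 2, 1, 2, 8, 4, 3],
  [3, 1, 3, 2, 5, 3, 8, 5, 1, 5, 8, 5, 3, 2],
  [5, 2, 8, 5, 1, 5, 9, 2, 8, 9, 5, 1],
  [1, 3, 8, 1, 9, 8, 3, 1, 3, 2, 9, 1, 2, 3],
  [4, 3, 8, 2, 4, 2, 3, 5, 3, 4, 2, 8, 3, 4, 5],
  [2, 9, 2, 5, 3, 1, 5, 3, 2, 9, 5, 2, 3, 1, 5, 3],
  [5, 6, 2, 4, 2, 6, 5, 6, 2, 3, 1, 3, 4, 2, 6],
  [4, 8, 7, 8, 3, 1, 3, 4, 8, 7, 8, 3, 1, 3],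
  [2, 3, 5, 4, 7, 1, 5, 3, 5, 4, 1, 5, 2, 4, 7, 4],
  [1, 3, 4, 5, 3, 1, 8, 1, 3, 5, 4, 3, 1, 8],
  [7, 1, 3, 1, 7, 9, 5, 9, 7, 1, 3, 1, 7, 9, 5, 9],
  [8, 6, 8, 6, 8, 1, 8, 6, 8, 6, 8, 1],
  [5, 4, 1, 2, 1, 4, 5, 6, 8, 6, 8, 6, 8],
  [6, 8, 6, 5, 1, 8, 5, 6, 8, 5, 2, 1, 2, 5, 4],
  [4, 2, 9, 8, 5, 8, 3, 5, 9, 4, 5, 3, 2, 5],
  [5, 9, 4, 5, 8, 2, 1, 5, 4, 1, 9, 5, 1, 2, 8],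
  [2, 1, 4, 2, 1, 3, 7, 4, 2, 4, 1, 2, 4, 7, 3, 1],
  [7, 4, 8, 3, 4, 7, 5, 3, 5, 8, 3, 5, 3, 5],
  [6, 2, 3, 1, 3, 2, 6, 5, 3, 2, 1, 2, 1, 5, 3],
  [2, 1, 7, 1, 2, 3, 1, 3, 4, 7, 8, 1, 8, 7],
  [7, 2, 1, 7, 1, 2, 3, 1, 3, 4, 7, 9, 2, 1, 2, 9],
  [7, 4, 5, 6, 2, 4, 1, 2, 6, 5, 4, 7, 1, 2, 1],
  [5, 9, 6, 5, 6, 9, 5, 6, 9, 5, 6, 9, 5, 9, 6],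
  [7, 1, 5, 7, 1, 7, 4, 3, 1, 3, 5, 8, 1, 8],
  [8, 2, 9, 8, 2, 1, 3, 8, 2, 9, 2, 8, 3, 1],
  [8, 1, 8, 7, 4, 3, 1, 3, 2, 1, 7, 1, 2, 7],
  [3, 7, 1, 4, 8, 3, 2, 7, 3, 8, 4, 1, 3, 2],
  [3, 2, 8, 3, 1, 3, 9, 2, 8, 9, 3, 1],
  [5, 4, 1, 2, 1, 4, 5, 8, 6, 8, 6, 8, 6],
  [1, 2, 4, 2, 1, 7, 8, 4, 8, 7, 8, 4, 8, 7],
  [7, 4, 2, 1, 8, 1, 4, 8, 7, 8, 1, 8, 1],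
  [5, 2, 1, 2, 5, 1, 6, 5, 4, 8, 1, 8, 4, 5, 6],
  [3, 5, 1, 3, 2, 5, 9, 2, 3, 5, 1, 3, 5, 2, 9, 2],
  [9, 7, 1, 8, 4, 2, 1, 2, 4, 7, 9, 2, 8],
  [8, 4, 8, 5, 7, 5, 4, 8, 4, 8, 5, 7, 5, 4],
  [2, 9, 6, 2, 1, 2, 6, 9, 2, 6, 9, 2, 1, 2, 9, 6],
  [7, 1, 7, 3, 1, 8, 4, 5, 8, 1, 7, 3, 1, 5],
  [6, 8, 1, 8, 6, 4, 8, 5, 2, 1, 2, 1, 5, 8, 4],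
  [8, 4, 5, 8, 5, 6, 5, 8, 5, 4, 8, 6],
  [8, 3, 1, 7, 4, 8, 4, 7, 1, 3, 8, 1, 3, 1],
  [5, 8, 5, 1, 8, 6, 8, 6, 4, 8, 6, 1, 8],
  [2, 4, 2, 9, 8, 6, 8, 6, 5, 8, 5, 9, 6],
  [5, 1, 2, 1, 5, 4, 2, 4, 6, 9, 2, 4, 1, 2, 9, 6],
  [2, 8, 5, 8, 4, 2, 4, 5, 4, 2, 4],
  [3, 9, 8, 9, 8, 3, 5, 2, 9, 3, 2, 9, 3, 2, 5],
  [2, 9, 8, 4, 2, 9, 2, 1, 2, 8, 1, 4],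
  [4, 6, 8, 6, 5, 1, 8, 5, 6, 8, 5, 2, 1, 2, 5],
  [5, 2, 3, 2, 5, 7, 1, 2, 7, 5, 3, 5, 7, 2, 1, 7],
  [3, 1, 4, 3, 8, 4, 3, 2, 1, 2, 5, 3, 8, 5],
  [5, 3, 8, 1, 3, 1, 8, 3, 5, 1, 4, 8, 1, 4],
  [5, 1, 2, 5, 9, 8, 5, 1, 5, 2, 9, 8],
  [1, 5, 9, 4, 8, 5, 2, 1, 5, 1, 9, 2, 8, 4, 5],
  [2, 8, 9, 3, 1, 3, 2, 8, 3, 1, 3, 9],
  [5, 9, 8, 9, 5, 4, 2, 9, 2, 4, 5, 8, 2, 5, 9],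
  [2, 3, 5, 7, 1, 2, 4, 2, 1, 7, 5, 3, 2, 1, 7, 1],
  [7, 5, 3, 5, 2, 4, 1, 2, 5, 3, 5, 7, 1, 4],
  [5, 4, 8, 1, 8, 4, 2, 1, 5, 8, 9, 2, 8, 9],
  [5, 2, 3, 5, 4, 9, 5, 3, 8, 5, 8, 9, 2, 4],
  [6, 2, 4, 3, 1, 3, 2, 6, 5, 6, 2, 4, 2, 6, 5],
  [6, 8, 6, 8, 9, 6, 5, 8, 5, 8, 4, 9, 8, 4],
  [7, 9, 2, 9, 7, 5, 9, 3, 5, 3, 2, 3, 5, 3, 9, 5],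
  [7, 5, 4, 1, 7, 1, 2, 1, 7, 1, 4, 5, 7, 4, 2, 4],
  [4, 2, 4, 7, 5, 4, 1, 7, 1, 2, 1, 7, 1, 4, 5, 7],
  [1, 2, 1, 6, 2, 9, 2, 6, 7, 9, 1, 2, 1, 9, 7],
  [5, 9, 2, 9, 5, 8, 7, 9, 2, 9, 7, 8],
  [3, 4, 8, 3, 4, 1, 3, 5, 8, 3, 5, 2, 1, 2],
  [4, 3, 4, 5, 3, 2, 1, 4, 5, 3, 5, 4, 1, 3, 5, 2],
  [4, 5, 8, 4, 5, 8, 4, 3, 1, 2, 1, 2, 5, 3],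
  [6, 5, 6, 8, 1, 8, 6, 8, 5, 6, 8, 4, 6, 8],
  [7, 8, 1, 8, 7, 4, 3, 1, 3, 2, 1, 7, 1, 2],
  [5, 1, 2, 3, 2, 1, 5, 4, 7, 2, 1, 3, 1, 2, 7, 4],
  [8, 1, 6, 8, 4, 6, 8, 6, 8, 1, 5, 8, 5],
  [5, 6, 2, 3, 1, 3, 2, 6, 3, 5, 1, 2, 1, 2, 3],
  [7, 3, 1, 7, 5, 4, 7, 1, 3, 2, 4, 2, 1, 5, 4, 1],
  [6, 4, 2, 9, 2, 4, 6, 5, 9, 1, 2, 9, 1, 5],
  [9, 5, 3, 5, 9, 8, 3, 5, 4, 8, 4, 5, 3, 8],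
  [4, 8, 9, 2, 4, 1, 8, 2, 1, 2, 9, 2],
  [4, 3, 1, 8, 3, 8, 9, 7, 1, 4, 7, 9, 3, 8],
  [9, 3, 8, 5, 3, 1, 3, 5, 8, 9, 5, 1, 3, 5],
  [4, 2, 1, 8, 6, 5, 8, 5, 4, 6, 8, 1, 6, 2],
  [2, 1, 3, 2, 1, 2, 3, 1, 2, 1, 3, 4, 5, 3, 5, 4],
  [5, 4, 6, 8, 1, 6, 2, 4, 2, 1, 8, 6, 5, 8],
  [4, 8, 9, 8, 4, 5, 8, 5, 9, 5, 8, 5],
  [4, 6, 9, 2, 4, 2, 9, 6, 1, 2, 4, 2, 1],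
  [6, 3, 1, 3, 1, 2, 1, 2, 3, 1, 3, 6, 2, 1, 2],
  [4, 2, 6, 5, 4, 7, 1, 2, 1, 7, 4, 5, 6, 2, 1],
  [4, 3, 1, 3, 2, 1, 7, 1, 2, 7, 9, 2, 1, 2, 9, 7],
  [2, 6, 5, 7, 5, 6, 2, 4, 2, 6, 5, 7, 5, 6, 2, 4],
  [1, 7, 8, 1, 5, 1, 2, 8, 7, 1, 8, 5, 8, 2],
  [4, 8, 4, 5, 7, 5, 8, 4, 8, 4, 5, 7, 5, 8],
  [5, 6, 4, 2, 1, 2, 1, 4, 6, 5, 9, 5, 1, 5, 9],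
  [2, 4, 5, 8, 1, 5, 4, 2, 4, 5, 1, 8, 5, 4],
  [7, 3, 2, 3, 5, 7, 5, 8, 3, 2, 7, 3, 8, 5],
  [5, 7, 4, 1, 8, 1, 4, 7, 5, 1, 7, 8, 7, 1],
  [2, 5, 3, 9, 8, 9, 8, 3, 5, 2, 9, 3, 2, 9, 3],
  [5, 7, 6, 3, 2, 3, 2, 6, 7, 5, 3],
  [2, 9, 2, 1, 2, 8, 1, 4, 2, 9, 8, 4],
  [2, 5, 3, 8, 9, 8, 9, 3, 5, 2, 3, 9, 2, 3, 9],
  [2, 1, 2, 4, 6, 9, 2, 1, 2, 9, 6, 1, 4],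
  [4, 5, 1, 7, 5, 3, 2, 4, 2, 3, 5, 1, 5, 1, 7],
  [7, 5, 1, 7, 1, 5, 7, 1, 7, 1, 7, 1, 7, 1],
  [7, 5, 1, 5, 7, 1, 7, 1, 5, 7, 1, 5, 7, 1, 5],
  [5, 3, 5, 3, 8, 5, 3, 5, 7, 4, 3, 8, 4, 7],
  [1, 2, 3, 2, 1, 2, 8, 3, 1, 8, 1, 3, 8, 2],
  [4, 3, 2, 4, 5, 6, 5, 4, 2, 3, 4, 5, 6, 5],
  [5, 6, 8, 1, 2, 4, 2, 6, 1, 8, 6, 4, 5, 8],
  [2, 5, 7, 1, 2, 7, 4, 1, 3, 5, 4, 7, 1, 3, 1, 4],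
  [6, 5, 1, 8, 1, 5, 6, 1, 8, 4, 2, 1, 2, 6, 8],
  [4, 8, 6, 1, 8, 5, 8, 5, 1, 8, 6, 8, 6],
  [7, 9, 2, 1, 2, 9, 7, 2, 1, 7, 1, 2, 3, 1, 3, 4],
  [4, 7, 1, 2, 1, 7, 4, 5, 6, 2, 4, 1, 2, 6, 5],
  [9, 3, 1, 2, 9, 3, 1, 2, 3, 1, 9, 2, 3, 1, 9, 2],
  [5, 9, 5, 9, 2, 1, 2, 9, 5, 9, 5, 1],
  [2, 8, 4, 2, 7, 4, 8, 2, 3, 1, 7, 1, 3],
  [2, 9, 6, 1, 4, 2, 1, 2, 4, 6, 9, 2, 1],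
  [3, 2, 6, 8, 3, 1, 3, 8, 3, 1, 3, 6, 2, 3, 1],
  [7, 4, 6, 9, 7, 4, 1, 7, 9, 6, 1, 7, 4, 1],
  [4, 8, 5, 4, 7, 1, 5, 2, 1, 7, 4, 5, 8, 1],
  [8, 6, 3, 1, 3, 8, 1, 8, 1, 3, 1, 3, 6, 8, 1],
  [9, 4, 8, 4, 9, 8, 9, 4, 8, 9, 4, 8],
  [5, 6, 2, 3, 1, 3, 4, 2, 6, 5, 6, 2, 4, 2, 6],
  [7, 5, 8, 4, 8, 1, 4, 8, 1, 5, 7, 4, 8, 4],
  [2, 3, 8, 4, 3, 5, 8, 5, 1, 3, 4, 8, 2, 1],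
  [5, 3, 4, 5, 8, 4, 5, 8, 4, 3, 1, 2, 1, 2],
  [3, 5, 9, 5, 9, 5, 3, 8, 5, 9, 5, 9, 5, 8],
  [8, 1, 8, 6, 3, 1, 3, 8, 1, 8, 1, 3, 1, 3, 6],
  [1, 7, 5, 1, 5, 7, 5, 1, 7, 5, 1, 7, 5, 1, 7],
  [5, 1, 7, 5, 1, 7, 1, 7, 5, 1, 5, 7, 5, 1, 7],
  [1, 2, 9, 2, 4, 8, 9, 2, 4, 1, 8, 2],
  [4, 7, 8, 7, 4, 2, 4, 7, 8, 7, 4, 5, 2, 5],
  [9, 2, 3, 5, 1, 3, 5, 2, 9, 2, 3, 5, 1, 3, 2, 5],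
  [5, 6, 5, 2, 1, 2, 5, 1, 6, 5, 4, 8, 1, 8, 4],
  [9, 2, 1, 5, 9, 1, 2, 3, 1, 9, 5, 1, 3, 9, 2],
  [5, 6, 5, 4, 2, 3, 4, 5, 6, 5, 4, 3, 2, 4],
  [6, 2, 1, 2, 3, 6, 2, 5, 3, 1, 3, 2, 3, 1, 5],
  [5, 1, 3, 5, 9, 3, 8, 5, 3, 1, 3, 5, 8, 9],
  [8, 4, 3, 1, 3, 8, 7, 8, 4, 3, 1, 3, 8, 7],
  [1, 7, 4, 5, 6, 2, 4, 1, 2, 6, 5, 4, 7, 1, 2],
  [3, 1, 3, 7, 4, 2, 3, 1, 7, 1, 7, 1, 3, 2, 4, 7],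
  [4, 8, 7, 8, 4, 7, 8, 5, 8, 5, 4, 7],
  [3, 8, 5, 1, 5, 8, 5, 3, 2, 3, 1, 3, 2, 5],
  [3, 8, 5, 3, 1, 4, 3, 8, 4, 3, 2, 1, 2, 5],
  [5, 8, 5, 6, 9, 8, 6, 8, 6, 4, 8, 9, 4, 8],
  [3, 5, 4, 3, 1, 8, 1, 3, 4, 5, 3, 1, 8, 1],
  [1, 5, 9, 2, 8, 9, 5, 1, 5, 2, 8, 5],
  [8, 1, 5, 6, 1, 8, 4, 2, 1, 2, 6, 8, 6, 5, 1],
  [5, 6, 8, 4, 6, 8, 6, 5, 6, 8, 1, 8, 6, 8],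
  [8, 6, 5, 8, 6, 8, 1, 8, 6, 5, 6, 8, 6, 4],
  [3, 4, 8, 3, 9, 7, 4, 1, 7, 9, 8, 3, 8, 1],
  [8, 3, 5, 4, 3, 8, 1, 4, 8, 1, 8, 3, 5, 3],
  [6, 8, 2, 6, 2, 8, 6, 2, 8, 6, 8, 2],
  [9, 6, 4, 2, 4, 5, 1, 2, 1, 5, 6, 9, 2, 1, 4, 2],
  [5, 6, 8, 1, 8, 6, 8, 5, 6, 8, 4, 6, 8, 6],
  [1, 2, 5, 9, 8, 5, 1, 5, 2, 9, 8, 5],
  [5, 1, 8, 7, 8, 1, 5, 1, 8, 7, 8, 1],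
  [4, 6, 8, 6, 5, 6, 8, 1, 8, 6, 8, 5, 6, 8],
  [6, 4, 8, 6, 5, 8, 6, 8, 1, 8, 6, 5, 6, 8],
  [8, 6, 5, 8, 5, 4, 6, 8, 1, 6, 2, 4, 2, 1],
  [5, 9, 5, 1, 9, 2, 1, 2, 9, 3, 1, 5, 9, 5, 1, 3],
  [5, 7, 1, 7, 3, 1, 8, 4, 5, 8, 1, 7, 3, 1],
  [7, 1, 2, 8, 5, 8, 1, 7, 8, 2, 1, 5, 1, 8],
  [2, 3, 4, 8, 1, 8, 4, 5, 3, 5, 2, 3, 1, 3],
  [1, 8, 6, 8, 6, 4, 8, 6, 1, 8, 5, 8, 5],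
  [4, 5, 4, 7, 3, 5, 2, 4, 3, 1, 3, 1, 2, 5, 3, 7],
  [5, 9, 2, 9, 5, 6, 2, 4, 8, 2, 9, 4, 8, 6],
  [2, 1, 2, 5, 9, 2, 5, 1, 5, 2, 9, 5],
  [2, 4, 2, 8, 5, 8, 4, 2, 4, 5, 4],
  [2, 1, 2, 8, 3, 1, 8, 1, 3, 8, 2, 1, 2, 3],
  [6, 5, 4, 8, 1, 8, 4, 5, 6, 1, 5, 2, 1, 2, 5],
  [3, 8, 9, 3, 8, 2, 9, 2, 3, 2, 9, 2, 8, 9],
  [9, 5, 3, 5, 9, 3, 5, 4, 2, 1, 3, 1, 3, 2, 4, 5],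
  [3, 2, 4, 5, 6, 5, 4, 2, 3, 4, 5, 6, 5, 4],
  [9, 5, 1, 5, 2, 8, 5, 1, 5, 9, 2, 8],
  [1, 6, 8, 4, 6, 8, 6, 8, 1, 5, 8, 5, 8],
  [1, 2, 5, 3, 5, 7, 1, 4, 7, 5, 3, 5, 2, 4],
  [1, 5, 8, 5, 1, 8, 1, 5, 8, 5, 1, 8],
  [3, 4, 5, 8, 4, 5, 8, 4, 3, 1, 2, 1, 2, 5],
  [5, 6, 2, 4, 1, 2, 6, 5, 4, 7, 1, 2, 1, 7, 4],
  [3, 2, 4, 7, 4, 5, 2, 5, 3, 5, 4, 7, 4, 5],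
  [8, 1, 6, 2, 4, 2, 1, 8, 6, 5, 8, 5, 4, 6],
  [2, 9, 4, 2, 4, 9, 2, 4, 9, 2, 9, 4],
  [9, 8, 9, 5, 9, 5, 2, 8, 5, 4, 2, 9, 2, 4, 5],
  [9, 5, 7, 9, 2, 9, 7, 5, 9, 3, 5, 3, 2, 3, 5, 3],
  [6, 4, 7, 1, 4, 7, 1, 6, 9, 7, 1, 4, 7, 9],
  [7, 1, 2, 4, 2, 1, 7, 8, 4, 8, 7, 8, 4, 8],
  [8, 5, 1, 2, 5, 9, 8, 5, 1, 5, 2, 9],
  [5, 7, 1, 4, 7, 5, 3, 5, 2, 4, 1, 2, 5, 3],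
  [9, 5, 9, 5, 3, 8, 5, 9, 5, 9, 5, 8, 3, 5],
  [9, 4, 8, 9, 4, 8, 9, 4, 8, 4, 9, 8],
  [1, 5, 7, 1, 7, 4, 3, 1, 3, 5, 8, 1, 8, 7],
  [9, 5, 4, 3, 9, 5, 9, 5, 9, 4, 3, 5],
  [5, 3, 5, 9, 8, 3, 5, 4, 8, 4, 5, 3, 8, 9],
  [6, 1, 7, 1, 6, 7, 6, 1, 7, 6, 1, 7],
  [4, 1, 2, 1, 4, 5, 8, 6, 8, 6, 8, 6, 5],
  [9, 2, 8, 9, 5, 4, 8, 1, 8, 4, 2, 1, 5, 8],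
  [7, 6, 1, 7, 6, 1, 7, 1, 6, 7, 6, 1],
  [9, 5, 7, 1, 7, 5, 9, 5, 9, 7, 1, 7, 9, 5],
  [9, 2, 9, 5, 2, 9, 2, 9, 5],
  [1, 8, 2, 3, 8, 1, 3, 8, 5, 3, 5, 2],
  [9, 5, 3, 5, 9, 5, 3, 2, 3, 9, 5, 3, 5, 9, 5, 2],
  [1, 3, 2, 5, 3, 8, 5, 1, 5, 8, 5, 3, 2, 3],
  [1, 4, 5, 7, 5, 4, 1, 5, 7, 5, 1, 4, 5, 7, 5],
  [4, 7, 4, 5, 3, 2, 4, 7, 4, 5, 2, 5, 3, 5],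
  [7, 2, 3, 8, 5, 7, 5, 3, 2, 3, 7, 5, 8, 3],
  [2, 3, 8, 1, 4, 8, 3, 5, 3, 8, 5, 8, 4, 3, 2, 1],
  [2, 1, 3, 1, 3, 4, 2, 5, 3, 7, 4, 5, 4, 7, 3, 5],
  [7, 5, 1, 3, 7, 1, 8, 5, 4, 8, 1, 3, 7, 1],
  [5, 1, 8, 5, 6, 8, 5, 2, 1, 2, 5, 4, 6, 8, 6],
  [5, 9, 5, 3, 8, 5, 9, 5, 9, 5, 8, 3, 5, 9],
  [3, 1, 3, 5, 8, 3, 9, 5, 3, 1, 5, 9, 8, 5],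
  [1, 8, 6, 4, 5, 8, 5, 6, 8, 1, 2, 4, 2, 6],
  [2, 3, 5, 1, 5, 1, 7, 4, 5, 1, 7, 5, 3, 2, 4],
  [6, 4, 1, 2, 9, 2, 1, 4, 6, 2, 9, 2, 9],
  [9, 2, 3, 9, 2, 5, 3, 8, 9, 8, 9, 3, 5, 2, 3],
  [2, 1, 6, 2, 9, 2, 6, 7, 9, 1, 2, 1, 9, 7, 1],
  [8, 6, 4, 8, 5, 2, 1, 2, 1, 5, 8, 4, 6, 8, 1],
  [4, 9, 8, 9, 4, 8, 4, 9, 8, 4, 9, 8],
  [4, 2, 8, 5, 8, 4, 2, 4, 5, 4, 2],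
  [9, 5, 9, 6, 5, 9, 6, 5, 6, 9, 5, 6, 9, 5, 6],
  [1, 2, 8, 5, 8, 1, 7, 8, 2, 1, 5, 1, 8, 7],
  [3, 2, 6, 3, 5, 6, 3, 2, 3, 2, 6, 5, 6, 2],
  [8, 6, 8, 4, 5, 8, 5, 6, 5, 8, 5, 4],
  [2, 4, 1, 6, 9, 2, 1, 2, 9, 6, 4, 2, 1],
  [5, 1, 3, 5, 4, 9, 5, 7, 1, 5, 7, 1, 7, 9, 3],
  [1, 2, 1, 7, 9, 7, 1, 4, 2, 9, 2, 4, 2, 1, 7, 9],
  [7, 1, 7, 2, 9, 2, 3, 1, 3, 2, 9, 2, 1, 4, 7, 1],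
  [3, 2, 1, 3, 1, 2, 3, 2, 1, 3, 1, 2],
  [5, 3, 8, 5, 3, 1, 4, 3, 8, 4, 3, 2, 1, 2],
  [4, 1, 5, 9, 8, 9, 5, 1, 4, 5, 9, 8, 9, 5],
  [7, 1, 4, 2, 9, 2, 4, 2, 1, 7, 9, 1, 2, 1, 7, 9],
  [3, 9, 5, 3, 4, 2, 1, 2, 4, 3, 5, 9, 3, 5, 1, 5],
  [7, 6, 2, 3, 2, 6, 7, 1, 3, 1, 4, 5, 3, 5, 4],
  [1, 2, 1, 2, 5, 3, 4, 5, 8, 4, 5, 8, 4, 3],
  [6, 8, 1, 8, 6, 8, 5, 6, 8, 4, 6, 8, 6, 5],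
  [3, 8, 3, 5, 4, 3, 8, 1, 4, 8, 1, 8, 3, 5],
  [5, 1, 7, 2, 1, 5, 4, 2, 3, 2, 4, 1, 2, 7, 1, 3],
  [9, 7, 1, 7, 2, 1, 7, 9, 2, 1, 3, 1, 3, 4, 2],
  [5, 1, 2, 1, 7, 1, 2, 1, 2, 5, 7, 1, 2, 1, 5, 7],
  [7, 8, 7, 4, 8, 2, 1, 7, 8, 7, 4, 2, 8, 1],
  [2, 8, 5, 8, 1, 7, 8, 2, 1, 5, 1, 8, 7, 1],
  [5, 8, 4, 3, 1, 2, 1, 2, 5, 3, 4, 5, 8, 4],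
  [8, 4, 3, 1, 5, 8, 5, 3, 4, 8, 3, 2, 1, 2],
  [6, 9, 2, 6, 9, 2, 1, 2, 9, 6, 2, 9, 6, 2, 1, 2],
  [5, 3, 5, 4, 8, 1, 8, 4, 3, 2, 3, 1, 3, 2],
  [2, 4, 2, 8, 6, 9, 8, 2, 4, 8, 2, 9, 6, 8],
  [8, 6, 5, 8, 5, 9, 6, 2, 4, 2, 9, 8, 6],
  [1, 8, 3, 1, 3, 2, 1, 9, 2, 3, 1, 3, 8, 9],
  [8, 2, 5, 9, 5, 9, 8, 9, 5, 4, 2, 9, 2, 4, 5],
  [7, 5, 3, 5, 2, 1, 4, 2, 5, 3, 5, 7, 4, 1],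
  [7, 1, 2, 7, 8, 1, 8, 7, 4, 3, 1, 3, 2, 1],
  [3, 8, 5, 3, 5, 2, 1, 8, 2, 3, 8, 1],
  [5, 1, 7, 5, 1, 7, 5, 1, 7, 1, 7, 5, 1, 5, 7],
  [2, 1, 5, 4, 8, 1, 2, 1, 5, 8, 4, 5, 1, 2, 4],
  [9, 5, 4, 8, 1, 8, 4, 2, 1, 5, 8, 9, 2, 8],
  [5, 7, 1, 2, 7, 4, 1, 3, 5, 4, 7, 1, 3, 1, 4, 2],
  [3, 5, 1, 5, 3, 9, 5, 3, 4, 2, 1, 2, 4, 3, 5, 9],
  [6, 7, 6, 2, 4, 1, 2, 6, 7, 6, 2, 1, 4, 2],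
  [7, 1, 7, 4, 5, 7, 1, 4, 7, 5, 1, 5, 7, 4, 5],
  [6, 7, 6, 1, 7, 6, 1, 7, 6, 1, 7, 1],
  [8, 5, 1, 8, 6, 8, 6, 4, 8, 6, 1, 8, 5],
  [6, 2, 3, 1, 4, 3, 1, 2, 6, 4, 7, 1, 2, 1, 7, 4],
  [3, 5, 7, 1, 4, 7, 5, 3, 5, 2, 4, 1, 2, 5],
  [1, 5, 7, 1, 7, 1, 7, 1, 7, 1, 7, 5, 1, 7],
  [5, 4, 1, 8, 4, 1, 5, 3, 8, 1, 3, 1, 8, 3],
  [5, 7, 4, 5, 8, 5, 1, 2, 4, 2, 1, 7, 5, 8],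
  [2, 3, 1, 9, 2, 9, 3, 1, 2, 9, 3, 1, 2, 3, 1, 9],
  [1, 5, 7, 1, 7, 9, 5, 3, 1, 5, 9, 4, 3, 5, 7],
  [5, 8, 1, 8, 7, 1, 5, 7, 1, 7, 4, 3, 1, 3],
  [7, 4, 5, 7, 1, 7, 4, 5, 7, 1, 4, 7, 5, 1, 5],
  [2, 1, 2, 6, 8, 6, 5, 1, 8, 1, 5, 6, 1, 8, 4],
  [7, 4, 5, 7, 1, 4, 7, 5, 1, 5, 7, 4, 5, 7, 1],
  [6, 7, 6, 2, 1, 4, 2, 6, 7, 6, 2, 4, 1, 2],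
  [9, 5, 9, 1, 2, 4, 3, 5, 9, 5, 3, 1, 4, 2, 9, 5],
  [7, 4, 8, 4, 7, 5, 1, 8, 4, 1, 8, 4, 8, 5],
  [5, 8, 7, 8, 5, 8, 7, 8, 5, 8, 7, 8, 2],
  [3, 2, 1, 2, 8, 4, 3, 1, 5, 8, 5, 3, 4, 8],
  [3, 1, 5, 9, 4, 3, 5, 7, 1, 5, 7, 1, 7, 9, 5],
  [5, 1, 5, 9, 2, 8, 9, 5, 1, 5, 2, 8],
  [8, 4, 5, 8, 4, 3, 1, 2, 1, 2, 5, 3, 4, 5],
  [1, 3, 5, 4, 3, 1, 8, 1, 3, 4, 5, 3, 1, 8],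
  [4, 1, 3, 1, 3, 8, 7, 1, 7, 2, 1, 7, 8],
  [1, 3, 8, 3, 1, 7, 5, 8, 1, 3, 1, 8, 5, 7],
  [4, 1, 7, 3, 1, 7, 5, 4, 7, 1, 3, 2, 4, 2, 1, 5],
  [4, 1, 2, 1, 4, 5, 9, 5, 1, 4, 2, 1, 4, 5, 9, 5],
  [3, 2, 3, 8, 4, 8, 4, 3, 2, 3, 4, 8, 4, 8],
  [8, 1, 8, 6, 8, 5, 6, 8, 4, 6, 8, 6, 5, 6],
  [5, 4, 7, 1, 7, 5, 4, 7, 5, 1, 5, 7, 4, 1, 7],
  [5, 4, 1, 5, 1, 4, 5, 4, 1],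
  [1, 3, 1, 3, 8, 9, 8, 1, 3, 1, 3, 8, 9, 8],
  [3, 1, 3, 2, 1, 3, 2, 1, 2, 5, 3, 5, 1, 2],
  [9, 5, 9, 5, 9, 1, 2, 4, 3, 5, 9, 5, 3, 1, 4, 2],
  [6, 7, 2, 1, 7, 1, 2, 7, 6, 5, 7, 4, 2, 4, 7, 5],
  [5, 8, 6, 5, 2, 1, 2, 5, 1, 6, 8, 5, 1],
  [4, 5, 3, 1, 5, 3, 9, 7, 1, 7, 5, 1, 7, 5, 9],
  [2, 6, 5, 1, 5, 1, 6, 2, 4, 5, 1, 5, 4],
  [2, 3, 1, 7, 1, 7, 1, 3, 2, 4, 7, 3, 1, 3, 7, 4],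
  [7, 1, 7, 5, 1, 3, 7, 1, 8, 5, 4, 8, 1, 3],
  [4, 2, 4, 2, 6, 8, 4, 8, 6],
  [7, 4, 2, 1, 2, 4, 8, 1, 7, 9, 8, 2, 9],
  [7, 1, 2, 1, 2, 5, 7, 1, 2, 1, 5, 7, 5, 1, 2, 1],
  [3, 4, 5, 4, 8, 1, 8, 5, 1, 3, 8, 4, 5, 8, 1],
  [2, 9, 5, 3, 5, 9, 2, 3, 2, 9, 5, 3, 5, 9, 2, 3],
  [4, 2, 4, 5, 1, 5, 4, 2, 4, 1, 5, 3, 1, 5, 1, 3],
  [8, 9, 2, 3, 1, 3, 4, 2, 9, 8, 4, 3, 1, 3],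
  [2, 1, 2, 8, 4, 2, 8, 1, 8, 2, 4, 8],
  [7, 4, 2, 4, 7, 9, 4, 2, 4, 2, 9],
  [1, 7, 8, 2, 1, 5, 1, 8, 7, 1, 2, 8, 5, 8],
  [7, 5, 1, 5, 7, 4, 5, 7, 1, 7, 4, 5, 7, 1, 4],
  [4, 9, 2, 8, 4, 2, 6, 5, 9, 2, 9, 5, 6, 8],
  [7, 1, 2, 1, 9, 7, 1, 2, 4, 2, 9, 2, 4, 1, 7, 9],
  [7, 5, 8, 1, 3, 1, 8, 5, 7, 1, 3, 8, 3, 1],
  [8, 7, 5, 8, 5, 7, 9, 5, 8, 5, 8, 9],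
  [8, 7, 5, 8, 5, 4, 2, 4, 7, 5, 4, 2, 4, 5],
  [9, 2, 1, 2, 9, 5, 9, 5, 1, 5, 9, 5],
  [7, 8, 4, 1, 8, 7, 8, 7, 2, 1, 4, 2, 7, 8],
  [1, 3, 1, 3, 2, 9, 2, 3, 1, 3, 1, 2, 9, 2],
  [5, 1, 5, 8, 9, 5, 2, 1, 5, 8, 9, 2],
  [8, 5, 4, 8, 4, 3, 5, 8, 1, 8, 3, 1],
  [3, 7, 1, 4, 5, 1, 2, 4, 2, 3, 1, 7, 4, 5, 7, 1],
  [6, 2, 4, 2, 6, 5, 6, 2, 3, 1, 3, 4, 2, 6, 5],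
  [7, 1, 3, 5, 1, 7, 2, 1, 5, 4, 2, 3, 2, 4, 1, 2],
  [2, 8, 5, 1, 5, 9, 2, 8, 9, 5, 1, 5],
  [1, 8, 4, 8, 5, 7, 4, 8, 4, 7, 5, 1, 8, 4],
  [3, 2, 3, 1, 3, 4, 2, 3, 7, 4, 1, 7],
  [5, 9, 4, 5, 3, 2, 5, 4, 2, 9, 8, 5, 8, 3],
  [2, 4, 3, 1, 3, 2, 3, 7, 1, 4, 7, 3],
  [8, 7, 1, 7, 2, 1, 7, 8, 4, 1, 3, 1, 3],
  [2, 5, 3, 1, 5, 3, 2, 9, 5, 2, 3, 1, 5, 3, 2, 9],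
  [2, 1, 2, 6, 3, 1, 3, 1, 2, 1, 2, 3, 1, 3, 6],
  [6, 5, 6, 2, 3, 1, 3, 4, 2, 6, 5, 6, 2, 4, 2],
  [5, 8, 5, 3, 4, 8, 3, 2, 1, 2, 8, 4, 3, 1],
  [5, 9, 5, 9, 4, 3, 5, 9, 5, 4, 3, 9],
  [1, 8, 1, 7, 4, 2, 1, 8, 1, 4, 8, 7, 8],
  [2, 3, 1, 3, 2, 5, 3, 8, 5, 1, 5, 8, 5, 3],
  [1, 3, 8, 2, 9, 2, 8, 3, 1, 8, 2, 9, 8, 2],
  [3, 5, 4, 8, 1, 8, 4, 3, 2, 3, 1, 3, 2, 5],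
  [3, 5, 9, 5, 3, 1, 4, 2, 9, 5, 9, 5, 9, 1, 2, 4],
  [8, 4, 8, 4, 3, 2, 3, 4, 8, 4, 8, 3, 2, 3],
  [7, 1, 7, 9, 5, 3, 1, 5, 9, 4, 3, 5, 7, 1, 5],
  [6, 2, 4, 2, 6, 5, 7, 5, 6, 2, 4, 2, 6, 5, 7, 5],
  [2, 4, 1, 2, 6, 5, 4, 7, 1, 2, 1, 7, 4, 5, 6],
  [9, 2, 1, 2, 9, 7, 4, 3, 1, 3, 2, 1, 7, 1, 2, 7],
  [4, 2, 3, 1, 7, 1, 7, 1, 3, 2, 4, 7, 3, 1, 3, 7],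
  [1, 5, 1, 5, 6, 2, 4, 5, 1, 5, 4, 2, 6],
  [1, 8, 5, 4, 8, 4, 3, 5, 8, 1, 8, 3],
  [2, 9, 3, 2, 5, 3, 9, 8, 9, 8, 3, 5, 2, 9, 3],
  [5, 7, 9, 2, 9, 7, 5, 8, 9, 2, 9, 8],
  [1, 7, 6, 1, 7, 1, 6, 7, 6, 1, 7, 6],
  [5, 4, 7, 1, 3, 2, 4, 2, 1, 5, 4, 1, 7, 3, 1, 7],
  [9, 2, 9, 1, 2, 9, 1, 2, 1, 9, 2, 1],
  [8, 5, 8, 7, 5, 1, 8, 1, 7, 1, 8, 1, 5, 7],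
  [4, 7, 3, 5, 2, 4, 3, 1, 3, 1, 2, 5, 3, 7, 4, 5],
  [5, 6, 9, 5, 6, 9, 5, 9, 6, 5, 9, 6, 5, 9, 6],
  [9, 7, 1, 4, 2, 9, 2, 4, 2, 1, 7, 9, 1, 2, 1, 7],
  [6, 9, 8, 6, 8, 6, 4, 8, 9, 4, 8, 5, 8, 5],
  [8, 5, 8, 3, 5, 9, 4, 5, 3, 2, 5, 4, 2, 9],
  [9, 2, 1, 4, 9, 2, 9, 4, 1, 2, 4, 1, 9, 2, 1, 4],
  [2, 1, 2, 6, 5, 1, 3, 2, 3, 1, 3, 5, 2, 6, 3],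
  [4, 2, 1, 4, 2, 4, 1, 2, 4, 1, 2, 1],
  [2, 1, 3, 4, 1, 3, 2, 6, 4, 7, 1, 2, 1, 7, 4, 6],
  [7, 1, 2, 3, 5, 7, 1, 2, 4, 2, 1, 7, 5, 3, 2, 1],
  [9, 5, 9, 5, 9, 2, 4, 1, 3, 5, 9, 5, 3, 4, 2, 1],
  [2, 7, 1, 2, 4, 3, 1, 3, 2, 1, 2, 1, 7, 1, 7, 1],
  [8, 7, 8, 3, 1, 3, 4, 8, 7, 8, 3, 1, 3, 4],
  [7, 8, 7, 4, 2, 8, 1, 7, 8, 7, 4, 8, 2, 1],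
  [9, 8, 9, 5, 1, 4, 5, 9, 8, 9, 5, 4, 1, 5],
  [5, 1, 5, 9, 8, 2, 9, 5, 1, 5, 8, 2],
  [2, 6, 5, 4, 7, 1, 2, 1, 7, 4, 5, 6, 2, 1, 4],
  [4, 8, 1, 8, 3, 5, 3, 8, 3, 5, 4, 3, 8, 1],
  [4, 8, 4, 7, 5, 8, 4, 8, 1, 4, 8, 1, 5, 7],
  [2, 4, 1, 3, 1, 7, 4, 5, 3, 1, 4, 7, 2, 1, 7, 5],
  [7, 5, 1, 8, 1, 5, 7, 3, 1, 3, 8, 3, 1, 3],
  [3, 5, 3, 4, 2, 8, 3, 4, 5, 4, 3, 8, 2, 4, 2],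
  [1, 9, 5, 1, 3, 9, 2, 9, 2, 1, 5, 9, 1, 2, 3],
  [8, 4, 3, 2, 1, 2, 5, 3, 8, 5, 3, 1, 4, 3],
  [5, 1, 5, 7, 1, 7, 1, 5, 7, 1, 5, 7, 1, 5, 7],
  [6, 8, 1, 2, 4, 2, 6, 1, 8, 6, 4, 5, 8, 5],
  [4, 5, 3, 1, 8, 1, 3, 5, 4, 3, 1, 8, 1, 3],
  [8, 1, 4, 8, 7, 8, 7, 2, 4, 1, 2, 7, 8, 7],
  [2, 9, 7, 5, 2, 9, 7, 5, 9, 7, 5, 9, 7, 5],
  [2, 1, 3, 2, 1, 2, 5, 3, 5, 1, 2, 3, 1, 3],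
  [6, 5, 4, 8, 1, 8, 4, 5, 6, 5, 2, 1, 2, 5, 1],
  [9, 5, 3, 5, 9, 2, 3, 2, 9, 5, 3, 5, 9, 2, 3, 2],
  [4, 2, 1, 2, 4, 1, 6, 9, 2, 1, 2, 9, 6],
  [5, 9, 5, 9, 2, 4, 1, 3, 5, 9, 5, 3, 4, 2, 1, 9],
  [9, 2, 7, 9, 7, 2, 9, 7, 2],
  [1, 3, 5, 1, 7, 2, 1, 5, 4, 2, 3, 2, 4, 1, 2, 7],
  [2, 9, 2, 3, 1, 3, 1, 2, 9, 2, 1, 3, 1, 3],
  [2, 6, 7, 6, 2, 4, 1, 2, 6, 7, 6, 2, 1, 4],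
  [8, 7, 8, 7, 2, 4, 1, 2, 7, 8, 7, 8, 1, 4],
  [9, 5, 9, 8, 9, 5, 4, 2, 9, 2, 4, 5, 8, 2, 5],
  [7, 4, 1, 7, 4, 6, 9, 7, 4, 1, 7, 9, 6, 1],
  [9, 4, 3, 5, 7, 1, 5, 7, 1, 7, 9, 5, 3, 1, 5],
  [5, 8, 9, 2, 5, 1, 5, 8, 9, 5, 2, 1],
  [1, 3, 4, 1, 3, 2, 6, 4, 7, 1, 2, 1, 7, 4, 6, 2],
  [4, 6, 2, 3, 1, 4, 3, 1, 2, 6, 4, 7, 1, 2, 1, 7],
  [7, 1, 3, 8, 4, 7, 8, 1, 2, 4, 2, 1, 3, 1],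
  [5, 4, 8, 1, 3, 1, 8, 4, 5, 1, 3, 8, 3, 1],
  [3, 8, 5, 3, 1, 3, 5, 8, 9, 5, 1, 3, 5, 9],
  [8, 9, 8, 7, 5, 8, 5, 7, 9, 5, 8, 5],
  [2, 1, 5, 4, 8, 5, 1, 2, 1, 8, 4, 5, 1, 2, 4],
  [2, 6, 3, 1, 3, 1, 2, 1, 2, 3, 1, 3, 6, 2, 1],
  [2, 7, 9, 2, 7, 9, 7, 2, 9],
  [8, 3, 2, 3, 8, 4, 8, 4, 3, 2, 3, 4, 8, 4],
  [6, 4, 7, 1, 2, 1, 7, 4, 6, 2, 1, 3, 4, 1, 3, 2],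
  [1, 3, 4, 8, 2, 1, 2, 3, 8, 4, 3, 5, 8, 5],
  [5, 1, 2, 8, 5, 9, 4, 5, 8, 2, 1, 5, 4, 1, 9],
  [6, 4, 1, 2, 4, 2, 1, 6, 9, 2, 4, 2, 9],
  [8, 6, 5, 4, 1, 2, 1, 4, 5, 8, 6, 8, 6],
  [5, 9, 5, 9, 5, 8, 3, 5, 9, 5, 9, 5, 3, 8],
  [4, 7, 5, 1, 8, 4, 1, 8, 4, 8, 5, 7, 4, 8],
  [3, 1, 3, 8, 3, 1, 3, 6, 2, 3, 1, 3, 2, 6, 8],
  [1, 8, 5, 4, 7, 1, 2, 5, 1, 7, 4, 5, 8, 4],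
  [3, 2, 6, 7, 4, 5, 3, 5, 4, 1, 3, 1, 7, 6, 2],
  [3, 1, 4, 7, 2, 1, 7, 5, 2, 4, 1, 3, 1, 7, 4, 5],
  [3, 7, 1, 7, 1, 7, 3, 1, 7, 3, 1, 7, 1, 3, 7, 1],
  [3, 5, 3, 2, 4, 2, 8, 3, 4, 5, 4, 3, 8, 2, 4],
  [8, 9, 2, 4, 2, 6, 9, 5, 8, 5, 6, 8, 6],
  [7, 3, 1, 8, 4, 5, 8, 1, 7, 3, 1, 5, 7, 1],
  [3, 5, 1, 2, 1, 2, 3, 5, 6, 2, 3, 1, 3, 2, 6],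
  [5, 1, 3, 2, 3, 1, 3, 5, 2, 6, 3, 2, 1, 2, 6],
  [8, 6, 4, 8, 5, 1, 2, 1, 2, 5, 8, 4, 6, 8, 1],
  [6, 9, 2, 4, 1, 2, 9, 6, 5, 1, 2, 1, 5, 4, 2, 4],
  [8, 7, 2, 1, 7, 1, 2, 3, 1, 3, 4, 7, 8, 1],
  [5, 4, 2, 4, 5, 1, 8, 5, 4, 2, 4, 5, 8, 1],
  [4, 1, 3, 1, 7, 6, 2, 3, 2, 6, 7, 4, 5, 3, 5],
  [5, 1, 8, 1, 5, 9, 4, 5, 8, 5, 2, 4, 9, 2],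
  [7, 4, 5, 1, 2, 3, 2, 1, 5, 4, 7, 2, 1, 3, 1, 2],
  [7, 1, 5, 7, 4, 1, 8, 1, 4, 7, 5, 1, 7, 8],
  [9, 5, 8, 5, 1, 8, 2, 5, 8, 5, 9, 2, 1, 8],
  [3, 8, 1, 3, 4, 8, 3, 9, 7, 4, 1, 7, 9, 8],
  [9, 8, 5, 1, 2, 5, 9, 8, 5, 1, 5, 2],
  [4, 2, 3, 5, 9, 5, 9, 5, 9, 5, 3, 2, 4, 5, 9, 5],
  [9, 2, 1, 4, 6, 2, 9, 2, 9, 6, 4, 1, 2],
  [2, 9, 1, 2, 3, 1, 3, 8, 1, 9, 8, 3, 1, 3],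
  [3, 2, 5, 3, 9, 8, 9, 8, 3, 5, 2, 9, 3, 2, 9],
  [2, 5, 3, 5, 8, 3, 1, 8, 3, 2, 8, 1],
  [1, 5, 7, 4, 8, 4, 7, 5, 8, 4, 8, 1, 4, 8],
  [5, 6, 4, 2, 9, 2, 4, 6, 5, 9, 1, 2, 9, 1],
  [2, 3, 1, 3, 2, 6, 8, 3, 1, 3, 8, 3, 1, 3, 6],
  [2, 9, 8, 5, 7, 9, 2, 9, 7, 5, 8, 9],
  [2, 6, 5, 6, 2, 4, 3, 1, 3, 2, 6, 5, 6, 2, 4],
  [3, 5, 9, 5, 9, 5, 9, 5, 3, 2, 4, 5, 9, 5, 4, 2],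
  [5, 1, 7, 5, 9, 4, 5, 3, 1, 5, 3, 9, 7, 1, 7],
  [2, 5, 7, 9, 5, 7, 9, 5, 7, 9, 2, 5, 7, 9],
  [5, 1, 8, 1, 5, 8, 5, 1, 8, 1, 5, 8],
  [7, 5, 1, 7, 4, 5, 7, 1, 7, 4, 5, 7, 4, 5, 1],
  [4, 8, 6, 5, 9, 2, 9, 5, 6, 2, 4, 8, 2, 9],
  [4, 7, 6, 1, 2, 4, 2, 1, 6, 7, 4, 2],
  [2, 3, 8, 5, 7, 5, 3, 2, 3, 7, 5, 8, 3, 7],
  [9, 7, 2, 1, 7, 1, 2, 3, 1, 3, 4, 7, 9, 2, 1, 2],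
  [9, 7, 1, 2, 7, 1, 7, 9, 2, 4, 3, 1, 3, 1, 2],
  [5, 1, 5, 4, 2, 6, 1, 5, 1, 5, 6, 2, 4],
  [1, 9, 7, 1, 2, 1, 6, 2, 9, 2, 6, 7, 9, 1, 2],
  [5, 6, 5, 4, 8, 1, 8, 4, 5, 6, 1, 5, 2, 1, 2],
  [1, 9, 7, 6, 2, 9, 2, 6, 1, 2, 1, 7, 9, 1, 2],
  [3, 5, 4, 9, 5, 3, 8, 5, 8, 9, 2, 4, 5, 2],
  [8, 1, 9, 8, 2, 9, 2, 4, 2, 1, 2, 4],
  [5, 6, 9, 5, 6, 9, 5, 6, 9, 5, 9, 6, 5, 9, 6],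
  [9, 7, 1, 2, 1, 6, 2, 9, 2, 6, 7, 9, 1, 2, 1],
  [2, 4, 7, 4, 2, 5, 1, 4, 5, 3, 5, 1, 7, 4, 5, 3],
  [2, 4, 3, 1, 3, 1, 2, 5, 3, 7, 4, 5, 4, 7, 3, 5],
  [4, 8, 7, 1, 2, 7, 1, 7, 8, 3, 1, 3, 1],
  [2, 9, 2, 8, 9, 1, 8, 4, 2, 1, 2, 4],
  [7, 4, 3, 1, 3, 2, 1, 7, 1, 2, 7, 9, 2, 1, 2, 9],
  [4, 2, 4, 9, 2, 4, 9, 2, 9, 4, 2, 9],
  [1, 2, 5, 9, 2, 5, 1, 5, 2, 9, 5, 2],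
  [4, 8, 3, 2, 3, 8, 4, 8, 4, 3, 2, 3, 4, 8],
  [3, 6, 2, 3, 1, 3, 2, 6, 5, 3, 2, 1, 2, 1, 5],
  [6, 8, 6, 5, 8, 5, 9, 6, 2, 4, 2, 9, 8],
  [6, 2, 4, 2, 1, 8, 6, 5, 8, 5, 4, 6, 8, 1],
  [5, 4, 7, 2, 1, 3, 1, 2, 7, 4, 5, 1, 2, 3, 2, 1],
  [7, 1, 3, 2, 8, 1, 3, 1, 2, 8, 3, 1, 7, 8],
  [2, 1, 7, 1, 2, 7, 6, 5, 7, 4, 2, 4, 7, 5, 6, 7],
  [2, 5, 7, 1, 2, 7, 5, 3, 5, 7, 2, 1, 7, 5, 2, 3],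
  [8, 4, 9, 2, 8, 4, 2, 6, 5, 9, 2, 9, 5, 6],
  [1, 2, 8, 3, 1, 8, 1, 3, 8, 2, 1, 2, 3, 2],
  [2, 6, 1, 8, 6, 4, 5, 8, 5, 6, 8, 1, 2, 4],
  [1, 4, 8, 1, 4, 8, 1, 4, 8, 4, 1, 8],
  [1, 6, 8, 5, 1, 5, 8, 6, 5, 2, 1, 2, 5],
  [1, 2, 5, 1, 7, 4, 5, 8, 4, 1, 8, 5, 4, 7],
  [3, 7, 4, 2, 3, 1, 7, 1, 7, 1, 3, 2, 4, 7, 3, 1],
  [2, 4, 2, 9, 6, 4, 1, 2, 4, 2, 1, 6, 9],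
  [5, 7, 5, 4, 8, 4, 8, 5, 7, 5, 4, 8, 4, 8],
  [2, 3, 4, 8, 4, 8, 3, 2, 3, 8, 4, 8, 4, 3],
  [1, 2, 1, 7, 4, 5, 6, 2, 4, 1, 2, 6, 5, 4, 7],
  [3, 1, 3, 8, 1, 9, 8, 3, 1, 3, 2, 9, 1, 2],
  [4, 3, 5, 7, 1, 5, 7, 1, 7, 9, 5, 3, 1, 5, 9],
  [8, 6, 8, 9, 6, 5, 8, 5, 8, 4, 9, 8, 4, 6],
  [6, 3, 1, 3, 8, 1, 8, 1, 3, 1, 3, 6, 8, 1, 8],
  [2, 1, 3, 2, 4, 1, 4, 2, 5, 3, 1, 2, 3, 1, 5, 3],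
  [4, 3, 8, 2, 4, 3, 5, 3, 2, 4, 2, 8, 3, 4, 5],
  [3, 8, 2, 1, 2, 3, 2, 1, 2, 8, 3, 1, 8, 1],
  [5, 7, 1, 7, 9, 3, 5, 1, 3, 5, 4, 9, 5, 7, 1],
  [8, 5, 9, 4, 5, 8, 2, 1, 5, 4, 1, 9, 5, 1, 2],
  [2, 9, 5, 6, 8, 4, 9, 2, 8, 4, 2, 6, 5, 9],
  [8, 1, 7, 8, 2, 1, 5, 1, 8, 7, 1, 2, 8, 5],
  [7, 3, 1, 3, 7, 4, 2, 3, 1, 7, 1, 7, 1, 3, 2, 4],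
  [6, 8, 6, 2, 1, 2, 6, 8, 6, 2, 1, 2],
  [2, 1, 4, 2, 7, 8, 7, 8, 4, 1, 8, 7, 8, 7],
  [3, 8, 2, 3, 2, 8, 3, 7, 8, 7],
  [8, 7, 1, 8, 5, 8, 2, 1, 7, 8, 1, 5, 1, 2],
  [5, 4, 7, 1, 5, 7, 1, 5, 4, 7, 5, 4, 7, 1, 7],
  [1, 5, 7, 4, 1, 8, 1, 4, 7, 5, 1, 7, 8, 7],
  [7, 1, 5, 4, 7, 5, 4, 7, 1, 7, 5, 4, 7, 1, 5],
  [4, 9, 2, 1, 4, 9, 2, 9, 4, 1, 2, 4, 1, 9, 2, 1],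
  [9, 5, 1, 3, 5, 9, 7, 1, 7, 5, 1, 7, 5, 3, 4],
  [5, 1, 6, 2, 4, 5, 1, 5, 4, 2, 6, 5, 1],
  [7, 1, 7, 1, 5, 7, 1, 5, 7, 1, 5, 7, 5, 1, 5],
  [4, 8, 1, 4, 8, 4, 1, 8, 1, 4, 8, 1],
  [1, 3, 8, 4, 7, 8, 1, 2, 4, 2, 1, 3, 1, 7],
  [5, 6, 2, 3, 2, 6, 3, 5, 6, 3, 2, 3, 2, 6],
  [8, 1, 3, 1, 8, 3, 5, 4, 1, 8, 4, 1, 5, 3],
  [9, 6, 5, 6, 9, 5, 6, 9, 5, 9, 6, 5, 9, 6, 5],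
  [3, 7, 1, 3, 1, 4, 7, 4, 1, 3, 1, 7, 4, 1, 3, 1],
  [2, 6, 2, 8, 6, 2, 8, 6, 8, 2, 6, 8],
  [9, 8, 9, 4, 8, 9, 4, 8, 9, 4, 8, 4],
  [3, 8, 1, 3, 5, 3, 1, 4, 8, 5, 1, 5, 3, 4, 5],
  [2, 6, 3, 5, 6, 3, 2, 3, 2, 6, 5, 6, 2, 3],
  [3, 1, 7, 2, 1, 4, 2, 3, 2, 4, 5, 1, 2, 7, 1, 5],
  [8, 2, 9, 8, 5, 1, 2, 4, 8, 1, 8, 4, 5, 9],
  [5, 3, 1, 7, 2, 1, 4, 2, 3, 2, 4, 5, 1, 2, 7, 1],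
  [5, 8, 5, 1, 5, 8, 3, 5, 2, 3, 1, 3, 2, 3],
  [7, 1, 5, 7, 1, 5, 4, 7, 5, 4, 7, 1, 7, 5, 4],
  [2, 4, 9, 2, 4, 9, 2, 9, 4, 2, 9, 4],
  [3, 2, 3, 7, 1, 4, 8, 3, 2, 7, 3, 8, 4, 1],
  [9, 5, 1, 2, 9, 2, 9, 3, 1, 5, 9, 1, 3, 2, 1],
  [6, 8, 1, 8, 6, 3, 1, 3, 1, 8, 1, 8, 3, 1, 3],
  [5, 6, 8, 4, 9, 2, 8, 4, 2, 6, 5, 9, 2, 9],
  [6, 5, 8, 5, 8, 4, 9, 8, 4, 6, 8, 6, 8, 9],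
  [2, 1, 2, 3, 6, 2, 5, 3, 1, 3, 2, 3, 1, 5, 6],
  [3, 2, 4, 2, 8, 3, 4, 5, 4, 3, 8, 2, 4, 3, 5],
  [6, 8, 6, 4, 8, 6, 5, 8, 6, 8, 1, 8, 6, 5],
  [1, 5, 6, 2, 1, 2, 3, 6, 2, 5, 3, 1, 3, 2, 3],
  [2, 1, 2, 9, 6, 1, 4, 2, 1, 2, 4, 6, 9],
  [5, 9, 3, 8, 5, 3, 1, 3, 5, 8, 9, 5, 1, 3],
  [3, 5, 3, 5, 7, 4, 8, 3, 4, 7, 5, 3, 5, 8],
  [7, 2, 9, 2, 7, 9, 7, 2, 9],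
  [2, 1, 3, 1, 2, 3, 2, 1, 3, 1, 2, 3],
  [8, 1, 8, 1, 7, 4, 2, 1, 8, 1, 4, 8, 7],
  [1, 2, 4, 2, 9, 2, 4, 1, 7, 9, 7, 1, 2, 1, 9, 7],
  [9, 2, 1, 2, 9, 6, 2, 9, 6, 2, 1, 2, 6, 9, 2, 6],
  [4, 8, 1, 8, 4, 5, 3, 5, 2, 3, 1, 3, 2, 3],
  [5, 8, 1, 7, 3, 1, 5, 7, 1, 7, 3, 1, 8, 4],
  [4, 6, 9, 2, 9, 2, 6, 4, 1, 2, 9, 2, 1],
  [2, 1, 3, 9, 2, 1, 3, 9, 2, 9, 1, 3, 2, 9, 1, 3],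
  [6, 4, 8, 9, 4, 8, 5, 8, 5, 6, 9, 8, 6, 8],
  [4, 3, 5, 2, 1, 2, 1, 3, 4, 8, 5, 4, 8, 5],
  [9, 2, 9, 7, 5, 9, 3, 5, 3, 2, 3, 5, 3, 9, 5, 7],
  [3, 2, 3, 1, 3, 2, 5, 3, 8, 5, 1, 5, 8, 5],
  [8, 5, 8, 2, 1, 7, 8, 1, 5, 1, 2, 8, 7, 1],
  [5, 6, 8, 6, 4, 8, 6, 5, 8, 6, 8, 1, 8, 6],
  [1, 7, 8, 1, 8, 5, 3, 1, 3, 4, 7, 1, 7, 5],
  [3, 5, 8, 3, 5, 2, 1, 2, 3, 4, 8, 3, 4, 1],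
  [7, 4, 1, 7, 2, 1, 2, 3, 2, 1, 4, 2, 3, 2, 1, 2],
  [2, 4, 8, 1, 6, 5, 1, 8, 1, 5, 6, 8, 6, 2, 1],
  [4, 5, 8, 1, 4, 8, 5, 4, 7, 1, 5, 2, 1, 7],
  [5, 3, 8, 3, 5, 3, 8, 1, 8, 4, 1, 8, 3, 4],
  [1, 3, 2, 8, 4, 7, 2, 4, 8, 2, 3, 1, 7],
  [6, 8, 6, 4, 8, 6, 1, 8, 5, 8, 5, 1, 8],
  [8, 1, 7, 1, 8, 1, 5, 7, 8, 5, 8, 7, 5, 1],
  [6, 5, 6, 9, 5, 6, 9, 5, 6, 9, 5, 9, 6, 5, 9],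
  [3, 8, 1, 8, 4, 1, 8, 3, 4, 5, 3, 8, 3, 5],
  [3, 1, 5, 8, 1, 8, 4, 5, 4, 3, 1, 8, 5, 4, 8],
  [5, 1, 8, 1, 5, 2, 9, 4, 2, 5, 8, 5, 4, 9],
  [5, 9, 5, 1, 5, 9, 5, 6, 4, 1, 2, 1, 2, 4, 6],
  [4, 7, 1, 2, 1, 7, 4, 5, 6, 2, 1, 4, 2, 6, 5],
  [4, 2, 3, 5, 1, 5, 1, 7, 4, 5, 1, 7, 5, 3, 2],
  [7, 9, 5, 3, 1, 5, 9, 4, 3, 5, 7, 1, 5, 7, 1],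
  [9, 8, 5, 9, 2, 9, 5, 4, 2, 8, 9, 2, 8, 4, 8],
  [3, 5, 6, 2, 3, 1, 3, 2, 6, 3, 5, 1, 2, 1, 2],
  [7, 1, 8, 1, 5, 7, 8, 5, 8, 7, 5, 1, 8, 1],
  [1, 8, 1, 5, 7, 8, 5, 8, 7, 5, 1, 8, 1, 7],
  [7, 4, 2, 4, 7, 5, 4, 1, 7, 1, 2, 1, 7, 1, 4, 5],
  [5, 4, 1, 5, 7, 5, 1, 4, 5, 7, 5, 4, 1, 5, 7],
  [5, 8, 9, 8, 9, 5, 2, 9, 8, 9, 8],
  [8, 4, 3, 2, 3, 4, 8, 4, 8, 3, 2, 3, 8, 4],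
  [4, 2, 8, 9, 6, 8, 2, 4, 2, 8, 6, 9, 2, 8],
  [7, 1, 2, 8, 4, 7, 8, 7, 1, 8, 2, 4, 7, 8],
  [9, 1, 3, 2, 9, 1, 3, 2, 1, 3, 9, 2, 1, 3, 9, 2],
  [1, 5, 6, 2, 4, 5, 1, 5, 4, 2, 6, 1, 5],
  [6, 8, 5, 2, 1, 2, 5, 4, 6, 8, 6, 5, 1, 8, 5],
  [9, 2, 4, 8, 9, 2, 4, 1, 8, 2, 1, 2],
  [5, 7, 1, 7, 9, 5, 7, 1, 7, 9, 5, 7, 1, 7, 9],
  [1, 3, 4, 8, 5, 4, 8, 5, 4, 3, 5, 2, 1, 2],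
  [8, 4, 2, 1, 2, 4, 7, 9, 2, 8, 9, 7, 1],
  [8, 4, 2, 7, 4, 8, 2, 3, 1, 7, 1, 3, 2],
  [8, 5, 4, 6, 8, 1, 6, 2, 4, 2, 1, 8, 6, 5],
  [7, 3, 1, 7, 1, 3, 7, 1, 3, 7, 1, 7, 1, 7, 3, 1],
  [8, 1, 7, 3, 1, 5, 7, 1, 7, 3, 1, 8, 4, 5],
  [1, 5, 1, 9, 7, 1, 5, 9, 5, 9, 5, 1, 7, 9],
  [5, 4, 7, 1, 2, 5, 1, 7, 4, 5, 8, 4, 1, 8],
  [4, 2, 4, 1, 2, 4, 1, 2, 1, 4, 2, 1],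
  [6, 8, 9, 2, 8, 6, 8, 2, 9, 8, 6, 2],
  [8, 5, 3, 2, 3, 1, 3, 2, 5, 3, 8, 5, 1, 5],
  [9, 2, 1, 3, 1, 3, 4, 2, 9, 7, 1, 7, 2, 1, 7],
  [8, 5, 2, 1, 2, 5, 4, 6, 8, 6, 5, 1, 8, 5, 6],
  [5, 4, 1, 2, 1, 4, 5, 9, 5, 1, 4, 2, 1, 4, 5, 9],
  [4, 2, 1, 2, 5, 4, 2, 1, 5, 2, 4, 2, 1, 2, 5],
  [5, 1, 8, 5, 4, 2, 4, 5, 8, 1, 5, 4, 2, 4],
  [5, 4, 7, 1, 2, 1, 7, 4, 5, 6, 2, 4, 1, 2, 6],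
  [7, 1, 7, 1, 7, 4, 1, 2, 9, 2, 3, 1, 3, 2, 9, 2],
  [7, 9, 7, 1, 2, 1, 9, 7, 1, 2, 4, 2, 9, 2, 4, 1],
  [5, 6, 5, 8, 1, 8, 5, 6, 5, 8, 1, 8],
  [4, 1, 5, 7, 5, 1, 4, 5, 7, 5, 1, 4, 5, 7, 5],
  [3, 4, 8, 3, 2, 1, 2, 8, 4, 3, 1, 5, 8, 5],
  [1, 2, 8, 4, 3, 1, 5, 8, 5, 3, 4, 8, 3, 2],
  [5, 2, 1, 2, 1, 5, 8, 4, 6, 8, 1, 8, 6, 4, 8],
  [7, 5, 1, 5, 7, 4, 1, 7, 5, 4, 7, 1, 7, 5, 4],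
  [6, 4, 7, 1, 2, 1, 7, 4, 6, 2, 3, 1, 4, 3, 1, 2],
  [2, 1, 8, 2, 3, 8, 1, 3, 8, 5, 3, 5],
  [1, 7, 5, 9, 4, 5, 3, 1, 5, 3, 9, 7, 1, 7, 5],
  [3, 1, 3, 2, 3, 1, 5, 6, 2, 1, 2, 3, 6, 2, 5],
  [8, 1, 8, 4, 5, 3, 5, 2, 3, 1, 3, 2, 3, 4],
  [2, 5, 1, 5, 8, 9, 5, 2, 1, 5, 8, 9],
  [5, 8, 3, 2, 5, 3, 8, 5, 8, 3, 5, 2, 3, 8],
  [1, 4, 8, 7, 8, 7, 2, 4, 1, 2, 7, 8, 7, 8],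
  [4, 1, 8, 7, 8, 7, 2, 1, 4, 2, 7, 8, 7, 8],
  [8, 9, 5, 8, 5, 1, 8, 2, 5, 8, 5, 9, 2, 1],
  [2, 1, 7, 8, 1, 5, 1, 2, 8, 7, 1, 8, 5, 8],
  [5, 3, 8, 5, 1, 5, 8, 5, 3, 2, 3, 1, 3, 2],
  [3, 5, 2, 4, 1, 2, 5, 3, 5, 7, 1, 4, 7, 5],
  [3, 1, 3, 5, 8, 9, 5, 1, 3, 5, 9, 3, 8, 5],
  [5, 3, 5, 7, 1, 4, 7, 5, 3, 5, 2, 4, 1, 2],
  [1, 4, 6, 2, 9, 2, 9, 6, 4, 1, 2, 9, 2],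
  [5, 3, 1, 3, 2, 3, 1, 5, 6, 2, 1, 2, 3, 6, 2],
  [3, 8, 5, 3, 2, 1, 2, 1, 4, 8, 1, 3, 1, 8, 4, 5],
  [8, 3, 5, 4, 8, 4, 5, 3, 8, 9, 5, 3, 5, 9],
  [2, 1, 6, 9, 2, 4, 2, 9, 6, 4, 1, 2, 4],
  [4, 3, 5, 8, 5, 1, 3, 4, 8, 2, 1, 2, 3, 8],
  [5, 1, 4, 8, 1, 4, 5, 3, 8, 1, 3, 1, 8, 3],
  [7, 9, 2, 4, 3, 1, 3, 1, 2, 9, 7, 1, 2, 7, 1],
  [6, 4, 5, 8, 5, 6, 8, 1, 2, 4, 2, 6, 1, 8],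
  [7, 2, 3, 8, 4, 1, 7, 3, 2, 3, 1, 4, 8, 3],
  [5, 3, 1, 4, 8, 5, 1, 5, 3, 4, 5, 3, 8, 1, 3],
  [8, 6, 5, 6, 8, 6, 4, 8, 6, 5, 8, 6, 8, 1],
  [5, 4, 8, 1, 8, 5, 1, 3, 8, 4, 5, 8, 1, 3, 4],
  [1, 8, 5, 3, 1, 3, 4, 7, 1, 7, 5, 1, 7, 8],
  [2, 3, 9, 2, 3, 9, 2, 5, 3, 8, 9, 8, 9, 3, 5],
  [7, 1, 2, 7, 6, 5, 7, 4, 2, 4, 7, 5, 6, 7, 2, 1],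
  [2, 8, 6, 8, 2, 6, 8, 2, 6, 2, 8, 6],
  [5, 4, 7, 5, 8, 5, 7, 1, 2, 4, 2, 1, 5, 8],
  [4, 9, 5, 1, 3, 5, 9, 7, 1, 7, 5, 1, 7, 5, 3],
  [9, 5, 7, 1, 5, 7, 1, 7, 9, 3, 5, 1, 3, 5, 4],
  [6, 5, 6, 2, 3, 2, 6, 3, 5, 6, 3, 2, 3, 2],
  [7, 1, 7, 5, 1, 7, 5, 3, 4, 9, 5, 1, 3, 5, 9],
  [5, 4, 8, 1, 3, 7, 1, 7, 5, 1, 3, 7, 1, 8],
  [5, 8, 5, 1, 2, 4, 2, 1, 7, 5, 8, 5, 7, 4],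
  [1, 2, 5, 3, 8, 5, 3, 1, 4, 3, 8, 4, 3, 2],
  [8, 9, 2, 9, 8, 5, 7, 9, 2, 9, 7, 5],
  [2, 8, 4, 2, 6, 5, 9, 2, 9, 5, 6, 8, 4, 9],
  [5, 4, 2, 4, 9, 8, 9, 5, 4, 2, 4, 9, 8, 9],
  [6, 1, 8, 6, 4, 5, 8, 5, 6, 8, 1, 2, 4, 2],
  [8, 6, 8, 9, 2, 4, 2, 6, 9, 5, 8, 5, 6],
  [4, 3, 1, 2, 1, 2, 5, 3, 4, 5, 8, 4, 5, 8],
  [3, 8, 2, 9, 2, 3, 2, 9, 2, 8, 9, 3, 8, 9],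
  [7, 5, 9, 4, 5, 3, 1, 5, 3, 9, 7, 1, 7, 5, 1],
  [3, 1, 7, 1, 3, 7, 1, 3, 7, 1, 7, 1, 7, 3, 1, 7],
  [5, 4, 2, 9, 2, 4, 5, 8, 2, 5, 9, 5, 9, 8, 9],
  [2, 3, 5, 7, 1, 5, 4, 7, 1, 5, 1, 5, 3, 2, 4],
  [8, 6, 9, 2, 8, 4, 2, 8, 9, 6, 8, 2, 4, 2],
  [5, 4, 3, 8, 2, 4, 3, 5, 3, 2, 4, 2, 8, 3, 4],
  [8, 4, 6, 8, 6, 8, 1, 5, 8, 5, 8, 1, 6],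
  [7, 5, 4, 7, 1, 7, 5, 4, 7, 5, 1, 5, 7, 4, 1],
  [1, 8, 2, 4, 7, 8, 7, 1, 2, 8, 4, 7, 8, 7],
  [4, 8, 1, 3, 1, 8, 4, 5, 1, 3, 8, 3, 1, 5],
  [1, 8, 1, 4, 8, 7, 8, 1, 8, 1, 7, 4, 2],
  [9, 5, 3, 4, 2, 1, 2, 4, 3, 5, 9, 3, 5, 1, 5, 3],
  [4, 3, 1, 3, 8, 7, 8, 4, 3, 1, 3, 8, 7, 8],
  [9, 2, 9, 1, 3, 2, 9, 1, 3, 2, 1, 3, 9, 2, 1, 3],
  [1, 2, 7, 6, 5, 7, 4, 2, 4, 7, 5, 6, 7, 2, 1, 7],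
  [5, 8, 3, 5, 3, 8, 4, 1, 8, 3, 2, 1, 2, 3, 4, 8],
  [3, 1, 8, 2, 3, 1, 7, 8, 7, 1, 3, 8, 2, 1],
  [8, 1, 4, 8, 1, 4, 8, 4, 1, 8, 1, 4],
  [5, 6, 5, 9, 2, 1, 2, 9, 5, 6, 5, 9, 2, 1, 2, 9],
  [2, 1, 2, 5, 3, 8, 5, 3, 1, 4, 3, 8, 4, 3],
  [1, 5, 2, 8, 5, 1, 5, 9, 2, 8, 9, 5],
  [9, 2, 5, 9, 5, 3, 5, 9, 3, 2, 3, 5, 9, 5, 3, 5],
  [2, 8, 9, 5, 4, 8, 1, 8, 4, 2, 1, 5, 8, 9],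
  [5, 4, 8, 4, 5, 3, 8, 9, 5, 3, 5, 9, 8, 3],
  [7, 5, 4, 7, 5, 1, 5, 7, 4, 1, 7, 5, 4, 7, 1],
  [2, 9, 5, 6, 5, 9, 2, 1, 2, 9, 5, 6, 5, 9, 2, 1],
  [5, 1, 3, 8, 3, 1, 5, 4, 8, 1, 3, 1, 8, 4],
  [2, 4, 2, 1, 8, 6, 5, 8, 5, 4, 6, 8, 1, 6],
  [8, 4, 5, 6, 1, 5, 2, 1, 2, 5, 6, 5, 4, 8, 1],
  [3, 1, 3, 2, 9, 1, 2, 3, 1, 3, 8, 1, 9, 8],
  [9, 8, 9, 4, 2, 4, 5, 9, 8, 9, 4, 2, 4, 5],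
  [3, 8, 4, 1, 7, 3, 2, 3, 1, 4, 8, 3, 7, 2],
  [5, 2, 6, 3, 2, 1, 2, 6, 5, 1, 3, 2, 3, 1, 3],
  [1, 8, 5, 8, 2, 1, 7, 8, 1, 5, 1, 2, 8, 7],
  [9, 2, 9, 3, 1, 2, 9, 3, 1, 2, 3, 1, 9, 2, 3, 1],
  [9, 5, 3, 1, 5, 9, 5, 1, 3, 9, 2, 1, 2, 9, 1, 5],
  [3, 1, 3, 8, 3, 1, 3, 7, 5, 1, 8, 1, 5, 7],
  [3, 1, 8, 4, 5, 8, 1, 7, 3, 1, 5, 7, 1, 7],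
  [5, 1, 4, 5, 9, 8, 9, 5, 4, 1, 5, 9, 8, 9],
  [9, 8, 9, 8, 5, 8, 9, 8, 9, 5, 2],
  [3, 1, 2, 1, 4, 2, 1, 3, 7, 4, 2, 4, 1, 2, 4, 7],
  [2, 6, 3, 2, 1, 2, 6, 5, 1, 3, 2, 3, 1, 3, 5],
  [4, 8, 1, 3, 7, 1, 7, 5, 1, 3, 7, 1, 8, 5],
  [3, 2, 1, 2, 3, 5, 9, 5, 3, 2, 1, 2, 3, 5, 9, 5],
  [7, 1, 4, 7, 1, 6, 9, 7, 1, 4, 7, 9, 6, 4],
  [5, 1, 2, 8, 5, 4, 9, 5, 8, 2, 1, 5, 9, 1, 4],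
  [9, 2, 5, 7, 9, 2, 5, 7, 9, 5, 7, 9, 5, 7],
  [2, 1, 2, 4, 8, 1, 6, 5, 1, 8, 1, 5, 6, 8, 6],
  [4, 2, 6, 5, 6, 2, 4, 2, 6, 5, 6, 2, 3, 1, 3],
  [7, 8, 7, 1, 8, 2, 4, 7, 8, 7, 1, 2, 8, 4],
  [6, 5, 2, 1, 2, 5, 1, 6, 5, 4, 8, 1, 8, 4, 5],
  [5, 4, 1, 5, 7, 5, 1, 4, 5, 7, 5, 1, 4, 5, 7],
  [1, 5, 2, 1, 2, 5, 6, 5, 4, 8, 1, 8, 4, 5, 6],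
  [4, 1, 8, 4, 1, 2, 1, 4, 8, 1, 4, 2],
  [5, 2, 1, 2, 3, 4, 8, 3, 4, 1, 3, 5, 8, 3],
  [4, 2, 4, 1, 8, 4, 1, 2, 1, 4, 8, 1],
  [5, 9, 4, 5, 8, 5, 2, 4, 9, 2, 5, 1, 8, 1],
  [9, 2, 5, 3, 8, 9, 8, 9, 3, 5, 2, 3, 9, 2, 3],
  [3, 5, 3, 1, 2, 9, 4, 1, 3, 4, 9, 5, 3, 1, 2, 1],
  [9, 5, 1, 5, 9, 2, 6, 4, 5, 2, 1, 2, 5, 4, 6, 2],
  [2, 6, 7, 4, 5, 3, 5, 4, 1, 3, 1, 7, 6, 2, 3],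
  [2, 1, 4, 6, 2, 9, 2, 9, 6, 4, 1, 2, 9],
  [3, 1, 3, 2, 1, 9, 2, 3, 1, 3, 8, 9, 1, 8],
  [4, 6, 5, 1, 9, 2, 1, 9, 5, 6, 4, 2, 9, 2],
  [9, 5, 2, 8, 5, 4, 2, 9, 2, 4, 5, 9, 8, 9, 5],
  [3, 8, 4, 1, 3, 2, 3, 7, 1, 4, 8, 3, 2, 7],
  [5, 7, 5, 3, 2, 3, 7, 5, 8, 3, 7, 2, 3, 8],
  [5, 3, 2, 1, 2, 1, 5, 3, 6, 2, 3, 1, 3, 2, 6],
  [8, 7, 5, 1, 8, 1, 7, 1, 8, 1, 5, 7, 8, 5],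
  [5, 8, 6, 8, 6, 8, 6, 5, 4, 1, 2, 1, 4],
  [2, 1, 8, 6, 5, 8, 5, 4, 6, 8, 1, 6, 2, 4],
  [8, 9, 6, 8, 2, 4, 2, 8, 6, 9, 2, 8, 4, 2],
  [4, 5, 1, 5, 4, 3, 2, 4, 5, 3, 1, 3, 5, 4, 2, 3],
  [8, 5, 4, 1, 2, 1, 4, 5, 6, 8, 6, 8, 6],
  [5, 9, 2, 8, 9, 5, 1, 5, 2, 8, 5, 1],
  [8, 5, 6, 8, 1, 2, 4, 2, 6, 1, 8, 6, 4, 5],
  [3, 1, 3, 2, 6, 5, 6, 2, 4, 2, 6, 5, 6, 2, 4],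
  [5, 7, 1, 5, 7, 1, 7, 9, 5, 3, 1, 5, 9, 4, 3],
  [8, 9, 2, 4, 5, 2, 3, 5, 4, 9, 5, 3, 8, 5],
  [2, 5, 7, 9, 2, 5, 7, 9, 5, 7, 9, 5, 7, 9],
  [1, 3, 1, 2, 8, 3, 1, 7, 8, 7, 1, 3, 2, 8],
  [5, 1, 4, 2, 1, 4, 5, 9, 5, 4, 1, 2, 1, 4, 5, 9],
  [2, 8, 6, 9, 2, 8, 4, 2, 8, 9, 6, 8, 2, 4],
  [4, 5, 7, 5, 8, 4, 8, 4, 5, 7, 5, 8, 4, 8],
  [9, 8, 4, 8, 2, 9, 8, 2, 4, 5, 9, 2, 9, 5, 8],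
  [5, 1, 8, 1, 5, 6, 1, 8, 4, 2, 1, 2, 6, 8, 6],
  [3, 1, 4, 8, 5, 1, 5, 3, 4, 5, 3, 8, 1, 3, 5],
  [9, 8, 9, 5, 4, 2, 9, 2, 4, 5, 8, 2, 5, 9, 5],
  [3, 1, 4, 8, 3, 7, 2, 3, 8, 4, 1, 7, 3, 2],
  [2, 6, 5, 4, 7, 1, 2, 1, 7, 4, 5, 6, 2, 4, 1],
  [4, 7, 1, 5, 7, 1, 5, 4, 7, 5, 4, 7, 1, 7, 5],
  [9, 1, 2, 3, 1, 9, 5, 1, 3, 9, 2, 9, 2, 1, 5],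
  [2, 6, 5, 1, 3, 2, 3, 1, 3, 5, 2, 6, 3, 2, 1],
  [5, 4, 2, 4, 6, 9, 2, 4, 1, 2, 9, 6, 5, 1, 2, 1],
  [5, 8, 5, 8, 1, 6, 8, 4, 6, 8, 6, 8, 1],
  [3, 2, 9, 2, 5, 3, 1, 5, 3, 2, 9, 5, 2, 3, 1, 5],
  [7, 1, 4, 5, 1, 2, 4, 2, 3, 1, 7, 4, 5, 7, 1, 3],
  [7, 8, 2, 1, 5, 1, 8, 7, 1, 2, 8, 5, 8, 1],
  [7, 5, 6, 7, 2, 1, 7, 1, 2, 7, 6, 5, 7, 4, 2, 4],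
  [2, 3, 1, 5, 3, 2, 9, 2, 5, 3, 1, 5, 3, 2, 9, 5],
  [4, 8, 6, 5, 8, 6, 8, 1, 8, 6, 5, 6, 8, 6],
  [6, 4, 1, 2, 1, 2, 4, 6, 5, 9, 5, 1, 5, 9, 5],
  [1, 3, 2, 1, 3, 5, 2, 4, 1, 4, 2, 3, 1, 2, 3, 5],
  [3, 2, 8, 4, 7, 2, 4, 8, 2, 3, 1, 7, 1],
  [7, 6, 2, 3, 2, 6, 7, 4, 5, 3, 5, 4, 1, 3, 1],
  [1, 2, 4, 8, 1, 9, 8, 2, 9, 2, 4, 2],
  [5, 4, 7, 1, 5, 1, 5, 3, 2, 4, 2, 3, 5, 7, 1],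
  [8, 3, 5, 2, 3, 1, 3, 2, 3, 5, 8, 5, 1, 5],
  [4, 5, 4, 3, 8, 2, 4, 3, 5, 3, 2, 4, 2, 8, 3],
  [3, 5, 4, 8, 1, 3, 1, 8, 4, 1, 2, 1, 2, 3, 5, 8],
  [4, 1, 2, 6, 7, 6, 2, 1, 4, 2, 6, 7, 6, 2],
  [3, 1, 3, 2, 6, 8, 3, 1, 3, 8, 3, 1, 3, 6, 2],
  [5, 4, 9, 5, 8, 2, 1, 5, 9, 1, 4, 5, 1, 2, 8],
  [7, 4, 8, 4, 8, 7, 1, 5, 8, 7, 8, 7, 5, 1],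
  [5, 8, 3, 5, 2, 3, 8, 5, 8, 3, 2, 5, 3, 8],
  [8, 2, 1, 3, 1, 8, 2, 3, 1, 7, 8, 7, 1, 3],
  [3, 2, 3, 8, 1, 8, 3, 1, 2, 1, 3, 8, 1, 8],
  [2, 4, 7, 8, 7, 1, 2, 8, 4, 7, 8, 7, 1, 8],
  [8, 4, 1, 8, 7, 8, 7, 2, 1, 4, 2, 7, 8, 7],
  [3, 9, 2, 1, 3, 9, 2, 9, 1, 3, 2, 9, 1, 3, 2, 1],
  [6, 1, 7, 6, 1, 7, 1, 6, 7, 6, 1, 7],
  [2, 3, 1, 3, 2, 6, 3, 5, 1, 2, 1, 2, 3, 5, 6],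
  [1, 2, 8, 7, 1, 8, 5, 8, 2, 1, 7, 8, 1, 5],
  [8, 4, 9, 8, 4, 9, 8, 4, 9, 8, 9, 4],
  [4, 7, 5, 4, 7, 1, 7, 5, 4, 7, 1, 5, 7, 1, 5],
  [5, 9, 2, 1, 2, 9, 5, 6, 5, 9, 2, 1, 2, 9, 5, 6],
  [9, 5, 4, 2, 4, 9, 8, 9, 5, 4, 2, 4, 9, 8],
  [8, 3, 5, 9, 5, 9, 5, 3, 8, 5, 9, 5, 9, 5],
  [1, 4, 2, 5, 3, 5, 7, 4, 1, 7, 5, 3, 5, 2],
  [7, 4, 1, 7, 5, 4, 7, 1, 7, 5, 4, 7, 5, 1, 5],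
  [7, 4, 5, 8, 4, 1, 8, 5, 4, 7, 1, 2, 5, 1],
  [4, 2, 5, 3, 5, 7, 4, 1, 7, 5, 3, 5, 2, 1],
  [2, 9, 1, 5, 6, 4, 2, 9, 2, 4, 6, 5, 9, 1],
  [9, 4, 2, 4, 5, 9, 8, 9, 4, 2, 4, 5, 9, 8],
  [2, 1, 5, 8, 5, 4, 7, 5, 8, 5, 7, 1, 2, 4],
  [1, 7, 1, 7, 4, 7, 1, 7, 1, 4, 7, 4],
  [7, 5, 1, 7, 5, 1, 7, 5, 1, 7, 1, 7, 5, 1, 5],
  [3, 7, 1, 2, 1, 4, 2, 1, 7, 3, 1, 2, 4, 1, 2, 1],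
  [1, 5, 3, 2, 9, 2, 5, 3, 1, 5, 3, 2, 9, 5, 2, 3],
  [5, 1, 5, 4, 8, 2, 9, 1, 5, 1, 2, 5, 8, 4, 9],
  [7, 5, 2, 1, 2, 1, 7, 1, 2, 1, 5, 7, 5, 1, 2, 1],
  [8, 1, 5, 8, 1, 5, 1, 8, 5, 1, 8, 5],
  [3, 9, 8, 2, 9, 3, 1, 3, 8, 2, 3, 1],
  [1, 5, 7, 8, 7, 8, 5, 1, 7, 8, 4, 8, 4, 7],
  [8, 5, 8, 1, 5, 8, 1, 5, 1, 8, 5, 1],
  [4, 3, 2, 3, 1, 3, 2, 5, 3, 5, 4, 8, 1, 8],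
  [7, 5, 1, 7, 1, 7, 5, 1, 5, 7, 5, 1, 7, 5, 1],
  [5, 3, 1, 8, 3, 5, 4, 3, 5, 1, 5, 8, 4, 1, 3],
  [5, 3, 2, 1, 7, 1, 2, 3, 5, 7, 1, 2, 4, 2, 1, 7],
  [5, 1, 8, 5, 1, 5, 8, 1, 5, 4, 8, 1, 8, 4],
  [1, 4, 7, 5, 1, 7, 8, 7, 1, 5, 7, 4, 1, 8],
  [9, 5, 9, 5, 7, 1, 7, 5, 9, 5, 9, 7, 1, 7],
  [5, 1, 5, 9, 4, 8, 5, 2, 1, 5, 1, 9, 2, 8, 4],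
  [2, 3, 1, 3, 5, 2, 6, 3, 2, 1, 2, 6, 5, 1, 3],
  [5, 1, 5, 8, 2, 5, 1, 5, 9, 8, 2, 9],
  [5, 7, 1, 5, 7, 1, 5, 7, 5, 1, 5, 7, 1, 7, 1],
  [8, 5, 4, 8, 1, 3, 7, 1, 7, 5, 1, 3, 7, 1],
  [6, 9, 2, 1, 4, 2, 9, 6, 4, 2, 4, 5, 1, 2, 1, 5],
  [3, 2, 3, 5, 8, 5, 1, 5, 8, 3, 5, 2, 3, 1],
  [7, 1, 7, 5, 1, 7, 5, 9, 4, 5, 3, 1, 5, 3, 9],
  [4, 8, 5, 3, 8, 4, 1, 5, 8, 3, 1, 4, 8, 5, 1],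
  [1, 7, 5, 1, 3, 7, 1, 8, 5, 4, 8, 1, 3, 7],
  [1, 3, 5, 8, 3, 9, 5, 3, 1, 5, 9, 8, 5, 3],
  [3, 1, 3, 6, 2, 3, 1, 3, 2, 6, 8, 3, 1, 3, 8],
  [1, 4, 5, 1, 2, 4, 2, 3, 1, 7, 4, 5, 7, 1, 3, 7],
  [5, 7, 1, 2, 4, 2, 1, 5, 8, 5, 4, 7, 5, 8],
  [9, 2, 1, 3, 5, 3, 1, 2, 1, 3, 5, 9, 4, 3, 1, 4],
  [4, 2, 6, 5, 9, 2, 9, 5, 6, 8, 4, 9, 2, 8],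
  [7, 1, 4, 7, 9, 3, 8, 4, 3, 1, 8, 3, 8, 9],
  [9, 8, 1, 2, 9, 5, 8, 5, 2, 8, 1, 5, 8, 5],
  [8, 9, 2, 8, 4, 8, 9, 8, 5, 9, 2, 9, 5, 4, 2],
  [4, 7, 1, 7, 5, 4, 7, 1, 5, 7, 1, 5, 4, 7, 5],
  [4, 7, 5, 8, 5, 7, 1, 2, 4, 2, 1, 5, 8, 5],
  [7, 8, 7, 4, 2, 4, 7, 8, 7, 4, 5, 2, 5, 4],
  [1, 7, 3, 1, 5, 7, 1, 7, 3, 1, 8, 4, 5, 8],
  [8, 9, 1, 8, 3, 1, 3, 2, 1, 9, 2, 3, 1, 3],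
  [6, 5, 9, 5, 1, 5, 9, 5, 6, 4, 1, 2, 1, 2, 4],
  [8, 5, 7, 5, 3, 2, 3, 7, 5, 8, 3, 7, 2, 3],
  [7, 1, 7, 5, 9, 7, 1, 7, 5, 9, 7, 1, 7, 5, 9],
  [5, 1, 3, 5, 2, 9, 2, 3, 5, 1, 3, 2, 5, 9, 2, 3],
  [3, 2, 1, 5, 3, 5, 2, 1, 2, 3, 1, 2, 3, 1],
  [5, 7, 8, 7, 8, 5, 1, 7, 8, 4, 8, 4, 7, 1],
  [4, 9, 2, 9, 4, 2, 9, 4, 2, 4, 9, 2],
  [9, 6, 5, 9, 6, 5, 6, 9, 5, 6, 9, 5, 9, 6, 5],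
  [3, 1, 2, 8, 3, 1, 7, 8, 7, 1, 3, 2, 8, 1],
  [5, 8, 4, 9, 8, 4, 6, 8, 6, 8, 9, 6, 5, 8],
  [1, 5, 2, 1, 7, 4, 5, 8, 1, 4, 8, 5, 4, 7],
  [5, 8, 3, 5, 2, 1, 2, 3, 4, 8, 3, 4, 1, 3],
  [5, 6, 9, 5, 9, 6, 5, 9, 6, 5, 6, 9, 5, 6, 9],
  [8, 4, 7, 2, 4, 8, 2, 3, 1, 7, 1, 3, 2],
  [2, 7, 1, 5, 3, 1, 7, 2, 1, 4, 2, 3, 2, 4, 5, 1],
  [7, 2, 1, 4, 2, 3, 2, 4, 5, 1, 2, 7, 1, 5, 3, 1],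
  [4, 2, 1, 2, 4, 6, 9, 2, 1, 2, 9, 6, 1],
  [1, 6, 7, 6, 1, 7, 6, 1, 7, 6, 1, 7],
  [2, 4, 1, 2, 7, 8, 7, 8, 1, 4, 8, 7, 8, 7],
  [9, 2, 9, 5, 4, 2, 1, 6, 2, 9, 2, 6, 1, 2, 4, 5],
  [6, 8, 1, 8, 6, 5, 6, 8, 6, 4, 8, 6, 5, 8],
  [3, 8, 1, 8, 3, 1, 2, 1, 3, 8, 1, 8, 3, 2],
  [7, 1, 7, 5, 1, 7, 1, 5, 7, 1, 7, 1, 7, 1],
  [8, 1, 4, 7, 5, 1, 7, 8, 7, 1, 5, 7, 4, 1],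
  [1, 2, 1, 7, 1, 2, 1, 2, 5, 7, 1, 2, 1, 5, 7, 5],
  [3, 1, 7, 1, 3, 7, 8, 4, 5, 8, 5, 7],
  [8, 4, 5, 8, 1, 7, 3, 1, 5, 7, 1, 7, 3, 1],
  [1, 3, 1, 2, 4, 2, 1, 8, 7, 4, 8, 3, 1, 7],
  [5, 2, 9, 3, 2, 9, 3, 2, 5, 3, 9, 8, 9, 8, 3],
  [4, 2, 1, 3, 2, 1, 2, 3, 1, 2, 1, 3, 4, 5, 3, 5],
  [2, 8, 9, 6, 8, 2, 4, 2, 8, 6, 9, 2, 8, 4],
  [4, 1, 7, 3, 2, 3, 1, 4, 8, 3, 7, 2, 3, 8],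
  [4, 8, 3, 5, 3, 8, 5, 8, 4, 3, 2, 1, 2, 3, 8, 1],
  [6, 7, 4, 5, 3, 5, 4, 1, 3, 1, 7, 6, 2, 3, 2],
  [4, 3, 2, 1, 2, 3, 8, 1, 4, 8, 3, 5, 3, 8, 5, 8],
  [9, 2, 4, 2, 6, 9, 5, 8, 5, 6, 8, 6, 8],
  [1, 2, 1, 3, 4, 8, 5, 4, 8, 5, 4, 3, 5, 2],
  [7, 4, 1, 7, 9, 8, 3, 8, 1, 3, 4, 8, 3, 9],
  [3, 5, 1, 5, 8, 4, 1, 3, 5, 3, 1, 8, 3, 5, 4],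
  [4, 3, 5, 1, 5, 8, 4, 1, 3, 5, 3, 1, 8, 3, 5],
  [6, 4, 2, 1, 2, 4, 1, 6, 9, 2, 1, 2, 9],
  [4, 8, 4, 1, 8, 1, 4, 8, 1, 4, 8, 1],
  [9, 7, 4, 2, 1, 2, 4, 8, 1, 7, 9, 8, 2],
  [4, 2, 1, 4, 2, 4, 7, 3, 1, 2, 4, 1, 2, 1, 3, 7],
  [6, 5, 1, 2, 1, 5, 4, 2, 4, 6, 9, 2, 4, 1, 2, 9],
  [9, 2, 1, 2, 9, 1, 5, 9, 5, 3, 1, 5, 9, 5, 1, 3],
  [3, 9, 8, 2, 9, 2, 3, 2, 9, 2, 8, 3, 9, 8],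
  [7, 5, 2, 3, 2, 5, 7, 1, 2, 7, 5, 3, 5, 7, 2, 1],
  [8, 4, 8, 7, 1, 2, 4, 2, 1, 7, 8, 4, 8, 7],
  [2, 8, 4, 2, 8, 9, 6, 8, 2, 4, 2, 8, 6, 9],
  [5, 8, 6, 5, 8, 1, 5, 6, 8, 6, 4, 5, 2, 1, 2],
  [7, 5, 8, 5, 7, 4, 5, 8, 5, 1, 2, 4, 2, 1],
  [2, 1, 3, 8, 1, 8, 3, 2, 3, 8, 1, 8, 3, 1],
  [7, 4, 5, 8, 1, 4, 8, 5, 4, 7, 1, 5, 2, 1],
  [1, 3, 5, 8, 9, 5, 1, 3, 5, 9, 3, 8, 5, 3],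
  [2, 3, 2, 6, 5, 6, 2, 3, 2, 6, 3, 5, 6, 3],
  [6, 8, 6, 2, 1, 2, 4, 8, 1, 6, 5, 1, 8, 1, 5],
  [5, 9, 8, 9, 5, 9, 5, 2, 8, 5, 4, 2, 9, 2, 4],
  [4, 5, 8, 1, 7, 3, 1, 5, 7, 1, 7, 3, 1, 8],
  [1, 3, 5, 8, 1, 8, 7, 1, 5, 7, 1, 7, 4, 3],
  [3, 5, 8, 5, 1, 5, 8, 3, 5, 2, 3, 1, 3, 2],
  [6, 5, 8, 5, 4, 6, 8, 1, 6, 2, 4, 2, 1, 8],
  [4, 5, 4, 1, 5, 4, 1, 5, 1],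
  [3, 1, 3, 4, 2, 9, 8, 4, 3, 1, 3, 8, 9, 2],
  [6, 8, 6, 5, 1, 8, 1, 5, 6, 1, 8, 4, 2, 1, 2],
  [5, 7, 4, 1, 7, 5, 3, 5, 2, 1, 4, 2, 5, 3],
  [5, 8, 1, 3, 4, 5, 4, 8, 1, 8, 5, 1, 3, 8, 4],
  [8, 1, 3, 8, 2, 1, 2, 3, 2, 1, 2, 8, 3, 1],
  [5, 1, 8, 4, 1, 8, 4, 8, 5, 7, 4, 8, 4, 7],
  [3, 6, 2, 1, 2, 6, 3, 1, 3, 2, 1, 2, 1, 3, 1],
  [1, 3, 1, 2, 7, 4, 5, 1, 2, 3, 2, 1, 5, 4, 7, 2],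
  [7, 4, 2, 4, 7, 3, 1, 7, 1, 3, 2, 3, 1, 7, 1, 3],
  [5, 1, 7, 4, 8, 4, 8, 7, 1, 5, 8, 7, 8, 7],
  [1, 7, 1, 8, 1, 5, 7, 8, 5, 8, 7, 5, 1, 8],
  [4, 7, 5, 1, 5, 7, 4, 5, 7, 1, 7, 4, 5, 7, 1],
  [1, 7, 4, 1, 7, 4, 6, 9, 7, 4, 1, 7, 9, 6],
  [5, 2, 9, 8, 5, 1, 2, 5, 9, 8, 5, 1],
  [1, 8, 6, 5, 6, 8, 6, 4, 8, 6, 5, 8, 6, 8],
  [4, 8, 4, 7, 5, 1, 8, 4, 1, 8, 4, 8, 5, 7],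
  [5, 2, 3, 9, 2, 3, 9, 2, 5, 3, 8, 9, 8, 9, 3],
  [7, 1, 3, 7, 1, 7, 1, 7, 3, 1, 7, 3, 1, 7, 1, 3],
  [5, 3, 5, 9, 2, 5, 9, 5, 3, 5, 9, 3, 2, 3, 5, 9],
  [5, 2, 1, 2, 1, 3, 4, 8, 5, 4, 8, 5, 4, 3],
  [2, 9, 2, 6, 7, 9, 1, 2, 1, 9, 7, 1, 2, 1, 6],
  [3, 4, 2, 8, 3, 4, 5, 4, 3, 8, 2, 4, 2, 3, 5],
  [1, 8, 1, 5, 9, 4, 5, 8, 5, 2, 4, 9, 2, 5],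
  [2, 9, 4, 2, 9, 4, 2, 4, 9, 2, 4, 9],
  [4, 1, 2, 5, 3, 5, 7, 1, 4, 7, 5, 3, 5, 2],
  [7, 1, 3, 8, 1, 3, 1, 8, 3, 1, 7, 4, 8, 4],
  [8, 9, 5, 3, 5, 9, 8, 3, 5, 4, 8, 4, 5, 3],
  [2, 5, 4, 7, 4, 2, 3, 5, 4, 7, 4, 5, 3, 5],
  [2, 1, 2, 8, 1, 4, 2, 9, 8, 4, 2, 9],
  [2, 5, 3, 5, 4, 8, 1, 8, 4, 3, 2, 3, 1, 3],
  [9, 5, 1, 3, 9, 2, 1, 2, 9, 1, 5, 9, 5, 3, 1, 5],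
  [8, 5, 6, 8, 6, 8, 9, 2, 4, 2, 6, 9, 5],
  [5, 8, 5, 1, 3, 4, 8, 2, 1, 2, 3, 8, 4, 3],
  [2, 3, 1, 3, 2, 6, 3, 1, 3, 8, 3, 1, 3, 8, 6],
  [5, 6, 8, 5, 2, 1, 2, 5, 4, 6, 8, 6, 5, 1, 8],
  [8, 1, 5, 8, 4, 5, 8, 1, 5, 8, 4, 2, 1, 2, 5],
  [8, 4, 2, 1, 5, 8, 9, 2, 8, 9, 5, 4, 8, 1],
  [1, 3, 1, 8, 2, 3, 1, 7, 8, 7, 1, 3, 8, 2],
  [5, 7, 1, 3, 7, 1, 4, 5, 1, 2, 4, 2, 3, 1, 7, 4],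
  [3, 8, 2, 4, 3, 5, 3, 2, 4, 2, 8, 3, 4, 5, 4],
  [7, 2, 1, 7, 5, 2, 3, 2, 5, 7, 1, 2, 7, 5, 3, 5],
  [7, 5, 8, 3, 7, 2, 3, 8, 5, 7, 5, 3, 2, 3],
  [1, 4, 2, 7, 1, 3, 1, 7, 2, 4, 1, 2, 3, 2],
  [8, 5, 9, 6, 2, 4, 2, 9, 8, 6, 8, 6, 5],
  [8, 6, 4, 5, 8, 5, 6, 8, 1, 2, 4, 2, 6, 1],
  [1, 5, 3, 5, 4, 1, 5, 2, 4, 7, 4, 2, 3, 5, 4, 7],
  [3, 7, 5, 8, 3, 7, 2, 3, 8, 5, 7, 5, 3, 2],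
  [5, 4, 3, 5, 1, 5, 8, 4, 1, 3, 5, 3, 1, 8, 3],
  [2, 3, 6, 5, 3, 6, 2, 3, 2, 6, 5, 6, 2, 3],
  [1, 2, 9, 3, 1, 2, 3, 1, 9, 2, 3, 1, 9, 2, 9, 3],
  [7, 1, 2, 1, 4, 2, 1, 7, 3, 1, 2, 4, 1, 2, 1, 3],
  [1, 2, 4, 2, 1, 7, 5, 8, 5, 7, 4, 5, 8, 5],
  [1, 3, 2, 1, 2, 5, 3, 5, 1, 2, 3, 1, 3, 2],
  [4, 9, 2, 5, 1, 8, 1, 5, 9, 4, 5, 8, 5, 2],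
  [1, 3, 1, 8, 5, 7, 1, 3, 8, 3, 1, 7, 5, 8],
  [2, 5, 3, 8, 5, 1, 5, 8, 5, 3, 2, 3, 1, 3],
  [8, 9, 8, 9, 3, 5, 2, 3, 9, 2, 3, 9, 2, 5, 3],
  [3, 4, 8, 5, 4, 8, 5, 4, 3, 5, 2, 1, 2, 1],
  [3, 8, 3, 1, 7, 5, 8, 1, 3, 1, 8, 5, 7, 1],
  [7, 1, 3, 1, 4, 2, 5, 7, 1, 2, 7, 4, 1, 3, 5, 4],
  [5, 3, 8, 5, 8, 3, 5, 2, 3, 8, 5, 8, 3, 2],
  [5, 3, 5, 7, 4, 3, 8, 4, 7, 5, 3, 5, 3, 8],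
  [1, 8, 3, 5, 1, 4, 8, 1, 4, 5, 3, 8, 1, 3],
  [4, 8, 1, 4, 5, 3, 8, 1, 3, 1, 8, 3, 5, 1],
  [1, 4, 8, 3, 2, 7, 3, 8, 4, 1, 3, 2, 3, 7],
  [2, 3, 8, 5, 8, 3, 2, 5, 3, 8, 5, 8, 3, 5],
  [9, 5, 3, 8, 5, 9, 5, 9, 5, 8, 3, 5, 9, 5],
  [4, 7, 3, 1, 3, 7, 4, 2, 3, 1, 7, 1, 7, 1, 3, 2],
  [3, 8, 4, 3, 2, 1, 2, 5, 3, 8, 5, 3, 1, 4],
  [2, 3, 2, 9, 2, 8, 9, 3, 8, 9, 3, 8, 2, 9],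
  [8, 3, 5, 4, 8, 1, 3, 1, 8, 4, 1, 2, 1, 2, 3, 5],
  [8, 1, 2, 5, 3, 5, 8, 3, 1, 8, 3, 2],
  [5, 8, 5, 8, 4, 9, 8, 4, 6, 8, 6, 8, 9, 6],
  [3, 8, 9, 2, 8, 9, 8, 3, 1, 3, 2, 8, 3, 1],
  [3, 2, 1, 2, 5, 3, 8, 5, 3, 1, 4, 3, 8, 4],
  [7, 1, 4, 8, 3, 2, 7, 3, 8, 4, 1, 3, 2, 3],
  [4, 8, 3, 5, 8, 4, 1, 5, 8, 4, 1, 3, 8, 5, 1],
  [4, 1, 2, 4, 7, 3, 1, 2, 1, 4, 2, 1, 3, 7, 4, 2],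
  [4, 1, 3, 1, 3, 7, 1, 3, 1, 4, 7, 4, 1, 3, 1, 7],
  [3, 8, 5, 7, 5, 3, 2, 3, 7, 5, 8, 3, 7, 2],
  [9, 3, 5, 1, 5, 3, 9, 5, 3, 4, 2, 1, 2, 4, 3, 5],
  [1, 7, 9, 8, 2, 9, 7, 4, 2, 1, 2, 4, 8],
  [3, 5, 1, 3, 2, 1, 3, 5, 2, 4, 1, 4, 2, 3, 1, 2],
  [9, 8, 3, 5, 4, 8, 4, 5, 3, 8, 9, 5, 3, 5],
  [1, 3, 8, 3, 1, 5, 4, 8, 1, 3, 1, 8, 4, 5],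
  [2, 9, 1, 2, 9, 1, 2, 1, 9, 2, 1, 9],
  [9, 8, 5, 8, 3, 5, 9, 4, 5, 3, 2, 5, 4, 2],
  [3, 5, 7, 5, 8, 3, 2, 7, 3, 8, 5, 7, 3, 2],
  [4, 5, 3, 8, 3, 5, 3, 8, 1, 8, 4, 1, 8, 3],
  [3, 1, 3, 2, 1, 5, 3, 5, 2, 1, 2, 3, 1, 2],
  [9, 1, 3, 2, 1, 3, 9, 2, 1, 3, 9, 2, 9, 1, 3, 2],
  [4, 8, 1, 8, 4, 3, 2, 3, 1, 3, 2, 5, 3, 5],
  [8, 3, 5, 3, 5, 7, 4, 8, 3, 4, 7, 5, 3, 5],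
  [2, 3, 4, 8, 3, 4, 1, 3, 5, 8, 3, 5, 2, 1],
  [4, 7, 3, 1, 7, 1, 3, 2, 3, 1, 7, 1, 3, 7, 4, 2],
  [4, 1, 6, 9, 2, 1, 2, 9, 6, 4, 2, 1, 2],
  [5, 7, 1, 5, 7, 5, 1, 5, 7, 1, 7, 1, 5, 7, 1],
  [5, 4, 8, 3, 1, 5, 8, 1, 8, 4, 5, 4, 3, 1, 8],
  [5, 1, 4, 5, 4, 1, 5, 4, 1],
  [4, 1, 7, 5, 4, 7, 1, 7, 5, 4, 7, 5, 1, 5, 7],
  [3, 7, 1, 7, 5, 1, 3, 7, 1, 8, 5, 4, 8, 1],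
  [7, 4, 8, 4, 7, 1, 3, 8, 1, 3, 1, 8, 3, 1],
  [7, 1, 6, 7, 6, 1, 7, 6, 1, 7, 6, 1],
  [2, 8, 4, 7, 2, 4, 8, 2, 3, 1, 7, 1, 3],
  [2, 3, 1, 5, 6, 2, 1, 2, 3, 6, 2, 5, 3, 1, 3],
  [9, 2, 1, 2, 9, 3, 1, 5, 9, 5, 1, 3, 5, 9, 5, 1],
  [8, 6, 5, 6, 8, 1, 8, 6, 8, 5, 6, 8, 4, 6],
  [9, 8, 2, 1, 3, 8, 2, 9, 2, 8, 3, 1, 8, 2],
  [6, 5, 6, 8, 6, 4, 8, 6, 5, 8, 6, 8, 1, 8],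
  [9, 5, 1, 3, 5, 9, 3, 8, 5, 3, 1, 3, 5, 8],
  [6, 4, 5, 2, 1, 2, 5, 8, 6, 5, 8, 1, 5, 6, 8],
  [2, 1, 2, 5, 3, 4, 5, 8, 4, 5, 8, 4, 3, 1],
  [7, 4, 2, 4, 1, 2, 4, 7, 3, 1, 2, 1, 4, 2, 1, 3],
  [2, 5, 3, 5, 7, 1, 4, 7, 5, 3, 5, 2, 4, 1],
  [2, 9, 8, 5, 8, 3, 5, 9, 4, 5, 3, 2, 5, 4],
  [6, 1, 5, 2, 1, 2, 5, 6, 5, 4, 8, 1, 8, 4, 5],
  [2, 4, 5, 9, 5, 4, 2, 3, 5, 9, 5, 9, 5, 9, 5, 3],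
  [9, 3, 1, 2, 3, 1, 9, 2, 3, 1, 9, 2, 9, 3, 1, 2],
  [9, 8, 6, 8, 6, 5, 8, 5, 9, 6, 2, 4, 2],
  [1, 3, 1, 8, 3, 5, 4, 1, 8, 4, 1, 5, 3, 8],
  [4, 5, 2, 3, 5, 4, 9, 5, 3, 8, 5, 8, 9, 2],
  [3, 4, 1, 3, 2, 6, 4, 7, 1, 2, 1, 7, 4, 6, 2, 1],
  [9, 2, 8, 4, 5, 1, 5, 9, 4, 8, 5, 2, 1, 5, 1],
  [3, 1, 5, 7, 1, 7, 3, 1, 8, 4, 5, 8, 1, 7],
  [4, 5, 9, 5, 4, 2, 3, 5, 9, 5, 9, 5, 9, 5, 3, 2],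
  [4, 2, 6, 5, 1, 5, 1, 6, 2, 4, 5, 1, 5],
  [7, 5, 3, 2, 3, 7, 5, 8, 3, 7, 2, 3, 8, 5],
  [2, 4, 5, 1, 5, 4, 2, 6, 5, 1, 5, 1, 6],
  [9, 8, 2, 9, 3, 1, 3, 8, 2, 3, 1, 3],
  [4, 2, 1, 6, 7, 4, 2, 4, 7, 6, 1, 2],
  [9, 2, 4, 5, 2, 3, 5, 4, 9, 5, 3, 8, 5, 8],
  [9, 3, 8, 9, 3, 8, 2, 9, 2, 3, 2, 9, 2, 8]]
def Wn : List (List ℕ) := [[1, 10],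
  [2, 12],
  [3, 14],
  [4, 16],
  [5, 18],
  [6, 20],
  [7, 22],
  [8, 24],
  [7, 4, 2, 4, 7, 6, 1, 2, 4, 2, 1, 6],
  [6, 6],
  [4, 3, 4, 3],
  [8, 3, 8, 3, 8, 3],
  [1, 3, 2, 1, 8, 3, 1, 3, 8, 1, 2, 3],
  [2, 3, 8, 4, 8, 4, 3, 2, 3, 4, 8, 4, 8, 3],
  [1, 6, 1, 6],
  [4, 6, 4, 6],
  [2, 6, 2, 6, 2, 6],
  [8, 7, 3, 8, 2, 3, 2, 8, 3, 7],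
  [2, 3, 2, 3, 2, 3, 2, 3],
  [5, 1, 4, 5, 3, 5, 1, 4, 5, 3],
  [1, 3, 1, 2, 3, 2, 1, 3, 1, 2, 3, 2],
  [7, 9, 7, 9, 7, 9],
  [8, 4, 8, 6, 2, 4, 2, 4, 6],
  [3, 9, 3, 9],
  [7, 3, 7, 3],
  [1, 9, 1, 9],
  [5, 9, 5, 1, 7, 9, 1, 5, 1, 9, 7, 1, 5, 9],
  [5, 9, 5, 1, 5, 9, 5, 9, 2, 1, 2, 9],
  [4, 9, 4, 9],
  [5, 1, 5, 9, 5, 8, 1, 8, 5, 9],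
  [5, 9, 3, 5, 3, 2, 3, 5, 3, 9, 5, 7, 9, 2, 9, 7],
  [2, 5, 9, 2, 9, 5, 9, 2, 9],
  [2, 9, 7, 5, 9, 3, 5, 3, 2, 3, 5, 3, 9, 5, 7, 9],
  [1, 1],
  [3, 3],
  [4, 4],
  [5, 5],
  [7, 7],
  [9, 9],
  [6, 4, 1, 2, 4, 2, 1, 6, 9, 2, 4, 2, 9],
  [3, 6, 3, 6],
  [8, 7, 8, 7, 8, 7, 8, 7],
  [8, 5, 8, 3, 5, 9, 4, 5, 3, 2, 5, 4, 2, 9],
  [2, 5, 2, 5],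
  [9, 5, 6, 5, 9, 5, 6, 5, 9, 5, 6, 5],
  [2, 9, 5, 9, 2, 9, 2, 5, 9],
  [8, 9, 1, 8, 4, 2, 1, 2, 4, 2, 9, 2],
  [3, 7, 3, 7],
  [6, 9, 6, 9],
  [7, 3, 1, 7, 1, 3, 7, 8, 4, 5, 8, 5],
  [6, 2, 3, 2, 3, 6, 7, 5, 3, 5, 7],
  [8, 8],
  [4, 7, 9, 6, 4, 7, 1, 4, 7, 1, 6, 9, 7, 1],
  [1, 2, 6, 5, 6, 2, 1, 2, 6, 5, 6, 2],
  [9, 2, 6, 4, 1, 2, 9, 2, 1, 4, 6, 9, 2],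
  [1, 8, 9, 2, 1, 2, 9, 8],
  [6, 1, 6, 1],
  [5, 1, 7, 1, 5, 1, 7, 1],
  [4, 1, 5, 1, 4, 5, 4, 1, 5],
  [7, 1, 6, 7, 6, 1, 7, 1, 6, 7, 1, 6],
  [2, 1, 7, 8, 4, 1, 3, 1, 3, 8, 7, 1, 7],
  [5, 6, 5, 1, 5, 6, 5, 1],
  [1, 4, 1, 4],
  [4, 2, 7, 8, 7, 8, 4, 1, 8, 7, 8, 7, 2, 1],
  [3, 5, 3, 5, 1, 5, 3, 5, 3, 1],
  [5, 8, 7, 4, 8, 7, 8, 4, 7, 4, 5, 8],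
  [5, 8, 2, 4, 2, 4, 5, 4, 2, 4, 8],
  [8, 9, 7, 9, 8, 7, 9, 7],
  [4, 7, 3, 2, 4, 3, 1, 3, 2, 3, 7, 1],
  [7, 1, 6, 7, 1, 6, 7, 1, 6, 7, 6, 1],
  [7, 8, 4, 7, 4, 5, 8, 5, 8, 7, 4, 8],
  [4, 5, 3, 5, 1, 4, 5, 3, 5, 1],
  [8, 7, 9, 7, 8, 9, 7, 9],
  [6, 2, 6, 2, 6, 2],
  [9, 2, 9, 2, 9, 2, 9, 2],
  [1, 2, 9, 8, 1, 8, 9, 2],
  [4, 2, 4, 6, 8, 4, 8, 6, 2],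
  [9, 8, 3, 1, 3, 2, 9, 1, 2, 3, 1, 3, 8, 1],
  [4, 8, 6, 2, 4, 2, 4, 6, 8],
  [9, 8, 9, 8, 9, 8, 9, 8],
  [9, 4, 9, 4],
  [2, 7, 9, 7, 2, 9, 2, 7, 9],
  [4, 2, 7, 1, 3, 1, 7, 2, 4, 1, 2, 3, 2, 1],
  [3, 2, 3, 2, 3, 2, 3, 2],
  [9, 8, 1, 3, 1, 3, 8, 9, 8, 1, 3, 1, 3, 8],
  [2, 7, 2, 7],
  [6, 8, 6, 8, 9, 8, 6, 8, 6, 8, 9, 8],
  [9, 2, 1, 4, 6, 9, 2, 9, 2, 6, 4, 1, 2],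
  [1, 2, 4, 6, 9, 2, 1, 2, 9, 6, 1, 4, 2],
  [9, 1, 8, 4, 2, 1, 2, 4, 2, 9, 2, 8],
  [6, 4, 6, 4],
  [7, 4, 7, 4, 7, 4],
  [1, 2, 1, 2, 1, 2, 1, 2],
  [2, 9, 2, 6, 1, 2, 1, 7, 9, 1, 2, 1, 9, 7, 6],
  [4, 2, 6, 8, 4, 8, 6, 4, 2],
  [2, 9, 7, 4, 2, 4, 7, 9, 4, 2, 4],
  [4, 2, 4, 9, 7, 4, 2, 4, 7, 9, 2],
  [2, 2],
  [8, 1, 8, 2, 6, 8, 2, 1, 2, 8, 6, 2],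
  [1, 7, 2, 4, 1, 2, 3, 2, 1, 4, 2, 7, 1, 3],
  [1, 4, 2, 1, 7, 3, 1, 2, 4, 1, 2, 1, 3, 7, 1, 2],
  [7, 9, 7, 8, 9, 7, 9, 8],
  [9, 1, 9, 1],
  [2, 8, 2, 8],
  [8, 3, 7, 8, 7, 3, 8, 2, 3, 2],
  [4, 3, 1, 4, 9, 2, 1, 3, 5, 3, 1, 2, 1, 3, 5, 9],
  [8, 2, 8, 2],
  [2, 3, 2, 8, 3, 7, 8, 7, 3, 8],
  [1, 7, 9, 2, 4, 3, 1, 3, 1, 2, 9, 7, 1, 2, 7],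
  [2, 1, 3, 1, 8, 2, 3, 1, 7, 8, 7, 1, 3, 8],
  [8, 1, 3, 1, 2, 8, 3, 1, 7, 8, 7, 1, 3, 2],
  [1, 8, 1, 2, 1, 8, 1, 2],
  [9, 2, 1, 2, 9, 8, 1, 8],
  [7, 1, 3, 8, 2, 1, 3, 1, 8, 2, 3, 1, 7, 8],
  [8, 7, 1, 3, 8, 2, 1, 3, 1, 8, 2, 3, 1, 7],
  [8, 9, 2, 9, 8, 9, 2, 9],
  [9, 2, 9, 8, 9, 2, 9, 8],
  [1, 5, 1, 9, 7, 1, 5, 9, 5, 9, 5, 1, 7, 9],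
  [6, 8, 6, 8, 5, 4, 1, 2, 1, 4, 5, 6, 8],
  [7, 6, 7, 6, 7, 6],
  [2, 6, 8, 6, 2, 9, 2, 6, 8, 6, 2, 9],
  [9, 8, 9, 2, 9, 8, 9, 2],
  [1, 8, 5, 6, 5, 8, 1, 8, 5, 6, 5, 8],
  [8, 9, 8, 9, 8, 9, 8, 9],
  [5, 1, 3, 2, 3, 1, 3, 5, 2, 6, 3, 2, 1, 2, 6],
  [2, 9, 7, 8, 5, 9, 2, 9, 5, 8, 7, 9],
  [6, 1, 2, 1, 7, 9, 1, 2, 1, 9, 7, 6, 2, 9, 2],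
  [9, 2, 8, 4, 2, 6, 5, 9, 2, 9, 5, 6, 8, 4],
  [8, 6, 8, 6, 8, 9, 8, 6, 8, 6, 8, 9],
  [9, 8, 6, 8, 6, 8, 9, 8, 6, 8, 6, 8],
  [2, 5, 1, 5, 2, 9, 5, 2, 1, 2, 5, 9],
  [9, 2, 4, 2, 1, 2, 4, 8, 1, 9, 8, 2],
  [7, 3, 8, 2, 3, 2, 8, 3, 7, 8],
  [6, 5, 9, 6, 5, 6, 9, 5, 6, 9, 5, 6, 9, 5, 9],
  [2, 4, 5, 4, 2, 4, 8, 5, 8, 2, 4],
  [8, 9, 8, 5, 8, 9, 8, 9, 2, 5, 9],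
  [6, 1, 7, 4, 1, 7, 4, 6, 9, 7, 4, 1, 7, 9],
  [9, 6, 9, 6],
  [6, 8, 2, 4, 2, 8, 6, 9, 2, 8, 4, 2, 8, 9],
  [6, 4, 2, 4, 2, 6, 8, 4, 8],
  [4, 8, 4, 8, 7, 1, 5, 8, 7, 8, 7, 5, 1, 7],
  [4, 7, 1, 6, 9, 7, 1, 4, 7, 9, 6, 4, 7, 1],
  [7, 8, 9, 8, 5, 8, 5, 9, 7, 5, 8, 5],
  [4, 5, 4, 5, 4, 5],
  [8, 9, 5, 1, 4, 5, 9, 8, 9, 5, 4, 1, 5, 9],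
  [9, 8, 7, 9, 7, 8, 9, 7],
  [1, 5, 1, 2, 1, 5, 1, 2],
  [2, 5, 3, 1, 5, 3, 2, 9, 5, 2, 3, 1, 5, 3, 2, 9],
  [8, 3, 1, 3, 1, 8, 9, 8, 3, 1, 3, 1, 8, 9],
  [2, 9, 2, 7, 9, 2, 7, 9, 7],
  [8, 1, 3, 1, 3, 8, 9, 8, 1, 3, 1, 3, 8, 9],
  [7, 1, 4, 7, 4, 1, 7, 1, 7, 4, 7, 1],
  [2, 3, 4, 5, 6, 5, 4, 3, 2, 4, 5, 6, 5, 4],
  [5, 1, 7, 5, 9, 4, 5, 3, 1, 5, 3, 9, 7, 1, 7],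
  [8, 5, 8, 7, 4, 8, 7, 8, 4, 7, 4, 5],
  [4, 2, 4, 7, 9, 2, 4, 2, 4, 9, 7],
  [2, 4, 7, 9, 2, 4, 2, 4, 9, 7, 4],
  [5, 8, 7, 8, 5, 8, 7, 8, 5, 8, 7, 8, 2],
  [6, 5, 4, 3, 2, 4, 5, 6, 5, 4, 2, 3, 4, 5],
  [1, 7, 5, 3, 5, 2, 1, 4, 2, 5, 3, 5, 7, 4],
  [4, 1, 4, 1],
  [8, 1, 2, 4, 2, 1, 3, 1, 7, 1, 3, 8, 4, 7],
  [1, 5, 7, 5, 1, 4, 5, 7, 5, 4, 1, 5, 7, 5, 4],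
  [1, 2, 4, 2, 1, 6, 7, 4, 2, 4, 7, 6],
  [6, 5, 8, 5, 4, 8, 6, 8, 4, 5, 8, 5],
  [7, 8, 9, 7, 9, 8, 7, 9],
  [2, 7, 9, 2, 7, 9, 7, 2, 9],
  [7, 5, 7, 5, 7, 5],
  [5, 6, 5, 9, 5, 6, 5, 9, 5, 6, 5, 9],
  [4, 2, 4, 8, 4, 2, 4, 8],
  [5, 8, 5, 8, 5, 8, 5, 8],
  [8, 4, 2, 4, 8, 4, 2, 4],
  [5, 9, 5, 4, 2, 4, 5, 9, 5, 4, 2, 4],
  [2, 4, 2, 4, 2, 4, 2, 4],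
  [5, 8, 4, 3, 1, 2, 1, 2, 5, 3, 4, 5, 8, 4],
  [8, 7, 4, 5, 2, 5, 4, 7, 8, 7, 4, 2, 4, 7],
  [4, 2, 4, 8, 5, 8, 2, 4, 2, 4, 5],
  [1, 8, 6, 8, 5, 6, 8, 4, 6, 8, 6, 5, 6, 8],
  [7, 9, 8, 7, 9, 7, 8, 9],
  [5, 6, 2, 3, 1, 3, 4, 2, 6, 5, 6, 2, 4, 2, 6],
  [6, 5, 6, 5, 6, 5, 6, 5],
  [6, 7, 6, 5, 6, 7, 6, 5, 6, 7, 6, 5],
  [6, 8, 4, 8, 6, 4, 2, 4, 2],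
  [5, 3, 2, 4, 2, 8, 3, 4, 5, 4, 3, 8, 2, 4, 3],
  [6, 3, 6, 3],
  [5, 3, 2, 3, 5, 3, 2, 3],
  [8, 6, 8, 6, 8, 5, 4, 1, 2, 1, 4, 5, 6],
  [1, 3, 7, 5, 8, 5, 4, 8, 7, 3, 1, 7],
  [3, 2, 1, 2, 6, 5, 1, 3, 2, 3, 1, 3, 5, 2, 6],
  [7, 8, 1, 4, 8, 7, 8, 7, 2, 4, 1, 2, 7, 8],
  [6, 2, 3, 2, 3, 6, 5, 3, 6, 2, 3, 2, 6, 5],
  [8, 7, 1, 2, 1, 7, 8, 7, 1, 2, 1, 7],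
  [5, 1, 5, 6, 5, 1, 5, 6],
  [6, 8, 9, 6, 5, 8, 5, 8, 4, 9, 8, 4, 6, 8],
  [8, 1, 3, 8, 1, 8, 5, 3, 4, 8, 4, 5],
  [5, 4, 7, 3, 5, 2, 4, 3, 1, 3, 1, 2, 5, 3, 7, 4],
  [8, 4, 1, 8, 7, 8, 7, 2, 1, 4, 2, 7, 8, 7],
  [8, 6, 2, 9, 2, 6, 8, 6, 2, 9, 2, 6],
  [2, 4, 2, 8, 6, 9, 2, 8, 4, 2, 8, 9, 6, 8],
  [1, 4, 7, 3, 2, 4, 3, 1, 3, 2, 3, 7],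
  [6, 7, 4, 2, 4, 7, 6, 1, 2, 4, 2, 1],
  [5, 8, 2, 1, 5, 9, 1, 4, 5, 1, 2, 8, 5, 4, 9],
  [5, 8, 5, 4, 8, 9, 8, 4, 5, 8, 5, 9],
  [2, 8, 1, 8, 2, 6, 8, 2, 1, 2, 8, 6],
  [8, 1, 2, 9, 5, 8, 5, 2, 8, 1, 5, 8, 5, 9],
  [4, 8, 6, 5, 9, 2, 9, 5, 6, 2, 4, 8, 2, 9],
  [6, 1, 8, 6, 4, 5, 8, 5, 6, 8, 1, 2, 4, 2],
  [8, 7, 1, 5, 7, 4, 1, 8, 1, 4, 7, 5, 1, 7],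
  [8, 2, 5, 8, 7, 8, 5, 8, 7, 8, 5, 8, 7],
  [8, 1, 5, 1, 8, 7, 8, 1, 5, 1, 8, 7],
  [7, 2, 7, 2],
  [9, 3, 9, 3],
  [5, 6, 7, 6, 5, 6, 7, 6, 5, 6, 7, 6],
  [6, 7, 6, 7, 6, 7],
  [3, 4, 3, 4],
  [8, 5, 2, 8, 7, 8, 5, 8, 7, 8, 5, 8, 7]]
def cr : List (ℕ × ℕ × ℕ) := [(0, 0, 0), (1, 17, 1), (0, 0, 0), (1, 18, 1), (1, 19, 1), (0, 0, 0), (1, 21, 1), (0, 0, 0), (1, 110, 8), (1, 51, 7), (0, 0, 0), (1, 60, 1), (0, 0, 0), (0, 0, 0), (1, 61, 9), (1, 173, 6), (0, 0, 0), (0, 0, 0), (1, 16, 1), (1, 52, 5), (1, 28, 0), (1, 85, 8), (1, 10, 0), (1, 26, 0), (1, 30, 3), (1, 11, 1), (1, 112, 0), (1, 12, 1), (1, 23, 1), (1, 14, 1), (1, 151, 2), (1, 240, 13), (1, 118, 3), (1, 126, 7),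 (1, 15, 1), (1, 27, 1), (1, 48, 0), (1, 9, 1), (1, 63, 2), (1, 10, 1), (1, 22, 0), (1, 13, 1), (1, 59, 5), (1, 52, 6), (1, 157, 3), (1, 130, 1), (1, 150, 7), (2, 72, 4), (1, 73, 10), (1, 17, 0), (1, 68, 1), (1, 33, 0), (1, 272, 8), (1, 126, 11), (1, 20, 0), (1, 143, 8), (1, 34, 2), (1, 85, 6), (1, 264, 12), (1, 47, 1), (1, 64, 5), (1, 173, 9), (1, 35, 1), (1, 84, 7), (1, 39, 1), (1, 54, 3), (1, 67, 3), (1, 29, 0), (1, 12, 0), (1, 51, 4), (1, 64, 7), (2, 103, 8), (1, 215, 4), (1, 77, 7), (1, 60, 5), (1, 70, 5), (1, 55, 1), (1, 125, 7), (1, 38, 3), (1, 30, 0), (1, 47, 2), (1, 22, 1), (1, 39, 0), (1, 90, 2), (1, 61, 4), (1, 127, 7), (1, 161, 0), (1, 40, 0), (1, 130, 5),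 (1, 66, 4), (1, 53, 5), (1, 25, 0), (1, 121, 3), (1, 61, 1), (1, 32, 0), (1, 40, 2), (1, 18, 0), (2, 242, 7), (1, 24, 0), (1, 28, 1), (1, 52, 1), (1, 129, 12), (1, 64, 6), (1, 56, 2), (1, 41, 1), (1, 54, 5), (1, 68, 0), (1, 72, 2), (1, 85, 9), (1, 46, 0), (1, 71, 3), (1, 158, 4), (1, 52, 3), (1, 56, 3), (1, 67, 6), (1, 50, 0), (1, 35, 0), (1, 11, 0), (1, 23, 0), (1, 98, 3), (1, 55, 6), (2, 110, 5), (1, 30, 2), (1, 42, 2), (1, 161, 6), (1, 77, 4), (1, 38, 1), (1, 58, 2), (1, 54, 2), (1, 82, 4), (1, 65, 10), (1, 27, 0), (1, 49, 1), (1, 74, 1), (1, 64, 1), (1, 79, 0), (1, 84, 2), (1, 63, 9), (1, 110, 6), (1, 51, 0), (1, 101, 0), (1, 19, 0), (1, 21, 0), (1, 137, 5), (1,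 42, 3), (1, 20, 1), (1, 58, 3), (1, 51, 3), (1, 43, 2), (1, 81, 2), (1, 127, 1), (1, 13, 0), (1, 54, 1), (1, 119, 1), (1, 34, 3), (1, 77, 0), (1, 16, 0), (1, 59, 2), (1, 60, 2), (1, 9, 0), (1, 36, 0), (1, 124, 10), (2, 228, 6), (1, 66, 10), (1, 51, 6), (1, 76, 4), (1, 31, 0), (1, 72, 9), (1, 151, 12), (1, 156, 6), (1, 196, 2), (1, 43, 1), (1, 138, 7), (2, 72, 3), (1, 25, 1), (1, 67, 1), (1, 53, 1), (1, 87, 4), (1, 77, 3), (2, 64, 9), (2, 235, 9), (1, 54, 6), (1, 45, 1), (1, 46, 1), (1, 55, 8), (1, 60, 8), (1, 32, 2), (1, 44, 0), (1, 89, 2), (1, 41, 0), (1, 50, 1), (1, 126, 9), (1, 43, 3), (1, 45, 0), (1, 49, 3), (1, 61, 2), (1, 52, 4), (1, 51, 2), (1, 15, 0), (1, 118,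 0), (1, 100, 3), (1, 58, 0), (1, 57, 2), (1, 84, 4), (1, 56, 4), (1, 48, 1), (1, 164, 11), (1, 257, 5), (1, 69, 3), (1, 33, 1), (1, 62, 3), (1, 93, 2), (1, 175, 11), (2, 131, 4), (1, 103, 10), (1, 65, 7), (1, 29, 1), (2, 220, 10), (2, 163, 5), (2, 88, 10), (1, 287, 3), (1, 121, 4), (2, 261, 8), (2, 158, 3), (1, 131, 7), (1, 59, 1), (2, 130, 11), (1, 148, 6), (1, 24, 1), (1, 56, 1), (1, 122, 6), (1, 66, 5), (1, 52, 2), (1, 161, 9), (1, 136, 6), (1, 140, 6), (1, 126, 2), (1, 89, 1), (1, 44, 1), (1, 100, 1), (1, 134, 3), (1, 285, 4), (1, 77, 2), (1, 32, 1), (1, 57, 3), (1, 185, 1), (1, 129, 0), (1, 52, 0), (1, 149, 1), (1, 40, 3), (1, 88, 2), (2, 272, 4), (1, 78, 4),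 (1, 37, 1), (2, 66, 9), (1, 87, 9), (1, 164, 12), (1, 71, 5), (2, 67, 6), (1, 14, 0), (2, 163, 6), (1, 116, 11), (1, 52, 7), (1, 134, 9), (1, 125, 9), (1, 294, 3), (1, 108, 0), (2, 63, 1), (1, 178, 8), (1, 178, 2), (2, 178, 2), (1, 72, 7), (2, 197, 3), (2, 193, 2), (1, 88, 7), (1, 297, 7), (1, 108, 1), (1, 125, 12), (1, 111, 5), (2, 84, 3), (1, 129, 3), (1, 58, 4), (1, 112, 2), (1, 119, 3), (1, 115, 8), (1, 220, 10), (1, 30, 1), (1, 34, 0), (2, 178, 9), (1, 118, 4), (1, 49, 2), (1, 63, 5), (1, 284, 14), (1, 291, 12), (1, 231, 1), (1, 178, 4), (1, 66, 9), (1, 205, 7), (1, 105, 7), (2, 88, 5), (1, 89, 0), (1, 212, 1), (2, 170, 10), (2, 130, 2), (1, 130, 3), (1, 170,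 7), (2, 243, 3), (2, 66, 4), (2, 105, 10), (1, 122, 5), (2, 235, 8), (1, 153, 7), (1, 75, 7), (2, 232, 1), (1, 78, 6), (1, 101, 3), (1, 95, 2), (1, 63, 6), (1, 175, 10), (1, 81, 8), (2, 169, 0), (1, 163, 7), (1, 179, 6), (1, 162, 8), (2, 85, 3), (1, 32, 3), (1, 100, 5), (1, 68, 2), (1, 66, 8), (1, 192, 8), (1, 107, 2), (2, 62, 0), (1, 34, 1), (1, 294, 1), (2, 62, 2), (1, 86, 4), (1, 88, 1), (1, 56, 6), (1, 305, 7), (2, 64, 0), (1, 272, 1), (1, 54, 8), (1, 80, 0), (1, 63, 10), (1, 26, 1), (1, 75, 0), (1, 101, 1), (1, 104, 3), (1, 235, 10), (1, 138, 3), (1, 162, 2), (1, 70, 2), (2, 66, 3), (2, 240, 7), (1, 221, 3), (1, 42, 0), (2, 244, 2), (1, 87, 5), (1, 192, 2), (1,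 55, 0), (2, 126, 5), (1, 38, 2), (1, 58, 5), (1, 76, 3), (1, 61, 8), (2, 128, 1), (1, 58, 8), (2, 110, 6), (1, 239, 9), (1, 65, 8), (2, 131, 5), (1, 40, 1), (1, 125, 8), (1, 178, 5), (2, 192, 6), (1, 110, 4), (1, 92, 4), (1, 133, 11), (1, 88, 6), (1, 82, 5), (1, 66, 1), (2, 105, 11), (1, 154, 5), (1, 67, 5), (1, 142, 6), (1, 137, 9), (1, 132, 12), (2, 55, 8), (2, 113, 5), (1, 114, 5), (1, 145, 9), (1, 179, 5), (2, 136, 3), (1, 58, 7), (2, 121, 0), (1, 84, 9), (2, 184, 4), (1, 122, 1), (1, 37, 0), (1, 270, 11), (1, 105, 4), (1, 49, 0), (1, 144, 13), (1, 64, 2), (2, 163, 4), (1, 114, 2), (1, 54, 0), (1, 254, 7), (1, 108, 5), (1, 176, 11), (1, 127, 6), (2, 191, 3), (1,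 58, 1), (2, 67, 5), (1, 75, 2), (1, 53, 2), (2, 151, 5), (1, 141, 5), (1, 197, 3), (1, 115, 2), (1, 239, 12), (1, 244, 14), (2, 133, 5), (1, 55, 7), (1, 129, 7), (1, 102, 2), (1, 221, 1), (1, 93, 7), (1, 275, 9), (1, 71, 4), (1, 97, 5), (1, 158, 1), (1, 88, 5), (1, 272, 3), (1, 87, 10), (1, 67, 4), (1, 70, 0), (2, 161, 5), (1, 182, 13), (1, 168, 2), (1, 121, 9), (1, 68, 5), (1, 72, 6), (1, 71, 2), (1, 253, 9), (2, 54, 2), (1, 65, 6), (2, 65, 6), (2, 215, 11), (1, 215, 7), (1, 92, 5), (1, 103, 4), (1, 66, 6), (2, 113, 6), (1, 145, 6), (1, 107, 3), (2, 56, 2), (1, 215, 6), (1, 155, 0), (1, 121, 5), (2, 72, 2), (1, 138, 8), (1, 76, 8), (2, 82, 2), (2, 54, 7), (1, 142,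 11), (1, 79, 1), (2, 216, 9), (2, 229, 6), (1, 151, 1), (2, 84, 4), (1, 80, 3), (1, 60, 6), (1, 61, 6), (1, 36, 1), (2, 121, 6), (1, 72, 11), (2, 86, 5), (2, 132, 6), (1, 99, 6), (1, 69, 4), (1, 66, 3), (2, 129, 6), (1, 53, 4), (1, 260, 3), (1, 73, 2), (1, 76, 2), (1, 215, 9), (1, 157, 12), (1, 64, 3), (1, 106, 0), (1, 72, 3), (1, 226, 12), (1, 67, 2), (2, 264, 5), (2, 72, 8), (1, 241, 4), (2, 280, 4), (1, 99, 2), (1, 132, 6), (1, 104, 4), (2, 198, 10), (1, 168, 6), (1, 84, 10), (2, 245, 13), (1, 105, 5), (1, 199, 5), (1, 42, 1), (1, 56, 8), (1, 47, 3), (1, 110, 5), (1, 111, 4), (2, 54, 0), (1, 55, 5), (1, 157, 2), (1, 286, 7), (2, 63, 0), (2, 200, 13), (1, 106, 3),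 (1, 65, 9), (1, 121, 7), (1, 76, 9), (1, 65, 0), (1, 127, 8), (1, 112, 3), (1, 102, 11), (1, 103, 3), (1, 62, 4), (2, 121, 9), (1, 31, 1), (1, 153, 1), (1, 114, 1), (1, 83, 1), (1, 57, 9), (2, 55, 0), (1, 83, 4), (1, 133, 5), (1, 253, 7), (2, 124, 10), (1, 117, 6), (1, 168, 13), (1, 200, 7), (1, 65, 4), (1, 127, 9), (2, 53, 7), (2, 114, 3), (1, 57, 6), (1, 57, 1), (1, 119, 2), (1, 135, 2), (2, 84, 7), (1, 70, 3), (2, 158, 2), (1, 97, 9), (2, 63, 7), (2, 85, 6), (1, 96, 3), (1, 197, 4), (1, 109, 3), (1, 51, 5), (1, 105, 8), (1, 72, 8), (1, 83, 5), (1, 168, 7), (1, 131, 5), (1, 68, 3), (2, 143, 9), (1, 57, 4), (1, 245, 14), (1, 64, 8), (1, 66, 7), (1, 149, 9), (1, 78,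 2), (1, 61, 0), (1, 123, 5), (1, 136, 7), (1, 72, 1), (1, 183, 0), (1, 92, 8), (1, 140, 3), (2, 134, 9), (1, 190, 5), (1, 92, 2), (1, 61, 7), (1, 80, 4), (2, 218, 8), (1, 142, 13), (1, 64, 10), (1, 162, 10), (1, 38, 0), (1, 85, 1), (1, 59, 3), (1, 126, 12), (2, 105, 1), (1, 119, 4), (1, 107, 0), (1, 69, 5), (1, 73, 0), (1, 82, 7), (1, 133, 3), (2, 105, 4), (2, 67, 8), (1, 102, 4), (1, 86, 0), (1, 103, 9), (1, 128, 10), (1, 119, 0), (1, 111, 1), (1, 116, 6), (1, 93, 3), (2, 214, 3), (2, 231, 2), (1, 101, 4), (2, 86, 0), (1, 143, 6), (1, 94, 1), (1, 178, 13), (1, 84, 1), (1, 51, 1), (1, 85, 3), (1, 84, 5), (2, 185, 6), (1, 115, 7), (1, 214, 2), (1, 222, 8), (1, 120,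 7), (1, 162, 3), (1, 94, 5), (1, 97, 2), (1, 178, 7), (1, 191, 11), (1, 55, 2), (2, 126, 1), (2, 72, 5), (1, 105, 6), (1, 85, 5), (1, 178, 6), (1, 163, 9), (1, 114, 9), (1, 65, 5), (1, 172, 3), (1, 214, 9), (2, 185, 4), (1, 92, 11), (1, 150, 5), (1, 82, 10), (1, 248, 13), (1, 274, 1), (1, 118, 1), (1, 241, 8), (1, 105, 11), (1, 100, 0), (1, 53, 6), (1, 81, 0), (1, 77, 10), (1, 154, 3), (1, 194, 13), (2, 128, 8), (2, 194, 6), (1, 131, 8), (1, 96, 1), (1, 134, 6), (1, 54, 7), (1, 73, 9), (1, 214, 7), (1, 61, 3), (1, 230, 2), (1, 105, 10), (1, 261, 8), (1, 103, 2), (2, 103, 5), (1, 167, 11), (1, 119, 5), (1, 103, 7), (1, 101, 2), (1, 65, 2), (1, 62, 1), (1, 129, 5), (1,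 73, 5), (1, 251, 6), (1, 57, 8), (2, 65, 2), (2, 110, 8), (1, 47, 0), (1, 55, 4), (1, 64, 4), (1, 123, 3), (1, 43, 0), (1, 150, 11), (1, 211, 11), (1, 81, 7), (1, 178, 11), (2, 103, 6), (1, 66, 2), (2, 140, 9), (1, 302, 12), (1, 73, 3), (1, 62, 0), (1, 81, 6), (1, 264, 3), (1, 129, 6), (1, 164, 6), (1, 57, 7), (1, 258, 5), (1, 73, 1), (1, 140, 2), (2, 56, 5), (1, 112, 10), (2, 77, 4), (1, 59, 0), (2, 62, 3), (1, 121, 0), (1, 94, 2), (1, 252, 10), (1, 86, 1), (1, 162, 1), (1, 97, 1), (1, 167, 4), (2, 169, 12), (2, 77, 11), (2, 113, 3), (1, 130, 9), (1, 100, 2), (1, 58, 6), (1, 97, 4), (2, 165, 1), (1, 165, 8), (2, 165, 7), (1, 120, 2), (1, 116, 9), (1, 120, 1), (1,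 240, 4), (2, 131, 3), (2, 163, 7), (1, 272, 2), (1, 169, 5), (1, 106, 1), (1, 121, 1), (2, 304, 15), (2, 133, 12), (1, 133, 10), (1, 165, 11), (1, 211, 3), (1, 192, 11), (1, 185, 9), (1, 140, 8), (1, 251, 0), (2, 72, 10), (1, 144, 5), (1, 210, 1), (1, 142, 1), (2, 64, 10), (1, 59, 4), (1, 116, 4), (1, 92, 9), (1, 108, 2), (1, 92, 1), (1, 283, 8), (1, 63, 3), (1, 260, 0), (2, 55, 4), (2, 135, 4), (1, 111, 0), (2, 82, 1), (1, 64, 0), (1, 73, 6), (2, 250, 3), (1, 169, 7), (1, 229, 9), (1, 120, 3), (1, 116, 1), (1, 130, 8), (1, 116, 7), (2, 103, 4), (1, 132, 7), (1, 242, 6), (2, 223, 6), (1, 178, 0), (1, 242, 3), (1, 89, 3), (1, 206, 4), (1, 276, 8), (2, 140, 5), (1, 139,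 4), (1, 63, 7), (1, 84, 8), (1, 275, 7), (1, 207, 3), (1, 86, 2), (2, 86, 1), (1, 64, 9), (1, 135, 9), (1, 54, 4), (1, 200, 11), (1, 99, 1), (2, 152, 11), (1, 111, 3), (1, 223, 9), (1, 120, 5), (2, 193, 3), (1, 61, 5), (1, 98, 4), (2, 299, 1), (1, 59, 6), (1, 211, 6), (1, 177, 7), (2, 117, 7), (1, 153, 4), (2, 82, 4), (2, 103, 10), (1, 115, 1), (1, 60, 7), (1, 240, 7), (1, 165, 2), (1, 272, 15), (1, 92, 6), (1, 132, 0), (1, 303, 1), (1, 142, 10), (1, 95, 8), (1, 88, 9), (1, 88, 0), (1, 176, 1), (1, 184, 12), (1, 141, 7), (1, 199, 4), (2, 136, 5), (2, 84, 8), (1, 212, 4), (1, 118, 5), (1, 141, 4), (2, 65, 5), (1, 302, 7), (1, 86, 5), (2, 242, 9), (2, 110, 4), (1, 272,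 0), (1, 88, 10), (2, 55, 1), (2, 103, 7), (2, 218, 3), (2, 168, 4), (1, 150, 3), (1, 125, 6), (1, 245, 8), (1, 252, 9), (1, 97, 6), (1, 201, 5), (2, 121, 7), (2, 192, 10), (1, 128, 5), (1, 253, 6), (1, 105, 2), (1, 192, 10), (1, 186, 11), (2, 165, 10), (1, 142, 3), (2, 192, 7), (1, 150, 6), (1, 93, 8), (2, 88, 6), (1, 215, 0), (2, 193, 9), (1, 240, 14), (1, 81, 10), (1, 101, 5), (1, 56, 7), (1, 83, 3), (1, 92, 10), (1, 99, 5), (1, 92, 3), (1, 116, 0), (1, 214, 0), (1, 170, 9), (2, 135, 9), (2, 178, 13), (1, 110, 3), (1, 164, 13), (1, 70, 4), (1, 105, 0), (2, 63, 4), (1, 116, 2), (2, 178, 4), (1, 221, 9), (2, 172, 0), (1, 115, 3), (1, 88, 4), (1, 109, 2), (1, 189, 2),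 (2, 233, 12), (1, 233, 3), (1, 187, 8), (2, 200, 2), (1, 152, 3), (1, 146, 1), (1, 177, 5), (2, 133, 2), (2, 72, 1), (1, 140, 9), (1, 107, 1), (1, 175, 6), (2, 212, 2), (1, 109, 1), (2, 151, 7), (1, 193, 4), (1, 208, 2), (2, 143, 8), (1, 137, 1), (1, 163, 6), (1, 241, 2), (1, 76, 7), (2, 64, 1), (1, 208, 1), (1, 98, 2), (2, 82, 10), (1, 88, 8), (2, 198, 12), (1, 257, 8), (1, 208, 3), (2, 201, 2), (2, 62, 1), (1, 73, 4), (2, 164, 3), (1, 184, 10), (1, 142, 12), (1, 83, 9), (1, 169, 3), (1, 216, 8), (1, 231, 6), (1, 261, 5), (2, 84, 2), (2, 303, 14), (1, 121, 2), (2, 250, 12), (1, 128, 1), (2, 65, 0), (1, 85, 4), (1, 112, 4), (1, 151, 6), (2, 130, 8), (1, 60, 9), (1,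 122, 0), (1, 108, 3), (1, 106, 4), (1, 75, 10), (1, 121, 10), (1, 165, 3), (2, 283, 8), (1, 194, 7), (1, 122, 11), (1, 162, 9), (2, 110, 7), (1, 200, 12), (1, 205, 6), (1, 80, 1), (1, 133, 2), (1, 149, 4), (1, 90, 0), (1, 57, 0), (2, 168, 5), (2, 55, 7), (1, 133, 4), (1, 202, 6), (1, 139, 0), (1, 146, 0), (1, 219, 2), (1, 73, 11), (1, 113, 6), (1, 169, 6), (1, 240, 9), (2, 240, 9), (1, 87, 11), (1, 63, 8), (1, 140, 1), (1, 107, 4), (1, 198, 1), (1, 82, 11), (1, 187, 1), (2, 66, 8), (1, 235, 4), (1, 174, 9), (1, 198, 2), (1, 53, 8), (1, 139, 11), (2, 65, 9), (2, 205, 10), (2, 156, 4), (1, 164, 1), (1, 150, 0), (1, 186, 1), (1, 257, 9), (1, 200, 1), (1, 168, 12), (2,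 135, 2), (2, 127, 4), (2, 161, 12), (1, 245, 1), (1, 234, 10), (1, 90, 1), (1, 195, 1), (2, 158, 4), (1, 177, 9), (1, 160, 4), (1, 172, 5), (1, 59, 8), (2, 130, 10), (1, 236, 11), (2, 198, 9), (1, 168, 5), (2, 103, 9), (2, 168, 0), (1, 78, 7), (1, 195, 11), (1, 195, 6), (1, 82, 8), (1, 166, 6), (1, 133, 7), (1, 114, 8), (1, 228, 6), (2, 103, 1), (2, 141, 11), (1, 81, 3), (1, 62, 2), (1, 66, 0), (2, 186, 7), (2, 132, 5), (1, 252, 12), (2, 125, 1), (1, 146, 12), (2, 65, 4), (2, 229, 9), (1, 109, 4), (1, 71, 1), (1, 257, 11), (2, 235, 10), (1, 168, 8), (1, 87, 0), (1, 85, 10), (1, 278, 6), (1, 83, 11), (1, 170, 8), (2, 173, 7), (1, 87, 2), (2, 130, 1), (2, 133, 0), (1,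 105, 9), (1, 231, 0), (1, 81, 1), (2, 66, 2), (1, 157, 6), (2, 196, 1), (1, 186, 8), (1, 81, 4), (2, 86, 3), (1, 229, 5), (1, 110, 7), (1, 133, 0), (1, 168, 4), (2, 54, 5), (1, 120, 11), (1, 120, 6), (1, 75, 8), (1, 102, 5), (2, 121, 8), (2, 184, 3), (2, 155, 8), (2, 177, 1), (1, 75, 4), (1, 184, 9), (1, 177, 12), (1, 186, 6), (2, 165, 6), (1, 59, 9), (1, 91, 1), (1, 181, 8), (2, 176, 1), (2, 67, 10), (2, 250, 4), (1, 110, 11), (2, 201, 12), (1, 73, 8), (2, 137, 13), (2, 185, 1), (2, 66, 10), (2, 240, 5), (1, 152, 4), (1, 58, 9), (2, 231, 10), (1, 185, 0), (1, 174, 2), (1, 110, 10), (2, 170, 6), (1, 134, 7), (1, 83, 8), (1, 175, 9), (2, 151, 9), (1, 201, 6), (1, 267,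 10), (1, 60, 3), (1, 113, 5), (2, 63, 2), (1, 175, 8), (1, 71, 0), (2, 127, 7), (2, 116, 9), (1, 201, 1), (1, 143, 11), (1, 258, 7), (2, 258, 9), (1, 240, 0), (2, 265, 7), (1, 221, 10), (1, 87, 3), (2, 56, 6), (1, 123, 6), (1, 211, 0), (1, 67, 7), (2, 205, 3), (2, 65, 8), (1, 164, 5), (1, 88, 3), (1, 240, 3), (1, 130, 4), (1, 80, 6), (1, 162, 6), (1, 85, 11), (2, 240, 4), (1, 149, 5), (2, 172, 7), (1, 239, 6), (1, 157, 7), (1, 114, 10), (1, 117, 4), (2, 84, 5), (1, 94, 4), (1, 83, 2), (1, 166, 7), (1, 204, 11), (1, 106, 2), (1, 84, 6), (1, 112, 9), (1, 193, 11), (2, 82, 6), (2, 250, 10), (1, 165, 4), (1, 183, 3), (1, 130, 10), (1, 211, 9), (2, 147, 5), (1, 148, 8),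 (2, 85, 8), (2, 290, 7), (1, 157, 8), (1, 108, 4), (1, 105, 1), (1, 93, 5), (1, 194, 6), (2, 105, 6), (2, 148, 5), (1, 187, 7), (2, 172, 8), (1, 103, 5), (1, 99, 11), (1, 67, 9), (1, 191, 6), (2, 194, 11), (2, 65, 3), (1, 134, 4), (2, 103, 2), (1, 161, 5), (2, 86, 2), (2, 129, 9), (2, 136, 4), (1, 242, 1), (1, 243, 6), (1, 80, 10), (1, 65, 3), (1, 199, 0), (1, 201, 11), (1, 158, 7), (1, 74, 0), (2, 103, 3), (1, 253, 8), (2, 105, 5), (1, 82, 3), (1, 131, 10), (2, 192, 4), (1, 272, 14), (1, 148, 5), (1, 87, 6), (2, 193, 12), (2, 230, 13), (1, 113, 7), (1, 218, 9), (1, 130, 6), (2, 105, 7), (1, 208, 8), (2, 158, 8), (1, 95, 4), (2, 140, 10), (1, 200, 8), (1, 146, 5),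 (2, 198, 2), (1, 103, 6), (2, 82, 8), (2, 72, 11), (1, 82, 9), (1, 60, 4), (1, 86, 3), (1, 75, 3), (1, 83, 6), (1, 245, 13), (1, 215, 10), (1, 216, 7), (1, 76, 0), (1, 76, 6), (1, 218, 1), (2, 148, 9), (1, 231, 5), (1, 135, 10), (1, 219, 5), (1, 146, 4), (1, 159, 1), (2, 117, 5), (1, 156, 12), (2, 125, 5), (2, 66, 5), (2, 168, 13), (2, 158, 12), (1, 195, 8), (1, 93, 10), (1, 205, 11), (2, 231, 9), (1, 126, 1), (2, 147, 4), (1, 220, 4), (1, 172, 6), (2, 67, 7), (1, 202, 1), (2, 85, 1), (1, 167, 0), (2, 179, 7), (1, 83, 0), (1, 90, 3), (2, 164, 10), (2, 250, 5), (1, 67, 8), (2, 110, 11), (1, 138, 6), (1, 75, 1), (1, 106, 5), (1, 197, 8), (1, 142, 0), (1, 142, 8), (1,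 303, 2), (2, 169, 5), (1, 147, 13), (2, 179, 1), (1, 272, 13), (2, 234, 6), (1, 67, 0), (1, 166, 4), (1, 60, 0), (1, 136, 5), (2, 115, 8), (1, 134, 11), (1, 234, 14), (1, 203, 4), (2, 65, 10), (1, 217, 1), (1, 81, 11), (1, 127, 5), (1, 234, 8), (1, 234, 7), (1, 56, 5), (2, 177, 3), (2, 126, 9), (2, 260, 5), (2, 127, 3), (2, 201, 5), (1, 75, 9), (2, 72, 0), (1, 157, 11), (2, 131, 11), (1, 140, 11), (1, 216, 0), (1, 150, 1), (1, 156, 11), (1, 193, 5), (1, 193, 1), (2, 192, 5), (1, 130, 12), (1, 158, 9), (1, 130, 2), (1, 77, 6), (2, 121, 1), (2, 64, 8), (2, 82, 5), (1, 299, 14), (1, 149, 2), (1, 124, 2), (1, 111, 2), (1, 161, 12), (1, 161, 4), (1, 160, 3), (1, 158, 10),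 (1, 133, 12), (2, 219, 9), (2, 216, 7), (1, 218, 8), (2, 141, 8), (1, 103, 0), (1, 159, 4), (1, 81, 9), (1, 178, 9), (1, 131, 6), (1, 113, 1), (1, 234, 5), (2, 164, 13), (1, 197, 2), (1, 127, 12), (2, 151, 6), (2, 183, 7), (1, 263, 5), (1, 112, 7), (1, 260, 12), (1, 93, 6), (1, 139, 2), (1, 126, 6), (2, 250, 9), (1, 217, 5), (2, 211, 5), (1, 114, 6), (1, 295, 8), (1, 117, 8), (1, 79, 5), (1, 123, 10), (1, 160, 12), (1, 109, 0), (2, 135, 3), (1, 163, 8), (2, 218, 5), (1, 131, 1), (1, 296, 11), (2, 158, 7), (1, 161, 1), (1, 198, 4), (1, 95, 10), (1, 122, 3), (1, 149, 8), (2, 54, 8), (1, 82, 6), (1, 240, 6), (1, 174, 3), (1, 305, 9), (1, 63, 1), (1, 104, 5), (1, 154,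 4), (1, 148, 0), (1, 157, 1), (1, 151, 4), (1, 128, 11), (1, 160, 10), (1, 192, 1), (1, 206, 12), (2, 267, 6), (1, 103, 11), (2, 121, 10), (1, 122, 4), (1, 294, 12), (1, 294, 9), (2, 202, 4), (2, 85, 7), (1, 128, 2), (1, 171, 6), (1, 93, 1), (2, 130, 7), (1, 157, 5), (2, 129, 5), (1, 192, 9), (1, 184, 2), (2, 105, 8), (1, 274, 4), (1, 138, 10), (1, 265, 6), (1, 153, 2), (2, 116, 2), (2, 271, 12), (2, 128, 3), (1, 230, 0), (2, 164, 9), (1, 263, 10), (2, 200, 0), (1, 278, 3), (1, 138, 11), (1, 74, 6), (2, 88, 4), (1, 80, 9), (1, 247, 5), (1, 116, 3), (1, 124, 8), (1, 250, 5), (1, 221, 2), (1, 159, 3), (1, 141, 3), (1, 128, 4), (1, 120, 10), (1, 132, 4), (1, 145, 2),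 (1, 84, 0), (1, 168, 3), (2, 232, 3), (1, 274, 2), (2, 66, 7), (2, 162, 10), (1, 201, 8), (1, 158, 6), (1, 159, 11), (1, 145, 1), (1, 132, 8), (1, 172, 2), (1, 138, 9), (1, 256, 15), (2, 298, 8), (1, 57, 5), (1, 84, 3), (1, 135, 8), (2, 115, 4), (1, 131, 2), (2, 143, 0), (2, 137, 4), (1, 185, 5), (1, 151, 10), (1, 126, 0), (2, 210, 5), (2, 156, 2), (2, 203, 1), (1, 140, 7), (1, 224, 10), (2, 164, 8), (2, 77, 5), (2, 261, 2), (1, 139, 8), (1, 203, 2), (2, 191, 2), (1, 154, 13), (2, 164, 7), (1, 226, 0), (1, 97, 7), (2, 208, 11), (2, 192, 12), (1, 196, 3), (2, 240, 8), (1, 195, 10), (1, 288, 3), (1, 274, 3), (2, 124, 2), (1, 97, 0), (1, 288, 2), (2, 141, 0), (1, 128,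 9), (2, 141, 7), (2, 286, 3), (1, 200, 2), (2, 152, 4), (2, 200, 12), (1, 112, 1), (1, 240, 5), (1, 301, 0), (2, 56, 3), (1, 69, 0), (1, 154, 2), (1, 158, 5), (1, 179, 7), (1, 74, 9), (1, 197, 6), (2, 280, 3), (2, 136, 1), (1, 183, 5), (1, 220, 5), (1, 231, 9), (2, 260, 13), (1, 124, 4), (1, 151, 13), (1, 185, 3), (2, 55, 2), (1, 284, 2), (1, 126, 10), (2, 66, 6), (1, 272, 4), (1, 257, 12), (1, 156, 7), (2, 172, 6), (1, 167, 7), (1, 236, 6), (2, 161, 13), (2, 252, 6), (2, 128, 9), (2, 63, 5), (1, 307, 4), (1, 97, 11), (2, 178, 6), (1, 126, 3), (1, 288, 6), (2, 131, 10), (2, 231, 5), (1, 147, 5), (1, 221, 4), (1, 118, 2), (2, 172, 13), (2, 244, 10), (1, 305, 10), (1,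 103, 1), (1, 144, 6), (1, 191, 5), (2, 158, 6), (2, 223, 3), (1, 112, 5), (1, 150, 9), (1, 288, 9), (1, 136, 10), (1, 80, 2), (1, 197, 5), (1, 142, 7), (1, 151, 8), (2, 233, 3), (2, 131, 6), (1, 99, 8), (2, 243, 11), (2, 82, 3), (1, 72, 4), (2, 54, 6), (1, 238, 11), (1, 74, 10), (2, 134, 1), (1, 244, 3), (1, 248, 5), (1, 206, 9), (1, 131, 11), (1, 123, 7), (1, 123, 8), (1, 122, 8), (1, 129, 8), (2, 178, 8), (1, 166, 8), (2, 201, 13), (1, 120, 8), (1, 299, 11), (1, 91, 0), (1, 208, 12), (1, 199, 10), (1, 78, 1), (2, 208, 10), (1, 117, 5), (1, 167, 3), (1, 139, 3), (2, 202, 9), (1, 159, 0), (2, 217, 0), (1, 125, 11), (2, 135, 7), (2, 152, 6), (1, 78, 9), (2, 231, 13),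 (2, 113, 7), (2, 67, 9), (1, 218, 11), (1, 82, 1), (1, 194, 4), (1, 240, 8), (1, 235, 11), (1, 122, 7), (2, 140, 7), (1, 174, 1), (1, 115, 6), (1, 223, 5), (1, 110, 9), (1, 296, 4), (1, 301, 3), (1, 266, 2), (2, 85, 11), (1, 187, 2), (2, 147, 2), (1, 147, 7), (1, 226, 6), (2, 128, 2), (1, 77, 5), (2, 128, 0), (2, 196, 5), (2, 86, 4), (2, 203, 4), (1, 260, 8), (1, 222, 7), (1, 298, 15), (2, 211, 7), (1, 224, 5), (2, 172, 10), (2, 243, 13), (1, 229, 4), (1, 274, 9), (1, 240, 1), (1, 84, 11), (2, 152, 5), (2, 55, 6), (1, 128, 7), (2, 197, 10), (1, 178, 3), (2, 178, 3), (2, 161, 3), (1, 274, 0), (1, 112, 11), (1, 215, 12), (1, 296, 9), (2, 64, 6), (1, 102, 1), (2, 117,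 2), (1, 128, 12), (1, 296, 7), (1, 174, 10), (2, 185, 9), (1, 265, 7), (1, 261, 13), (2, 77, 3), (1, 213, 4), (2, 249, 4), (1, 135, 6), (1, 77, 1), (1, 135, 5), (1, 158, 8), (1, 77, 9), (1, 96, 0), (1, 186, 3), (2, 223, 4), (1, 288, 11), (1, 172, 1), (1, 159, 7), (1, 268, 1), (1, 260, 5), (1, 63, 4), (1, 197, 9), (1, 206, 3), (2, 260, 2), (1, 197, 10), (2, 236, 10), (1, 121, 11), (2, 162, 12), (2, 156, 6), (1, 157, 10), (1, 131, 9), (2, 211, 6), (1, 200, 0), (1, 197, 7), (2, 218, 4), (2, 211, 4), (1, 159, 6), (1, 164, 4), (1, 122, 2), (2, 265, 9), (1, 172, 4), (1, 159, 5), (2, 239, 8), (2, 128, 10), (2, 128, 11), (1, 158, 11), (1, 220, 8), (2, 196, 4), (2, 95, 8),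 (1, 187, 9), (2, 135, 6), (2, 130, 3), (1, 215, 5), (1, 149, 3), (2, 140, 1), (1, 191, 10), (1, 103, 8), (2, 185, 10), (1, 215, 3), (1, 290, 11), (2, 137, 0), (2, 158, 5), (2, 151, 1), (1, 241, 14), (1, 65, 1), (1, 232, 2), (1, 124, 7), (2, 85, 5), (2, 223, 7), (2, 212, 1), (2, 211, 1), (1, 148, 10), (1, 132, 11), (1, 190, 13), (1, 302, 9), (2, 172, 1), (1, 138, 0), (1, 268, 2), (1, 250, 7), (1, 229, 6), (2, 245, 5), (2, 64, 3), (2, 245, 4), (2, 291, 4), (1, 152, 7), (1, 82, 0), (1, 296, 14), (1, 173, 3), (1, 190, 3), (1, 109, 5), (1, 139, 7), (1, 151, 9), (1, 185, 7), (2, 201, 4), (1, 102, 10), (1, 156, 8), (1, 112, 8), (1, 77, 8), (1, 285, 5), (1, 190, 2), (2, 129,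 8), (1, 210, 0), (1, 177, 1), (1, 291, 2), (1, 113, 3), (2, 212, 6), (1, 155, 7), (1, 134, 5), (1, 70, 1), (1, 138, 2), (2, 138, 7), (1, 138, 4), (2, 84, 11), (2, 242, 10), (1, 237, 3), (2, 186, 4), (2, 230, 4), (1, 191, 4), (2, 77, 1), (2, 280, 13), (1, 198, 6), (1, 79, 3), (2, 183, 11), (2, 170, 3), (2, 264, 2), (2, 129, 1), (1, 155, 12), (2, 217, 2), (2, 226, 1), (1, 147, 4), (2, 202, 11), (2, 140, 6), (2, 184, 6), (1, 129, 9), (1, 276, 1), (2, 216, 3), (1, 173, 0), (1, 140, 4), (1, 173, 1), (1, 198, 7), (2, 275, 8), (2, 275, 7), (2, 231, 14), (1, 55, 3), (2, 235, 2), (1, 166, 3), (2, 297, 0), (2, 114, 1), (1, 151, 7), (2, 151, 4), (1, 137, 10), (1, 212, 5), (1,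 245, 12), (1, 226, 13), (2, 161, 7), (1, 220, 2), (1, 156, 0), (2, 162, 4), (2, 158, 1), (2, 161, 0), (1, 140, 5), (1, 67, 10), (2, 124, 1), (1, 114, 7), (1, 159, 2), (1, 150, 8), (2, 110, 2), (1, 187, 5), (2, 170, 7), (2, 54, 3), (1, 127, 2), (1, 151, 11), (1, 216, 12), (2, 114, 5), (1, 223, 6), (2, 154, 1), (1, 230, 14), (2, 230, 1), (1, 183, 8), (1, 230, 5), (1, 303, 13), (1, 76, 5), (1, 120, 9), (1, 110, 0), (1, 82, 2), (1, 139, 5), (1, 163, 10), (2, 62, 4), (1, 168, 9), (2, 267, 9), (2, 148, 7), (1, 292, 7), (1, 132, 1), (2, 200, 1), (1, 299, 5), (2, 64, 2), (1, 85, 7), (2, 114, 4), (1, 115, 0), (1, 180, 0), (2, 131, 7), (2, 133, 9), (1, 244, 13), (1, 301, 5),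 (1, 139, 6), (1, 53, 0), (2, 230, 0), (1, 199, 3), (2, 84, 10), (2, 128, 7), (2, 66, 1), (2, 242, 12), (1, 299, 6), (1, 139, 12), (1, 231, 2), (2, 240, 10), (2, 64, 5), (1, 275, 4), (1, 121, 6), (1, 173, 5), (1, 231, 12), (1, 99, 3), (1, 156, 9), (2, 55, 3), (2, 178, 7), (1, 249, 4), (1, 199, 1), (1, 107, 5), (1, 253, 4), (2, 130, 4), (2, 137, 2), (1, 301, 7), (2, 127, 5), (1, 158, 2), (1, 138, 12), (1, 203, 6), (2, 105, 0), (1, 212, 6), (1, 124, 12), (1, 144, 7), (1, 276, 13), (2, 214, 4), (1, 123, 4), (2, 121, 4), (2, 163, 3), (1, 297, 0), (2, 253, 7), (2, 235, 4), (1, 285, 3), (1, 76, 1), (2, 252, 3), (2, 126, 2), (2, 298, 7), (1, 216, 14), (1, 294, 11), (2, 113,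 10), (1, 79, 2), (1, 298, 1), (1, 275, 3), (2, 178, 5), (1, 142, 4), (1, 132, 5), (2, 230, 9), (2, 233, 4), (2, 184, 2), (1, 232, 3), (1, 155, 11), (1, 208, 4), (2, 117, 10), (1, 195, 7), (1, 148, 3), (1, 159, 13), (1, 231, 11), (1, 267, 6), (2, 77, 6), (2, 213, 3), (1, 130, 0), (1, 227, 14), (2, 116, 7), (2, 131, 9), (2, 105, 3), (1, 136, 12), (1, 140, 10), (2, 291, 13), (2, 155, 11), (2, 110, 9), (1, 132, 10), (1, 113, 9), (1, 173, 8), (1, 265, 10), (2, 258, 8), (1, 122, 10), (2, 244, 1), (1, 296, 8), (1, 179, 12), (1, 222, 11), (1, 159, 8), (1, 171, 4), (1, 68, 4), (1, 306, 4), (1, 241, 3), (2, 56, 4), (1, 181, 0), (1, 153, 11), (2, 216, 2), (2, 218, 11), (1, 185,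 4), (1, 172, 7), (1, 257, 0), (1, 217, 14), (2, 114, 2), (2, 162, 3), (1, 179, 9), (1, 216, 4), (1, 260, 9), (2, 197, 7), (1, 275, 10), (2, 229, 7), (1, 292, 4), (2, 162, 2), (1, 138, 13), (1, 231, 3), (2, 244, 0), (1, 216, 10), (2, 243, 4), (1, 198, 3), (2, 121, 11), (1, 149, 12), (2, 248, 9), (2, 192, 11), (2, 67, 2), (1, 266, 3), (2, 197, 9), (2, 82, 7), (1, 261, 9), (1, 301, 2), (1, 276, 4), (2, 216, 6), (2, 77, 10), (1, 104, 1), (1, 167, 12), (1, 161, 11), (1, 92, 0), (1, 165, 12), (1, 136, 9), (1, 242, 0), (1, 157, 9), (1, 199, 2), (1, 169, 4), (1, 161, 7), (1, 267, 7), (2, 267, 10), (2, 162, 11), (2, 77, 8), (2, 235, 0), (2, 197, 4), (2, 140, 12), (2, 261, 7),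 (2, 158, 13), (1, 167, 2), (1, 188, 10), (2, 231, 1), (1, 74, 3), (1, 152, 6), (1, 254, 13), (1, 188, 4), (2, 140, 13), (2, 232, 4), (1, 249, 6), (1, 195, 9), (1, 288, 4), (1, 274, 5), (1, 144, 8), (1, 121, 8), (1, 278, 2), (1, 161, 2), (1, 147, 10), (2, 84, 6), (1, 276, 12), (1, 245, 7), (2, 124, 11), (2, 290, 13), (1, 245, 2), (1, 133, 8), (2, 154, 11), (2, 246, 0), (1, 204, 7), (1, 53, 3), (2, 53, 4), (1, 199, 9), (1, 99, 9), (1, 207, 5), (2, 147, 6), (2, 299, 12), (1, 229, 7), (2, 105, 9), (2, 183, 8), (1, 200, 13), (1, 191, 9), (1, 129, 10), (2, 126, 3), (1, 74, 8), (2, 165, 5), (2, 179, 2), (1, 233, 11), (1, 219, 13), (2, 213, 11), (2, 154, 12), (2, 129, 11),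 (2, 261, 6), (1, 197, 12), (1, 233, 4), (2, 273, 9), (1, 221, 7), (1, 137, 7), (2, 121, 2), (1, 229, 3), (1, 150, 13), (1, 158, 0), (1, 175, 5), (2, 63, 6), (1, 178, 1), (2, 154, 13), (2, 184, 7), (1, 127, 4), (1, 276, 14), (1, 242, 4), (1, 145, 0), (1, 267, 2), (2, 127, 2), (2, 230, 7), (2, 302, 8), (2, 228, 0), (2, 152, 10), (1, 102, 0), (2, 82, 0), (1, 169, 10), (1, 146, 11), (1, 170, 12), (1, 170, 11), (2, 125, 0), (2, 307, 15), (1, 233, 7), (2, 200, 6), (1, 153, 8), (2, 234, 0), (2, 165, 0), (1, 137, 13), (2, 200, 5), (2, 190, 2), (1, 216, 3), (1, 234, 9), (2, 154, 8), (1, 211, 8), (2, 131, 2), (1, 301, 4), (1, 125, 10), (1, 157, 4), (1, 245, 9), (2, 116, 5),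 (1, 148, 7), (2, 201, 7), (1, 175, 4), (1, 241, 12), (1, 185, 12), (1, 218, 6), (1, 159, 9), (2, 117, 11), (2, 64, 7), (2, 66, 0), (1, 218, 14), (1, 94, 3), (2, 113, 1), (1, 160, 2), (1, 148, 4), (1, 105, 3), (1, 146, 7), (1, 262, 0), (2, 168, 12), (1, 98, 0), (1, 93, 0), (2, 222, 6), (1, 280, 8), (2, 245, 14), (2, 164, 1), (1, 173, 10), (2, 84, 9), (2, 138, 3), (1, 245, 0), (1, 96, 4), (2, 197, 2), (2, 134, 5), (1, 124, 3), (1, 246, 12), (1, 168, 1), (2, 67, 3), (1, 292, 9), (2, 117, 4), (1, 98, 1), (2, 162, 1), (1, 266, 0), (2, 154, 7), (1, 305, 4), (2, 172, 12), (2, 114, 8), (1, 174, 4), (2, 103, 0), (1, 146, 3), (2, 63, 3), (1, 268, 5), (1, 214, 6), (2, 138, 10),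 (1, 173, 4), (1, 237, 4), (1, 202, 9), (2, 245, 3), (2, 211, 2), (1, 245, 10), (1, 179, 0), (1, 136, 4), (1, 104, 2), (1, 155, 3), (1, 280, 14), (2, 191, 9), (2, 168, 3), (1, 131, 3), (2, 275, 6), (1, 207, 1), (1, 72, 5), (1, 264, 10), (2, 303, 7), (2, 275, 5), (1, 223, 8), (1, 149, 10), (2, 95, 2), (2, 138, 9), (2, 126, 0), (1, 99, 4), (1, 115, 11), (1, 202, 4), (1, 232, 1), (2, 223, 8), (2, 231, 0), (1, 72, 0), (2, 282, 3), (1, 283, 14), (1, 275, 5), (1, 288, 1), (1, 230, 13), (1, 246, 7), (1, 155, 1), (2, 178, 10), (1, 133, 6), (1, 151, 3), (1, 164, 8), (1, 124, 9), (1, 99, 7), (2, 238, 14), (1, 252, 11), (1, 220, 3), (2, 214, 6), (2, 235, 5), (1, 235, 7), (1, 102,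 7), (1, 130, 7), (2, 275, 9), (1, 282, 9), (1, 203, 3), (1, 157, 0), (1, 128, 6), (2, 197, 5), (2, 129, 3), (2, 144, 9), (2, 198, 13), (1, 292, 2), (2, 85, 0), (2, 136, 9), (2, 191, 4), (1, 231, 7), (1, 124, 1), (2, 286, 13), (1, 218, 4), (1, 200, 3), (2, 158, 9), (1, 221, 5), (1, 77, 11), (2, 258, 2), (2, 201, 1), (2, 252, 2), (1, 274, 11), (1, 97, 3), (2, 116, 11), (2, 242, 4), (1, 285, 7), (1, 205, 0), (2, 85, 2), (2, 261, 3), (1, 278, 7), (1, 137, 0), (1, 147, 2), (1, 166, 12), (1, 169, 13), (2, 213, 1), (2, 226, 2), (2, 156, 3), (1, 138, 5), (1, 221, 13), (1, 149, 13), (1, 243, 11), (1, 255, 13), (1, 123, 1), (1, 269, 12), (2, 131, 8), (1, 268, 0), (1, 139, 1),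 (2, 229, 8), (1, 298, 0), (2, 303, 13), (1, 305, 8), (1, 95, 5), (2, 82, 9), (2, 233, 7), (2, 218, 14), (2, 244, 8), (1, 290, 2), (1, 155, 9), (1, 143, 0), (1, 117, 10), (1, 179, 2), (2, 217, 8), (2, 290, 3), (2, 215, 4), (1, 203, 0), (2, 307, 0), (1, 153, 12), (1, 301, 6), (1, 100, 4), (1, 127, 11), (1, 223, 4), (2, 172, 2), (2, 234, 5), (1, 255, 0), (1, 200, 10), (2, 239, 2), (1, 164, 9), (1, 300, 11), (1, 218, 3), (1, 221, 12), (2, 198, 7), (2, 177, 6), (2, 164, 6), (1, 169, 0), (1, 116, 10), (2, 127, 8), (1, 171, 12), (2, 130, 9), (2, 224, 12), (1, 290, 13), (1, 136, 8), (1, 212, 0), (1, 294, 10), (2, 194, 10), (1, 222, 6), (1, 97, 10), (1, 166, 2), (2, 129, 12),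 (1, 135, 11), (1, 286, 14), (2, 63, 10), (2, 235, 1), (1, 113, 4), (1, 223, 3), (1, 278, 14), (1, 152, 5), (2, 147, 7), (2, 114, 11), (2, 250, 7), (1, 116, 5), (1, 236, 3), (1, 259, 0), (1, 141, 6), (2, 176, 3), (1, 172, 12), (1, 215, 11), (1, 191, 7), (1, 305, 5), (1, 257, 10), (1, 257, 7), (2, 240, 2), (1, 122, 9), (2, 152, 2), (2, 284, 15), (2, 148, 4), (1, 156, 2), (2, 164, 5), (1, 276, 5), (1, 129, 1), (1, 239, 5), (2, 280, 14), (2, 151, 12), (1, 174, 7), (2, 113, 4), (2, 211, 10), (2, 173, 9), (1, 190, 8), (1, 273, 11), (1, 190, 1), (1, 112, 6), (1, 125, 5), (1, 214, 11), (2, 218, 6), (2, 300, 11), (1, 285, 1), (2, 205, 9), (2, 212, 5), (1, 220, 9), (1, 204,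 5), (1, 168, 11), (1, 199, 8), (2, 235, 14), (2, 64, 4), (1, 113, 8), (1, 235, 6), (1, 134, 2), (1, 242, 2), (1, 160, 11), (1, 219, 8), (2, 200, 4), (1, 180, 13), (1, 139, 9), (2, 190, 0), (1, 261, 3), (2, 248, 3), (2, 129, 7), (1, 300, 5), (1, 218, 13), (1, 264, 9), (1, 102, 3), (1, 132, 2), (1, 134, 10), (1, 226, 10), (2, 178, 1), (2, 161, 6), (1, 228, 9), (2, 115, 11), (2, 215, 10), (1, 202, 8), (2, 155, 10), (2, 148, 2), (1, 175, 13), (1, 228, 7), (2, 219, 1), (2, 219, 10), (2, 113, 0), (1, 206, 1), (1, 290, 3), (2, 224, 10), (2, 230, 6), (1, 139, 13), (2, 244, 11), (2, 173, 5), (2, 203, 5), (1, 218, 2), (1, 281, 14), (2, 105, 2), (1, 143, 5), (1, 152, 2), (2,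 191, 12), (1, 153, 6), (1, 117, 2), (2, 248, 6), (1, 156, 10), (2, 156, 1), (1, 211, 2), (2, 154, 10), (1, 93, 9), (2, 286, 8), (1, 156, 3), (2, 114, 0), (1, 104, 0), (1, 156, 13), (2, 156, 13), (1, 190, 11), (1, 297, 4), (2, 194, 9), (1, 205, 3), (1, 144, 1), (2, 129, 2), (1, 275, 6), (1, 185, 13), (1, 76, 10), (2, 63, 8), (1, 180, 2), (1, 224, 3), (1, 184, 8), (2, 265, 5), (1, 139, 10), (1, 117, 7), (1, 129, 2), (1, 141, 12), (1, 96, 5), (2, 148, 3), (1, 218, 5), (2, 140, 8), (1, 190, 4), (1, 78, 8), (2, 236, 8), (1, 305, 3), (1, 178, 10), (1, 171, 11), (2, 114, 10), (1, 141, 2), (1, 175, 1), (2, 115, 5), (2, 198, 8), (2, 77, 9), (1, 174, 8), (2, 88, 11), (2, 127,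 9), (2, 176, 13), (2, 88, 7), (1, 159, 12), (2, 54, 4), (2, 85, 10), (2, 292, 9), (1, 143, 1), (1, 241, 5), (2, 140, 4), (2, 168, 6), (2, 271, 1), (2, 275, 13), (1, 194, 3), (1, 223, 7), (1, 175, 2), (1, 173, 12), (2, 190, 8), (1, 242, 10), (2, 126, 6), (1, 235, 2), (2, 240, 3), (1, 222, 9), (1, 115, 5), (2, 63, 9), (1, 221, 8), (1, 205, 4), (2, 138, 5), (1, 97, 8), (2, 134, 10), (1, 231, 14), (1, 299, 15), (1, 302, 8), (1, 69, 1), (1, 152, 1), (1, 187, 11), (1, 299, 4), (1, 293, 3), (1, 245, 11), (2, 148, 12), (1, 156, 4), (2, 154, 9), (2, 283, 5), (2, 229, 5), (1, 253, 10), (2, 193, 8), (1, 205, 5), (2, 148, 8), (1, 155, 6), (1, 294, 0), (2, 144, 3), (2, 192, 0),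 (1, 135, 4), (2, 179, 8), (1, 236, 14), (2, 141, 10), (2, 164, 2), (2, 85, 4), (2, 219, 7), (2, 246, 7), (2, 176, 2), (1, 261, 4), (1, 293, 15), (1, 149, 7), (1, 216, 9), (2, 88, 3), (2, 129, 0), (2, 272, 3), (1, 141, 1), (1, 160, 1), (1, 147, 6), (2, 170, 5), (1, 264, 4), (2, 233, 13), (2, 198, 3), (1, 216, 6), (2, 248, 13), (1, 216, 11), (1, 149, 0), (1, 298, 8), (2, 202, 5), (1, 133, 1), (1, 155, 2), (2, 233, 5), (1, 117, 1), (2, 148, 6), (1, 153, 5), (1, 131, 12), (1, 167, 5), (2, 280, 12), (1, 267, 12), (1, 145, 5), (1, 156, 5), (2, 216, 1), (2, 53, 6), (1, 196, 4), (2, 137, 7), (1, 298, 6), (1, 274, 10), (1, 128, 8), (2, 231, 11), (2, 124, 9), (1, 281, 3), (1,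 194, 1), (2, 55, 5), (2, 136, 8), (1, 253, 14), (1, 225, 1), (1, 268, 3), (2, 304, 4), (2, 186, 12), (1, 83, 10), (2, 65, 1), (1, 205, 9), (1, 216, 2), (2, 185, 3), (2, 299, 13), (1, 167, 10), (2, 121, 5), (2, 197, 8), (1, 102, 6), (2, 162, 5), (1, 142, 5), (1, 114, 4), (2, 84, 1), (1, 280, 0), (2, 215, 5), (2, 283, 2), (1, 117, 11), (2, 202, 0), (1, 72, 10), (2, 172, 9), (2, 72, 7), (1, 131, 4), (2, 290, 5), (1, 214, 8), (2, 215, 9), (1, 155, 10), (2, 77, 2), (2, 130, 6), (1, 143, 13), (2, 177, 11), (2, 144, 4), (1, 298, 14), (1, 145, 8), (2, 233, 0), (1, 285, 6), (1, 218, 7), (2, 300, 5), (1, 281, 2), (1, 124, 11), (2, 84, 0), (2, 235, 11), (1, 123, 2), (2, 88, 9),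 (2, 280, 2), (1, 75, 5), (1, 207, 2), (1, 275, 8), (2, 221, 14), (1, 299, 3), (2, 191, 1), (2, 172, 5), (1, 295, 4), (1, 244, 0), (1, 74, 2), (1, 272, 5), (1, 259, 14), (2, 298, 5), (2, 252, 5), (1, 203, 1), (2, 193, 1), (1, 187, 0), (2, 117, 1), (2, 218, 7), (2, 154, 3), (1, 202, 5), (2, 261, 12), (1, 195, 5), (2, 217, 14), (2, 230, 14), (1, 152, 9), (1, 219, 9), (2, 190, 1), (1, 153, 0), (1, 162, 4), (2, 158, 10), (2, 137, 10), (2, 224, 3), (1, 268, 4), (2, 134, 7), (2, 298, 6), (2, 56, 0), (2, 283, 3), (1, 142, 9), (1, 149, 6), (1, 162, 7), (1, 236, 2), (2, 178, 12), (2, 233, 8), (1, 114, 0), (1, 272, 6), (2, 272, 2), (2, 163, 1), (1, 188, 12), (2, 173, 10), (2,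 121, 3), (1, 246, 9), (1, 214, 10), (1, 56, 0), (1, 145, 4), (1, 272, 12), (2, 155, 4), (2, 234, 1), (2, 125, 6), (2, 127, 6), (1, 175, 7), (2, 202, 8), (1, 226, 14), (1, 161, 8), (2, 245, 0), (2, 261, 4), (1, 279, 3), (1, 217, 13), (2, 135, 10), (2, 194, 12), (1, 239, 13), (1, 244, 4), (2, 222, 7), (1, 286, 6), (1, 164, 7), (1, 204, 10), (2, 245, 8), (1, 201, 3), (1, 276, 3), (1, 199, 6), (1, 183, 7), (1, 211, 13), (2, 114, 9), (1, 269, 2), (2, 126, 10), (1, 179, 11), (2, 235, 13), (1, 85, 2), (1, 202, 2), (2, 151, 11), (1, 226, 7), (1, 123, 11), (1, 215, 8), (1, 269, 4), (2, 231, 6), (1, 158, 3), (1, 96, 2), (2, 243, 7), (1, 185, 10), (1, 87, 8), (2, 168, 7), (1,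 300, 10), (1, 229, 2), (1, 124, 5), (2, 240, 14), (1, 224, 2), (1, 240, 2), (1, 172, 0), (2, 110, 3), (1, 221, 0), (2, 240, 0), (1, 307, 15), (1, 275, 12), (2, 131, 0), (1, 110, 2), (2, 300, 10), (1, 78, 10), (1, 76, 11), (1, 145, 3), (2, 239, 1), (1, 135, 3), (1, 190, 6), (1, 276, 11), (2, 165, 11), (1, 274, 12), (1, 278, 1), (2, 185, 2), (1, 180, 3), (2, 190, 6), (1, 95, 11), (1, 128, 3), (1, 161, 13), (1, 281, 0), (2, 125, 2), (1, 212, 3), (1, 145, 13), (1, 218, 0), (1, 179, 1), (2, 233, 9), (1, 191, 8), (1, 228, 10), (2, 282, 11), (1, 217, 8), (1, 180, 10), (1, 231, 8), (2, 234, 4), (2, 185, 12), (1, 205, 8), (1, 281, 13), (1, 94, 0), (2, 162, 13), (1, 59, 7),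 (2, 205, 2), (1, 243, 2), (1, 199, 7), (1, 243, 7), (1, 295, 3), (1, 233, 6), (2, 124, 0), (1, 219, 12), (1, 95, 3), (2, 163, 2), (2, 138, 2), (1, 147, 0), (2, 221, 12), (1, 260, 2), (1, 93, 11), (2, 115, 3), (1, 238, 10), (2, 138, 6), (1, 283, 11), (1, 176, 12), (1, 283, 10), (2, 143, 2), (1, 243, 4), (1, 78, 11), (1, 169, 12), (1, 230, 4), (2, 228, 4), (2, 185, 0), (1, 191, 12), (2, 244, 12), (1, 217, 0), (2, 156, 11), (2, 244, 9), (1, 134, 8), (2, 173, 8), (1, 200, 6), (2, 56, 7), (1, 69, 2), (2, 130, 5), (2, 299, 3), (1, 294, 4), (1, 144, 3), (2, 194, 3), (1, 126, 5), (2, 264, 15), (2, 191, 6), (1, 148, 9), (1, 305, 6), (1, 143, 12), (2, 205, 5), (2, 156, 10),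 (1, 198, 5), (2, 152, 8), (2, 258, 7), (1, 248, 1), (2, 161, 2), (1, 154, 1), (2, 132, 1), (2, 129, 4), (1, 207, 8), (1, 221, 14), (1, 154, 6), (2, 225, 4), (2, 201, 6), (2, 220, 5), (2, 218, 10), (1, 242, 9), (2, 233, 2), (1, 237, 11), (1, 239, 4), (1, 207, 10), (1, 207, 11), (1, 257, 6), (2, 241, 12), (2, 67, 4), (1, 145, 10), (1, 192, 5), (1, 193, 12), (2, 264, 8), (1, 124, 0), (1, 223, 11), (2, 113, 2), (2, 232, 2), (1, 148, 1), (1, 136, 11), (1, 132, 3), (1, 190, 0), (1, 279, 11), (2, 194, 4), (1, 157, 13), (1, 161, 10), (1, 74, 5), (1, 120, 0), (1, 143, 10), (2, 229, 12), (1, 223, 12), (1, 267, 11), (2, 213, 2), (1, 204, 0), (1, 218, 12), (2, 302, 5), (2, 299,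 11), (1, 98, 5), (1, 241, 10), (1, 155, 13), (1, 155, 4), (1, 222, 13), (2, 216, 8), (2, 272, 11), (2, 85, 9), (2, 231, 7), (2, 244, 4), (1, 144, 4), (1, 114, 3), (1, 146, 2), (1, 162, 5), (2, 162, 7), (1, 183, 6), (2, 205, 8), (1, 143, 4), (1, 141, 8), (2, 173, 13), (1, 141, 0), (2, 126, 12), (2, 244, 3), (1, 270, 10), (1, 174, 12), (2, 125, 11), (2, 155, 13), (2, 147, 1), (1, 229, 8), (2, 190, 10), (2, 169, 6), (1, 238, 14), (2, 156, 8), (1, 225, 3), (1, 198, 8), (1, 235, 0), (1, 274, 14), (1, 93, 4), (1, 170, 5), (1, 233, 5), (1, 231, 4), (2, 138, 1), (1, 233, 12), (1, 194, 10), (2, 170, 8), (1, 152, 13), (1, 123, 9), (2, 185, 5), (1, 210, 3), (2, 190, 7), (2, 135,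 8), (2, 148, 10), (1, 184, 11), (2, 231, 8), (1, 279, 12), (1, 236, 7), (2, 242, 6), (1, 192, 0), (1, 217, 7), (1, 129, 4), (2, 216, 0), (1, 193, 6), (1, 188, 13), (2, 130, 12), (1, 293, 4), (2, 203, 6), (2, 264, 6), (1, 274, 15), (1, 271, 4), (1, 165, 10), (1, 95, 1), (1, 289, 2), (1, 152, 12), (1, 117, 9), (1, 292, 6), (2, 176, 0), (1, 174, 0), (2, 216, 5), (1, 289, 0), (1, 188, 6), (1, 190, 7), (1, 224, 8), (1, 179, 8), (2, 210, 4), (2, 169, 8), (1, 244, 11), (2, 205, 4), (1, 264, 7), (2, 297, 10), (1, 195, 12), (2, 194, 13), (1, 187, 3), (2, 67, 0), (1, 255, 14), (1, 244, 12), (1, 194, 11), (1, 287, 5), (1, 178, 12), (1, 234, 2), (1, 158, 12), (1, 248, 14), (2,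 215, 1), (1, 193, 3), (2, 224, 11), (1, 241, 9), (1, 224, 12), (1, 80, 7), (2, 152, 12), (1, 80, 5), (1, 201, 7), (1, 235, 5), (1, 303, 8), (1, 288, 5), (2, 245, 1), (2, 126, 11), (2, 179, 10), (1, 151, 0), (2, 236, 12), (1, 169, 8), (2, 168, 10), (2, 239, 9), (1, 207, 4), (2, 127, 1), (1, 190, 9), (1, 192, 7), (1, 306, 5), (1, 127, 10), (1, 117, 3), (2, 190, 13), (1, 215, 14), (2, 233, 11), (1, 172, 8), (1, 158, 13), (2, 165, 2), (1, 267, 3), (1, 192, 13), (2, 212, 0), (2, 237, 3), (2, 248, 4), (1, 238, 0), (1, 236, 4), (2, 169, 1), (1, 218, 10), (1, 243, 3), (2, 230, 10), (1, 244, 2), (1, 286, 2), (1, 129, 11), (2, 290, 2), (1, 280, 1), (1, 205, 10), (1, 274, 8),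 (2, 290, 14), (2, 156, 0), (2, 220, 12), (1, 282, 7), (2, 132, 2), (2, 245, 12), (2, 110, 0), (2, 242, 11), (2, 143, 7), (1, 217, 6), (2, 270, 5), (1, 149, 11), (1, 226, 8), (1, 234, 6), (2, 208, 1), (1, 146, 9), (1, 165, 7), (1, 182, 12), (1, 193, 8), (2, 162, 6), (2, 264, 1), (2, 88, 8), (1, 239, 7), (2, 205, 0), (1, 115, 10), (1, 243, 10), (1, 289, 4), (1, 210, 2), (1, 175, 12), (2, 141, 1), (2, 216, 12), (1, 161, 3), (2, 141, 2), (2, 151, 8), (2, 210, 6), (1, 170, 1), (1, 73, 7), (2, 219, 6), (1, 254, 2), (2, 290, 0), (1, 250, 6), (2, 253, 11), (1, 99, 0), (2, 116, 3), (1, 208, 13), (1, 99, 10), (2, 144, 10), (2, 219, 12), (2, 238, 0), (1, 259, 10), (1, 209, 9),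 (1, 199, 13), (1, 159, 10), (2, 250, 6), (1, 244, 7), (2, 117, 8), (1, 219, 1), (1, 194, 9), (2, 286, 2), (2, 143, 13), (2, 231, 3), (2, 227, 4), (1, 194, 2), (1, 173, 13), (1, 226, 3), (1, 280, 2), (1, 170, 10), (2, 303, 2), (2, 185, 7), (2, 211, 3), (2, 183, 6), (1, 237, 5), (1, 243, 13), (1, 170, 6), (1, 206, 2), (2, 194, 5), (2, 179, 6), (2, 220, 4), (2, 168, 9), (1, 232, 4), (1, 290, 6), (1, 137, 6), (1, 208, 0), (1, 78, 3), (2, 221, 9), (2, 165, 3), (1, 191, 1), (2, 161, 11), (2, 152, 9), (1, 221, 6), (2, 132, 4), (1, 283, 7), (1, 283, 13), (1, 134, 1), (2, 88, 2), (1, 162, 11), (1, 296, 0), (2, 156, 5), (1, 182, 0), (1, 160, 9), (1, 199, 12), (1, 253, 11), (2,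 103, 11), (2, 194, 1), (1, 163, 13), (2, 235, 7), (1, 273, 10), (1, 192, 6), (2, 169, 10), (2, 271, 5), (2, 245, 2), (2, 271, 13), (2, 135, 11), (1, 148, 13), (1, 211, 7), (2, 238, 7), (2, 238, 6), (2, 134, 6), (1, 95, 6), (2, 136, 7), (2, 255, 3), (1, 286, 13), (2, 297, 3), (2, 184, 5), (1, 278, 13), (1, 171, 8), (1, 192, 3), (2, 223, 1), (2, 170, 2), (1, 182, 6), (2, 161, 1), (2, 173, 0), (2, 138, 12), (1, 248, 11), (2, 236, 7), (2, 194, 2), (2, 198, 1), (2, 143, 1), (1, 190, 12), (2, 53, 2), (2, 186, 1), (2, 248, 1), (2, 141, 6), (1, 225, 13), (1, 180, 8), (2, 202, 10), (2, 214, 2), (1, 276, 15), (1, 277, 5), (2, 208, 13), (1, 207, 9), (1, 216, 1), (2, 178, 11),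 (2, 114, 7), (2, 156, 7), (2, 202, 6), (1, 235, 14), (1, 279, 1), (1, 292, 3), (1, 148, 11), (2, 240, 6), (2, 217, 1), (1, 201, 4), (1, 78, 5), (1, 141, 11), (1, 166, 9), (1, 174, 6), (1, 140, 13), (1, 113, 10), (2, 144, 2), (2, 297, 15), (2, 135, 5), (2, 155, 1), (2, 226, 3), (1, 223, 10), (1, 249, 3), (2, 176, 7), (1, 165, 9), (1, 280, 13), (1, 217, 9), (1, 278, 10), (2, 168, 2), (1, 150, 2), (1, 135, 7), (2, 190, 9), (2, 307, 5), (2, 168, 1), (2, 238, 5), (1, 138, 1), (1, 264, 11), (1, 254, 3), (2, 170, 11), (2, 137, 11), (1, 201, 0), (1, 167, 13), (1, 143, 3), (1, 235, 9), (1, 148, 2), (1, 167, 6), (1, 261, 14), (1, 146, 6), (2, 200, 9), (2, 147, 12), (2, 147,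 3), (1, 169, 2), (1, 146, 13), (1, 175, 3), (1, 281, 12), (1, 152, 8), (1, 184, 1), (2, 270, 4), (1, 85, 0), (1, 191, 13), (1, 189, 3), (1, 152, 11), (1, 169, 1), (1, 227, 5), (1, 255, 9), (1, 260, 14), (2, 168, 8), (1, 293, 14), (2, 136, 2), (1, 282, 5), (1, 174, 11), (1, 188, 7), (1, 75, 6), (2, 172, 4), (1, 168, 0), (1, 154, 0), (1, 137, 4), (2, 264, 12), (2, 144, 6), (1, 200, 5), (2, 152, 1), (1, 277, 8), (2, 134, 11), (1, 219, 4), (2, 225, 1), (2, 53, 0), (2, 216, 13), (1, 194, 0), (1, 166, 5), (2, 88, 1), (2, 132, 3), (2, 244, 7), (1, 297, 8), (1, 156, 1), (2, 177, 8), (2, 156, 9), (2, 173, 4), (2, 223, 10), (2, 148, 13), (1, 255, 6), (1, 141, 13), (2, 172, 3),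 (1, 224, 11), (1, 269, 13), (1, 264, 13), (1, 135, 1), (1, 147, 1), (1, 172, 11), (1, 272, 7), (2, 250, 2), (2, 194, 7), (1, 269, 14), (2, 124, 8), (2, 168, 11), (2, 124, 3), (2, 116, 4), (1, 87, 1), (1, 172, 9), (1, 184, 7)]
def cn : List (ℕ × ℕ × ℕ) := [(1, 308, 0), (1, 309, 0), (1, 310, 0), (1, 311, 0), (1, 312, 0), (1, 313, 0), (1, 314, 0), (1, 315, 0), (1, 87, 5), (0, 0, 0), (1, 10, 0), (1, 26, 0), (1, 81, 2), (1, 145, 6), (1, 12, 1), (1, 14, 1), (1, 23, 1), (1, 59, 5), (1, 33, 1), (1, 62, 3), (1, 69, 3), (1, 28, 1), (1, 55, 5), (1, 18, 1), (1, 16, 0), (1, 17, 1), (1, 157, 7), (1, 102, 11), (1, 19, 1), (1, 61, 8), (1, 305, 10), (1, 54, 0), (1, 305, 7), (0, 0,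 0), (0, 0, 0), (0, 0, 0), (0, 0, 0), (0, 0, 0), (0, 0, 0), (2, 125, 6), (1, 13, 1), (1, 48, 0), (2, 172, 5), (1, 11, 1), (1, 90, 2), (1, 54, 3), (1, 110, 5), (1, 16, 1), (1, 21, 1), (2, 103, 10), (1, 64, 10), (0, 0, 0), (1, 178, 7), (1, 70, 5), (1, 126, 9), (1, 51, 3), (1, 12, 0), (1, 40, 0), (2, 53, 7), (1, 88, 4), (1, 131, 8), (1, 38, 0), (1, 9, 1), (2, 162, 1), (1, 57, 0), (1, 105, 2), (1, 63, 9), (1, 52, 5), (2, 72, 4), (1, 88, 10), (1, 105, 7), (1, 62, 0), (1, 52, 1), (1, 23, 0), (1, 41, 0), (1, 51, 7), (1, 55, 1), (1, 179, 6), (1, 55, 6), (1, 50, 1), (1, 19, 0), (1, 56, 3), (1, 150, 3), (1, 33, 0), (1, 196, 2), (1, 15, 1), (1, 119, 1), (1, 126, 2), (1, 134, 3),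 (1, 110, 6), (1, 14, 0), (1, 24, 0), (1, 29, 1), (1, 240, 6), (2, 55, 7), (2, 65, 10), (1, 65, 1), (0, 0, 0), (1, 92, 4), (1, 150, 8), (1, 254, 6), (1, 52, 2), (1, 17, 0), (1, 20, 1), (1, 59, 2), (2, 303, 14), (1, 20, 0), (1, 59, 9), (1, 229, 7), (1, 165, 8), (2, 165, 1), (1, 42, 1), (1, 51, 5), (1, 165, 4), (1, 165, 3), (1, 49, 1), (1, 49, 2), (1, 157, 13), (1, 127, 7), (1, 27, 0), (1, 118, 1), (1, 49, 0), (1, 98, 3), (1, 50, 0), (1, 244, 4), (1, 122, 5), (1, 240, 9), (2, 185, 4), (1, 119, 0), (1, 119, 5), (1, 76, 3), (2, 110, 8), (1, 59, 6), (1, 221, 11), (1, 63, 2), (1, 67, 3), (2, 178, 10), (1, 21, 0), (1, 192, 9), (2, 55, 4), (2, 208, 2), (1, 178, 0), (1, 121,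 5), (1, 22, 1), (1, 187, 1), (1, 52, 0), (1, 30, 1), (2, 290, 5), (2, 196, 5), (1, 56, 7), (1, 196, 3), (1, 73, 2), (1, 139, 3), (2, 231, 6), (1, 105, 1), (1, 65, 6), (1, 65, 7), (1, 133, 1), (1, 139, 7), (2, 141, 9), (1, 9, 0), (2, 163, 7), (2, 241, 14), (1, 87, 11), (1, 97, 3), (1, 52, 4), (1, 56, 0), (1, 25, 0), (1, 90, 3), (1, 43, 2), (1, 46, 1), (1, 43, 1), (1, 79, 5), (1, 35, 1), (2, 148, 8), (1, 206, 9), (1, 63, 5), (1, 156, 6), (1, 52, 7), (2, 215, 10), (1, 39, 0), (1, 89, 3), (2, 55, 0), (1, 217, 14), (1, 13, 0), (1, 34, 1), (1, 127, 6), (1, 103, 11), (1, 244, 14), (1, 162, 3), (1, 138, 12), (1, 108, 0), (1, 38, 2), (1, 191, 9), (1, 84, 10), (1, 275, 7), (2,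 162, 6), (1, 118, 3), (1, 192, 11), (2, 72, 3), (1, 87, 4), (1, 234, 9), (1, 112, 3), (1, 92, 3), (2, 183, 7), (1, 185, 10), (2, 190, 7), (1, 199, 5), (1, 133, 12), (1, 104, 4), (1, 15, 0), (1, 18, 0), (1, 89, 2), (1, 27, 1), (1, 10, 1), (2, 133, 10)]
noncomputable def rT : Tr := (.node (.node (.node (.node (.node (.node (.node rT0
 rT1)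
 (.node rT2
 rT3))
 (.node (.node rT4
 rT5)
 (.node rT6
 rT7)))
 (.node (.node (.node rT8
 rT9)
 (.node rT10
 rT11))
 (.node (.node rT12
 rT13)
 (.node rT14
 rT15))))
 (.node (.node (.node (.node rT16
 rT17)
 (.node rT18
 rT19))
 (.node (.node rT20
 rT21)
 (.node rT22
 rT23)))
 (.node (.node (.node rT24
 rT25)
 (.node rT26
 rT27))
 (.node (.node rT28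
 rT29)
 (.node rT30
 rT31)))))
 (.node (.node (.node (.node (.node rT32
 rT33)
 (.node rT34
 rT35))
 (.node (.node rT36
 rT37)
 (.node rT38
 rT39)))
 (.node (.node (.node rT40
 rT41)
 (.node rT42
 rT43))
 (.node (.node rT44
 rT45)
 (.node rT46
 rT47))))
 (.node (.node (.node (.node rT48
 rT49)
 (.node rT50
 rT51))
 (.node (.node rT52
 rT53)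
 (.node rT54
 rT55)))
 (.node (.node (.node rT56
 rT57)
 (.node rT58
 rT59))
 (.node (.node rT60
 rT61)
 (.node rT62
 rT63))))))
 (.node (.node (.node (.node (.node (.node rT64
 rT65)
 (.node rT66
 rT67))
 (.node (.node rT68
 rT69)
 (.node rT70
 rT71)))
 (.node (.node (.node rT72
 rT73)
 (.node rT74
 rT75))
 (.node (.node rT76
 rT77)
 (.node rT78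
 rT79))))
 (.node (.node (.node (.node rT80
 rT81)
 (.node rT82
 rT83))
 (.node (.node rT84
 rT85)
 (.node rT86
 rT87)))
 (.node (.node (.node rT88
 rT89)
 (.node rT90
 rT91))
 (.node (.node rT92
 rT93)
 (.node rT94
 rT95)))))
 (.leaf (nat_lit 0))))
noncomputable def gT : Tr := gT0
noncomputable def rC (i : ℕ) : ℕ := rT.get (nat_lit 4096) i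
noncomputable def gC (i : ℕ) : ℕ := gT.get (nat_lit 8) i
noncomputable def row (p : ℕ) : ℕ := rec2 rC (nat_lit 4) (nat_lit 15) (nat_lit 260) (nat_lit 0xfffffffffffffffffffffffffffffffffffffffffffffffffffffffffffffffff) p
noncomputable def gf (p : ℕ) : ℕ := rec2 gC (nat_lit 6) (nat_lit 63) (nat_lit 48) (nat_lit 0xffffffffffff) p
noncomputable def gw (c : ℕ) : List ℕ := nth [] Wr c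
noncomputable def wn (c : ℕ) : ℕ := pack (nat_lit 5) (nth [] Wn c) (nat_lit 0)
noncomputable def C : Cert :=
  { n := (nat_lit 98280), na := (nat_lit 172), M := (nat_lit 835), nc := (nat_lit 9), W := (nat_lit 17), EB := (nat_lit 26),
    LB := (nat_lit 5), nreg := (nat_lit 3270), ivT := (nat_lit 0x319b5e9594e1173d8d52d28398a418820), base := (nat_lit 0x1555400),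
    row := row, gf := gf, gw := gw, wn := wn }
theorem masks : Masks C (nat_lit 131071) (nat_lit 0x3ffffff) (nat_lit 31) (nat_lit 39) (nat_lit 0x7fffffffff) :=
  ⟨by decide +kernel, by decide +kernel, by decide +kernel, by decide +kernel, by decide +kernel⟩
noncomputable def rchk : ℕ → ℕ → ℕ → Bool :=
  rowChk row gf gw (nat_lit 98280) (nat_lit 835) (nat_lit 9) (nat_lit 17) (nat_lit 131071) (nat_lit 26) (nat_lit 0x3ffffff) (nat_lit 5) (nat_lit 31) (nat_lit 39) (nat_lit 0x7fffffffff) (nat_lit 3270) (nat_lit 0x319b5e9594e1173d8d52d28398a418820) (nat_lit 10) (nat_lit 1023) (nat_lit 12) (nat_lit 4095)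
noncomputable def fchk : ℕ → ℕ → ℕ → Bool :=
  auxRun row gf wn (nat_lit 98280) (nat_lit 172) (nat_lit 835) (nat_lit 9) (nat_lit 17) (nat_lit 131071) (nat_lit 26) (nat_lit 0x3ffffff) (nat_lit 5) (nat_lit 31) (nat_lit 39) (nat_lit 0x319b5e9594e1173d8d52d28398a418820) (nat_lit 0x1555400) (nat_lit 11) (nat_lit 2047)
theorem rows_of {lo hi : ℕ} {t : JL} (h : t.run rchk (nat_lit 108) hi lo = true) : C.RowsOK lo hi :=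
  rowsOK_of_run masks h
theorem facts_of {lo hi : ℕ} {t : JL} (h : t.run fchk (nat_lit 20) hi lo = true) : C.FactsOK lo hi :=
  factsOK_of_run masks h
theorem words_ok : wordsChk 98280 9 17 5 3270 1055022339265738135199219436291457386528 22369280 R S Wr Wn cr cn = true := by
  decide +kernel

end Cfsg.Agent.H48.RecT1

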