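import Cfsg.Agent.H44.Coset
import Cfsg.Agent.H48.RecT2D0

set_option autoImplicit false
set_option maxRecDepth 1000000
set_option linter.all false
set_option Elab.async false

namespace Cfsg.Agent.H48.RecT2
open Cfsg.Agent.H44

/-- The relators. -/
def R : List (List ℕ) := [[1, 1],
  [2, 2],
  [3, 3],
  [4, 4],
  [5, 5],
  [6, 6],
  [7, 7],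
  [8, 8],
  [4, 1, 4, 1],
  [4, 3, 4, 3],
  [5, 2, 5, 2],
  [6, 1, 6, 1],
  [6, 3, 6, 3],
  [6, 4, 6, 4],
  [7, 2, 7, 2],
  [7, 3, 7, 3],
  [8, 2, 8, 2],
  [5, 4, 5, 4, 5, 4],
  [6, 2, 6, 2, 6, 2],
  [7, 4, 7, 4, 7, 4],
  [7, 5, 7, 5, 7, 5],
  [8, 3, 8, 3, 8, 3],
  [7, 6, 7, 6, 7, 6],
  [2, 1, 2, 1, 2, 1, 2, 1],
  [2, 1, 5, 1, 2, 1, 5, 1],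
  [3, 1, 3, 1, 3, 1, 3, 1],
  [3, 1, 5, 1, 3, 1, 5, 1],
  [3, 2, 3, 2, 3, 2, 3, 2],
  [3, 5, 3, 2, 3, 5, 3, 2],
  [4, 2, 4, 2, 4, 2, 4, 2],
  [5, 1, 5, 1, 5, 1, 5, 1],
  [5, 3, 5, 3, 5, 3, 5, 3],
  [5, 6, 5, 1, 5, 6, 5, 1],
  [6, 5, 6, 5, 6, 5, 6, 5],
  [5, 1, 7, 1, 5, 1, 7, 1],
  [2, 1, 8, 1, 2, 1, 8, 1],
  [4, 8, 4, 2, 4, 8, 4, 2],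
  [8, 1, 8, 1, 8, 1, 8, 1],
  [8, 4, 8, 4, 8, 4, 8, 4],
  [8, 5, 8, 5, 8, 5, 8, 5],
  [6, 5, 3, 5, 6, 5, 3, 5],
  [8, 7, 8, 7, 8, 7, 8, 7],
  [1, 4, 5, 1, 4, 5, 4, 1, 5],
  [2, 4, 2, 4, 6, 8, 4, 8, 6],
  [3, 5, 3, 5, 1, 5, 3, 5, 3, 1],
  [5, 4, 8, 5, 8, 4, 8, 5, 8, 4],
  [3, 2, 8, 3, 7, 8, 7, 3, 8, 2],
  [4, 5, 3, 5, 1, 4, 5, 3, 5, 1],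
  [2, 4, 2, 4, 5, 4, 2, 4, 8, 5, 8],
  [2, 3, 2, 3, 6, 7, 5, 3, 5, 7, 6],
  [1, 4, 7, 4, 2, 4, 7, 1, 8, 4, 8],
  [2, 1, 3, 2, 3, 1, 2, 1, 3, 2, 3, 1],
  [2, 3, 2, 1, 3, 1, 2, 3, 2, 1, 3, 1],
  [2, 6, 5, 6, 2, 1, 2, 6, 5, 6, 2, 1],
  [4, 5, 6, 5, 4, 2, 4, 5, 6, 5, 4, 2],
  [3, 1, 3, 4, 2, 3, 7, 4, 1, 7, 3, 2],
  [7, 1, 7, 1, 4, 7, 4, 1, 7, 1, 7, 4],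
  [2, 1, 4, 2, 1, 4, 2, 4, 1, 2, 4, 1],
  [2, 1, 4, 8, 1, 4, 2, 4, 1, 8, 4, 1],
  [2, 3, 1, 3, 2, 1, 8, 3, 1, 3, 8, 1],
  [2, 5, 1, 2, 8, 1, 8, 5, 8, 1, 8, 1],
  [2, 8, 4, 2, 8, 1, 8, 2, 4, 8, 2, 1],
  [3, 8, 1, 8, 5, 3, 4, 8, 4, 5, 8, 1],
  [8, 1, 2, 5, 3, 5, 8, 3, 1, 8, 3, 2],
  [8, 5, 1, 8, 4, 5, 8, 5, 1, 8, 4, 5],
  [2, 4, 2, 1, 6, 7, 4, 2, 4, 7, 6, 1],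
  [6, 7, 1, 6, 7, 1, 6, 7, 6, 1, 7, 1],
  [7, 6, 5, 6, 7, 6, 5, 6, 7, 6, 5, 6],
  [2, 8, 6, 2, 8, 1, 8, 2, 6, 8, 2, 1],
  [6, 2, 8, 6, 2, 8, 6, 8, 2, 6, 8, 2],
  [6, 8, 6, 2, 1, 2, 6, 8, 6, 2, 1, 2],
  [4, 8, 1, 4, 8, 1, 4, 8, 4, 1, 8, 1],
  [5, 8, 5, 1, 8, 1, 5, 8, 5, 1, 8, 1],
  [5, 8, 5, 6, 5, 8, 5, 4, 8, 6, 8, 4],
  [6, 5, 8, 1, 8, 5, 6, 5, 8, 1, 8, 5],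
  [8, 1, 5, 8, 1, 5, 1, 8, 5, 1, 8, 5],
  [8, 6, 8, 1, 8, 6, 8, 6, 8, 1, 8, 6],
  [3, 7, 5, 8, 5, 4, 8, 7, 3, 1, 7, 1],
  [5, 1, 8, 7, 8, 1, 5, 1, 8, 7, 8, 1],
  [5, 8, 5, 8, 7, 4, 8, 7, 8, 4, 7, 4],
  [7, 8, 7, 1, 8, 1, 7, 8, 7, 1, 8, 1],
  [7, 8, 7, 5, 8, 5, 7, 8, 7, 5, 8, 5],
  [8, 7, 1, 2, 1, 7, 8, 7, 1, 2, 1, 7],
  [7, 8, 7, 4, 8, 4, 7, 8, 7, 4, 8, 4],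
  [1, 5, 6, 2, 4, 5, 1, 5, 4, 2, 6, 1, 5],
  [1, 2, 1, 4, 5, 6, 8, 6, 8, 6, 8, 5, 4],
  [1, 2, 5, 1, 6, 8, 5, 1, 5, 8, 6, 5, 2],
  [5, 8, 1, 6, 8, 4, 6, 8, 6, 8, 1, 5, 8],
  [1, 2, 4, 7, 1, 8, 1, 8, 7, 8, 4, 1, 8],
  [1, 3, 1, 3, 8, 7, 1, 7, 2, 1, 7, 8, 4],
  [1, 3, 2, 8, 4, 2, 7, 4, 8, 2, 3, 1, 7],
  [2, 5, 8, 7, 8, 5, 8, 7, 8, 5, 8, 7, 8],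
  [2, 3, 1, 2, 3, 1, 3, 2, 1, 5, 3, 5, 2, 1],
  [3, 2, 3, 6, 5, 3, 6, 2, 3, 2, 6, 5, 6, 2],
  [6, 5, 4, 2, 3, 4, 5, 6, 5, 4, 3, 2, 4, 5],
  [5, 4, 7, 4, 2, 3, 5, 4, 7, 4, 5, 3, 5, 2],
  [5, 3, 5, 7, 1, 4, 7, 5, 3, 5, 2, 4, 1, 2],
  [3, 1, 3, 2, 5, 3, 8, 5, 1, 5, 8, 5, 3, 2],
  [3, 2, 3, 4, 8, 1, 8, 4, 5, 3, 5, 2, 3, 1],
  [3, 4, 8, 4, 8, 3, 2, 3, 8, 4, 8, 4, 3, 2],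
  [3, 8, 5, 8, 3, 2, 5, 3, 8, 5, 8, 3, 5, 2],
  [8, 1, 3, 1, 8, 3, 5, 4, 1, 8, 4, 1, 5, 3],
  [2, 1, 3, 4, 8, 5, 4, 8, 5, 4, 3, 5, 2, 1],
  [6, 7, 6, 2, 1, 4, 2, 6, 7, 6, 2, 4, 1, 2],
  [3, 2, 1, 4, 2, 7, 1, 3, 1, 7, 2, 4, 1, 2],
  [2, 5, 3, 8, 5, 3, 1, 4, 3, 8, 4, 3, 2, 1],
  [4, 5, 3, 1, 8, 1, 3, 5, 4, 3, 1, 8, 1, 3],
  [4, 5, 3, 8, 3, 5, 3, 8, 1, 8, 4, 1, 8, 3],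
  [4, 8, 3, 2, 1, 2, 8, 4, 3, 1, 5, 8, 5, 3],
  [6, 8, 6, 5, 6, 8, 1, 8, 6, 8, 5, 6, 8, 4],
  [7, 1, 5, 7, 1, 7, 1, 7, 1, 7, 1, 7, 5, 1],
  [2, 5, 1, 7, 4, 5, 8, 4, 1, 8, 5, 4, 7, 1],
  [2, 7, 8, 7, 8, 1, 4, 8, 7, 8, 7, 2, 4, 1],
  [3, 1, 2, 4, 2, 1, 8, 7, 4, 8, 3, 1, 7, 1],
  [3, 1, 3, 4, 7, 8, 1, 8, 7, 2, 1, 7, 1, 2],
  [3, 1, 7, 8, 7, 1, 3, 8, 2, 1, 3, 1, 8, 2],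
  [3, 1, 8, 3, 1, 7, 4, 8, 4, 7, 1, 3, 8, 1],
  [3, 1, 8, 5, 7, 1, 3, 8, 3, 1, 7, 5, 8, 1],
  [3, 5, 7, 5, 8, 3, 2, 7, 3, 8, 5, 7, 3, 2],
  [3, 7, 1, 4, 8, 3, 2, 7, 3, 8, 4, 1, 3, 2],
  [4, 2, 1, 5, 8, 5, 4, 7, 5, 8, 5, 7, 1, 2],
  [4, 2, 1, 7, 8, 4, 8, 7, 8, 4, 8, 7, 1, 2],
  [2, 3, 2, 1, 2, 8, 3, 1, 8, 1, 3, 8, 2, 1],
  [2, 8, 3, 1, 4, 8, 4, 5, 8, 5, 3, 8, 2, 1],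
  [3, 8, 1, 8, 3, 1, 2, 1, 3, 8, 1, 8, 3, 2],
  [8, 1, 3, 1, 8, 4, 5, 1, 3, 8, 3, 1, 5, 4],
  [8, 1, 4, 5, 8, 5, 1, 5, 8, 5, 4, 1, 8, 1],
  [8, 5, 4, 6, 8, 1, 6, 2, 4, 2, 1, 8, 6, 5],
  [2, 8, 4, 7, 8, 7, 1, 8, 2, 4, 7, 8, 7, 1],
  [3, 7, 1, 7, 5, 1, 3, 7, 1, 8, 5, 4, 8, 1],
  [3, 8, 3, 1, 3, 7, 5, 1, 8, 1, 5, 7, 3, 1],
  [4, 5, 8, 5, 7, 8, 5, 4, 2, 4, 5, 7, 4, 2],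
  [4, 7, 1, 7, 5, 1, 7, 8, 1, 8, 5, 3, 1, 3],
  [4, 7, 5, 1, 7, 8, 7, 1, 5, 7, 4, 1, 8, 1],
  [4, 7, 5, 3, 5, 8, 3, 5, 3, 5, 7, 4, 8, 3],
  [4, 8, 1, 5, 7, 4, 8, 4, 7, 5, 8, 4, 8, 1],
  [4, 8, 7, 8, 3, 1, 3, 4, 8, 7, 8, 3, 1, 3],
  [5, 1, 8, 5, 4, 2, 4, 5, 8, 1, 5, 4, 2, 4],
  [5, 1, 8, 7, 1, 2, 8, 5, 8, 1, 7, 8, 2, 1],
  [5, 4, 7, 8, 7, 4, 2, 4, 7, 8, 7, 4, 5, 2],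
  [5, 7, 8, 5, 8, 7, 5, 1, 8, 1, 7, 1, 8, 1],
  [5, 7, 8, 7, 8, 5, 1, 7, 8, 4, 8, 4, 7, 1],
  [5, 8, 1, 5, 4, 8, 1, 8, 4, 5, 1, 8, 5, 1],
  [8, 4, 8, 5, 7, 5, 4, 8, 4, 8, 5, 7, 5, 4],
  [1, 2, 4, 2, 5, 1, 2, 4, 5, 2, 1, 2, 4, 5, 2],
  [1, 2, 1, 2, 3, 1, 3, 6, 2, 1, 2, 6, 3, 1, 3],
  [1, 3, 2, 6, 5, 6, 2, 4, 2, 6, 5, 6, 2, 4, 3],
  [1, 4, 7, 5, 1, 5, 7, 4, 5, 7, 1, 7, 4, 5, 7],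
  [3, 2, 4, 2, 8, 3, 4, 5, 4, 3, 8, 2, 4, 3, 5],
  [1, 2, 1, 7, 4, 5, 6, 2, 4, 1, 2, 6, 5, 4, 7],
  [1, 5, 7, 1, 5, 7, 1, 5, 7, 5, 1, 5, 7, 1, 7],
  [1, 2, 1, 5, 8, 4, 6, 8, 1, 8, 6, 4, 8, 5, 2],
  [1, 2, 5, 4, 6, 8, 6, 5, 1, 8, 5, 6, 8, 5, 2],
  [1, 2, 5, 6, 5, 4, 8, 1, 8, 4, 5, 6, 1, 5, 2],
  [1, 3, 4, 5, 4, 8, 1, 8, 5, 1, 3, 8, 4, 5, 8],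
  [1, 3, 8, 3, 1, 3, 6, 2, 3, 1, 3, 2, 6, 8, 3],
  [1, 3, 8, 5, 1, 4, 8, 3, 5, 8, 4, 1, 5, 8, 4],
  [1, 8, 1, 3, 1, 3, 6, 8, 1, 8, 6, 3, 1, 3, 8],
  [3, 1, 4, 8, 5, 1, 5, 3, 4, 5, 3, 8, 1, 3, 5],
  [1, 2, 1, 2, 3, 5, 6, 2, 3, 1, 3, 2, 6, 3, 5],
  [1, 4, 5, 7, 5, 1, 4, 5, 7, 5, 4, 1, 5, 7, 5],
  [1, 7, 4, 5, 1, 7, 5, 3, 2, 4, 2, 3, 5, 1, 5],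
  [1, 7, 5, 4, 7, 1, 5, 7, 1, 5, 4, 7, 5, 4, 7],
  [2, 1, 2, 6, 5, 1, 3, 2, 3, 1, 3, 5, 2, 6, 3],
  [2, 6, 7, 1, 3, 1, 4, 5, 3, 5, 4, 7, 6, 2, 3],
  [1, 2, 1, 8, 4, 5, 1, 2, 4, 2, 1, 5, 4, 8, 5],
  [1, 2, 4, 5, 8, 4, 5, 1, 5, 4, 8, 1, 5, 4, 2],
  [1, 2, 4, 8, 1, 6, 5, 1, 8, 1, 5, 6, 8, 6, 2],
  [1, 2, 5, 8, 1, 5, 8, 4, 5, 8, 1, 5, 8, 4, 2],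
  [3, 2, 4, 2, 3, 2, 4, 2, 3, 2, 4, 2, 3, 2, 4, 2],
  [2, 4, 2, 6, 2, 4, 2, 1, 2, 4, 2, 6, 2, 4, 2, 1],
  [3, 2, 4, 2, 3, 2, 6, 2, 3, 2, 4, 2, 3, 2, 6, 2],
  [2, 1, 2, 3, 1, 3, 4, 2, 1, 7, 2, 1, 7, 1, 7, 1],
  [2, 1, 2, 5, 7, 1, 2, 1, 5, 7, 5, 1, 2, 1, 7, 1],
  [2, 1, 3, 7, 1, 2, 1, 4, 2, 1, 7, 3, 1, 2, 4, 1],
  [2, 1, 4, 2, 1, 3, 7, 4, 2, 4, 1, 2, 4, 7, 3, 1],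
  [2, 1, 4, 2, 3, 1, 7, 1, 3, 2, 4, 1, 2, 1, 7, 1],
  [2, 1, 7, 1, 4, 5, 7, 4, 2, 4, 7, 5, 4, 1, 7, 1],
  [2, 1, 7, 4, 2, 4, 7, 1, 2, 1, 7, 4, 2, 4, 7, 1],
  [2, 3, 2, 1, 2, 7, 1, 4, 7, 2, 1, 2, 3, 2, 4, 1],
  [2, 3, 5, 7, 1, 2, 4, 2, 1, 7, 5, 3, 2, 1, 7, 1],
  [3, 1, 3, 7, 1, 3, 1, 4, 7, 4, 1, 3, 1, 7, 4, 1],
  [3, 1, 4, 2, 5, 7, 1, 2, 7, 4, 1, 3, 5, 4, 7, 1],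
  [2, 1, 4, 8, 1, 3, 1, 8, 4, 5, 3, 8, 5, 3, 2, 1],
  [2, 3, 4, 8, 5, 8, 3, 5, 3, 8, 4, 1, 8, 3, 2, 1],
  [2, 1, 7, 4, 6, 2, 1, 3, 4, 1, 3, 2, 6, 4, 7, 1],
  [2, 3, 1, 2, 1, 3, 4, 5, 3, 5, 4, 2, 1, 3, 2, 1],
  [2, 7, 6, 5, 7, 4, 2, 4, 7, 5, 6, 7, 2, 1, 7, 1],
  [3, 1, 2, 5, 3, 7, 4, 5, 4, 7, 3, 5, 2, 4, 3, 1],
  [3, 1, 2, 7, 4, 5, 1, 2, 3, 2, 1, 5, 4, 7, 2, 1],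
  [3, 1, 7, 1, 3, 7, 4, 2, 4, 7, 3, 1, 7, 1, 3, 2],
  [3, 2, 5, 7, 1, 2, 7, 5, 3, 5, 7, 2, 1, 7, 5, 2],
  [3, 7, 1, 3, 7, 1, 7, 1, 7, 3, 1, 7, 3, 1, 7, 1],
  [3, 7, 1, 4, 5, 1, 2, 4, 2, 3, 1, 7, 4, 5, 7, 1],
  [3, 7, 4, 2, 3, 1, 7, 1, 7, 1, 3, 2, 4, 7, 3, 1],
  [4, 2, 3, 1, 2, 3, 5, 1, 3, 2, 1, 3, 5, 2, 4, 1],
  [4, 2, 3, 2, 4, 5, 1, 2, 7, 1, 5, 3, 1, 7, 2, 1],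
  [4, 2, 5, 3, 1, 4, 5, 3, 5, 4, 1, 2, 3, 5, 4, 3],
  [4, 2, 6, 5, 7, 5, 6, 2, 4, 2, 6, 5, 7, 5, 6, 2],
  [3, 5, 1, 4, 2, 4, 5, 1, 5, 4, 2, 4, 3, 1, 5, 1],
  [3, 5, 4, 2, 3, 4, 5, 1, 5, 4, 3, 2, 4, 5, 3, 1],
  [4, 7, 4, 2, 5, 1, 4, 5, 3, 5, 1, 7, 4, 5, 3, 2]]
/-- The subgroup generators. -/
def S : List (List ℕ) := [[1],
  [2],
  [3],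
  [4],
  [5],
  [6],
  [7]]
def Wr : List (List ℕ) := [[8, 8],
  [1, 8, 5, 3, 4, 8, 4, 5, 8, 1, 3, 8],
  [2, 8, 2, 8],
  [3, 3],
  [4, 8, 6, 2, 4, 2, 4, 6, 8],
  [5, 4, 8, 5, 8, 4, 8, 5, 8, 4],
  [6, 6],
  [7, 8, 4, 7, 4, 5, 8, 5, 8, 7, 4, 8],
  [1, 3, 2, 1, 8, 3, 1, 3, 8, 1, 2, 3],
  [2, 8, 3, 7, 8, 7, 3, 8, 2, 3],
  [4, 3, 4, 3],
  [5, 3, 4, 8, 4, 5, 8, 1, 3, 8, 1, 8],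
  [7, 3, 7, 3],
  [8, 3, 8, 3, 8, 3],
  [1, 6, 1, 6],
  [2, 2],
  [4, 6, 4, 6],
  [5, 5],
  [7, 7],
  [8, 6, 8, 6, 8, 5, 4, 1, 2, 1, 4, 5, 6],
  [3, 6, 3, 6],
  [3, 2, 3, 6, 7, 5, 3, 5, 7, 6, 2],
  [4, 2, 4, 6, 8, 4, 8, 6, 2],
  [6, 2, 6, 2, 6, 2],
  [8, 2, 8, 2],
  [1, 5, 6, 5, 1, 5, 6, 5],
  [4, 4],
  [8, 5, 6, 5, 8, 5, 4, 8, 6, 8, 4, 5],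
  [1, 1],
  [6, 7, 6, 7, 6, 7],
  [1, 3, 2, 3, 1, 2, 1, 3, 2, 3, 1, 2],
  [3, 2, 3, 2, 3, 2, 3, 2],
  [3, 5, 6, 5, 3, 5, 6, 5],
  [3, 7, 3, 7],
  [8, 7, 3, 8, 2, 3, 2, 8, 3, 7],
  [1, 2, 1, 5, 1, 2, 1, 5],
  [2, 5, 2, 5],
  [3, 1, 5, 1, 3, 1, 5, 1],
  [8, 5, 8, 1, 6, 8, 4, 6, 8, 6, 8, 1, 5],
  [2, 7, 2, 7],
  [8, 1, 8, 7, 2, 1, 7, 1, 2, 3, 1, 3, 4, 7],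
  [1, 4, 1, 4],
  [2, 4, 5, 4, 2, 4, 8, 5, 8, 2, 4],
  [5, 4, 5, 4, 5, 4],
  [5, 6, 5, 6, 5, 6, 5, 6],
  [2, 1, 7, 8, 4, 1, 3, 1, 3, 8, 7, 1, 7],
  [4, 7, 3, 2, 4, 3, 1, 3, 2, 3, 7, 1],
  [6, 1, 6, 1],
  [7, 4, 7, 1, 7, 1, 4, 7, 4, 1, 7, 1],
  [3, 5, 7, 6, 2, 3, 2, 3, 6, 7, 5],
  [8, 5, 8, 7, 4, 8, 7, 8, 4, 7, 4, 5],
  [8, 1, 3, 8, 1, 8, 5, 3, 4, 8, 4, 5],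
  [8, 7, 8, 7, 8, 7, 8, 7],
  [3, 4, 3, 4],
  [2, 4, 7, 1, 8, 1, 8, 7, 8, 4, 1, 8, 1],
  [3, 4, 2, 3, 7, 4, 1, 7, 3, 2, 3, 1],
  [3, 5, 3, 5, 3, 5, 3, 5],
  [2, 4, 2, 4, 2, 4, 2, 4],
  [8, 4, 2, 4, 8, 4, 2, 4],
  [2, 1, 2, 1, 2, 1, 2, 1],
  [4, 7, 4, 2, 4, 7, 1, 8, 4, 8, 1],
  [6, 7, 4, 2, 4, 7, 6, 1, 2, 4, 2, 1],
  [7, 4, 2, 4, 7, 4, 1, 8, 4, 8, 1],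
  [8, 1, 2, 1, 8, 1, 2, 1],
  [8, 5, 8, 5, 8, 5, 8, 5],
  [8, 7, 8, 1, 4, 8, 7, 8, 7, 2, 4, 1, 2, 7],
  [1, 2, 6, 5, 6, 2, 1, 2, 6, 5, 6, 2],
  [5, 2, 5, 2],
  [1, 8, 5, 6, 5, 8, 1, 8, 5, 6, 5, 8],
  [2, 5, 1, 7, 4, 5, 8, 4, 1, 8, 5, 4, 7, 1],
  [3, 1, 7, 2, 4, 1, 2, 3, 2, 1, 4, 2, 7, 1],
  [5, 1, 7, 1, 5, 1, 7, 1],
  [2, 4, 7, 1, 8, 4, 8, 1, 4, 7, 4],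
  [5, 4, 1, 5, 1, 4, 5, 1, 4],
  [8, 4, 7, 1, 3, 8, 1, 3, 1, 8, 3, 1, 7, 4],
  [4, 5, 4, 5, 4, 5],
  [6, 5, 1, 5, 6, 5, 1, 5],
  [7, 5, 7, 5, 7, 5],
  [2, 1, 5, 1, 2, 1, 5, 1],
  [7, 1, 5, 1, 7, 1, 5, 1],
  [8, 1, 8, 5, 8, 1, 8, 1, 2, 5, 1, 2],
  [7, 4, 7, 4, 7, 4],
  [8, 4, 5, 8, 1, 3, 8, 1, 8, 5, 3, 4],
  [7, 6, 7, 6, 7, 6],
  [3, 1, 2, 3, 2, 1, 3, 1, 2, 3, 2, 1],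
  [4, 2, 3, 7, 4, 1, 7, 3, 2, 3, 1, 3],
  [8, 4, 8, 1, 4, 7, 4, 2, 4, 7, 1],
  [3, 2, 3, 5, 3, 2, 3, 5],
  [8, 5, 4, 8, 7, 3, 1, 7, 1, 3, 7, 5],
  [3, 2, 6, 7, 5, 3, 5, 7, 6, 3, 2],
  [6, 8, 6, 8, 5, 4, 1, 2, 1, 4, 5, 6, 8],
  [3, 1, 3, 1, 3, 1, 3, 1],
  [5, 1, 3, 1, 5, 1, 3, 1],
  [8, 5, 3, 5, 2, 1, 8, 2, 3, 8, 1, 3],
  [5, 7, 1, 7, 4, 5, 7, 1, 4, 7, 5, 1, 5, 7, 4],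
  [5, 6, 2, 4, 2, 6, 5, 6, 2, 4, 3, 1, 3, 2, 6],
  [1, 3, 4, 2, 3, 7, 4, 1, 7, 3, 2, 3],
  [4, 1, 7, 3, 2, 3, 1, 3, 4, 2, 3, 7],
  [5, 6, 5, 4, 2, 4, 5, 6, 5, 4, 2, 4],
  [6, 5, 6, 5, 6, 5, 6, 5],
  [1, 8, 6, 8, 5, 6, 8, 4, 6, 8, 6, 5, 6, 8],
  [5, 1, 2, 1, 5, 1, 2, 1],
  [8, 3, 1, 3, 8, 1, 2, 3, 1, 3, 2, 1],
  [5, 1, 4, 5, 4, 1, 5, 1, 4],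
  [8, 5, 8, 4, 8, 5, 8, 4, 5, 4],
  [1, 8, 4, 5, 3, 5, 2, 3, 1, 3, 2, 3, 4, 8],
  [2, 1, 8, 3, 1, 3, 8, 1, 2, 3, 1, 3],
  [7, 1, 3, 7, 5, 8, 5, 4, 8, 7, 3, 1],
  [5, 8, 1, 3, 8, 1, 8, 5, 3, 4, 8, 4],
  [8, 1, 7, 4, 2, 4, 7, 4, 1, 8, 4],
  [3, 5, 1, 5, 3, 5, 3, 1, 3, 5],
  [8, 4, 8, 5, 8, 4, 5, 4, 8, 5],
  [1, 2, 1, 8, 1, 2, 1, 8],
  [5, 6, 7, 6, 5, 6, 7, 6, 5, 6, 7, 6],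
  [4, 8, 4, 3, 5, 8, 1, 8, 3, 1, 8, 5],
  [6, 8, 4, 6, 8, 6, 8, 1, 5, 8, 5, 8, 1],
  [8, 4, 2, 4, 5, 4, 2, 4, 2, 8, 5],
  [2, 4, 8, 4, 2, 4, 8, 4],
  [4, 1, 4, 1],
  [5, 1, 5, 1, 5, 1, 5, 1],
  [1, 8, 6, 4, 8, 5, 2, 1, 2, 1, 5, 8, 4, 6, 8],
  [7, 2, 7, 2],
  [3, 1, 2, 3, 1, 3, 2, 1, 5, 3, 5, 2, 1, 2],
  [1, 8, 6, 8, 6, 8, 1, 8, 6, 8, 6, 8],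
  [5, 3, 5, 6, 5, 3, 5, 6],
  [6, 3, 6, 3],
  [6, 5, 8, 5, 4, 8, 6, 8, 4, 5, 8, 5],
  [8, 1, 4, 7, 4, 2, 4, 7, 1, 8, 4],
  [7, 2, 4, 8, 2, 3, 1, 7, 1, 3, 2, 8, 4],
  [1, 4, 2, 1, 4, 2, 4, 1, 2, 4, 1, 2],
  [4, 2, 4, 2, 4, 2, 4, 2],
  [5, 8, 4, 8, 5, 8, 4, 5, 4, 8],
  [4, 2, 4, 8, 4, 2, 4, 8],
  [5, 8, 5, 8, 5, 8, 5, 8],
  [2, 3, 4, 8, 4, 8, 3, 2, 3, 8, 4, 8, 4, 3],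
  [6, 1, 5, 1, 5, 6, 2, 4, 5, 1, 5, 4, 2],
  [7, 4, 1, 7, 3, 2, 3, 1, 3, 4, 2, 3],
  [1, 6, 7, 1, 6, 7, 6, 1, 7, 1, 6, 7],
  [4, 1, 7, 5, 3, 5, 2, 1, 4, 2, 5, 3, 5, 7],
  [2, 1, 7, 4, 5, 6, 2, 4, 1, 2, 6, 5, 4, 7, 1],
  [2, 1, 4, 5, 6, 8, 6, 8, 6, 8, 5, 4, 1],
  [6, 5, 1, 3, 2, 3, 1, 3, 5, 2, 6, 3, 2, 1, 2],
  [8, 1, 8, 1, 8, 1, 8, 1],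
  [1, 4, 2, 6, 7, 6, 2, 4, 1, 2, 6, 7, 6, 2],
  [7, 1, 2, 3, 1, 3, 4, 7, 8, 1, 8, 7, 2, 1],
  [1, 7, 8, 4, 1, 3, 1, 3, 8, 7, 1, 7, 2],
  [3, 5, 4, 7, 4, 5, 3, 5, 2, 5, 4, 7, 4, 2],
  [4, 7, 1, 8, 4, 8, 1, 4, 7, 4, 2],
  [7, 6, 5, 6, 7, 6, 5, 6, 7, 6, 5, 6],
  [5, 7, 1, 2, 4, 2, 1, 5, 8, 5, 4, 7, 5, 8],
  [8, 7, 4, 8, 2, 1, 7, 8, 7, 4, 2, 8, 1, 7],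
  [7, 8, 7, 8, 7, 8, 7, 8],
  [7, 2, 1, 7, 8, 4, 1, 3, 1, 3, 8, 7, 1],
  [5, 1, 7, 4, 5, 8, 4, 1, 8, 5, 4, 7, 1, 2],
  [1, 3, 8, 3, 1, 5, 4, 8, 1, 3, 1, 8, 4, 5],
  [3, 4, 8, 4, 5, 8, 1, 3, 8, 1, 8, 5],
  [4, 3, 1, 8, 1, 3, 4, 5, 3, 1, 8, 1, 3, 5],
  [8, 3, 1, 8, 3, 2, 8, 1, 2, 5, 3, 5],
  [8, 5, 4, 7, 1, 2, 5, 1, 7, 4, 5, 8, 4, 1],
  [8, 5, 4, 7, 4, 8, 7, 8, 4, 7, 8, 5],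
  [1, 8, 1, 8, 1, 8, 1, 8],
  [1, 2, 3, 1, 3, 6, 2, 1, 2, 6, 3, 1, 3, 1, 2],
  [6, 4, 6, 4],
  [7, 6, 2, 1, 4, 2, 6, 7, 6, 2, 4, 1, 2, 6],
  [1, 5, 1, 7, 1, 5, 1, 7],
  [4, 7, 4, 7, 4, 7],
  [5, 8, 5, 4, 8, 7, 3, 1, 7, 1, 3, 7],
  [7, 4, 8, 3, 1, 7, 1, 3, 1, 2, 4, 2, 1, 8],
  [1, 6, 7, 4, 2, 4, 7, 6, 1, 2, 4, 2],
  [7, 4, 1, 8, 4, 8, 1, 7, 4, 2, 4],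
  [7, 8, 1, 4, 8, 7, 8, 7, 2, 4, 1, 2, 7, 8],
  [2, 4, 5, 6, 5, 4, 2, 4, 5, 6, 5, 4],
  [5, 8, 2, 4, 2, 4, 5, 4, 2, 4, 8],
  [1, 4, 7, 3, 2, 4, 3, 1, 3, 2, 3, 7],
  [8, 7, 5, 8, 5, 7, 8, 7, 5, 8, 5, 7],
  [4, 1, 5, 1, 4, 5, 1, 4, 5],
  [5, 7, 5, 7, 5, 7],
  [7, 8, 1, 5, 1, 8, 7, 8, 1, 5, 1, 8],
  [7, 1, 5, 4, 7, 1, 5, 1, 5, 3, 2, 4, 2, 3, 5],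
  [7, 5, 8, 5, 7, 8, 7, 5, 8, 5, 7, 8],
  [5, 3, 2, 4, 7, 4, 5, 2, 5, 3, 5, 4, 7, 4],
  [8, 4, 8, 4, 8, 4, 8, 4],
  [1, 2, 1, 3, 2, 3, 1, 2, 1, 3, 2, 3],
  [2, 3, 2, 3, 2, 3, 2, 3],
  [2, 6, 2, 6, 2, 6],
  [8, 6, 2, 8, 6, 8, 2, 6, 8, 2, 6, 2],
  [1, 8, 7, 8, 4, 1, 8, 1, 2, 4, 7, 1, 8],
  [8, 7, 5, 8, 5, 4, 2, 4, 7, 5, 4, 2, 4, 5],
  [2, 1, 8, 1, 4, 8, 7, 8, 1, 8, 1, 7, 4],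
  [5, 1, 3, 8, 3, 1, 5, 4, 8, 1, 3, 1, 8, 4],
  [7, 1, 8, 1, 8, 7, 8, 4, 1, 8, 1, 2, 4],
  [6, 5, 3, 5, 6, 5, 3, 5],
  [8, 1, 7, 8, 7, 1, 8, 1, 7, 8, 7, 1],
  [8, 5, 7, 3, 1, 7, 1, 3, 7, 8, 4, 5],
  [1, 3, 1, 5, 1, 3, 1, 5],
  [5, 8, 7, 8, 5, 8, 7, 8, 5, 8, 7, 8, 2],
  [6, 8, 1, 8, 6, 8, 6, 8, 1, 8, 6, 8],
  [7, 5, 8, 4, 8, 4, 5, 7, 5, 8, 4, 8, 4, 5],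
  [5, 8, 1, 6, 8, 4, 6, 8, 6, 8, 1, 5, 8],
  [2, 3, 2, 8, 3, 7, 8, 7, 3, 8],
  [1, 7, 3, 2, 3, 1, 3, 4, 2, 3, 7, 4],
  [1, 2, 1, 2, 1, 2, 1, 2],
  [1, 4, 8, 1, 4, 8, 4, 1, 8, 1, 4, 8],
  [4, 8, 4, 8, 4, 8, 4, 8],
  [3, 2, 3, 1, 2, 1, 3, 2, 3, 1, 2, 1],
  [1, 3, 1, 2, 3, 2, 1, 3, 1, 2, 3, 2],
  [5, 6, 5, 3, 5, 6, 5, 3],
  [8, 2, 6, 8, 2, 6, 2, 8, 6, 2, 8, 6],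
  [7, 8, 5, 8, 7, 8, 5, 8, 7, 8, 2, 5, 8],
  [4, 8, 5, 8, 4, 8, 5, 8, 4, 5],
  [7, 2, 1, 5, 4, 2, 3, 2, 4, 1, 2, 7, 1, 3, 5, 1],
  [7, 5, 6, 2, 4, 2, 6, 5, 7, 5, 6, 2, 4, 2, 6, 5],
  [6, 5, 4, 8, 1, 8, 4, 5, 6, 5, 2, 1, 2, 5, 1],
  [2, 4, 8, 5, 8, 2, 4, 2, 4, 5, 4],
  [1, 3, 8, 1, 2, 3, 1, 3, 2, 1, 8, 3],
  [1, 5, 8, 6, 5, 2, 1, 2, 5, 1, 6, 8, 5],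
  [8, 5, 4, 2, 4, 5, 7, 4, 2, 4, 5, 8, 5, 7],
  [7, 6, 5, 7, 4, 2, 4, 7, 5, 6, 7, 2, 1, 7, 1, 2],
  [7, 1, 8, 4, 8, 1, 4, 7, 4, 2, 4],
  [6, 2, 4, 5, 1, 5, 4, 2, 6, 1, 5, 1, 5],
  [1, 2, 4, 2, 1, 6, 7, 4, 2, 4, 7, 6],
  [5, 3, 5, 7, 4, 1, 7, 5, 3, 5, 2, 1, 4, 2],
  [5, 6, 2, 4, 5, 1, 5, 4, 2, 6, 1, 5, 1],
  [1, 5, 1, 5, 1, 5, 1, 5],
  [2, 3, 1, 2, 1, 3, 2, 3, 1, 2, 1, 3],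
  [2, 1, 4, 8, 1, 4, 2, 4, 1, 8, 4, 1],
  [3, 5, 4, 1, 5, 3, 5, 4, 1, 5],
  [8, 4, 1, 2, 1, 4, 8, 1, 4, 2, 4, 1],
  [1, 5, 8, 5, 8, 1, 6, 8, 4, 6, 8, 6, 8],
  [5, 4, 8, 1, 5, 8, 5, 4, 8, 1, 5, 8],
  [2, 3, 7, 5, 8, 3, 7, 2, 3, 8, 5, 7, 5, 3],
  [8, 7, 2, 4, 1, 2, 7, 8, 7, 8, 1, 4, 8, 7],
  [3, 7, 4, 1, 7, 3, 2, 3, 1, 3, 4, 2],
  [7, 4, 2, 4, 7, 6, 1, 2, 4, 2, 1, 6],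
  [6, 5, 6, 2, 4, 3, 1, 3, 2, 6, 5, 6, 2, 4, 2],
  [5, 7, 4, 2, 4, 7, 5, 6, 7, 2, 1, 7, 1, 2, 7, 6],
  [6, 7, 6, 1, 7, 1, 6, 7, 1, 6, 7, 1],
  [4, 5, 4, 8, 5, 8, 4, 8, 5, 8],
  [3, 1, 7, 1, 3, 7, 8, 4, 5, 8, 5, 7],
  [1, 7, 1, 2, 1, 5, 7, 5, 1, 2, 1, 7, 5, 2, 1, 2],
  [4, 7, 4, 1, 8, 4, 8, 1, 7, 4, 2],
  [7, 1, 7, 8, 3, 1, 3, 1, 4, 8, 7, 1, 2],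
  [1, 5, 1, 2, 1, 5, 1, 2],
  [3, 7, 1, 4, 7, 3, 2, 4, 3, 1, 3, 2],
  [4, 2, 1, 6, 7, 4, 2, 4, 7, 6, 1, 2],
  [1, 8, 5, 8, 1, 8, 1, 2, 5, 1, 2, 8],
  [5, 8, 7, 5, 1, 8, 1, 7, 1, 8, 1, 5, 7, 8],
  [2, 3, 5, 3, 2, 3, 5, 3],
  [2, 6, 8, 4, 8, 6, 4, 2, 4],
  [5, 3, 5, 7, 4, 8, 3, 4, 7, 5, 3, 5, 8, 3],
  [7, 4, 5, 8, 5, 1, 2, 4, 2, 1, 7, 5, 8, 5],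
  [4, 8, 3, 2, 7, 3, 8, 4, 1, 3, 2, 3, 7, 1],
  [3, 5, 2, 1, 8, 2, 3, 8, 1, 3, 8, 5],
  [7, 5, 8, 5, 7, 1, 2, 4, 2, 1, 5, 8, 5, 4],
  [3, 5, 8, 1, 8, 3, 1, 8, 5, 4, 8, 4],
  [4, 8, 5, 8, 4, 5, 4, 8, 5, 8],
  [7, 3, 1, 7, 1, 3, 7, 5, 8, 5, 4, 8],
  [5, 3, 5, 7, 6, 2, 3, 2, 3, 6, 7],
  [3, 5, 1, 4, 5, 3, 5, 1, 4, 5],
  [8, 4, 5, 8, 4, 3, 1, 2, 1, 2, 5, 3, 4, 5],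
  [3, 8, 3, 8, 3, 8],
  [5, 3, 5, 1, 5, 3, 5, 3, 1, 3],
  [7, 1, 7, 1, 5, 7, 1, 5, 7, 1, 5, 7, 5, 1, 5],
  [1, 6, 7, 6, 1, 7, 1, 6, 7, 1, 6, 7],
  [4, 6, 2, 1, 3, 4, 1, 3, 2, 6, 4, 7, 1, 2, 1, 7],
  [6, 1, 2, 4, 2, 1, 6, 7, 4, 2, 4, 7],
  [7, 5, 1, 7, 8, 1, 8, 5, 3, 1, 3, 4, 7, 1],
  [1, 8, 1, 2, 5, 1, 2, 8, 1, 8, 5, 8],
  [2, 3, 1, 3, 6, 2, 1, 2, 6, 3, 1, 3, 1, 2, 1],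
  [8, 1, 2, 4, 2, 1, 3, 1, 7, 1, 3, 8, 4, 7],
  [6, 5, 4, 2, 4, 5, 6, 5, 4, 2, 4, 5],
  [4, 2, 6, 5, 4, 7, 1, 2, 1, 7, 4, 5, 6, 2, 1],
  [2, 6, 5, 6, 2, 4, 3, 1, 3, 2, 6, 5, 6, 2, 4],
  [2, 1, 8, 1, 2, 1, 8, 1],
  [6, 2, 3, 2, 3, 6, 7, 5, 3, 5, 7],
  [3, 5, 3, 2, 3, 5, 3, 2],
  [5, 1, 5, 7, 4, 1, 7, 5, 4, 7, 1, 7, 5, 4, 7],
  [8, 5, 3, 4, 8, 3, 2, 1, 2, 8, 4, 3, 1, 5],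
  [5, 3, 5, 8, 3, 5, 3, 5, 7, 4, 8, 3, 4, 7],
  [8, 4, 5, 3, 5, 2, 3, 1, 3, 2, 3, 4, 8, 1],
  [8, 6, 2, 4, 2, 4, 6, 8, 4],
  [8, 5, 7, 8, 7, 5, 8, 5, 7, 8, 7, 5],
  [5, 8, 5, 1, 8, 4, 5, 8, 5, 1, 8, 4],
  [2, 7, 3, 8, 4, 1, 3, 2, 3, 7, 1, 4, 8, 3],
  [6, 2, 3, 2, 4, 2, 3, 2, 6, 2, 3, 2, 4, 2, 3, 2],
  [4, 8, 2, 3, 1, 7, 1, 3, 2, 8, 4, 2, 7],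
  [6, 3, 2, 3, 2, 6, 7, 5, 3, 5, 7],
  [3, 2, 8, 3, 7, 8, 7, 3, 8, 2],
  [8, 6, 8, 6, 5, 4, 1, 2, 1, 4, 5, 8, 6],
  [7, 8, 7, 1, 2, 1, 7, 8, 7, 1, 2, 1],
  [8, 5, 8, 1, 8, 1, 2, 5, 1, 2, 8, 1],
  [1, 5, 1, 3, 1, 5, 1, 3],
  [8, 1, 8, 6, 4, 8, 5, 2, 1, 2, 1, 5, 8, 4, 6],
  [5, 1, 4, 5, 3, 5, 1, 4, 5, 3],
  [6, 7, 4, 5, 3, 5, 4, 1, 3, 1, 7, 6, 2, 3, 2],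
  [7, 2, 1, 7, 1, 2, 7, 6, 5, 7, 4, 2, 4, 7, 5, 6],
  [8, 4, 8, 6, 2, 4, 2, 4, 6],
  [2, 1, 2, 6, 3, 1, 3, 1, 2, 1, 2, 3, 1, 3, 6],
  [7, 1, 6, 7, 1, 6, 7, 6, 1, 7, 1, 6],
  [1, 8, 1, 7, 4, 2, 1, 8, 1, 4, 8, 7, 8],
  [7, 1, 2, 1, 7, 8, 7, 1, 2, 1, 7, 8],
  [5, 3, 8, 3, 5, 4, 3, 8, 1, 4, 8, 1, 8, 3],
  [4, 5, 3, 5, 2, 5, 4, 7, 4, 2, 3, 5, 4, 7],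
  [8, 4, 5, 4, 8, 5, 8, 4, 8, 5],
  [5, 8, 5, 7, 1, 2, 4, 2, 1, 5, 8, 5, 4, 7],
  [7, 4, 5, 8, 5, 8, 7, 4, 8, 7, 8, 4],
  [1, 8, 5, 8, 1, 5, 8, 1, 5, 1, 8, 5],
  [4, 2, 4, 7, 1, 8, 4, 8, 1, 4, 7],
  [5, 1, 5, 6, 5, 1, 5, 6],
  [5, 3, 2, 3, 5, 3, 2, 3],
  [7, 6, 2, 3, 2, 3, 6, 7, 5, 3, 5],
  [1, 4, 8, 4, 1, 8, 1, 4, 8, 1, 4, 8],
  [5, 4, 8, 6, 8, 4, 5, 8, 5, 6, 5, 8],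
  [8, 5, 1, 8, 5, 8, 1, 5, 8, 1, 5, 1],
  [8, 1, 2, 5, 1, 2, 8, 1, 8, 5, 8, 1],
  [1, 5, 3, 6, 2, 3, 1, 3, 2, 6, 5, 3, 2, 1, 2],
  [7, 4, 5, 3, 5, 2, 5, 4, 7, 4, 2, 3, 5, 4],
  [4, 7, 4, 2, 3, 5, 4, 7, 4, 5, 3, 5, 2, 5],
  [8, 5, 7, 5, 3, 2, 3, 7, 5, 8, 3, 7, 2, 3],
  [5, 7, 8, 5, 4, 2, 4, 5, 7, 4, 2, 4, 5, 8],
  [7, 1, 7, 1, 7, 5, 1, 7, 1, 5, 7, 1, 7, 1],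
  [4, 8, 7, 8, 1, 8, 1, 7, 4, 2, 1, 8, 1],
  [6, 8, 6, 8, 1, 5, 8, 5, 8, 1, 6, 8, 4],
  [1, 3, 2, 3, 7, 1, 4, 7, 3, 2, 4, 3],
  [2, 3, 1, 3, 2, 1, 8, 3, 1, 3, 8, 1],
  [8, 5, 1, 8, 4, 5, 8, 5, 1, 8, 4, 5],
  [7, 4, 8, 7, 8, 4, 7, 4, 5, 8, 5, 8],
  [2, 1, 3, 2, 3, 1, 2, 1, 3, 2, 3, 1],
  [1, 3, 1, 3, 1, 3, 1, 3],
  [4, 6, 8, 6, 8, 1, 5, 8, 5, 8, 1, 6, 8],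
  [6, 4, 8, 6, 1, 8, 5, 8, 5, 1, 8, 6, 8],
  [7, 6, 2, 3, 2, 6, 7, 1, 3, 1, 4, 5, 3, 5, 4],
  [2, 3, 1, 3, 4, 7, 8, 1, 8, 7, 2, 1, 7, 1],
  [5, 6, 5, 1, 5, 6, 5, 1],
  [2, 4, 6, 8, 4, 8, 6, 2, 4],
  [7, 1, 8, 1, 7, 8, 7, 1, 8, 1, 7, 8],
  [7, 3, 5, 2, 4, 3, 1, 3, 1, 2, 5, 3, 7, 4, 5, 4],
  [2, 6, 5, 6, 2, 1, 2, 6, 5, 6, 2, 1],
  [7, 3, 2, 3, 1, 3, 4, 2, 3, 7, 4, 1],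
  [2, 3, 8, 4, 8, 4, 3, 2, 3, 4, 8, 4, 8, 3],
  [5, 8, 5, 7, 8, 7, 5, 8, 5, 7, 8, 7],
  [7, 4, 5, 3, 2, 4, 7, 4, 5, 2, 5, 3, 5, 4],
  [6, 2, 1, 2, 6, 8, 6, 2, 1, 2, 6, 8],
  [6, 7, 5, 3, 5, 7, 6, 2, 3, 2, 3],
  [5, 8, 1, 5, 1, 8, 5, 1, 8, 5, 8, 1],
  [8, 4, 3, 5, 8, 1, 8, 3, 1, 8, 5, 4],
  [7, 4, 2, 4, 7, 1, 8, 4, 8, 1, 4],
  [7, 5, 3, 5, 7, 6, 2, 3, 2, 3, 6],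
  [3, 2, 6, 7, 1, 3, 1, 4, 5, 3, 5, 4, 7, 6, 2],
  [3, 2, 4, 2, 3, 2, 6, 2, 3, 2, 4, 2, 3, 2, 6, 2],
  [2, 1, 4, 2, 6, 7, 6, 2, 4, 1, 2, 6, 7, 6],
  [2, 4, 2, 4, 6, 8, 4, 8, 6],
  [5, 4, 2, 4, 5, 6, 5, 4, 2, 4, 5, 6],
  [8, 7, 8, 4, 7, 4, 5, 8, 5, 8, 7, 4],
  [5, 1, 6, 8, 5, 1, 5, 8, 6, 5, 2, 1, 2],
  [5, 8, 5, 4, 7, 4, 8, 7, 8, 4, 7, 8],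
  [3, 1, 2, 1, 3, 2, 3, 1, 2, 1, 3, 2],
  [7, 5, 1, 5, 7, 4, 1, 7, 5, 4, 7, 1, 7, 5, 4],
  [3, 1, 8, 3, 2, 8, 1, 2, 5, 3, 5, 8],
  [5, 6, 2, 1, 2, 6, 5, 6, 2, 1, 2, 6],
  [8, 5, 4, 8, 6, 8, 4, 5, 8, 5, 6, 5],
  [7, 5, 1, 7, 5, 1, 7, 5, 1, 7, 1, 7, 5, 1, 5],
  [5, 6, 8, 5, 1, 5, 8, 6, 1, 5, 2, 1, 2],
  [7, 4, 5, 7, 1, 7, 4, 5, 7, 1, 4, 7, 5, 1, 5],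
  [1, 7, 1, 5, 1, 7, 1, 5],
  [6, 2, 1, 2, 6, 5, 6, 2, 1, 2, 6, 5],
  [1, 4, 7, 4, 2, 4, 7, 1, 8, 4, 8],
  [4, 8, 1, 4, 7, 4, 2, 4, 7, 1, 8],
  [5, 4, 8, 7, 3, 1, 7, 1, 3, 7, 5, 8],
  [4, 5, 1, 4, 5, 4, 1, 5, 1],
  [5, 3, 5, 3, 5, 3, 5, 3],
  [5, 3, 5, 2, 1, 2, 3, 1, 2, 3, 1, 3, 2, 1],
  [1, 8, 1, 5, 8, 5, 1, 8, 1, 5, 8, 5],
  [7, 3, 1, 3, 8, 3, 1, 3, 7, 5, 1, 8, 1, 5],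
  [1, 8, 4, 8, 1, 4, 7, 4, 2, 4, 7],
  [7, 5, 1, 4, 5, 7, 5, 4, 1, 5, 7, 5, 1, 4, 5],
  [8, 5, 8, 5, 4, 7, 4, 8, 7, 8, 4, 7],
  [5, 8, 4, 5, 4, 8, 5, 8, 4, 8],
  [4, 1, 2, 1, 4, 2, 1, 4, 2, 4, 1, 2],
  [7, 1, 4, 7, 3, 2, 4, 3, 1, 3, 2, 3],
  [1, 8, 2, 4, 8, 2, 1, 2, 8, 4, 2, 8],
  [5, 3, 1, 3, 5, 3, 5, 1, 5, 3],
  [6, 8, 4, 5, 8, 5, 6, 5, 8, 5, 4, 8],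
  [5, 8, 1, 8, 3, 1, 8, 5, 4, 8, 4, 3],
  [4, 2, 3, 2, 4, 2, 3, 2, 4, 2, 3, 2, 4, 2, 3, 2],
  [4, 2, 7, 4, 8, 2, 3, 1, 7, 1, 3, 2, 8],
  [7, 4, 8, 4, 7, 8, 7, 4, 8, 4, 7, 8],
  [7, 4, 8, 2, 3, 1, 7, 1, 3, 2, 8, 4, 2],
  [8, 1, 5, 1, 8, 7, 8, 1, 5, 1, 8, 7],
  [5, 3, 8, 5, 8, 3, 5, 2, 3, 8, 5, 8, 3, 2],
  [8, 1, 8, 1, 2, 5, 1, 2, 8, 1, 8, 5],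
  [4, 8, 7, 8, 4, 7, 4, 5, 8, 5, 8, 7],
  [1, 7, 4, 2, 4, 7, 4, 1, 8, 4, 8],
  [7, 4, 2, 8, 1, 7, 8, 7, 4, 8, 2, 1, 7, 8],
  [2, 3, 7, 1, 4, 8, 3, 2, 7, 3, 8, 4, 1, 3],
  [1, 2, 6, 8, 6, 2, 1, 2, 6, 8, 6, 2],
  [5, 8, 4, 2, 4, 5, 4, 2, 4, 2, 8],
  [1, 2, 3, 2, 1, 3, 1, 2, 3, 2, 1, 3],
  [4, 1, 8, 4, 8, 1, 7, 4, 2, 4, 7],
  [8, 7, 8, 7, 2, 1, 4, 2, 7, 8, 7, 8, 4, 1],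
  [7, 4, 2, 3, 5, 4, 7, 4, 5, 3, 5, 2, 5, 4],
  [8, 6, 8, 5, 4, 1, 2, 1, 4, 5, 6, 8, 6],
  [7, 1, 7, 3, 1, 8, 4, 5, 8, 1, 7, 3, 1, 5],
  [1, 4, 2, 4, 1, 8, 4, 1, 2, 1, 4, 8],
  [4, 8, 6, 4, 2, 4, 2, 6, 8],
  [7, 8, 4, 7, 8, 5, 8, 5, 4, 7, 4, 8],
  [2, 7, 3, 8, 5, 7, 3, 2, 3, 5, 7, 5, 8, 3],
  [7, 5, 8, 3, 2, 7, 3, 8, 5, 7, 3, 2, 3, 5],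
  [8, 6, 2, 1, 2, 6, 8, 6, 2, 1, 2, 6],
  [6, 2, 4, 2, 4, 6, 8, 4, 8],
  [2, 3, 4, 8, 1, 8, 4, 5, 3, 5, 2, 3, 1, 3],
  [3, 1, 3, 5, 3, 5, 1, 5, 3, 5],
  [7, 4, 2, 1, 8, 1, 4, 8, 7, 8, 1, 8, 1],
  [8, 5, 8, 1, 8, 2, 1, 5, 2, 1, 8, 1],
  [2, 3, 5, 7, 5, 8, 3, 2, 7, 3, 8, 5, 7, 3],
  [7, 1, 2, 5, 1, 7, 4, 5, 8, 4, 1, 8, 5, 4],
  [8, 5, 8, 4, 2, 4, 5, 4, 2, 4, 2],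
  [2, 3, 8, 1, 3, 8, 5, 3, 5, 2, 1, 8],
  [4, 5, 3, 5, 1, 4, 5, 3, 5, 1],
  [8, 3, 1, 8, 5, 4, 8, 4, 3, 5, 8, 1],
  [4, 8, 4, 2, 4, 8, 4, 2],
  [7, 3, 8, 2, 3, 2, 8, 3, 7, 8],
  [2, 7, 4, 8, 2, 3, 1, 7, 1, 3, 2, 8, 4],
  [4, 2, 8, 1, 8, 2, 4, 8, 2, 1, 2, 8],
  [5, 4, 1, 2, 1, 4, 5, 8, 6, 8, 6, 8, 6],
  [2, 6, 8, 6, 2, 1, 2, 6, 8, 6, 2, 1],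
  [3, 2, 6, 8, 3, 1, 3, 8, 3, 1, 3, 6, 2, 3, 1],
  [7, 1, 2, 7, 6, 5, 7, 4, 2, 4, 7, 5, 6, 7, 2, 1],
  [1, 2, 7, 6, 5, 7, 4, 2, 4, 7, 5, 6, 7, 2, 1, 7],
  [1, 8, 7, 2, 1, 7, 1, 2, 3, 1, 3, 4, 7, 8],
  [1, 2, 1, 7, 4, 6, 2, 1, 3, 4, 1, 3, 2, 6, 4, 7],
  [6, 5, 3, 6, 2, 3, 2, 6, 5, 6, 2, 3, 2, 3],
  [7, 8, 1, 8, 7, 2, 1, 7, 1, 2, 3, 1, 3, 4],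
  [6, 8, 2, 6, 8, 2, 6, 2, 8, 6, 2, 8],
  [5, 8, 3, 1, 8, 3, 2, 8, 1, 2, 5, 3],
  [7, 2, 3, 8, 5, 7, 5, 3, 2, 3, 7, 5, 8, 3],
  [4, 5, 4, 1, 5, 1, 4, 5, 1],
  [8, 4, 8, 6, 4, 2, 4, 2, 6],
  [7, 1, 7, 1, 2, 1, 2, 3, 1, 3, 4, 2, 1, 7, 2, 1],
  [5, 1, 5, 7, 4, 5, 7, 1, 7, 4, 5, 7, 1, 4, 7],
  [7, 1, 3, 8, 3, 1, 7, 5, 8, 1, 3, 1, 8, 5],
  [6, 8, 3, 1, 3, 8, 3, 1, 3, 6, 2, 3, 1, 3, 2],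
  [8, 2, 1, 2, 8, 6, 2, 8, 1, 8, 2, 6],
  [2, 4, 2, 8, 3, 4, 5, 4, 3, 8, 2, 4, 3, 5, 3],
  [1, 7, 2, 1, 7, 8, 4, 1, 3, 1, 3, 8, 7],
  [3, 2, 1, 8, 3, 1, 3, 8, 1, 2, 3, 1],
  [1, 4, 8, 3, 2, 7, 3, 8, 4, 1, 3, 2, 3, 7],
  [8, 4, 7, 4, 5, 8, 5, 8, 7, 4, 8, 7],
  [6, 8, 2, 1, 2, 8, 6, 2, 8, 1, 8, 2],
  [8, 6, 8, 1, 5, 8, 5, 8, 1, 6, 8, 4, 6],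
  [8, 6, 8, 1, 8, 6, 8, 6, 8, 1, 8, 6],
  [1, 3, 5, 3, 5, 1, 5, 3, 5, 3],
  [6, 2, 1, 3, 4, 1, 3, 2, 6, 4, 7, 1, 2, 1, 7, 4],
  [8, 1, 8, 2, 6, 8, 2, 1, 2, 8, 6, 2],
  [6, 1, 7, 1, 6, 7, 1, 6, 7, 1, 6, 7],
  [7, 3, 1, 5, 7, 1, 7, 3, 1, 8, 4, 5, 8, 1],
  [7, 3, 2, 4, 3, 1, 3, 2, 3, 7, 1, 4],
  [2, 4, 5, 7, 4, 2, 4, 5, 8, 5, 7, 8, 5, 4],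
  [4, 8, 5, 4, 7, 1, 5, 2, 1, 7, 4, 5, 8, 1],
  [6, 8, 6, 8, 1, 8, 6, 8, 6, 8, 1, 8],
  [7, 4, 1, 8, 1, 4, 7, 5, 1, 7, 8, 7, 1, 5],
  [3, 1, 3, 8, 1, 2, 3, 1, 3, 2, 1, 8],
  [8, 7, 1, 7, 2, 1, 7, 8, 4, 1, 3, 1, 3],
  [6, 2, 8, 6, 8, 2, 6, 8, 2, 6, 2, 8],
  [4, 8, 3, 1, 7, 1, 3, 1, 2, 4, 2, 1, 8, 7],
  [7, 4, 1, 7, 1, 7, 4, 7, 1, 7, 1, 4],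
  [6, 2, 1, 2, 6, 3, 1, 3, 1, 2, 1, 2, 3, 1, 3],
  [5, 4, 8, 4, 3, 5, 8, 1, 8, 3, 1, 8],
  [7, 8, 7, 4, 8, 4, 7, 8, 7, 4, 8, 4],
  [3, 5, 3, 1, 3, 5, 3, 5, 1, 5],
  [6, 2, 8, 1, 8, 2, 6, 8, 2, 1, 2, 8],
  [3, 5, 2, 3, 1, 3, 2, 3, 5, 8, 5, 1, 5, 8],
  [3, 1, 3, 2, 1, 8, 3, 1, 3, 8, 1, 2],
  [4, 2, 1, 4, 2, 4, 1, 2, 4, 1, 2, 1],
  [5, 1, 2, 8, 1, 8, 5, 8, 1, 8, 1, 2],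
  [2, 4, 1, 2, 1, 4, 2, 1, 4, 2, 4, 1],
  [7, 1, 6, 7, 1, 6, 7, 1, 6, 7, 6, 1],
  [7, 1, 3, 8, 2, 1, 3, 1, 8, 2, 3, 1, 7, 8],
  [1, 7, 1, 4, 7, 4, 1, 7, 1, 7, 4, 7],
  [5, 6, 5, 8, 5, 4, 8, 6, 8, 4, 5, 8],
  [1, 3, 8, 6, 2, 3, 1, 3, 2, 6, 3, 1, 3, 8, 3],
  [5, 7, 6, 2, 3, 2, 3, 6, 7, 5, 3],
  [5, 8, 5, 4, 8, 6, 8, 4, 5, 8, 5, 6],
  [8, 4, 5, 8, 5, 7, 3, 1, 7, 1, 3, 7],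
  [7, 8, 7, 5, 8, 5, 7, 8, 7, 5, 8, 5],
  [1, 8, 5, 4, 8, 4, 3, 5, 8, 1, 8, 3],
  [4, 8, 1, 4, 2, 4, 1, 8, 4, 1, 2, 1],
  [1, 7, 4, 7, 1, 7, 1, 4, 7, 4, 1, 7],
  [5, 8, 1, 3, 1, 8, 5, 7, 1, 3, 8, 3, 1, 7],
  [8, 4, 6, 8, 6, 8, 1, 5, 8, 5, 8, 1, 6],
  [4, 1, 5, 4, 1, 5, 1, 4, 5],
  [1, 4, 7, 4, 1, 7, 1, 7, 4, 7, 1, 7],
  [8, 7, 1, 8, 2, 4, 7, 8, 7, 1, 2, 8, 4, 7],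
  [1, 7, 1, 2, 7, 8, 1, 8, 7, 4, 3, 1, 3, 2],
  [1, 7, 1, 2, 3, 1, 3, 4, 7, 8, 1, 8, 7, 2],
  [6, 4, 2, 4, 2, 6, 8, 4, 8],
  [8, 1, 8, 6, 8, 6, 8, 1, 8, 6, 8, 6],
  [8, 1, 4, 2, 4, 1, 8, 4, 1, 2, 1, 4],
  [2, 3, 7, 4, 1, 7, 3, 2, 3, 1, 3, 4],
  [8, 2, 4, 2, 4, 5, 4, 2, 4, 8, 5],
  [8, 5, 4, 8, 1, 5, 8, 5, 4, 8, 1, 5],
  [7, 5, 4, 8, 4, 8, 5, 7, 5, 4, 8, 4, 8, 5],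
  [5, 1, 8, 4, 5, 8, 5, 1, 8, 4, 5, 8],
  [8, 4, 8, 4, 3, 2, 3, 4, 8, 4, 8, 3, 2, 3],
  [7, 1, 3, 1, 7, 2, 4, 1, 2, 3, 2, 1, 4, 2],
  [1, 7, 1, 2, 1, 2, 3, 1, 3, 4, 2, 1, 7, 2, 1, 7],
  [7, 1, 7, 2, 1, 7, 8, 4, 1, 3, 1, 3, 8],
  [2, 8, 1, 2, 5, 3, 5, 8, 3, 1, 8, 3],
  [6, 7, 1, 6, 7, 1, 6, 7, 6, 1, 7, 1],
  [8, 1, 4, 8, 7, 8, 7, 2, 4, 1, 2, 7, 8, 7],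
  [1, 8, 1, 2, 1, 8, 1, 2],
  [7, 6, 1, 2, 4, 2, 1, 6, 7, 4, 2, 4],
  [1, 3, 7, 8, 4, 5, 8, 5, 7, 3, 1, 7],
  [1, 8, 2, 6, 8, 2, 1, 2, 8, 6, 2, 8],
  [8, 5, 3, 4, 8, 4, 5, 8, 1, 3, 8, 1],
  [7, 1, 7, 5, 1, 7, 8, 1, 8, 5, 3, 1, 3, 4],
  [8, 4, 8, 3, 2, 3, 8, 4, 8, 4, 3, 2, 3, 4],
  [1, 2, 6, 3, 1, 3, 1, 2, 1, 2, 3, 1, 3, 6, 2],
  [1, 3, 2, 6, 5, 6, 2, 4, 2, 6, 5, 6, 2, 4, 3],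
  [2, 3, 6, 7, 5, 3, 5, 7, 6, 2, 3],
  [8, 5, 6, 8, 5, 2, 1, 2, 5, 4, 6, 8, 6, 5, 1],
  [6, 8, 6, 8, 6, 8, 5, 4, 1, 2, 1, 4, 5],
  [3, 8, 4, 1, 7, 3, 2, 3, 1, 4, 8, 3, 7, 2],
  [1, 8, 6, 3, 1, 3, 8, 1, 8, 1, 3, 1, 3, 6, 8],
  [2, 6, 7, 5, 3, 5, 7, 6, 3, 2, 3],
  [1, 5, 6, 8, 6, 4, 5, 2, 1, 2, 5, 8, 6, 5, 8],
  [5, 6, 2, 4, 2, 6, 5, 7, 5, 6, 2, 4, 2, 6, 5, 7],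
  [6, 7, 6, 5, 6, 7, 6, 5, 6, 7, 6, 5],
  [2, 8, 4, 2, 8, 1, 8, 2, 4, 8, 2, 1],
  [7, 8, 7, 1, 8, 1, 7, 8, 7, 1, 8, 1],
  [7, 8, 7, 3, 8, 2, 3, 2, 8, 3],
  [7, 1, 5, 3, 1, 7, 2, 1, 4, 2, 3, 2, 4, 5, 1, 2],
  [1, 8, 5, 8, 1, 8, 2, 1, 5, 2, 1, 8],
  [4, 8, 5, 8, 2, 4, 2, 4, 5, 4, 2],
  [4, 5, 3, 2, 4, 7, 4, 5, 2, 5, 3, 5, 4, 7],
  [3, 1, 4, 7, 1, 3, 1, 4, 7, 4, 1, 3, 1, 7, 3, 1],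
  [8, 1, 8, 5, 8, 1, 8, 2, 1, 5, 2, 1],
  [3, 1, 8, 2, 3, 1, 7, 8, 7, 1, 3, 8, 2, 1],
  [6, 8, 4, 8, 6, 2, 4, 2, 4],
  [1, 8, 3, 2, 8, 1, 2, 5, 3, 5, 8, 3],
  [8, 2, 3, 2, 8, 3, 7, 8, 7, 3],
  [2, 6, 7, 1, 3, 1, 4, 5, 3, 5, 4, 7, 6, 2, 3],
  [4, 5, 8, 1, 3, 8, 1, 8, 5, 3, 4, 8],
  [7, 4, 8, 7, 8, 4, 7, 8, 5, 8, 5, 4],
  [8, 1, 4, 8, 1, 5, 7, 4, 8, 4, 7, 5, 8, 4],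
  [4, 8, 4, 7, 5, 8, 4, 8, 1, 4, 8, 1, 5, 7],
  [3, 7, 8, 7, 3, 8, 2, 3, 2, 8],
  [1, 2, 7, 1, 7, 8, 3, 1, 3, 1, 4, 8, 7],
  [2, 3, 1, 3, 4, 2, 3, 7, 4, 1, 7, 3],
  [7, 5, 3, 5, 8, 3, 5, 3, 5, 7, 4, 8, 3, 4],
  [8, 1, 8, 2, 4, 8, 2, 1, 2, 8, 4, 2],
  [8, 3, 7, 8, 7, 3, 8, 2, 3, 2],
  [1, 2, 4, 2, 6, 1, 8, 6, 4, 5, 8, 5, 6, 8],
  [4, 7, 8, 7, 4, 8, 4, 7, 8, 7, 4, 8],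
  [4, 7, 4, 1, 7, 1, 7, 4, 7, 1, 7, 1],
  [8, 5, 7, 4, 5, 8, 5, 1, 2, 4, 2, 1, 7, 5],
  [7, 4, 3, 8, 4, 7, 5, 3, 5, 3, 8, 5, 3, 5],
  [2, 8, 1, 8, 2, 6, 8, 2, 1, 2, 8, 6],
  [1, 3, 2, 8, 4, 2, 7, 4, 8, 2, 3, 1, 7],
  [3, 8, 5, 1, 5, 8, 5, 3, 2, 3, 1, 3, 2, 5],
  [1, 4, 8, 1, 4, 2, 4, 1, 8, 4, 1, 2],
  [4, 8, 7, 3, 1, 7, 1, 3, 7, 5, 8, 5],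
  [1, 3, 7, 5, 8, 5, 4, 8, 7, 3, 1, 7],
  [8, 1, 8, 3, 1, 2, 1, 3, 8, 1, 8, 3, 2, 3],
  [3, 8, 2, 1, 2, 8, 3, 5, 8, 5, 4, 8, 4, 1],
  [2, 5, 1, 2, 8, 1, 8, 5, 8, 1, 8, 1],
  [2, 4, 1, 8, 4, 1, 2, 1, 4, 8, 1, 4],
  [8, 6, 2, 8, 1, 8, 2, 6, 8, 2, 1, 2],
  [2, 6, 8, 2, 1, 2, 8, 6, 2, 8, 1, 8],
  [2, 8, 5, 8, 4, 2, 4, 5, 4, 2, 4],
  [5, 3, 5, 1, 4, 5, 3, 5, 1, 4],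
  [8, 5, 8, 2, 4, 2, 4, 5, 4, 2, 4],
  [7, 8, 7, 1, 3, 2, 8, 1, 3, 1, 2, 8, 3, 1],
  [8, 7, 4, 8, 4, 7, 8, 7, 4, 8, 4, 7],
  [7, 8, 4, 1, 8, 1, 2, 4, 7, 1, 8, 1, 8],
  [7, 8, 7, 8, 1, 4, 8, 7, 8, 7, 2, 4, 1, 2],
  [5, 1, 8, 1, 5, 8, 5, 1, 8, 1, 5, 8],
  [3, 2, 7, 3, 8, 4, 1, 3, 2, 3, 7, 1, 4, 8],
  [1, 2, 3, 1, 3, 2, 1, 8, 3, 1, 3, 8],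
  [8, 4, 8, 1, 7, 4, 2, 4, 7, 4, 1],
  [3, 1, 5, 1, 3, 4, 2, 4, 5, 1, 5, 4, 2, 4, 1, 5],
  [8, 7, 4, 2, 8, 1, 7, 8, 7, 4, 8, 2, 1, 7],
  [7, 8, 7, 4, 5, 2, 5, 4, 7, 8, 7, 4, 2, 4],
  [7, 1, 8, 5, 4, 8, 1, 3, 7, 1, 7, 5, 1, 3],
  [5, 3, 2, 4, 2, 3, 5, 1, 5, 1, 7, 4, 5, 1, 7],
  [8, 3, 2, 7, 3, 8, 4, 1, 3, 2, 3, 7, 1, 4],
  [5, 8, 5, 6, 5, 8, 5, 4, 8, 6, 8, 4],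
  [8, 7, 4, 2, 4, 7, 8, 7, 4, 5, 2, 5, 4, 7],
  [6, 5, 6, 7, 6, 5, 6, 7, 6, 5, 6, 7],
  [3, 1, 3, 7, 1, 3, 1, 4, 7, 4, 1, 3, 1, 7, 4, 1],
  [4, 5, 4, 7, 3, 5, 2, 4, 3, 1, 3, 1, 2, 5, 3, 7],
  [2, 5, 8, 7, 8, 5, 8, 7, 8, 5, 8, 7, 8],
  [1, 3, 8, 3, 1, 3, 6, 2, 3, 1, 3, 2, 6, 8, 3],
  [5, 8, 7, 4, 8, 7, 8, 4, 7, 4, 5, 8],
  [5, 8, 4, 5, 8, 4, 3, 1, 2, 1, 2, 5, 3, 4],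
  [4, 2, 6, 8, 4, 8, 6, 4, 2],
  [8, 7, 1, 3, 2, 8, 1, 3, 1, 2, 8, 3, 1, 7],
  [7, 3, 1, 7, 1, 3, 7, 8, 4, 5, 8, 5],
  [2, 3, 2, 3, 6, 7, 5, 3, 5, 7, 6],
  [5, 3, 5, 2, 4, 1, 2, 5, 3, 5, 7, 1, 4, 7],
  [4, 7, 5, 3, 5, 2, 4, 1, 2, 5, 3, 5, 7, 1],
  [8, 5, 7, 1, 2, 4, 2, 1, 5, 8, 5, 4, 7, 5],
  [8, 5, 1, 8, 1, 5, 8, 5, 1, 8, 1, 5],
  [8, 3, 2, 8, 1, 2, 5, 3, 5, 8, 3, 1],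
  [8, 7, 1, 3, 8, 2, 1, 3, 1, 8, 2, 3, 1, 7],
  [2, 8, 6, 2, 8, 6, 8, 2, 6, 8, 2, 6],
  [8, 1, 2, 4, 2, 6, 1, 8, 6, 4, 5, 8, 5, 6],
  [2, 1, 2, 8, 6, 2, 8, 1, 8, 2, 6, 8],
  [4, 1, 2, 1, 4, 8, 1, 4, 2, 4, 1, 8],
  [8, 7, 1, 2, 8, 4, 7, 8, 7, 1, 8, 2, 4, 7],
  [4, 1, 5, 1, 4, 5, 4, 1, 5],
  [5, 2, 8, 7, 8, 5, 8, 7, 8, 5, 8, 7, 8],
  [1, 3, 6, 2, 3, 1, 3, 2, 6, 8, 3, 1, 3, 8, 3],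
  [3, 1, 3, 5, 2, 6, 3, 2, 1, 2, 6, 5, 1, 3, 2],
  [4, 7, 3, 5, 2, 4, 3, 1, 3, 1, 2, 5, 3, 7, 4, 5],
  [2, 1, 7, 4, 6, 2, 1, 3, 4, 1, 3, 2, 6, 4, 7, 1],
  [5, 1, 7, 5, 3, 2, 4, 2, 3, 5, 1, 5, 1, 7, 4],
  [2, 1, 5, 7, 5, 1, 2, 1, 7, 1, 2, 1, 2, 5, 7, 1],
  [4, 7, 4, 5, 8, 5, 8, 7, 4, 8, 7, 8],
  [4, 2, 1, 2, 6, 8, 6, 5, 1, 8, 1, 5, 6, 1, 8],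
  [8, 1, 3, 1, 2, 8, 3, 1, 7, 8, 7, 1, 3, 2],
  [2, 1, 3, 1, 8, 2, 3, 1, 7, 8, 7, 1, 3, 8],
  [6, 4, 7, 1, 2, 1, 7, 4, 6, 2, 1, 3, 4, 1, 3, 2],
  [7, 1, 3, 2, 8, 1, 3, 1, 2, 8, 3, 1, 7, 8],
  [8, 3, 1, 7, 8, 7, 1, 3, 2, 8, 1, 3, 1, 2],
  [2, 6, 2, 3, 2, 4, 2, 3, 2, 6, 2, 3, 2, 4, 2, 3],
  [8, 6, 4, 5, 8, 5, 6, 8, 1, 2, 4, 2, 6, 1],
  [1, 3, 2, 1, 3, 2, 1, 2, 5, 3, 5, 1, 2, 3],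
  [2, 6, 8, 2, 6, 2, 8, 6, 2, 8, 6, 8],
  [7, 8, 3, 1, 3, 4, 8, 7, 8, 3, 1, 3, 4, 8],
  [1, 3, 6, 2, 1, 2, 6, 3, 1, 3, 1, 2, 1, 2, 3],
  [3, 8, 2, 3, 2, 8, 3, 7, 8, 7],
  [8, 3, 1, 3, 8, 3, 1, 3, 6, 2, 3, 1, 3, 2, 6],
  [1, 3, 2, 1, 5, 3, 5, 2, 1, 2, 3, 1, 2, 3],
  [1, 3, 1, 7, 2, 4, 1, 2, 3, 2, 1, 4, 2, 7],
  [5, 7, 4, 5, 8, 5, 1, 2, 4, 2, 1, 7, 5, 8],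
  [2, 4, 5, 4, 2, 4, 2, 8, 5, 8, 4],
  [3, 2, 1, 7, 1, 2, 7, 8, 1, 8, 7, 4, 3, 1],
  [8, 2, 4, 8, 2, 1, 2, 8, 4, 2, 8, 1],
  [2, 5, 7, 1, 2, 7, 5, 3, 5, 7, 2, 1, 7, 5, 2, 3],
  [8, 5, 1, 5, 8, 5, 3, 2, 3, 1, 3, 2, 5, 3],
  [4, 8, 3, 4, 7, 5, 3, 5, 8, 3, 5, 3, 5, 7],
  [1, 8, 4, 8, 5, 7, 4, 8, 4, 7, 5, 1, 8, 4],
  [7, 8, 7, 8, 5, 1, 7, 8, 4, 8, 4, 7, 1, 5],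
  [8, 7, 8, 5, 1, 7, 8, 4, 8, 4, 7, 1, 5, 7],
  [1, 7, 1, 3, 7, 5, 8, 5, 4, 8, 7, 3],
  [4, 2, 3, 5, 4, 7, 4, 5, 3, 5, 2, 5, 4, 7],
  [5, 4, 7, 4, 8, 7, 8, 4, 7, 8, 5, 8],
  [7, 4, 3, 1, 3, 5, 8, 1, 8, 7, 1, 5, 7, 1],
  [2, 4, 7, 5, 4, 1, 7, 1, 2, 1, 7, 1, 4, 5, 7, 4],
  [5, 4, 7, 3, 5, 2, 4, 3, 1, 3, 1, 2, 5, 3, 7, 4],
  [7, 8, 5, 1, 7, 8, 4, 8, 4, 7, 1, 5, 7, 8],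
  [7, 3, 8, 4, 1, 3, 2, 3, 7, 1, 4, 8, 3, 2],
  [5, 2, 1, 8, 1, 8, 5, 8, 1, 8, 2, 1],
  [1, 3, 8, 5, 3, 5, 2, 1, 8, 2, 3, 8],
  [2, 1, 7, 8, 7, 1, 2, 1, 7, 8, 7, 1],
  [8, 7, 1, 8, 1, 7, 8, 7, 1, 8, 1, 7],
  [5, 4, 1, 5, 7, 5, 1, 4, 5, 7, 5, 1, 4, 5, 7],
  [4, 1, 7, 2, 1, 2, 3, 2, 1, 4, 2, 3, 2, 1, 2, 7],
  [4, 6, 8, 4, 8, 6, 2, 4, 2],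
  [6, 5, 2, 1, 2, 5, 1, 6, 8, 5, 1, 5, 8],
  [3, 5, 3, 5, 1, 5, 3, 5, 3, 1],
  [5, 2, 4, 1, 3, 1, 7, 4, 5, 3, 1, 4, 7, 2, 1, 7],
  [8, 1, 5, 7, 4, 8, 4, 7, 5, 8, 4, 8, 1, 4],
  [1, 7, 5, 1, 7, 8, 1, 8, 5, 3, 1, 3, 4, 7],
  [4, 7, 8, 1, 2, 4, 2, 1, 3, 1, 7, 1, 3, 8],
  [4, 8, 4, 7, 8, 7, 4, 8, 4, 7, 8, 7],
  [8, 4, 1, 8, 1, 2, 4, 7, 1, 8, 1, 8, 7],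
  [3, 8, 4, 8, 4, 3, 2, 3, 4, 8, 4, 8, 3, 2],
  [8, 4, 7, 8, 7, 4, 8, 4, 7, 8, 7, 4],
  [3, 5, 8, 3, 1, 8, 3, 2, 8, 1, 2, 5],
  [8, 4, 7, 8, 5, 8, 5, 4, 7, 4, 8, 7],
  [8, 3, 4, 7, 5, 3, 5, 8, 3, 5, 3, 5, 7, 4],
  [8, 6, 4, 8, 6, 1, 8, 5, 8, 5, 1, 8, 6],
  [8, 4, 8, 7, 8, 4, 8, 7, 1, 2, 4, 2, 1, 7],
  [1, 8, 2, 1, 5, 2, 1, 8, 1, 8, 5, 8],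
  [4, 5, 4, 2, 4, 8, 5, 8, 2, 4, 2],
  [3, 7, 5, 8, 5, 4, 8, 7, 3, 1, 7, 1],
  [7, 4, 5, 3, 5, 4, 1, 3, 1, 7, 6, 2, 3, 2, 6],
  [7, 8, 5, 8, 7, 8, 2, 5, 8, 7, 8, 5, 8],
  [4, 5, 8, 5, 8, 7, 4, 8, 7, 8, 4, 7],
  [7, 2, 4, 1, 2, 3, 2, 1, 4, 2, 7, 1, 3, 1],
  [3, 6, 7, 5, 3, 5, 7, 6, 2, 3, 2],
  [7, 8, 7, 2, 4, 1, 2, 7, 8, 7, 8, 1, 4, 8],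
  [5, 8, 5, 1, 8, 1, 5, 8, 5, 1, 8, 1],
  [8, 7, 1, 2, 1, 7, 8, 7, 1, 2, 1, 7],
  [8, 4, 2, 8, 1, 8, 2, 4, 8, 2, 1, 2],
  [7, 1, 4, 7, 5, 3, 5, 2, 4, 1, 2, 5, 3, 5],
  [6, 5, 7, 4, 2, 4, 7, 5, 6, 7, 2, 1, 7, 1, 2, 7],
  [2, 1, 7, 1, 2, 1, 2, 5, 7, 1, 2, 1, 5, 7, 5, 1],
  [7, 1, 2, 7, 4, 1, 3, 5, 4, 7, 1, 3, 1, 4, 2, 5],
  [1, 5, 7, 1, 7, 4, 3, 1, 3, 5, 8, 1, 8, 7],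
  [4, 7, 2, 4, 8, 2, 3, 1, 7, 1, 3, 2, 8],
  [8, 4, 3, 2, 3, 1, 3, 2, 5, 3, 5, 4, 8, 1],
  [5, 6, 2, 4, 3, 1, 3, 2, 6, 5, 6, 2, 4, 2, 6],
  [5, 7, 3, 2, 3, 5, 7, 5, 8, 3, 2, 7, 3, 8],
  [2, 4, 1, 2, 6, 7, 6, 2, 1, 4, 2, 6, 7, 6],
  [1, 4, 5, 3, 8, 1, 3, 1, 8, 3, 5, 1, 4, 8],
  [1, 4, 5, 4, 1, 5, 1, 4, 5],
  [4, 8, 1, 7, 4, 2, 4, 7, 4, 1, 8],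
  [2, 5, 3, 8, 5, 8, 3, 5, 2, 3, 8, 5, 8, 3],
  [5, 1, 4, 5, 1, 4, 5, 4, 1],
  [8, 7, 4, 8, 3, 1, 7, 1, 3, 1, 2, 4, 2, 1],
  [8, 5, 6, 5, 8, 1, 8, 5, 6, 5, 8, 1],
  [7, 8, 4, 1, 3, 1, 3, 8, 7, 1, 7, 2, 1],
  [7, 5, 8, 4, 8, 1, 4, 8, 1, 5, 7, 4, 8, 4],
  [7, 5, 3, 2, 3, 7, 5, 8, 3, 7, 2, 3, 8, 5],
  [8, 3, 7, 2, 3, 8, 5, 7, 5, 3, 2, 3, 7, 5],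
  [7, 4, 8, 4, 7, 5, 1, 8, 4, 1, 8, 4, 8, 5],
  [8, 5, 8, 7, 8, 5, 8, 7, 8, 2, 5, 8, 7],
  [7, 6, 1, 7, 1, 6, 7, 1, 6, 7, 1, 6],
  [1, 7, 4, 3, 1, 3, 5, 8, 1, 8, 7, 1, 5, 7],
  [4, 2, 4, 5, 8, 5, 7, 8, 5, 4, 2, 4, 5, 7],
  [8, 1, 5, 8, 5, 4, 8, 1, 5, 8, 5, 4],
  [4, 2, 4, 7, 4, 1, 8, 4, 8, 1, 7],
  [3, 2, 7, 3, 8, 5, 7, 3, 2, 3, 5, 7, 5, 8],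
  [3, 2, 1, 3, 1, 2, 3, 2, 1, 3, 1, 2],
  [1, 2, 5, 1, 2, 8, 1, 8, 5, 8, 1, 8],
  [4, 7, 5, 3, 5, 3, 8, 5, 3, 5, 7, 4, 3, 8],
  [2, 3, 5, 4, 7, 4, 5, 3, 5, 2, 5, 4, 7, 4],
  [5, 2, 5, 3, 5, 4, 7, 4, 5, 3, 2, 4, 7, 4],
  [8, 7, 8, 5, 8, 7, 8, 5, 8, 7, 8, 2, 5],
  [5, 2, 1, 2, 5, 1, 6, 8, 5, 1, 5, 8, 6],
  [6, 8, 1, 8, 6, 4, 8, 5, 1, 2, 1, 2, 5, 8, 4],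
  [3, 8, 1, 3, 8, 5, 3, 5, 2, 1, 8, 2],
  [7, 1, 4, 7, 5, 1, 5, 7, 4, 5, 7, 1, 7, 4, 5],
  [1, 7, 1, 7, 1, 7, 1, 7, 5, 1, 7, 1, 5, 7],
  [6, 3, 1, 3, 8, 1, 8, 1, 3, 1, 3, 6, 8, 1, 8],
  [5, 1, 8, 1, 5, 7, 3, 1, 3, 8, 3, 1, 3, 7],
  [2, 4, 5, 6, 5, 4, 2, 3, 4, 5, 6, 5, 4, 3],
  [2, 1, 6, 7, 4, 2, 4, 7, 6, 1, 2, 4],
  [1, 4, 8, 7, 8, 1, 8, 1, 7, 4, 2, 1, 8],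
  [5, 1, 5, 8, 6, 1, 5, 2, 1, 2, 5, 6, 8],
  [8, 7, 1, 8, 5, 8, 2, 1, 7, 8, 1, 5, 1, 2],
  [4, 3, 8, 4, 7, 5, 3, 5, 3, 8, 5, 3, 5, 7],
  [4, 8, 4, 5, 8, 1, 3, 8, 1, 8, 5, 3],
  [8, 7, 4, 5, 2, 5, 4, 7, 8, 7, 4, 2, 4, 7],
  [7, 5, 8, 3, 7, 2, 3, 8, 5, 7, 5, 3, 2, 3],
  [8, 1, 2, 3, 1, 3, 2, 1, 8, 3, 1, 3],
  [4, 2, 7, 1, 3, 1, 7, 2, 4, 1, 2, 3, 2, 1],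
  [7, 2, 4, 1, 2, 7, 8, 7, 8, 1, 4, 8, 7, 8],
  [7, 8, 7, 1, 2, 8, 4, 7, 8, 7, 1, 8, 2, 4],
  [8, 5, 3, 8, 2, 1, 2, 8, 3, 1, 4, 8, 4, 5],
  [3, 1, 8, 1, 3, 8, 2, 1, 2, 3, 2, 1, 2, 8],
  [1, 6, 8, 4, 6, 8, 6, 8, 1, 5, 8, 5, 8],
  [2, 1, 2, 5, 3, 5, 1, 2, 3, 1, 3, 2, 1, 3],
  [5, 4, 8, 4, 1, 3, 8, 2, 1, 2, 8, 3, 5, 8],
  [1, 7, 4, 6, 2, 1, 3, 4, 1, 3, 2, 6, 4, 7, 1, 2],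
  [1, 7, 8, 7, 4, 8, 2, 1, 7, 8, 7, 4, 2, 8],
  [8, 1, 4, 8, 1, 4, 8, 1, 4, 8, 4, 1],
  [2, 5, 8, 1, 5, 8, 4, 5, 8, 1, 5, 8, 4, 2, 1],
  [8, 3, 5, 3, 8, 4, 1, 8, 3, 2, 1, 2, 3, 4, 8, 5],
  [2, 1, 2, 6, 5, 6, 2, 1, 2, 6, 5, 6],
  [6, 5, 4, 2, 3, 4, 5, 6, 5, 4, 3, 2, 4, 5],
  [1, 3, 2, 5, 3, 8, 5, 1, 5, 8, 5, 3, 2, 3],
  [6, 2, 1, 4, 2, 6, 7, 6, 2, 4, 1, 2, 6, 7],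
  [8, 5, 8, 3, 2, 5, 3, 8, 5, 8, 3, 5, 2, 3],
  [5, 4, 3, 5, 2, 1, 2, 1, 3, 4, 8, 5, 4, 8],
  [7, 1, 2, 8, 5, 8, 1, 7, 8, 2, 1, 5, 1, 8],
  [1, 4, 2, 1, 7, 3, 1, 2, 4, 1, 2, 1, 3, 7, 1, 2],
  [1, 7, 4, 2, 1, 8, 1, 4, 8, 7, 8, 1, 8],
  [7, 4, 2, 4, 1, 2, 4, 7, 3, 1, 2, 1, 4, 2, 1, 3],
  [7, 1, 5, 4, 7, 5, 4, 7, 1, 7, 5, 4, 7, 1, 5],
  [7, 1, 8, 5, 8, 2, 1, 7, 8, 1, 5, 1, 2, 8],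
  [4, 7, 2, 1, 2, 3, 2, 4, 1, 2, 3, 2, 1, 2, 7, 1],
  [8, 7, 8, 4, 7, 8, 5, 8, 5, 4, 7, 4],
  [2, 7, 1, 7, 8, 3, 1, 3, 1, 4, 8, 7, 1],
  [4, 2, 7, 8, 7, 8, 4, 1, 8, 7, 8, 7, 2, 1],
  [8, 5, 1, 3, 4, 8, 2, 1, 2, 3, 8, 4, 3, 5],
  [8, 2, 3, 1, 7, 1, 3, 2, 8, 4, 2, 7, 4],
  [8, 1, 8, 7, 8, 4, 1, 8, 1, 2, 4, 7, 1],
  [1, 8, 6, 5, 8, 5, 4, 6, 8, 1, 6, 2, 4, 2],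
  [8, 6, 4, 2, 4, 2, 6, 8, 4],
  [2, 4, 5, 1, 5, 4, 2, 6, 1, 5, 1, 5, 6],
  [8, 5, 8, 4, 3, 2, 1, 2, 3, 8, 1, 4, 8, 3, 5, 3],
  [6, 8, 5, 4, 1, 2, 1, 4, 5, 6, 8, 6, 8],
  [6, 3, 2, 3, 2, 6, 5, 6, 2, 3, 2, 6, 3, 5],
  [6, 2, 3, 2, 3, 6, 5, 3, 6, 2, 3, 2, 6, 5],
  [2, 3, 1, 3, 5, 2, 6, 3, 2, 1, 2, 6, 5, 1, 3],
  [8, 4, 2, 7, 4, 8, 2, 3, 1, 7, 1, 3, 2],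
  [2, 8, 6, 2, 8, 1, 8, 2, 6, 8, 2, 1],
  [2, 1, 2, 8, 3, 1, 8, 1, 3, 8, 2, 1, 2, 3],
  [8, 1, 8, 5, 3, 1, 3, 4, 7, 1, 7, 5, 1, 7],
  [6, 5, 6, 2, 1, 2, 6, 5, 6, 2, 1, 2],
  [3, 7, 8, 4, 5, 8, 5, 7, 3, 1, 7, 1],
  [1, 5, 4, 8, 1, 8, 4, 5, 1, 8, 5, 1, 5, 8],
  [6, 5, 8, 1, 8, 5, 6, 5, 8, 1, 8, 5],
  [2, 6, 5, 6, 2, 3, 2, 3, 6, 5, 3, 6, 2, 3],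
  [4, 5, 1, 5, 4, 2, 6, 1, 5, 1, 5, 6, 2],
  [6, 8, 4, 8, 6, 4, 2, 4, 2],
  [2, 4, 2, 1, 3, 1, 7, 1, 3, 8, 4, 7, 8, 1],
  [7, 1, 3, 7, 8, 4, 5, 8, 5, 7, 3, 1],
  [4, 2, 6, 5, 6, 2, 4, 3, 1, 3, 2, 6, 5, 6, 2],
  [7, 1, 4, 7, 4, 1, 7, 1, 7, 4, 7, 1],
  [4, 2, 3, 4, 5, 6, 5, 4, 3, 2, 4, 5, 6, 5],
  [8, 1, 8, 3, 1, 8, 5, 4, 8, 4, 3, 5],
  [8, 3, 7, 2, 3, 8, 4, 1, 7, 3, 2, 3, 1, 4],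
  [3, 8, 5, 3, 1, 4, 3, 8, 4, 3, 2, 1, 2, 5],
  [7, 5, 3, 5, 7, 2, 1, 7, 5, 2, 3, 2, 5, 7, 1, 2],
  [5, 7, 4, 2, 4, 7, 5, 4, 1, 7, 1, 2, 1, 7, 1, 4],
  [3, 2, 1, 2, 3, 4, 8, 5, 8, 3, 5, 3, 8, 4, 1, 8],
  [1, 8, 1, 7, 8, 7, 1, 8, 1, 7, 8, 7],
  [4, 1, 7, 1, 7, 4, 7, 1, 7, 1, 4, 7],
  [5, 8, 5, 7, 4, 5, 8, 5, 1, 2, 4, 2, 1, 7],
  [1, 7, 8, 3, 1, 3, 1, 4, 8, 7, 1, 2, 7],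
  [5, 4, 7, 5, 1, 5, 7, 4, 1, 7, 5, 4, 7, 1, 7],
  [7, 4, 6, 2, 1, 3, 4, 1, 3, 2, 6, 4, 7, 1, 2, 1],
  [5, 2, 3, 8, 5, 8, 3, 2, 5, 3, 8, 5, 8, 3],
  [4, 8, 6, 5, 8, 6, 8, 1, 8, 6, 5, 6, 8, 6],
  [5, 8, 5, 7, 3, 1, 7, 1, 3, 7, 8, 4],
  [4, 7, 1, 7, 1, 4, 7, 4, 1, 7, 1, 7],
  [3, 5, 2, 5, 4, 7, 4, 2, 3, 5, 4, 7, 4, 5],
  [5, 8, 7, 8, 5, 8, 7, 8, 2, 5, 8, 7, 8],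
  [3, 1, 4, 7, 4, 1, 3, 1, 7, 4, 1, 3, 1, 3, 7, 1],
  [3, 7, 2, 3, 8, 5, 7, 5, 3, 2, 3, 7, 5, 8],
  [2, 8, 1, 8, 5, 8, 1, 8, 1, 2, 5, 1],
  [4, 1, 8, 1, 2, 4, 7, 1, 8, 1, 8, 7, 8],
  [5, 1, 5, 4, 2, 6, 5, 1, 5, 1, 6, 2, 4],
  [5, 1, 8, 7, 8, 1, 5, 1, 8, 7, 8, 1],
  [7, 5, 8, 5, 7, 4, 5, 8, 5, 1, 2, 4, 2, 1],
  [7, 1, 4, 7, 2, 1, 2, 3, 2, 4, 1, 2, 3, 2, 1, 2],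
  [2, 4, 2, 1, 6, 7, 4, 2, 4, 7, 6, 1],
  [7, 1, 8, 2, 4, 7, 8, 7, 1, 2, 8, 4, 7, 8],
  [8, 4, 7, 8, 7, 1, 8, 2, 4, 7, 8, 7, 1, 2],
  [1, 5, 8, 5, 1, 8, 1, 5, 8, 5, 1, 8],
  [7, 1, 7, 1, 4, 7, 4, 1, 7, 1, 7, 4],
  [8, 7, 3, 1, 7, 1, 3, 7, 5, 8, 5, 4],
  [1, 6, 7, 1, 6, 7, 1, 6, 7, 6, 1, 7],
  [6, 2, 4, 5, 1, 5, 4, 2, 6, 5, 1, 5, 1],
  [6, 2, 3, 1, 4, 3, 1, 2, 6, 4, 7, 1, 2, 1, 7, 4],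
  [1, 2, 6, 7, 6, 2, 1, 4, 2, 6, 7, 6, 2, 4],
  [7, 8, 7, 5, 1, 7, 4, 8, 4, 8, 7, 1, 5, 8],
  [5, 4, 7, 1, 2, 5, 1, 7, 4, 5, 8, 4, 1, 8],
  [5, 4, 8, 4, 8, 5, 7, 5, 4, 8, 4, 8, 5, 7],
  [3, 2, 5, 3, 8, 5, 8, 3, 5, 2, 3, 8, 5, 8],
  [8, 5, 4, 8, 4, 3, 5, 8, 1, 8, 3, 1],
  [4, 5, 8, 4, 3, 1, 2, 1, 2, 5, 3, 4, 5, 8],
  [5, 8, 1, 8, 1, 2, 5, 1, 2, 8, 1, 8],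
  [3, 7, 2, 3, 8, 4, 1, 7, 3, 2, 3, 1, 4, 8],
  [4, 2, 4, 1, 2, 4, 1, 2, 1, 4, 2, 1],
  [1, 2, 1, 7, 8, 7, 1, 2, 1, 7, 8, 7],
  [8, 1, 8, 5, 3, 4, 8, 4, 5, 8, 1, 3],
  [7, 3, 8, 5, 7, 3, 2, 3, 5, 7, 5, 8, 3, 2],
  [1, 2, 5, 1, 7, 4, 5, 8, 4, 1, 8, 5, 4, 7],
  [1, 8, 4, 8, 1, 7, 4, 2, 4, 7, 4],
  [4, 5, 8, 5, 6, 8, 1, 2, 4, 2, 6, 1, 8, 6],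
  [6, 2, 4, 2, 1, 2, 4, 2, 6, 2, 4, 2, 1, 2, 4, 2],
  [1, 7, 8, 7, 1, 8, 1, 7, 8, 7, 1, 8],
  [2, 4, 7, 4, 1, 8, 4, 8, 1, 7, 4],
  [5, 8, 3, 5, 2, 1, 2, 3, 4, 8, 3, 4, 1, 3],
  [1, 2, 1, 4, 2, 1, 3, 7, 1, 2, 4, 1, 2, 1, 7, 3],
  [2, 1, 7, 1, 2, 1, 5, 7, 5, 1, 2, 1, 7, 5, 2, 1],
  [4, 8, 6, 1, 8, 5, 8, 5, 1, 8, 6, 8, 6],
  [5, 6, 2, 3, 1, 3, 4, 2, 6, 5, 6, 2, 4, 2, 6],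
  [1, 2, 7, 8, 1, 8, 7, 4, 3, 1, 3, 2, 1, 7],
  [7, 5, 6, 7, 2, 1, 7, 1, 2, 7, 6, 5, 7, 4, 2, 4],
  [2, 1, 4, 2, 1, 4, 2, 4, 1, 2, 4, 1],
  [8, 5, 8, 4, 5, 4, 8, 5, 8, 4],
  [1, 5, 8, 5, 4, 8, 1, 5, 8, 5, 4, 8],
  [5, 1, 5, 8, 3, 5, 2, 3, 1, 3, 2, 3, 5, 8],
  [8, 1, 7, 4, 2, 1, 8, 1, 4, 8, 7, 8, 1],
  [6, 2, 3, 1, 3, 4, 2, 6, 5, 6, 2, 4, 2, 6, 5],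
  [8, 7, 8, 4, 8, 7, 1, 2, 4, 2, 1, 7, 8, 4],
  [5, 7, 3, 1, 7, 1, 3, 7, 8, 4, 5, 8],
  [5, 1, 5, 3, 5, 3, 1, 3, 5, 3],
  [4, 7, 1, 5, 7, 1, 5, 4, 7, 5, 4, 7, 1, 7, 5],
  [1, 4, 7, 2, 1, 2, 3, 2, 4, 1, 2, 3, 2, 1, 2, 7],
  [3, 1, 3, 8, 7, 1, 7, 2, 1, 7, 8, 4, 1],
  [5, 4, 2, 4, 5, 8, 7, 5, 8, 5, 4, 2, 4, 7],
  [8, 3, 1, 7, 1, 3, 1, 2, 4, 2, 1, 8, 7, 4],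
  [3, 5, 7, 6, 3, 2, 3, 2, 6, 7, 5],
  [8, 4, 5, 7, 5, 8, 4, 8, 4, 5, 7, 5, 8, 4],
  [6, 1, 8, 5, 8, 5, 1, 8, 6, 8, 6, 4, 8],
  [6, 5, 6, 2, 3, 2, 3, 6, 5, 3, 6, 2, 3, 2],
  [4, 2, 6, 7, 6, 2, 4, 1, 2, 6, 7, 6, 2, 1],
  [3, 1, 4, 8, 7, 1, 2, 7, 1, 7, 8, 3, 1],
  [4, 1, 7, 3, 2, 3, 1, 4, 8, 3, 7, 2, 3, 8],
  [8, 1, 8, 2, 1, 5, 2, 1, 8, 1, 8, 5],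
  [4, 7, 1, 2, 1, 7, 4, 6, 2, 1, 3, 4, 1, 3, 2, 6],
  [8, 2, 6, 2, 8, 6, 2, 8, 6, 8, 2, 6],
  [4, 5, 6, 5, 4, 2, 4, 5, 6, 5, 4, 2],
  [4, 2, 4, 7, 6, 1, 2, 4, 2, 1, 6, 7],
  [1, 5, 1, 8, 5, 1, 8, 5, 8, 1, 5, 8],
  [6, 8, 6, 4, 8, 6, 1, 8, 5, 8, 5, 1, 8],
  [6, 8, 1, 6, 2, 4, 2, 1, 8, 6, 5, 8, 5, 4],
  [8, 1, 5, 8, 5, 1, 8, 1, 5, 8, 5, 1],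
  [8, 7, 4, 8, 7, 8, 4, 7, 4, 5, 8, 5],
  [5, 4, 2, 6, 1, 5, 1, 5, 6, 2, 4, 5, 1],
  [6, 7, 5, 3, 5, 7, 6, 3, 2, 3, 2],
  [8, 4, 1, 3, 1, 3, 8, 7, 1, 7, 2, 1, 7],
  [7, 1, 6, 7, 6, 1, 7, 1, 6, 7, 1, 6],
  [4, 8, 5, 2, 1, 2, 1, 5, 8, 4, 6, 8, 1, 8, 6],
  [8, 6, 5, 4, 1, 2, 1, 4, 5, 8, 6, 8, 6],
  [5, 6, 7, 2, 1, 7, 1, 2, 7, 6, 5, 7, 4, 2, 4, 7],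
  [6, 2, 8, 6, 2, 8, 6, 8, 2, 6, 8, 2],
  [3, 4, 5, 6, 5, 4, 3, 2, 4, 5, 6, 5, 4, 2],
  [3, 4, 8, 7, 8, 3, 1, 3, 4, 8, 7, 8, 3, 1],
  [1, 4, 7, 5, 1, 7, 8, 7, 1, 5, 7, 4, 1, 8],
  [5, 8, 1, 8, 2, 1, 5, 2, 1, 8, 1, 8],
  [1, 4, 7, 5, 3, 5, 2, 4, 1, 2, 5, 3, 5, 7],
  [3, 2, 3, 7, 1, 4, 7, 3, 2, 4, 3, 1],
  [8, 1, 8, 6, 3, 1, 3, 8, 1, 8, 1, 3, 1, 3, 6],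
  [7, 4, 2, 4, 7, 5, 6, 7, 2, 1, 7, 1, 2, 7, 6, 5],
  [4, 5, 8, 5, 6, 5, 8, 5, 4, 8, 6, 8],
  [7, 8, 5, 8, 5, 4, 7, 4, 8, 7, 8, 4],
  [7, 1, 2, 7, 5, 3, 5, 7, 2, 1, 7, 5, 2, 3, 2, 5],
  [5, 7, 1, 7, 4, 3, 1, 3, 5, 8, 1, 8, 7, 1],
  [3, 2, 3, 5, 7, 5, 8, 3, 2, 7, 3, 8, 5, 7],
  [3, 8, 5, 3, 5, 2, 1, 8, 2, 3, 8, 1],
  [5, 8, 4, 1, 8, 5, 4, 7, 1, 2, 5, 1, 7, 4],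
  [2, 1, 2, 5, 3, 8, 5, 3, 1, 4, 3, 8, 4, 3],
  [5, 7, 1, 2, 4, 2, 1, 7, 5, 3, 2, 1, 7, 1, 2, 3],
  [5, 1, 7, 1, 5, 7, 1, 7, 1, 7, 1, 7, 1, 7],
  [7, 8, 1, 2, 4, 2, 1, 3, 1, 7, 1, 3, 8, 4],
  [1, 5, 6, 2, 4, 5, 1, 5, 4, 2, 6, 1, 5],
  [5, 4, 7, 4, 5, 3, 5, 2, 5, 4, 7, 4, 2, 3],
  [7, 1, 2, 4, 2, 1, 5, 8, 5, 4, 7, 5, 8, 5],
  [6, 7, 1, 6, 7, 6, 1, 7, 1, 6, 7, 1],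
  [6, 8, 6, 8, 6, 5, 4, 1, 2, 1, 4, 5, 8],
  [2, 4, 3, 1, 3, 2, 3, 7, 1, 4, 7, 3],
  [1, 8, 3, 1, 3, 8, 1, 2, 3, 1, 3, 2],
  [1, 8, 5, 1, 8, 5, 8, 1, 5, 8, 1, 5],
  [8, 1, 2, 4, 7, 1, 8, 1, 8, 7, 8, 4, 1],
  [2, 1, 4, 2, 4, 1, 2, 4, 1, 2, 1, 4],
  [2, 1, 3, 4, 8, 5, 4, 8, 5, 4, 3, 5, 2, 1],
  [3, 1, 8, 5, 4, 8, 4, 3, 5, 8, 1, 8],
  [8, 3, 2, 7, 3, 8, 5, 7, 3, 2, 3, 5, 7, 5],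
  [4, 5, 3, 5, 4, 1, 3, 1, 7, 6, 2, 3, 2, 6, 7],
  [7, 8, 7, 4, 8, 2, 1, 7, 8, 7, 4, 2, 8, 1],
  [2, 3, 2, 1, 3, 1, 2, 3, 2, 1, 3, 1],
  [4, 8, 6, 8, 4, 5, 8, 5, 6, 5, 8, 5],
  [8, 1, 8, 5, 6, 5, 8, 1, 8, 5, 6, 5],
  [4, 3, 2, 4, 5, 6, 5, 4, 2, 3, 4, 5, 6, 5],
  [5, 4, 3, 1, 8, 1, 3, 4, 5, 3, 1, 8, 1, 3],
  [8, 4, 3, 2, 3, 4, 8, 4, 8, 3, 2, 3, 8, 4],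
  [4, 2, 4, 5, 6, 5, 4, 2, 4, 5, 6, 5],
  [1, 2, 1, 7, 4, 5, 6, 2, 4, 1, 2, 6, 5, 4, 7],
  [4, 7, 1, 5, 1, 5, 3, 2, 4, 2, 3, 5, 7, 1, 5],
  [5, 4, 1, 5, 3, 5, 4, 1, 5, 3],
  [7, 1, 2, 8, 4, 7, 8, 7, 1, 8, 2, 4, 7, 8],
  [8, 2, 3, 8, 1, 3, 8, 5, 3, 5, 2, 1],
  [1, 3, 8, 7, 1, 7, 2, 1, 7, 8, 4, 1, 3],
  [7, 8, 5, 4, 2, 4, 5, 7, 4, 2, 4, 5, 8, 5],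
  [5, 1, 5, 4, 2, 6, 1, 5, 1, 5, 6, 2, 4],
  [7, 8, 7, 1, 5, 7, 4, 1, 8, 1, 4, 7, 5, 1],
  [6, 7, 6, 2, 4, 1, 2, 6, 7, 6, 2, 1, 4, 2],
  [2, 3, 1, 3, 2, 5, 3, 8, 5, 1, 5, 8, 5, 3],
  [8, 4, 6, 8, 6, 5, 6, 8, 1, 8, 6, 8, 5, 6],
  [4, 2, 4, 8, 5, 8, 2, 4, 2, 4, 5],
  [7, 4, 5, 7, 1, 4, 7, 5, 1, 5, 7, 4, 5, 7, 1],
  [5, 8, 7, 8, 5, 8, 7, 8, 5, 2, 8, 7, 8],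
  [5, 8, 5, 4, 2, 4, 7, 5, 4, 2, 4, 5, 8, 7],
  [1, 4, 5, 3, 5, 1, 4, 5, 3, 5],
  [2, 1, 3, 1, 2, 3, 2, 1, 3, 1, 2, 3],
  [7, 5, 1, 3, 7, 1, 8, 5, 4, 8, 1, 3, 7, 1],
  [5, 1, 7, 5, 1, 7, 1, 7, 5, 1, 5, 7, 5, 1, 7],
  [2, 4, 2, 6, 5, 6, 2, 4, 3, 1, 3, 2, 6, 5, 6],
  [5, 3, 2, 3, 7, 5, 8, 3, 7, 2, 3, 8, 5, 7],
  [3, 7, 1, 3, 1, 4, 7, 4, 1, 3, 1, 7, 4, 1, 3, 1],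
  [5, 8, 6, 8, 1, 8, 6, 5, 6, 8, 6, 4, 8, 6],
  [6, 8, 4, 6, 8, 6, 5, 6, 8, 1, 8, 6, 8, 5],
  [2, 1, 2, 5, 1, 6, 8, 5, 1, 5, 8, 6, 5],
  [5, 8, 6, 5, 2, 1, 2, 5, 1, 6, 8, 5, 1],
  [8, 6, 8, 4, 5, 8, 5, 6, 5, 8, 5, 4],
  [4, 2, 4, 5, 4, 2, 4, 2, 8, 5, 8],
  [8, 2, 6, 8, 2, 1, 2, 8, 6, 2, 8, 1],
  [5, 8, 4, 3, 1, 2, 1, 2, 5, 3, 4, 5, 8, 4],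
  [5, 3, 1, 8, 1, 3, 5, 4, 3, 1, 8, 1, 3, 4],
  [3, 4, 8, 4, 8, 3, 2, 3, 8, 4, 8, 4, 3, 2],
  [5, 6, 2, 3, 2, 6, 3, 5, 6, 3, 2, 3, 2, 6],
  [4, 5, 1, 7, 5, 3, 2, 4, 2, 3, 5, 1, 5, 1, 7],
  [3, 8, 1, 8, 5, 3, 4, 8, 4, 5, 8, 1],
  [6, 8, 1, 8, 6, 8, 5, 6, 8, 4, 6, 8, 6, 5],
  [5, 1, 5, 8, 6, 5, 2, 1, 2, 5, 1, 6, 8],
  [4, 5, 7, 1, 7, 4, 5, 7, 1, 4, 7, 5, 1, 5, 7],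
  [8, 4, 1, 5, 3, 8, 1, 3, 1, 8, 3, 5, 4, 1],
  [5, 6, 1, 5, 2, 1, 2, 5, 6, 5, 4, 8, 1, 8, 4],
  [7, 8, 3, 1, 3, 1, 4, 8, 7, 1, 2, 7, 1],
  [7, 1, 2, 4, 2, 1, 7, 8, 4, 8, 7, 8, 4, 8],
  [8, 1, 7, 3, 1, 5, 7, 1, 7, 3, 1, 8, 4, 5],
  [5, 3, 5, 7, 1, 4, 7, 5, 3, 5, 2, 4, 1, 2],
  [3, 6, 2, 3, 2, 6, 5, 6, 2, 3, 2, 3, 6, 5],
  [1, 2, 3, 1, 3, 4, 7, 8, 1, 8, 7, 2, 1, 7],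
  [5, 3, 5, 7, 2, 1, 7, 5, 2, 3, 2, 5, 7, 1, 2, 7],
  [5, 8, 4, 8, 4, 5, 7, 5, 8, 4, 8, 4, 5, 7],
  [3, 4, 1, 3, 5, 8, 3, 5, 2, 1, 2, 3, 4, 8],
  [3, 1, 3, 4, 7, 1, 7, 5, 1, 7, 8, 1, 8, 5],
  [8, 1, 8, 7, 4, 3, 1, 3, 2, 1, 7, 1, 2, 7],
  [7, 5, 3, 2, 1, 7, 1, 2, 3, 5, 7, 1, 2, 4, 2, 1],
  [7, 5, 8, 5, 4, 2, 4, 7, 5, 4, 2, 4, 5, 8],
  [1, 5, 8, 4, 2, 1, 2, 5, 8, 1, 5, 8, 4, 5, 8],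
  [3, 2, 3, 1, 7, 1, 3, 7, 4, 2, 4, 7, 3, 1, 7, 1],
  [7, 5, 3, 5, 2, 1, 4, 2, 5, 3, 5, 7, 4, 1],
  [8, 1, 6, 8, 4, 6, 8, 6, 8, 1, 5, 8, 5],
  [3, 2, 8, 1, 2, 5, 3, 5, 8, 3, 1, 8],
  [5, 1, 2, 4, 5, 2, 1, 2, 4, 5, 2, 1, 2, 4, 2],
  [7, 4, 2, 4, 7, 5, 4, 1, 7, 1, 2, 1, 7, 1, 4, 5],
  [7, 8, 7, 8, 4, 1, 8, 7, 8, 7, 2, 1, 4, 2],
  [4, 2, 1, 8, 1, 4, 8, 7, 8, 1, 8, 1, 7],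
  [5, 8, 1, 5, 6, 8, 6, 4, 5, 2, 1, 2, 5, 8, 6],
  [3, 8, 1, 2, 3, 1, 3, 2, 1, 8, 3, 1],
  [7, 5, 1, 7, 4, 8, 4, 8, 7, 1, 5, 8, 7, 8],
  [3, 5, 4, 7, 6, 2, 3, 2, 6, 7, 1, 3, 1, 4, 5],
  [4, 1, 3, 2, 6, 4, 7, 1, 2, 1, 7, 4, 6, 2, 1, 3],
  [2, 1, 7, 1, 7, 1, 2, 7, 1, 2, 4, 3, 1, 3, 2, 1],
  [8, 7, 1, 5, 7, 4, 1, 8, 1, 4, 7, 5, 1, 7],
  [8, 3, 1, 8, 1, 3, 8, 2, 1, 2, 3, 2, 1, 2],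
  [5, 3, 5, 7, 6, 3, 2, 3, 2, 6, 7],
  [8, 4, 7, 5, 8, 4, 8, 1, 4, 8, 1, 5, 7, 4],
  [6, 8, 1, 8, 6, 4, 8, 5, 2, 1, 2, 1, 5, 8, 4],
  [5, 8, 5, 1, 8, 6, 8, 6, 4, 8, 6, 1, 8],
  [6, 2, 4, 2, 6, 5, 6, 2, 4, 3, 1, 3, 2, 6, 5],
  [8, 3, 1, 5, 4, 8, 1, 3, 1, 8, 4, 5, 1, 3],
  [2, 3, 1, 7, 8, 7, 1, 3, 8, 2, 1, 3, 1, 8],
  [4, 5, 6, 5, 4, 3, 2, 4, 5, 6, 5, 4, 2, 3],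
  [8, 7, 5, 1, 7, 4, 8, 4, 8, 7, 1, 5, 8, 7],
  [2, 1, 2, 6, 8, 6, 2, 1, 2, 6, 8, 6],
  [3, 2, 6, 5, 6, 2, 3, 2, 3, 6, 5, 3, 6, 2],
  [1, 5, 4, 7, 1, 5, 1, 5, 3, 2, 4, 2, 3, 5, 7],
  [8, 4, 7, 8, 1, 2, 4, 2, 1, 3, 1, 7, 1, 3],
  [5, 3, 2, 1, 2, 1, 5, 3, 6, 2, 3, 1, 3, 2, 6],
  [8, 4, 8, 5, 7, 5, 4, 8, 4, 8, 5, 7, 5, 4],
  [3, 4, 5, 3, 8, 3, 5, 3, 8, 1, 8, 4, 1, 8],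
  [3, 1, 3, 4, 2, 3, 7, 4, 1, 7, 3, 2],
  [6, 3, 1, 3, 1, 2, 1, 2, 3, 1, 3, 6, 2, 1, 2],
  [5, 7, 1, 3, 8, 3, 1, 7, 5, 8, 1, 3, 1, 8],
  [5, 8, 1, 8, 5, 6, 5, 8, 1, 8, 5, 6],
  [1, 8, 7, 8, 1, 5, 1, 8, 7, 8, 1, 5],
  [6, 8, 1, 5, 8, 5, 8, 1, 6, 8, 4, 6, 8],
  [5, 2, 3, 1, 3, 2, 3, 5, 8, 5, 1, 5, 8, 3],
  [5, 1, 2, 3, 1, 3, 2, 1, 3, 2, 1, 2, 5, 3],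
  [4, 7, 1, 2, 5, 1, 7, 4, 5, 8, 4, 1, 8, 5],
  [6, 8, 6, 5, 6, 8, 1, 8, 6, 8, 5, 6, 8, 4],
  [7, 5, 3, 5, 2, 4, 1, 2, 5, 3, 5, 7, 1, 4],
  [6, 5, 4, 3, 2, 4, 5, 6, 5, 4, 2, 3, 4, 5],
  [5, 4, 6, 8, 1, 6, 2, 4, 2, 1, 8, 6, 5, 8],
  [3, 5, 3, 8, 1, 8, 4, 1, 8, 3, 4, 5, 3, 8],
  [6, 8, 5, 1, 5, 8, 6, 5, 2, 1, 2, 5, 1],
  [6, 8, 1, 8, 6, 3, 1, 3, 8, 1, 8, 1, 3, 1, 3],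
  [6, 2, 3, 1, 3, 2, 6, 3, 1, 3, 8, 3, 1, 3, 8],
  [3, 2, 3, 1, 3, 4, 2, 3, 7, 4, 1, 7],
  [5, 4, 2, 3, 4, 5, 6, 5, 4, 3, 2, 4, 5, 6],
  [8, 5, 4, 1, 2, 1, 4, 5, 6, 8, 6, 8, 6],
  [3, 2, 5, 7, 1, 2, 7, 5, 3, 5, 7, 2, 1, 7, 5, 2],
  [1, 7, 2, 4, 1, 2, 3, 2, 1, 4, 2, 7, 1, 3],
  [2, 3, 2, 6, 7, 5, 3, 5, 7, 6, 3],
  [5, 6, 2, 3, 2, 3, 6, 5, 3, 6, 2, 3, 2, 6],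
  [7, 1, 7, 4, 3, 1, 3, 5, 8, 1, 8, 7, 1, 5],
  [1, 2, 6, 5, 4, 7, 1, 2, 1, 7, 4, 5, 6, 2, 4],
  [5, 3, 5, 4, 1, 3, 1, 7, 6, 2, 3, 2, 6, 7, 4],
  [4, 7, 4, 5, 3, 5, 2, 5, 4, 7, 4, 2, 3, 5],
  [8, 7, 1, 2, 7, 1, 7, 8, 3, 1, 3, 1, 4],
  [1, 5, 4, 2, 6, 1, 5, 1, 5, 6, 2, 4, 5],
  [4, 1, 8, 4, 1, 5, 3, 8, 1, 3, 1, 8, 3, 5],
  [8, 2, 1, 2, 8, 4, 2, 8, 1, 8, 2, 4],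
  [3, 2, 3, 8, 4, 8, 4, 3, 2, 3, 4, 8, 4, 8],
  [6, 5, 6, 8, 1, 8, 6, 8, 5, 6, 8, 4, 6, 8],
  [4, 8, 3, 4, 1, 3, 5, 8, 3, 5, 2, 1, 2, 3],
  [1, 5, 1, 8, 7, 8, 1, 5, 1, 8, 7, 8],
  [8, 1, 5, 7, 3, 1, 3, 8, 3, 1, 3, 7, 5, 1],
  [7, 1, 3, 1, 4, 2, 5, 7, 1, 2, 7, 4, 1, 3, 5, 4],
  [2, 4, 2, 1, 8, 6, 5, 8, 5, 4, 6, 8, 1, 6],
  [6, 1, 5, 2, 1, 2, 5, 6, 8, 5, 1, 5, 8],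
  [8, 3, 5, 3, 8, 1, 8, 4, 1, 8, 3, 4, 5, 3],
  [7, 1, 7, 5, 1, 3, 7, 1, 8, 5, 4, 8, 1, 3],
  [7, 5, 1, 5, 7, 4, 5, 7, 1, 7, 4, 5, 7, 1, 4],
  [2, 1, 5, 1, 8, 7, 1, 2, 8, 5, 8, 1, 7, 8],
  [2, 3, 2, 6, 3, 5, 6, 3, 2, 3, 2, 6, 5, 6],
  [5, 1, 7, 2, 1, 5, 4, 2, 3, 2, 4, 1, 2, 7, 1, 3],
  [4, 5, 3, 5, 4, 7, 6, 2, 3, 2, 6, 7, 1, 3, 1],
  [4, 3, 2, 3, 1, 3, 2, 5, 3, 5, 4, 8, 1, 8],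
  [4, 8, 5, 4, 8, 5, 4, 3, 5, 2, 1, 2, 1, 3],
  [7, 4, 5, 4, 7, 3, 5, 2, 4, 3, 1, 3, 1, 2, 5, 3],
  [4, 1, 3, 2, 3, 7, 1, 4, 8, 3, 2, 7, 3, 8],
  [2, 3, 2, 6, 7, 1, 3, 1, 4, 5, 3, 5, 4, 7, 6],
  [3, 5, 4, 1, 8, 4, 1, 5, 3, 8, 1, 3, 1, 8],
  [7, 1, 7, 1, 7, 3, 1, 7, 3, 1, 7, 1, 3, 7, 1, 3],
  [1, 6, 2, 4, 5, 1, 5, 4, 2, 6, 5, 1, 5],
  [1, 7, 4, 5, 8, 1, 4, 8, 5, 4, 7, 1, 5, 2],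
  [7, 6, 3, 2, 3, 2, 6, 7, 5, 3, 5],
  [8, 5, 3, 1, 4, 3, 8, 4, 3, 2, 1, 2, 5, 3],
  [5, 7, 5, 6, 2, 4, 2, 6, 5, 7, 5, 6, 2, 4, 2, 6],
  [4, 2, 1, 7, 2, 1, 7, 1, 7, 1, 2, 1, 2, 3, 1, 3],
  [5, 1, 8, 1, 5, 6, 8, 6, 2, 1, 2, 4, 8, 1, 6],
  [8, 4, 5, 8, 5, 6, 5, 8, 5, 4, 8, 6],
  [1, 2, 5, 4, 2, 1, 5, 2, 4, 2, 1, 2, 5, 4, 2],
  [4, 1, 5, 3, 5, 4, 1, 5, 3, 5],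
  [8, 1, 5, 8, 5, 8, 1, 6, 8, 4, 6, 8, 6],
  [7, 8, 4, 1, 8, 7, 8, 7, 2, 1, 4, 2, 7, 8],
  [6, 2, 4, 2, 1, 8, 6, 5, 8, 5, 4, 6, 8, 1],
  [6, 2, 3, 2, 6, 7, 1, 3, 1, 4, 5, 3, 5, 4, 7],
  [2, 3, 1, 4, 8, 3, 7, 2, 3, 8, 4, 1, 7, 3],
  [7, 8, 4, 8, 7, 8, 4, 8, 7, 1, 2, 4, 2, 1],
  [8, 3, 1, 3, 4, 8, 7, 8, 3, 1, 3, 4, 8, 7],
  [4, 1, 3, 5, 8, 3, 5, 2, 1, 2, 3, 4, 8, 3],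
  [1, 3, 1, 4, 8, 7, 1, 2, 7, 1, 7, 8, 3],
  [2, 5, 3, 1, 3, 2, 3, 1, 5, 6, 2, 1, 2, 3, 6],
  [1, 2, 8, 5, 8, 1, 7, 8, 2, 1, 5, 1, 8, 7],
  [3, 2, 4, 7, 4, 5, 2, 5, 3, 5, 4, 7, 4, 5],
  [5, 4, 1, 7, 1, 2, 1, 7, 1, 4, 5, 7, 4, 2, 4, 7],
  [6, 8, 2, 6, 2, 8, 6, 2, 8, 6, 8, 2],
  [1, 7, 4, 5, 8, 4, 1, 8, 5, 4, 7, 1, 2, 5],
  [4, 8, 5, 4, 3, 5, 2, 1, 2, 1, 3, 4, 8, 5],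
  [2, 1, 4, 2, 7, 1, 3, 1, 7, 2, 4, 1, 2, 3],
  [1, 7, 2, 1, 2, 3, 2, 1, 4, 2, 3, 2, 1, 2, 7, 4],
  [6, 1, 5, 2, 1, 2, 5, 6, 5, 4, 8, 1, 8, 4, 5],
  [1, 7, 5, 3, 5, 2, 1, 4, 2, 5, 3, 5, 7, 4],
  [5, 1, 5, 6, 2, 4, 5, 1, 5, 4, 2, 6, 1],
  [5, 8, 4, 8, 1, 4, 8, 1, 5, 7, 4, 8, 4, 7],
  [4, 2, 4, 2, 8, 5, 8, 4, 2, 4, 5],
  [2, 1, 7, 1, 7, 1, 2, 1, 2, 3, 1, 3, 4, 2, 1, 7],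
  [7, 8, 4, 3, 1, 3, 8, 7, 8, 4, 3, 1, 3, 8],
  [1, 8, 1, 5, 7, 3, 1, 3, 8, 3, 1, 3, 7, 5],
  [7, 5, 8, 5, 4, 8, 7, 3, 1, 7, 1, 3],
  [3, 2, 1, 2, 8, 4, 3, 1, 5, 8, 5, 3, 4, 8],
  [3, 2, 4, 5, 6, 5, 4, 2, 3, 4, 5, 6, 5, 4],
  [2, 3, 7, 1, 4, 7, 3, 2, 4, 3, 1, 3],
  [7, 1, 5, 7, 1, 7, 4, 3, 1, 3, 5, 8, 1, 8],
  [5, 3, 4, 8, 3, 2, 1, 2, 8, 4, 3, 1, 5, 8],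
  [8, 1, 4, 8, 1, 4, 8, 4, 1, 8, 1, 4],
  [2, 1, 5, 8, 5, 4, 7, 5, 8, 5, 7, 1, 2, 4],
  [4, 7, 1, 7, 5, 1, 7, 8, 1, 8, 5, 3, 1, 3],
  [7, 6, 1, 7, 6, 1, 7, 6, 1, 7, 1, 6],
  [6, 7, 1, 3, 1, 4, 5, 3, 5, 4, 7, 6, 2, 3, 2],
  [7, 8, 2, 5, 8, 7, 8, 5, 8, 7, 8, 5, 8],
  [8, 3, 1, 2, 1, 3, 8, 1, 8, 3, 2, 3, 8, 1],
  [8, 7, 8, 5, 8, 7, 8, 2, 5, 8, 7, 8, 5],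
  [8, 3, 5, 2, 1, 2, 3, 4, 8, 3, 4, 1, 3, 5],
  [1, 2, 7, 4, 5, 1, 2, 3, 2, 1, 5, 4, 7, 2, 1, 3],
  [4, 1, 5, 3, 8, 1, 3, 1, 8, 3, 5, 4, 1, 8],
  [8, 5, 4, 7, 1, 5, 2, 1, 7, 4, 5, 8, 1, 4],
  [8, 5, 1, 5, 8, 6, 5, 2, 1, 2, 5, 1, 6],
  [8, 7, 8, 5, 8, 7, 8, 5, 8, 7, 8, 5, 2],
  [5, 7, 8, 7, 5, 8, 5, 7, 8, 7, 5, 8],
  [3, 1, 5, 4, 8, 1, 3, 1, 8, 4, 5, 1, 3, 8],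
  [3, 8, 2, 1, 3, 1, 8, 2, 3, 1, 7, 8, 7, 1],
  [3, 4, 5, 8, 4, 5, 8, 4, 3, 1, 2, 1, 2, 5],
  [8, 1, 3, 1, 8, 5, 7, 1, 3, 8, 3, 1, 7, 5],
  [6, 4, 5, 8, 5, 6, 8, 1, 2, 4, 2, 6, 1, 8],
  [1, 5, 7, 1, 5, 7, 5, 1, 5, 7, 1, 7, 1, 5, 7],
  [6, 2, 1, 4, 2, 6, 5, 4, 7, 1, 2, 1, 7, 4, 5],
  [8, 7, 8, 2, 5, 8, 7, 8, 5, 8, 7, 8, 5],
  [6, 2, 3, 2, 6, 5, 6, 2, 3, 2, 3, 6, 5, 3],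
  [8, 5, 4, 3, 5, 2, 1, 2, 1, 3, 4, 8, 5, 4],
  [1, 7, 8, 7, 1, 2, 1, 7, 8, 7, 1, 2],
  [8, 4, 1, 8, 5, 4, 7, 1, 2, 5, 1, 7, 4, 5],
  [4, 5, 8, 5, 7, 3, 1, 7, 1, 3, 7, 8],
  [3, 2, 8, 4, 2, 7, 4, 8, 2, 3, 1, 7, 1],
  [8, 2, 1, 5, 2, 1, 8, 1, 8, 5, 8, 1],
  [6, 5, 8, 6, 8, 1, 8, 6, 5, 6, 8, 6, 4, 8],
  [5, 8, 5, 4, 6, 8, 1, 6, 2, 4, 2, 1, 8, 6],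
  [7, 5, 3, 5, 7, 6, 3, 2, 3, 2, 6],
  [5, 4, 2, 4, 2, 8, 5, 8, 4, 2, 4],
  [5, 8, 5, 4, 8, 1, 5, 8, 5, 4, 8, 1],
  [1, 8, 4, 1, 8, 4, 8, 5, 7, 4, 8, 4, 7, 5],
  [3, 2, 1, 2, 6, 5, 1, 3, 2, 3, 1, 3, 5, 2, 6],
  [6, 5, 2, 1, 2, 5, 1, 6, 5, 4, 8, 1, 8, 4, 5],
  [5, 3, 8, 1, 8, 4, 1, 8, 3, 4, 5, 3, 8, 3],
  [2, 4, 2, 6, 8, 4, 8, 6, 4],
  [5, 6, 8, 1, 8, 6, 8, 5, 6, 8, 4, 6, 8, 6],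
  [4, 2, 4, 1, 8, 4, 1, 2, 1, 4, 8, 1],
  [5, 8, 5, 8, 7, 4, 8, 7, 8, 4, 7, 4],
  [5, 8, 7, 8, 7, 5, 1, 7, 4, 8, 4, 8, 7, 1],
  [1, 2, 8, 6, 2, 8, 1, 8, 2, 6, 8, 2],
  [5, 6, 5, 4, 3, 2, 4, 5, 6, 5, 4, 2, 3, 4],
  [1, 8, 6, 5, 6, 8, 6, 4, 8, 6, 5, 8, 6, 8],
  [6, 7, 2, 1, 7, 1, 2, 7, 6, 5, 7, 4, 2, 4, 7, 5],
  [7, 1, 5, 7, 5, 1, 5, 7, 1, 7, 1, 5, 7, 1, 5],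
  [3, 8, 4, 7, 8, 1, 2, 4, 2, 1, 3, 1, 7, 1],
  [2, 5, 1, 6, 8, 5, 1, 5, 8, 6, 5, 2, 1],
  [4, 7, 1, 3, 8, 1, 3, 1, 8, 3, 1, 7, 4, 8],
  [3, 5, 2, 4, 1, 4, 2, 3, 1, 2, 3, 5, 1, 3, 2, 1],
  [2, 1, 3, 1, 7, 1, 3, 8, 4, 7, 8, 1, 2, 4],
  [7, 2, 1, 7, 5, 2, 4, 1, 3, 1, 7, 4, 5, 3, 1, 4],
  [5, 7, 1, 7, 1, 7, 1, 7, 1, 7, 5, 1, 7, 1],
  [8, 1, 5, 1, 8, 5, 1, 8, 5, 8, 1, 5],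
  [7, 5, 3, 5, 3, 8, 5, 3, 5, 7, 4, 3, 8, 4],
  [7, 4, 1, 7, 5, 4, 7, 1, 7, 5, 4, 7, 5, 1, 5],
  [2, 4, 2, 3, 5, 1, 5, 1, 7, 4, 5, 1, 7, 5, 3],
  [5, 6, 8, 4, 6, 8, 6, 5, 6, 8, 1, 8, 6, 8],
  [1, 4, 5, 6, 8, 6, 8, 6, 8, 5, 4, 1, 2],
  [8, 1, 4, 5, 3, 8, 1, 3, 1, 8, 3, 5, 1, 4],
  [8, 6, 1, 5, 2, 1, 2, 5, 6, 8, 5, 1, 5],
  [8, 6, 5, 2, 1, 2, 5, 1, 6, 8, 5, 1, 5],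
  [8, 5, 8, 1, 7, 8, 2, 1, 5, 1, 8, 7, 1, 2],
  [4, 2, 8, 5, 8, 4, 2, 4, 5, 4, 2],
  [5, 8, 2, 1, 7, 8, 1, 5, 1, 2, 8, 7, 1, 8],
  [7, 4, 3, 1, 3, 2, 1, 7, 1, 2, 7, 8, 1, 8],
  [8, 4, 5, 8, 5, 3, 8, 2, 1, 2, 8, 3, 1, 4],
  [5, 2, 6, 3, 2, 1, 2, 6, 5, 1, 3, 2, 3, 1, 3],
  [7, 4, 1, 7, 5, 3, 5, 2, 1, 4, 2, 5, 3, 5],
  [2, 8, 1, 3, 1, 2, 8, 3, 1, 7, 8, 7, 1, 3],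
  [3, 7, 4, 5, 4, 7, 3, 5, 2, 4, 3, 1, 3, 1, 2, 5],
  [1, 2, 4, 1, 2, 1, 4, 2, 1, 4, 2, 4],
  [5, 4, 8, 5, 4, 3, 5, 2, 1, 2, 1, 3, 4, 8],
  [2, 8, 4, 3, 1, 5, 8, 5, 3, 4, 8, 3, 2, 1],
  [8, 2, 1, 2, 8, 3, 1, 4, 8, 4, 5, 8, 5, 3],
  [1, 7, 1, 6, 7, 1, 6, 7, 1, 6, 7, 6],
  [8, 1, 8, 1, 7, 4, 2, 1, 8, 1, 4, 8, 7],
  [6, 2, 5, 3, 1, 3, 2, 3, 1, 5, 6, 2, 1, 2, 3],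
  [8, 1, 5, 7, 8, 5, 8, 7, 5, 1, 8, 1, 7, 1],
  [5, 8, 5, 1, 2, 4, 2, 1, 7, 5, 8, 5, 7, 4],
  [5, 6, 5, 8, 1, 8, 5, 6, 5, 8, 1, 8],
  [1, 4, 8, 4, 1, 8, 4, 1, 8, 4, 1, 8],
  [2, 6, 1, 5, 1, 5, 6, 2, 4, 5, 1, 5, 4],
  [1, 2, 4, 2, 1, 7, 8, 4, 8, 7, 8, 4, 8, 7],
  [8, 2, 5, 8, 7, 8, 5, 8, 7, 8, 5, 8, 7],
  [3, 5, 3, 4, 2, 8, 3, 4, 5, 4, 3, 8, 2, 4, 2],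
  [1, 8, 4, 3, 2, 3, 1, 3, 2, 5, 3, 5, 4, 8],
  [5, 3, 5, 2, 5, 4, 7, 4, 2, 3, 5, 4, 7, 4],
  [5, 8, 3, 7, 2, 3, 8, 5, 7, 5, 3, 2, 3, 7],
  [8, 5, 6, 8, 4, 6, 8, 6, 5, 6, 8, 1, 8, 6],
  [4, 8, 1, 4, 8, 4, 1, 8, 1, 4, 8, 1],
  [7, 8, 2, 1, 5, 1, 8, 7, 1, 2, 8, 5, 8, 1],
  [6, 2, 3, 1, 3, 2, 6, 3, 5, 1, 2, 1, 2, 3, 5],
  [3, 1, 8, 1, 3, 5, 4, 3, 1, 8, 1, 3, 4, 5],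
  [3, 5, 7, 5, 8, 3, 2, 7, 3, 8, 5, 7, 3, 2],
  [1, 2, 3, 1, 3, 2, 1, 5, 3, 5, 2, 1, 2, 3],
  [5, 4, 1, 5, 1, 4, 5, 4, 1],
  [1, 6, 8, 5, 1, 5, 8, 6, 5, 2, 1, 2, 5],
  [8, 1, 8, 4, 5, 3, 5, 2, 3, 1, 3, 2, 3, 4],
  [6, 2, 4, 3, 1, 3, 2, 6, 5, 6, 2, 4, 2, 6, 5],
  [1, 2, 4, 5, 2, 1, 2, 4, 5, 2, 1, 2, 4, 2, 5],
  [6, 8, 5, 1, 5, 8, 6, 1, 5, 2, 1, 2, 5],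
  [1, 2, 8, 3, 1, 7, 8, 7, 1, 3, 2, 8, 1, 3],
  [1, 2, 8, 3, 1, 8, 1, 3, 8, 2, 1, 2, 3, 2],
  [8, 2, 1, 2, 3, 2, 1, 2, 8, 3, 1, 8, 1, 3],
  [8, 4, 1, 8, 4, 1, 8, 1, 4, 8, 4, 1],
  [3, 8, 3, 1, 5, 4, 8, 1, 3, 1, 8, 4, 5, 1],
  [4, 7, 4, 5, 3, 2, 4, 7, 4, 5, 2, 5, 3, 5],
  [8, 7, 8, 1, 5, 1, 8, 7, 8, 1, 5, 1],
  [4, 1, 8, 4, 1, 8, 4, 1, 8, 1, 4, 8],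
  [8, 4, 5, 1, 2, 4, 2, 1, 5, 4, 8, 1, 2, 1, 5],
  [2, 1, 2, 8, 4, 3, 1, 5, 8, 5, 3, 4, 8, 3],
  [5, 3, 4, 5, 8, 4, 5, 8, 4, 3, 1, 2, 1, 2],
  [2, 1, 2, 6, 3, 1, 3, 2, 1, 2, 1, 3, 1, 3, 6],
  [5, 4, 8, 1, 3, 1, 8, 4, 5, 1, 3, 8, 3, 1],
  [4, 3, 1, 3, 5, 8, 1, 8, 7, 1, 5, 7, 1, 7],
  [5, 4, 2, 3, 4, 5, 1, 5, 4, 3, 2, 4, 5, 3, 1, 3],
  [1, 4, 5, 1, 4, 5, 4, 1, 5],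
  [5, 3, 5, 1, 2, 3, 1, 3, 2, 1, 3, 2, 1, 2],
  [8, 3, 2, 1, 2, 8, 4, 3, 1, 5, 8, 5, 3, 4],
  [4, 1, 2, 1, 2, 3, 5, 8, 3, 5, 4, 8, 1, 3, 1, 8],
  [5, 7, 1, 2, 7, 5, 3, 5, 7, 2, 1, 7, 5, 2, 3, 2],
  [5, 3, 1, 3, 2, 3, 1, 5, 6, 2, 1, 2, 3, 6, 2],
  [3, 1, 8, 1, 3, 4, 5, 3, 1, 8, 1, 3, 5, 4],
  [3, 7, 5, 8, 3, 7, 2, 3, 8, 5, 7, 5, 3, 2],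
  [8, 3, 4, 1, 3, 5, 8, 3, 5, 2, 1, 2, 3, 4],
  [6, 5, 8, 1, 5, 6, 8, 6, 4, 5, 2, 1, 2, 5, 8],
  [8, 1, 5, 1, 2, 8, 7, 1, 8, 5, 8, 2, 1, 7],
  [5, 7, 1, 2, 7, 4, 1, 3, 5, 4, 7, 1, 3, 1, 4, 2],
  [8, 5, 1, 7, 8, 4, 8, 4, 7, 1, 5, 7, 8, 7],
  [4, 1, 3, 5, 4, 7, 1, 3, 1, 4, 2, 5, 7, 1, 2, 7],
  [5, 4, 2, 1, 2, 5, 4, 2, 1, 5, 2, 4, 2, 1, 2],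
  [3, 2, 1, 2, 1, 5, 3, 6, 2, 3, 1, 3, 2, 6, 5],
  [7, 1, 7, 1, 7, 1, 7, 1, 7, 5, 1, 7, 1, 5],
  [5, 3, 5, 3, 1, 3, 5, 3, 5, 1],
  [3, 1, 4, 8, 3, 7, 2, 3, 8, 4, 1, 7, 3, 2],
  [7, 4, 8, 4, 7, 5, 8, 4, 8, 1, 4, 8, 1, 5],
  [5, 6, 8, 6, 4, 8, 6, 5, 8, 6, 8, 1, 8, 6],
  [2, 3, 1, 3, 2, 6, 8, 3, 1, 3, 8, 3, 1, 3, 6],
  [3, 1, 5, 8, 1, 8, 4, 5, 4, 3, 1, 8, 5, 4, 8],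
  [8, 1, 5, 6, 8, 6, 4, 5, 2, 1, 2, 5, 8, 6, 5],
  [1, 2, 3, 8, 4, 3, 5, 8, 5, 1, 3, 4, 8, 2],
  [3, 2, 1, 2, 5, 3, 5, 1, 2, 3, 1, 3, 2, 1],
  [4, 2, 6, 5, 6, 2, 4, 2, 6, 5, 6, 2, 3, 1, 3],
  [1, 8, 1, 8, 7, 8, 4, 1, 8, 1, 2, 4, 7],
  [3, 8, 3, 1, 3, 6, 2, 3, 1, 3, 2, 6, 8, 3, 1],
  [5, 4, 3, 8, 1, 4, 8, 1, 8, 3, 5, 3, 8, 3],
  [5, 7, 5, 8, 3, 2, 7, 3, 8, 5, 7, 3, 2, 3],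
  [1, 4, 2, 5, 3, 5, 7, 4, 1, 7, 5, 3, 5, 2],
  [4, 7, 5, 8, 4, 8, 1, 4, 8, 1, 5, 7, 4, 8],
  [1, 2, 5, 1, 6, 8, 5, 1, 5, 8, 6, 5, 2],
  [1, 4, 8, 7, 8, 7, 2, 4, 1, 2, 7, 8, 7, 8],
  [4, 1, 8, 7, 8, 7, 2, 1, 4, 2, 7, 8, 7, 8],
  [1, 8, 6, 8, 6, 4, 8, 6, 1, 8, 5, 8, 5],
  [7, 1, 7, 1, 2, 7, 1, 2, 4, 3, 1, 3, 2, 1, 2, 1],
  [5, 4, 2, 4, 5, 8, 1, 5, 4, 2, 4, 5, 1, 8],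
  [1, 7, 4, 5, 6, 2, 4, 1, 2, 6, 5, 4, 7, 1, 2],
  [4, 7, 5, 1, 5, 7, 4, 1, 7, 5, 4, 7, 1, 7, 5],
  [2, 6, 8, 3, 1, 3, 8, 3, 1, 3, 6, 2, 3, 1, 3],
  [1, 3, 6, 8, 1, 8, 6, 3, 1, 3, 1, 8, 1, 8, 3],
  [1, 5, 2, 1, 8, 1, 8, 5, 8, 1, 8, 2],
  [8, 1, 5, 8, 1, 5, 1, 8, 5, 1, 8, 5],
  [5, 6, 8, 1, 2, 4, 2, 6, 1, 8, 6, 4, 5, 8],
  [5, 6, 2, 4, 2, 6, 5, 6, 2, 3, 1, 3, 4, 2, 6],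
  [5, 6, 2, 3, 1, 3, 2, 6, 3, 5, 1, 2, 1, 2, 3],
  [5, 4, 1, 8, 4, 1, 5, 3, 8, 1, 3, 1, 8, 3],
  [1, 2, 8, 1, 8, 5, 8, 1, 8, 1, 2, 5],
  [6, 4, 8, 6, 5, 8, 6, 8, 1, 8, 6, 5, 6, 8],
  [5, 2, 1, 2, 1, 3, 4, 8, 5, 4, 8, 5, 4, 3],
  [8, 1, 3, 8, 5, 3, 5, 2, 1, 8, 2, 3],
  [2, 8, 3, 1, 7, 8, 7, 1, 3, 2, 8, 1, 3, 1],
  [4, 3, 8, 4, 3, 2, 1, 2, 5, 3, 8, 5, 3, 1],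
  [7, 5, 8, 1, 3, 1, 8, 5, 7, 1, 3, 8, 3, 1],
  [1, 3, 1, 8, 2, 3, 1, 7, 8, 7, 1, 3, 8, 2],
  [5, 4, 7, 2, 1, 3, 1, 2, 7, 4, 5, 1, 2, 3, 2, 1],
  [2, 3, 4, 8, 3, 4, 1, 3, 5, 8, 3, 5, 2, 1],
  [6, 5, 4, 7, 1, 2, 1, 7, 4, 5, 6, 2, 4, 1, 2],
  [5, 3, 1, 2, 3, 1, 5, 3, 2, 1, 3, 2, 4, 1, 4, 2],
  [1, 4, 5, 1, 2, 4, 2, 3, 1, 7, 4, 5, 7, 1, 3, 7],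
  [7, 1, 5, 1, 5, 3, 2, 4, 2, 3, 5, 7, 1, 5, 4],
  [4, 5, 1, 2, 4, 2, 3, 1, 7, 4, 5, 7, 1, 3, 7, 1],
  [8, 3, 1, 4, 8, 5, 1, 4, 8, 5, 3, 8, 4, 1, 5],
  [2, 8, 1, 8, 2, 4, 8, 2, 1, 2, 8, 4],
  [1, 5, 1, 6, 2, 4, 5, 1, 5, 4, 2, 6, 5],
  [2, 1, 4, 2, 1, 7, 3, 1, 2, 4, 1, 2, 1, 3, 7, 1],
  [1, 3, 2, 1, 2, 1, 3, 1, 3, 6, 2, 1, 2, 6, 3],
  [4, 7, 6, 2, 3, 2, 6, 7, 1, 3, 1, 4, 5, 3, 5],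
  [1, 5, 8, 1, 5, 1, 8, 5, 1, 8, 5, 8],
  [4, 1, 7, 5, 4, 7, 1, 7, 5, 4, 7, 5, 1, 5, 7],
  [5, 8, 5, 3, 8, 2, 1, 2, 8, 3, 1, 4, 8, 4],
  [2, 1, 2, 5, 3, 4, 5, 8, 4, 5, 8, 4, 3, 1],
  [3, 8, 1, 8, 4, 1, 8, 3, 4, 5, 3, 8, 3, 5],
  [5, 4, 3, 8, 2, 4, 3, 5, 3, 2, 4, 2, 8, 3, 4],
  [1, 2, 1, 3, 4, 8, 5, 4, 8, 5, 4, 3, 5, 2],
  [7, 3, 1, 2, 1, 4, 2, 1, 3, 7, 4, 2, 4, 1, 2, 4],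
  [2, 3, 2, 3, 6, 5, 3, 6, 2, 3, 2, 6, 5, 6],
  [7, 5, 1, 8, 1, 7, 1, 8, 1, 5, 7, 8, 5, 8],
  [2, 1, 7, 4, 5, 8, 1, 4, 8, 5, 4, 7, 1, 5],
  [8, 7, 8, 7, 2, 4, 1, 2, 7, 8, 7, 8, 1, 4],
  [4, 7, 5, 1, 5, 7, 4, 5, 7, 1, 7, 4, 5, 7, 1],
  [5, 8, 3, 2, 7, 3, 8, 5, 7, 3, 2, 3, 5, 7],
  [1, 3, 8, 1, 8, 5, 3, 4, 8, 4, 5, 8],
  [3, 1, 4, 8, 5, 1, 5, 3, 4, 5, 3, 8, 1, 3, 5],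
  [8, 1, 3, 4, 5, 3, 1, 8, 1, 3, 5, 4, 3, 1],
  [2, 6, 7, 6, 2, 4, 1, 2, 6, 7, 6, 2, 1, 4],
  [4, 8, 1, 8, 4, 5, 6, 1, 5, 2, 1, 2, 5, 6, 5],
  [7, 3, 2, 3, 5, 7, 5, 8, 3, 2, 7, 3, 8, 5],
  [3, 8, 7, 1, 7, 2, 1, 7, 8, 4, 1, 3, 1],
  [7, 1, 2, 7, 1, 7, 8, 3, 1, 3, 1, 4, 8],
  [7, 2, 3, 8, 4, 1, 7, 3, 2, 3, 1, 4, 8, 3],
  [3, 5, 1, 5, 1, 7, 4, 5, 1, 7, 5, 3, 2, 4, 2],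
  [4, 7, 4, 8, 7, 8, 4, 7, 8, 5, 8, 5],
  [8, 3, 2, 3, 8, 1, 8, 3, 1, 2, 1, 3, 8, 1],
  [4, 8, 7, 8, 3, 1, 3, 4, 8, 7, 8, 3, 1, 3],
  [3, 2, 1, 3, 2, 1, 2, 5, 3, 5, 1, 2, 3, 1],
  [2, 6, 5, 1, 5, 1, 6, 2, 4, 5, 1, 5, 4],
  [1, 7, 1, 3, 2, 8, 4, 2, 7, 4, 8, 2, 3],
  [2, 4, 7, 4, 5, 2, 5, 3, 5, 4, 7, 4, 5, 3],
  [5, 1, 8, 5, 8, 1, 5, 8, 1, 5, 1, 8],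
  [2, 7, 1, 3, 5, 1, 7, 2, 1, 5, 4, 2, 3, 2, 4, 1],
  [5, 6, 8, 6, 8, 6, 8, 5, 4, 1, 2, 1, 4],
  [2, 4, 1, 2, 7, 8, 7, 8, 1, 4, 8, 7, 8, 7],
  [7, 5, 2, 4, 1, 3, 1, 7, 4, 5, 3, 1, 4, 7, 2, 1],
  [4, 1, 8, 1, 4, 8, 1, 4, 8, 1, 4, 8],
  [4, 7, 1, 8, 1, 8, 7, 8, 4, 1, 8, 1, 2],
  [3, 4, 7, 5, 3, 5, 8, 3, 5, 3, 5, 7, 4, 8],
  [4, 3, 5, 8, 1, 8, 3, 1, 8, 5, 4, 8],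
  [8, 6, 8, 5, 6, 8, 4, 6, 8, 6, 5, 6, 8, 1],
  [2, 3, 8, 4, 1, 7, 3, 2, 3, 1, 4, 8, 3, 7],
  [7, 1, 2, 1, 7, 4, 5, 6, 2, 4, 1, 2, 6, 5, 4],
  [1, 5, 3, 5, 4, 1, 5, 3, 5, 4],
  [5, 3, 2, 4, 2, 3, 5, 7, 1, 5, 4, 7, 1, 5, 1],
  [5, 7, 4, 2, 4, 5, 8, 5, 7, 8, 5, 4, 2, 4],
  [4, 7, 2, 1, 7, 5, 2, 4, 1, 3, 1, 7, 4, 5, 3, 1],
  [4, 8, 1, 5, 8, 5, 4, 8, 1, 5, 8, 5],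
  [2, 3, 1, 3, 2, 1, 5, 3, 5, 2, 1, 2, 3, 1],
  [4, 1, 8, 3, 4, 5, 3, 8, 3, 5, 3, 8, 1, 8],
  [7, 4, 8, 3, 4, 7, 5, 3, 5, 8, 3, 5, 3, 5],
  [4, 2, 6, 1, 5, 1, 5, 6, 2, 4, 5, 1, 5],
  [4, 6, 8, 6, 5, 1, 8, 5, 6, 8, 5, 2, 1, 2, 5],
  [4, 7, 8, 5, 8, 5, 4, 7, 4, 8, 7, 8],
  [4, 7, 1, 2, 1, 7, 4, 5, 6, 2, 4, 1, 2, 6, 5],
  [5, 8, 1, 7, 3, 1, 5, 7, 1, 7, 3, 1, 8, 4],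
  [4, 8, 4, 7, 1, 3, 8, 1, 3, 1, 8, 3, 1, 7],
  [2, 1, 2, 5, 6, 8, 5, 1, 5, 8, 6, 1, 5],
  [4, 8, 1, 4, 5, 3, 8, 1, 3, 1, 8, 3, 5, 1],
  [7, 1, 2, 1, 2, 5, 7, 1, 2, 1, 5, 7, 5, 1, 2, 1],
  [7, 2, 1, 4, 2, 3, 2, 4, 5, 1, 2, 7, 1, 5, 3, 1],
  [8, 6, 5, 6, 8, 6, 4, 8, 6, 5, 8, 6, 8, 1],
  [7, 1, 3, 8, 1, 3, 1, 8, 3, 1, 7, 4, 8, 4],
  [4, 3, 8, 2, 4, 3, 5, 3, 2, 4, 2, 8, 3, 4, 5],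
  [4, 2, 4, 2, 6, 8, 4, 8, 6],
  [7, 5, 1, 8, 4, 1, 8, 4, 8, 5, 7, 4, 8, 4],
  [8, 6, 4, 8, 5, 2, 1, 2, 1, 5, 8, 4, 6, 8, 1],
  [2, 3, 1, 3, 2, 6, 3, 5, 1, 2, 1, 2, 3, 5, 6],
  [2, 4, 2, 8, 5, 8, 4, 2, 4, 5, 4],
  [6, 3, 5, 1, 2, 1, 2, 3, 5, 6, 2, 3, 1, 3, 2],
  [1, 8, 3, 1, 8, 5, 4, 8, 4, 3, 5, 8],
  [2, 3, 8, 1, 8, 3, 1, 2, 1, 3, 8, 1, 8, 3],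
  [3, 1, 4, 3, 8, 4, 3, 2, 1, 2, 5, 3, 8, 5],
  [2, 6, 7, 6, 2, 1, 4, 2, 6, 7, 6, 2, 4, 1],
  [6, 2, 3, 2, 6, 3, 5, 6, 3, 2, 3, 2, 6, 5],
  [5, 3, 2, 4, 2, 8, 3, 4, 5, 4, 3, 8, 2, 4, 3],
  [8, 1, 3, 1, 8, 3, 5, 4, 1, 8, 4, 1, 5, 3],
  [4, 5, 7, 1, 4, 7, 5, 1, 5, 7, 4, 5, 7, 1, 7],
  [7, 1, 2, 1, 2, 3, 1, 3, 4, 2, 1, 7, 2, 1, 7, 1],
  [7, 6, 2, 4, 1, 2, 6, 7, 6, 2, 1, 4, 2, 6],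
  [1, 8, 1, 5, 7, 8, 5, 8, 7, 5, 1, 8, 1, 7],
  [6, 2, 3, 2, 6, 7, 4, 5, 3, 5, 4, 1, 3, 1, 7],
  [8, 5, 8, 1, 5, 8, 1, 5, 1, 8, 5, 1],
  [3, 8, 5, 8, 3, 5, 2, 3, 8, 5, 8, 3, 2, 5],
  [4, 5, 1, 3, 8, 3, 1, 5, 4, 8, 1, 3, 1, 8],
  [5, 4, 7, 1, 7, 5, 4, 7, 5, 1, 5, 7, 4, 1, 7],
  [7, 8, 1, 8, 7, 4, 3, 1, 3, 2, 1, 7, 1, 2],
  [5, 3, 5, 8, 3, 1, 8, 3, 2, 8, 1, 2],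
  [1, 5, 7, 3, 1, 3, 8, 3, 1, 3, 7, 5, 1, 8],
  [4, 5, 8, 7, 5, 8, 5, 4, 2, 4, 7, 5, 4, 2],
  [3, 1, 7, 1, 3, 7, 5, 8, 5, 4, 8, 7],
  [5, 8, 5, 1, 5, 8, 3, 5, 2, 3, 1, 3, 2, 3],
  [3, 1, 7, 2, 1, 4, 2, 3, 2, 4, 5, 1, 2, 7, 1, 5],
  [2, 1, 5, 3, 5, 2, 1, 2, 3, 1, 2, 3, 1, 3],
  [2, 5, 3, 7, 4, 5, 4, 7, 3, 5, 2, 1, 3, 1, 3, 4],
  [2, 4, 3, 1, 3, 1, 2, 5, 3, 7, 4, 5, 4, 7, 3, 5],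
  [2, 3, 2, 6, 5, 6, 2, 3, 2, 3, 6, 5, 3, 6],
  [3, 5, 6, 3, 2, 3, 2, 6, 5, 6, 2, 3, 2, 6],
  [7, 1, 7, 4, 7, 1, 7, 1, 4, 7, 4, 1],
  [1, 8, 7, 4, 8, 3, 1, 7, 1, 3, 1, 2, 4, 2],
  [8, 3, 5, 2, 3, 8, 5, 8, 3, 2, 5, 3, 8, 5],
  [7, 1, 3, 1, 4, 5, 3, 5, 4, 7, 6, 2, 3, 2, 6],
  [5, 4, 3, 2, 4, 5, 6, 5, 4, 2, 3, 4, 5, 6],
  [7, 1, 2, 4, 3, 1, 3, 2, 1, 2, 1, 7, 1, 7, 1, 2],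
  [1, 7, 1, 3, 7, 8, 4, 5, 8, 5, 7, 3],
  [7, 1, 2, 3, 5, 7, 1, 2, 4, 2, 1, 7, 5, 3, 2, 1],
  [5, 2, 1, 2, 3, 4, 8, 3, 4, 1, 3, 5, 8, 3],
  [7, 4, 1, 7, 2, 1, 2, 3, 2, 1, 4, 2, 3, 2, 1, 2],
  [3, 7, 1, 7, 5, 1, 3, 7, 1, 8, 5, 4, 8, 1],
  [7, 4, 5, 2, 5, 3, 5, 4, 7, 4, 5, 3, 2, 4],
  [1, 4, 7, 5, 1, 5, 7, 4, 5, 7, 1, 7, 4, 5, 7],
  [5, 4, 1, 5, 4, 1, 5, 1, 4],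
  [3, 1, 3, 1, 4, 8, 7, 1, 2, 7, 1, 7, 8],
  [4, 5, 8, 4, 5, 8, 4, 3, 1, 2, 1, 2, 5, 3],
  [8, 1, 8, 6, 8, 5, 6, 8, 4, 6, 8, 6, 5, 6],
  [4, 5, 6, 2, 4, 1, 2, 6, 5, 4, 7, 1, 2, 1, 7],
  [2, 3, 5, 7, 1, 5, 4, 7, 1, 5, 1, 5, 3, 2, 4],
  [5, 3, 5, 4, 7, 6, 2, 3, 2, 6, 7, 1, 3, 1, 4],
  [5, 3, 1, 4, 5, 3, 5, 4, 1, 2, 3, 5, 4, 3, 4, 2],
  [5, 3, 6, 2, 3, 1, 3, 2, 6, 5, 3, 2, 1, 2, 1],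
  [8, 6, 2, 1, 2, 4, 8, 1, 6, 5, 1, 8, 1, 5, 6],
  [4, 8, 1, 4, 8, 1, 4, 8, 4, 1, 8, 1],
  [3, 4, 5, 4, 8, 1, 8, 5, 1, 3, 8, 4, 5, 8, 1],
  [4, 2, 1, 8, 6, 5, 8, 5, 4, 6, 8, 1, 6, 2],
  [8, 2, 1, 5, 1, 8, 7, 1, 2, 8, 5, 8, 1, 7],
  [3, 5, 8, 4, 1, 5, 8, 4, 1, 3, 8, 5, 1, 4, 8],
  [7, 3, 1, 3, 7, 4, 2, 3, 1, 7, 1, 7, 1, 3, 2, 4],
  [1, 8, 6, 4, 5, 8, 5, 6, 8, 1, 2, 4, 2, 6],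
  [3, 8, 3, 5, 3, 8, 1, 8, 4, 1, 8, 3, 4, 5],
  [6, 5, 1, 5, 1, 6, 2, 4, 5, 1, 5, 4, 2],
  [5, 1, 8, 5, 6, 8, 5, 2, 1, 2, 5, 4, 6, 8, 6],
  [3, 1, 8, 4, 5, 3, 8, 5, 3, 2, 1, 2, 1, 4, 8, 1],
  [4, 7, 4, 1, 3, 1, 7, 4, 1, 3, 1, 3, 7, 1, 3, 1],
  [6, 5, 1, 8, 5, 6, 8, 5, 2, 1, 2, 5, 4, 6, 8],
  [6, 8, 6, 5, 4, 1, 2, 1, 4, 5, 8, 6, 8],
  [3, 5, 3, 8, 4, 1, 8, 3, 2, 1, 2, 3, 4, 8, 5, 8],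
  [8, 4, 7, 5, 1, 8, 4, 1, 8, 4, 8, 5, 7, 4],
  [5, 4, 7, 1, 5, 1, 5, 3, 2, 4, 2, 3, 5, 7, 1],
  [3, 8, 1, 4, 8, 1, 8, 3, 5, 3, 8, 3, 5, 4],
  [1, 2, 8, 4, 2, 8, 1, 8, 2, 4, 8, 2],
  [5, 1, 5, 1, 6, 2, 4, 5, 1, 5, 4, 2, 6],
  [6, 1, 8, 4, 2, 1, 2, 6, 8, 6, 5, 1, 8, 1, 5],
  [5, 4, 8, 1, 8, 4, 5, 6, 1, 5, 2, 1, 2, 5, 6],
  [4, 3, 5, 1, 5, 8, 4, 1, 3, 5, 3, 1, 8, 3, 5],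
  [5, 3, 8, 5, 3, 1, 4, 3, 8, 4, 3, 2, 1, 2],
  [5, 1, 7, 5, 1, 7, 5, 1, 7, 1, 7, 5, 1, 5, 7],
  [4, 5, 8, 5, 1, 8, 4, 5, 8, 5, 1, 8],
  [8, 3, 2, 3, 8, 4, 8, 4, 3, 2, 3, 4, 8, 4],
  [5, 1, 6, 5, 4, 8, 1, 8, 4, 5, 6, 5, 2, 1, 2],
  [5, 2, 1, 7, 4, 5, 8, 1, 4, 8, 5, 4, 7, 1],
  [8, 4, 7, 1, 5, 7, 8, 7, 8, 5, 1, 7, 8, 4],
  [2, 3, 2, 6, 7, 4, 5, 3, 5, 4, 1, 3, 1, 7, 6],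
  [5, 7, 3, 1, 3, 8, 3, 1, 3, 7, 5, 1, 8, 1],
  [1, 2, 6, 5, 1, 3, 2, 3, 1, 3, 5, 2, 6, 3, 2],
  [7, 4, 1, 3, 5, 4, 7, 1, 3, 1, 4, 2, 5, 7, 1, 2],
  [2, 3, 8, 5, 7, 5, 3, 2, 3, 7, 5, 8, 3, 7],
  [4, 7, 8, 1, 8, 7, 2, 1, 7, 1, 2, 3, 1, 3],
  [4, 5, 8, 4, 1, 8, 5, 4, 7, 1, 2, 5, 1, 7],
  [2, 3, 4, 5, 6, 5, 4, 3, 2, 4, 5, 6, 5, 4],
  [8, 4, 3, 1, 3, 8, 7, 8, 4, 3, 1, 3, 8, 7],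
  [5, 3, 5, 2, 1, 8, 2, 3, 8, 1, 3, 8],
  [8, 6, 8, 6, 8, 1, 8, 6, 8, 6, 8, 1],
  [3, 4, 5, 3, 1, 8, 1, 3, 5, 4, 3, 1, 8, 1],
  [7, 5, 4, 7, 1, 7, 5, 4, 7, 5, 1, 5, 7, 4, 1],
  [4, 8, 1, 5, 7, 4, 8, 4, 7, 5, 8, 4, 8, 1],
  [2, 4, 3, 1, 3, 2, 6, 5, 6, 2, 4, 2, 6, 5, 6],
  [4, 7, 6, 1, 2, 4, 2, 1, 6, 7, 4, 2],
  [7, 1, 5, 7, 8, 7, 8, 5, 1, 7, 8, 4, 8, 4],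
  [8, 3, 1, 3, 1, 4, 8, 7, 1, 2, 7, 1, 7],
  [2, 3, 2, 5, 7, 1, 2, 7, 5, 3, 5, 7, 2, 1, 7, 5],
  [3, 5, 4, 3, 8, 1, 4, 8, 1, 8, 3, 5, 3, 8],
  [3, 4, 5, 3, 8, 1, 3, 5, 3, 1, 4, 8, 5, 1, 5],
  [7, 4, 2, 3, 1, 7, 1, 7, 1, 3, 2, 4, 7, 3, 1, 3],
  [4, 2, 3, 4, 5, 1, 5, 4, 3, 2, 4, 5, 3, 1, 3, 5],
  [5, 7, 1, 4, 7, 5, 3, 5, 2, 4, 1, 2, 5, 3],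
  [5, 3, 8, 3, 5, 3, 8, 1, 8, 4, 1, 8, 3, 4],
  [4, 8, 4, 5, 7, 5, 8, 4, 8, 4, 5, 7, 5, 8],
  [8, 5, 6, 8, 1, 2, 4, 2, 6, 1, 8, 6, 4, 5],
  [3, 8, 4, 3, 5, 8, 5, 1, 3, 4, 8, 2, 1, 2],
  [8, 3, 2, 5, 3, 8, 5, 8, 3, 5, 2, 3, 8, 5],
  [6, 8, 6, 2, 1, 2, 4, 8, 1, 6, 5, 1, 8, 1, 5],
  [3, 4, 8, 3, 2, 1, 2, 8, 4, 3, 1, 5, 8, 5],
  [7, 1, 7, 1, 7, 1, 7, 5, 1, 7, 1, 5, 7, 1],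
  [4, 6, 8, 1, 6, 2, 4, 2, 1, 8, 6, 5, 8, 5],
  [4, 5, 7, 5, 4, 1, 5, 7, 5, 1, 4, 5, 7, 5, 1],
  [2, 1, 4, 2, 7, 8, 7, 8, 4, 1, 8, 7, 8, 7],
  [2, 7, 4, 1, 3, 5, 4, 7, 1, 3, 1, 4, 2, 5, 7, 1],
  [8, 5, 8, 7, 8, 2, 5, 8, 7, 8, 5, 8, 7],
  [7, 5, 4, 7, 1, 3, 2, 4, 2, 1, 5, 4, 1, 7, 3, 1],
  [2, 1, 2, 6, 5, 1, 3, 2, 3, 1, 3, 5, 2, 6, 3],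
  [2, 1, 2, 4, 5, 8, 4, 5, 1, 5, 4, 8, 1, 5, 4],
  [3, 5, 3, 8, 3, 5, 4, 3, 8, 1, 4, 8, 1, 8],
  [6, 5, 6, 8, 6, 4, 8, 6, 5, 8, 6, 8, 1, 8],
  [4, 7, 5, 8, 5, 7, 1, 2, 4, 2, 1, 5, 8, 5],
  [8, 5, 1, 8, 6, 8, 6, 4, 8, 6, 1, 8, 5],
  [3, 7, 1, 8, 5, 4, 8, 1, 3, 7, 1, 7, 5, 1],
  [7, 6, 1, 7, 1, 6, 7, 6, 1, 7, 6, 1],
  [3, 1, 7, 1, 3, 2, 8, 4, 2, 7, 4, 8, 2],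
  [6, 3, 1, 3, 2, 1, 2, 1, 3, 1, 3, 6, 2, 1, 2],
  [8, 4, 3, 5, 8, 5, 1, 3, 4, 8, 2, 1, 2, 3],
  [4, 8, 7, 8, 7, 2, 4, 1, 2, 7, 8, 7, 8, 1],
  [4, 8, 4, 7, 5, 1, 8, 4, 1, 8, 4, 8, 5, 7],
  [7, 1, 7, 5, 4, 7, 1, 5, 7, 1, 5, 4, 7, 5, 4],
  [5, 8, 6, 8, 6, 8, 6, 5, 4, 1, 2, 1, 4],
  [2, 6, 2, 8, 6, 2, 8, 6, 8, 2, 6, 8],
  [5, 8, 5, 3, 4, 8, 3, 2, 1, 2, 8, 4, 3, 1],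
  [3, 1, 3, 2, 5, 3, 8, 5, 1, 5, 8, 5, 3, 2],
  [6, 8, 6, 4, 5, 2, 1, 2, 5, 8, 6, 5, 8, 1, 5],
  [4, 7, 1, 7, 5, 4, 7, 5, 1, 5, 7, 4, 1, 7, 5],
  [3, 6, 2, 3, 1, 3, 2, 6, 5, 3, 2, 1, 2, 1, 5],
  [8, 7, 8, 4, 1, 8, 1, 2, 4, 7, 1, 8, 1],
  [5, 2, 5, 4, 7, 8, 7, 4, 2, 4, 7, 8, 7, 4],
  [2, 4, 5, 1, 5, 4, 2, 6, 5, 1, 5, 1, 6],
  [5, 1, 5, 7, 1, 7, 1, 5, 7, 1, 5, 7, 1, 5, 7],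
  [5, 1, 7, 4, 5, 7, 1, 7, 4, 5, 7, 4, 5, 1, 7],
  [1, 3, 7, 1, 4, 5, 1, 2, 4, 2, 3, 1, 7, 4, 5, 7],
  [2, 5, 3, 8, 5, 1, 5, 8, 5, 3, 2, 3, 1, 3],
  [3, 5, 4, 3, 1, 8, 1, 3, 4, 5, 3, 1, 8, 1],
  [2, 1, 7, 1, 2, 3, 1, 3, 4, 7, 8, 1, 8, 7],
  [4, 1, 3, 1, 7, 6, 2, 3, 2, 6, 7, 4, 5, 3, 5],
  [5, 4, 2, 4, 8, 5, 8, 2, 4, 2, 4],
  [3, 5, 1, 2, 1, 2, 3, 5, 6, 2, 3, 1, 3, 2, 6],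
  [5, 6, 8, 6, 4, 5, 2, 1, 2, 5, 8, 6, 5, 8, 1],
  [7, 1, 2, 7, 1, 2, 4, 3, 1, 3, 2, 1, 2, 1, 7, 1],
  [5, 1, 3, 7, 1, 8, 5, 4, 8, 1, 3, 7, 1, 7],
  [6, 5, 8, 5, 4, 6, 8, 1, 6, 2, 4, 2, 1, 8],
  [5, 3, 5, 4, 1, 5, 3, 5, 4, 1],
  [1, 6, 2, 4, 2, 1, 8, 6, 5, 8, 5, 4, 6, 8],
  [6, 5, 4, 1, 2, 1, 4, 5, 8, 6, 8, 6, 8],
  [4, 8, 3, 2, 1, 2, 8, 4, 3, 1, 5, 8, 5, 3],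
  [5, 1, 8, 5, 4, 2, 4, 5, 8, 1, 5, 4, 2, 4],
  [4, 8, 4, 8, 7, 1, 5, 8, 7, 8, 7, 5, 1, 7],
  [2, 1, 2, 3, 1, 2, 1, 3, 4, 5, 3, 5, 4, 2, 1, 3],
  [2, 4, 8, 1, 6, 5, 1, 8, 1, 5, 6, 8, 6, 2, 1],
  [3, 1, 3, 2, 1, 5, 3, 5, 2, 1, 2, 3, 1, 2],
  [2, 3, 6, 5, 3, 6, 2, 3, 2, 6, 5, 6, 2, 3],
  [6, 2, 3, 1, 3, 2, 6, 5, 3, 2, 1, 2, 1, 5, 3],
  [1, 7, 1, 2, 7, 1, 2, 4, 3, 1, 3, 2, 1, 2, 1, 7],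
  [4, 2, 1, 7, 3, 1, 2, 4, 1, 2, 1, 3, 7, 1, 2, 1],
  [8, 5, 8, 7, 5, 1, 8, 1, 7, 1, 8, 1, 5, 7],
  [2, 1, 4, 2, 6, 5, 4, 7, 1, 2, 1, 7, 4, 5, 6],
  [2, 3, 5, 7, 1, 2, 4, 2, 1, 7, 5, 3, 2, 1, 7, 1],
  [3, 8, 1, 8, 3, 1, 2, 1, 3, 8, 1, 8, 3, 2],
  [4, 3, 5, 8, 5, 1, 3, 4, 8, 2, 1, 2, 3, 8],
  [5, 3, 6, 2, 3, 2, 6, 5, 6, 2, 3, 2, 3, 6],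
  [1, 4, 2, 6, 5, 4, 7, 1, 2, 1, 7, 4, 5, 6, 2],
  [5, 3, 1, 4, 3, 8, 4, 3, 2, 1, 2, 5, 3, 8],
  [3, 1, 3, 2, 1, 3, 2, 1, 2, 5, 3, 5, 1, 2],
  [6, 8, 5, 2, 1, 2, 5, 4, 6, 8, 6, 5, 1, 8, 5],
  [2, 4, 2, 6, 1, 8, 6, 4, 5, 8, 5, 6, 8, 1],
  [4, 2, 1, 4, 2, 4, 7, 3, 1, 2, 4, 1, 2, 1, 3, 7],
  [1, 2, 1, 7, 4, 2, 4, 7, 1, 2, 1, 7, 4, 2, 4, 7],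
  [3, 7, 4, 2, 4, 7, 3, 1, 7, 1, 3, 2, 3, 1, 7, 1],
  [1, 8, 1, 4, 8, 1, 4, 8, 1, 4, 8, 4],
  [4, 7, 8, 7, 4, 2, 4, 7, 8, 7, 4, 5, 2, 5],
  [2, 7, 8, 1, 8, 7, 4, 3, 1, 3, 2, 1, 7, 1],
  [7, 4, 8, 4, 8, 7, 1, 5, 8, 7, 8, 7, 5, 1],
  [7, 4, 8, 2, 1, 7, 8, 7, 4, 2, 8, 1, 7, 8],
  [3, 6, 5, 3, 6, 2, 3, 2, 6, 5, 6, 2, 3, 2],
  [6, 3, 5, 6, 3, 2, 3, 2, 6, 5, 6, 2, 3, 2],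
  [3, 1, 3, 2, 3, 1, 5, 6, 2, 1, 2, 3, 6, 2, 5],
  [7, 1, 8, 1, 5, 7, 8, 5, 8, 7, 5, 1, 8, 1],
  [2, 8, 7, 1, 8, 5, 8, 2, 1, 7, 8, 1, 5, 1],
  [3, 2, 1, 5, 4, 7, 2, 1, 3, 1, 2, 7, 4, 5, 1, 2],
  [5, 7, 5, 8, 4, 8, 4, 5, 7, 5, 8, 4, 8, 4],
  [7, 4, 5, 8, 4, 1, 8, 5, 4, 7, 1, 2, 5, 1],
  [6, 3, 2, 1, 2, 6, 5, 1, 3, 2, 3, 1, 3, 5, 2],
  [1, 2, 5, 3, 8, 5, 3, 1, 4, 3, 8, 4, 3, 2],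
  [4, 6, 8, 6, 5, 6, 8, 1, 8, 6, 8, 5, 6, 8],
  [2, 6, 3, 1, 3, 2, 1, 2, 1, 3, 1, 3, 6, 2, 1],
  [5, 8, 4, 1, 5, 8, 4, 1, 3, 8, 5, 1, 4, 8, 3],
  [6, 2, 4, 1, 2, 6, 5, 4, 7, 1, 2, 1, 7, 4, 5],
  [6, 8, 6, 4, 8, 6, 5, 8, 6, 8, 1, 8, 6, 5],
  [3, 2, 5, 3, 5, 4, 8, 1, 8, 4, 3, 2, 3, 1],
  [4, 7, 4, 1, 3, 1, 7, 3, 1, 3, 1, 4, 7, 1, 3, 1],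
  [5, 4, 7, 1, 3, 2, 4, 2, 1, 5, 4, 1, 7, 3, 1, 7],
  [3, 8, 1, 3, 1, 8, 3, 5, 4, 1, 8, 4, 1, 5],
  [2, 6, 3, 1, 3, 1, 2, 1, 2, 3, 1, 3, 6, 2, 1],
  [6, 5, 1, 8, 1, 5, 6, 1, 8, 4, 2, 1, 2, 6, 8],
  [8, 5, 2, 1, 2, 5, 4, 6, 8, 6, 5, 1, 8, 5, 6],
  [3, 5, 3, 1, 4, 8, 5, 1, 5, 3, 4, 5, 3, 8, 1],
  [6, 2, 4, 1, 2, 6, 7, 6, 2, 1, 4, 2, 6, 7],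
  [3, 2, 6, 3, 5, 6, 3, 2, 3, 2, 6, 5, 6, 2],
  [6, 8, 6, 5, 1, 8, 5, 6, 8, 5, 2, 1, 2, 5, 4],
  [3, 4, 8, 1, 8, 4, 5, 3, 5, 2, 3, 1, 3, 2],
  [5, 8, 1, 5, 8, 1, 5, 1, 8, 5, 1, 8],
  [2, 4, 1, 3, 1, 7, 4, 5, 3, 1, 4, 7, 2, 1, 7, 5],
  [8, 3, 5, 4, 8, 1, 3, 1, 8, 4, 1, 2, 1, 2, 3, 5],
  [5, 1, 3, 4, 8, 2, 1, 2, 3, 8, 4, 3, 5, 8],
  [6, 8, 5, 6, 8, 4, 6, 8, 6, 5, 6, 8, 1, 8],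
  [2, 1, 8, 6, 5, 8, 5, 4, 6, 8, 1, 6, 2, 4],
  [4, 2, 8, 1, 7, 8, 7, 4, 8, 2, 1, 7, 8, 7],
  [4, 2, 4, 5, 7, 4, 2, 4, 5, 8, 5, 7, 8, 5],
  [6, 2, 3, 1, 3, 2, 6, 8, 3, 1, 3, 8, 3, 1, 3],
  [3, 8, 5, 3, 5, 7, 4, 3, 8, 4, 7, 5, 3, 5],
  [2, 4, 2, 4, 5, 4, 2, 4, 8, 5, 8],
  [1, 8, 1, 5, 6, 8, 6, 2, 1, 2, 4, 8, 1, 6, 5],
  [3, 1, 3, 4, 8, 7, 8, 3, 1, 3, 4, 8, 7, 8],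
  [8, 1, 5, 4, 2, 4, 5, 1, 8, 5, 4, 2, 4, 5],
  [4, 3, 1, 3, 2, 3, 7, 1, 4, 7, 3, 2],
  [6, 2, 4, 2, 6, 5, 7, 5, 6, 2, 4, 2, 6, 5, 7, 5],
  [2, 6, 8, 6, 5, 1, 8, 1, 5, 6, 1, 8, 4, 2, 1],
  [6, 8, 6, 2, 1, 2, 6, 8, 6, 2, 1, 2],
  [3, 1, 3, 6, 2, 3, 1, 3, 2, 6, 8, 3, 1, 3, 8],
  [6, 8, 1, 2, 4, 2, 6, 1, 8, 6, 4, 5, 8, 5],
  [1, 3, 4, 8, 5, 4, 8, 5, 4, 3, 5, 2, 1, 2],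
  [4, 1, 8, 1, 4, 7, 5, 1, 7, 8, 7, 1, 5, 7],
  [8, 6, 5, 8, 6, 8, 1, 8, 6, 5, 6, 8, 6, 4],
  [5, 1, 6, 2, 4, 5, 1, 5, 4, 2, 6, 5, 1],
  [4, 2, 4, 5, 4, 2, 4, 8, 5, 8, 2],
  [5, 3, 2, 1, 2, 1, 4, 8, 1, 3, 1, 8, 4, 5, 3, 8],
  [3, 1, 7, 1, 3, 1, 2, 4, 2, 1, 8, 7, 4, 8],
  [8, 2, 1, 7, 8, 1, 5, 1, 2, 8, 7, 1, 8, 5],
  [1, 4, 8, 1, 4, 8, 1, 4, 8, 4, 1, 8],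
  [7, 2, 1, 7, 1, 2, 3, 1, 3, 4, 7, 8, 1, 8],
  [4, 5, 7, 5, 8, 4, 8, 4, 5, 7, 5, 8, 4, 8],
  [2, 1, 8, 2, 3, 8, 1, 3, 8, 5, 3, 5],
  [5, 8, 4, 6, 8, 1, 8, 6, 4, 8, 5, 2, 1, 2, 1],
  [6, 5, 6, 2, 4, 2, 6, 5, 6, 2, 4, 3, 1, 3, 2],
  [7, 2, 1, 7, 1, 7, 1, 2, 1, 2, 3, 1, 3, 4, 2, 1],
  [3, 2, 8, 4, 7, 2, 4, 8, 2, 3, 1, 7, 1],
  [6, 5, 1, 8, 1, 5, 6, 8, 6, 2, 1, 2, 4, 8, 1],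
  [7, 6, 1, 7, 6, 1, 7, 1, 6, 7, 6, 1],
  [4, 8, 5, 7, 5, 4, 8, 4, 8, 5, 7, 5, 4, 8],
  [5, 2, 4, 3, 1, 3, 1, 2, 5, 3, 7, 4, 5, 4, 7, 3],
  [8, 1, 8, 6, 5, 6, 8, 6, 4, 8, 6, 5, 8, 6],
  [4, 3, 1, 3, 8, 7, 8, 4, 3, 1, 3, 8, 7, 8],
  [7, 4, 2, 4, 7, 8, 7, 4, 5, 2, 5, 4, 7, 8],
  [8, 1, 7, 1, 8, 1, 5, 7, 8, 5, 8, 7, 5, 1],
  [5, 2, 1, 2, 3, 1, 2, 3, 1, 3, 2, 1, 5, 3],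
  [2, 1, 4, 5, 8, 6, 8, 6, 8, 6, 5, 4, 1],
  [5, 3, 8, 1, 3, 1, 8, 3, 5, 1, 4, 8, 1, 4],
  [4, 8, 1, 8, 4, 5, 3, 5, 2, 3, 1, 3, 2, 3],
  [6, 2, 1, 2, 6, 3, 1, 3, 2, 1, 2, 1, 3, 1, 3],
  [6, 7, 6, 2, 1, 4, 2, 6, 7, 6, 2, 4, 1, 2],
  [7, 1, 3, 5, 1, 7, 2, 1, 5, 4, 2, 3, 2, 4, 1, 2],
  [8, 6, 1, 8, 5, 8, 5, 1, 8, 6, 8, 6, 4],
  [4, 8, 1, 3, 1, 8, 4, 5, 1, 3, 8, 3, 1, 5],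
  [3, 1, 3, 6, 8, 1, 8, 6, 3, 1, 3, 1, 8, 1, 8],
  [3, 4, 7, 8, 1, 8, 7, 2, 1, 7, 1, 2, 3, 1],
  [4, 3, 1, 2, 1, 2, 5, 3, 4, 5, 8, 4, 5, 8],
  [8, 5, 4, 6, 8, 1, 6, 2, 4, 2, 1, 8, 6, 5],
  [2, 8, 5, 8, 1, 7, 8, 2, 1, 5, 1, 8, 7, 1],
  [8, 1, 4, 8, 4, 1, 8, 1, 4, 8, 1, 4],
  [4, 8, 4, 8, 5, 7, 5, 4, 8, 4, 8, 5, 7, 5],
  [2, 1, 3, 1, 3, 4, 2, 5, 3, 7, 4, 5, 4, 7, 3, 5],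
  [8, 6, 8, 1, 8, 6, 5, 6, 8, 6, 4, 8, 6, 5],
  [1, 7, 1, 7, 1, 7, 5, 1, 7, 1, 5, 7, 1, 7],
  [5, 6, 2, 4, 1, 2, 6, 5, 4, 7, 1, 2, 1, 7, 4],
  [3, 1, 3, 8, 3, 1, 3, 7, 5, 1, 8, 1, 5, 7],
  [4, 6, 2, 3, 1, 4, 3, 1, 2, 6, 4, 7, 1, 2, 1, 7],
  [3, 1, 7, 6, 2, 3, 2, 6, 7, 4, 5, 3, 5, 4, 1],
  [8, 4, 5, 6, 1, 5, 2, 1, 2, 5, 6, 5, 4, 8, 1],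
  [3, 2, 4, 2, 8, 3, 4, 5, 4, 3, 8, 2, 4, 3, 5],
  [8, 1, 7, 8, 2, 1, 5, 1, 8, 7, 1, 2, 8, 5],
  [2, 1, 8, 1, 8, 5, 8, 1, 8, 2, 1, 5],
  [3, 1, 2, 4, 2, 1, 8, 7, 4, 8, 3, 1, 7, 1],
  [6, 5, 7, 5, 6, 2, 4, 2, 6, 5, 7, 5, 6, 2, 4, 2],
  [7, 8, 5, 8, 7, 5, 1, 8, 1, 7, 1, 8, 1, 5],
  [1, 3, 1, 2, 4, 2, 1, 8, 7, 4, 8, 3, 1, 7],
  [5, 6, 3, 2, 3, 2, 6, 5, 6, 2, 3, 2, 6, 3],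
  [3, 4, 2, 6, 5, 6, 2, 4, 2, 6, 5, 6, 2, 3, 1],
  [2, 7, 8, 7, 8, 4, 1, 8, 7, 8, 7, 2, 1, 4],
  [4, 5, 8, 5, 1, 2, 4, 2, 1, 7, 5, 8, 5, 7],
  [5, 4, 2, 4, 5, 1, 8, 5, 4, 2, 4, 5, 8, 1],
  [4, 1, 2, 5, 3, 5, 7, 1, 4, 7, 5, 3, 5, 2],
  [5, 2, 1, 2, 5, 1, 6, 5, 4, 8, 1, 8, 4, 5, 6],
  [7, 1, 7, 4, 5, 7, 1, 4, 7, 5, 1, 5, 7, 4, 5],
  [7, 5, 1, 7, 8, 7, 1, 5, 7, 4, 1, 8, 1, 4],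
  [7, 4, 5, 1, 2, 3, 2, 1, 5, 4, 7, 2, 1, 3, 1, 2],
  [7, 1, 5, 7, 1, 7, 1, 7, 1, 7, 1, 7, 5, 1],
  [1, 5, 1, 5, 6, 2, 4, 5, 1, 5, 4, 2, 6],
  [5, 1, 7, 8, 1, 8, 5, 3, 1, 3, 4, 7, 1, 7],
  [7, 1, 5, 8, 7, 8, 7, 5, 1, 7, 4, 8, 4, 8],
  [5, 2, 1, 2, 5, 6, 8, 5, 1, 5, 8, 6, 1],
  [7, 5, 1, 2, 1, 7, 1, 2, 1, 2, 5, 7, 1, 2, 1, 5],
  [1, 7, 1, 7, 4, 7, 1, 7, 1, 4, 7, 4],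
  [5, 3, 7, 4, 5, 4, 7, 3, 5, 2, 4, 3, 1, 3, 1, 2],
  [5, 1, 5, 8, 5, 4, 1, 8, 1, 8, 1, 4, 5, 8],
  [7, 1, 4, 5, 7, 4, 2, 4, 7, 5, 4, 1, 7, 1, 2, 1],
  [7, 5, 4, 1, 5, 7, 5, 1, 4, 5, 7, 5, 1, 4, 5],
  [3, 2, 3, 5, 8, 5, 1, 5, 8, 3, 5, 2, 3, 1],
  [4, 1, 5, 7, 5, 1, 4, 5, 7, 5, 1, 4, 5, 7, 5],
  [5, 3, 2, 1, 3, 2, 4, 1, 4, 2, 5, 3, 1, 2, 3, 1],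
  [7, 4, 5, 7, 1, 3, 7, 1, 4, 5, 1, 2, 4, 2, 3, 1],
  [8, 1, 8, 1, 3, 1, 3, 6, 8, 1, 8, 6, 3, 1, 3],
  [1, 8, 5, 6, 8, 5, 2, 1, 2, 5, 4, 6, 8, 6, 5],
  [2, 5, 6, 8, 5, 1, 5, 8, 6, 1, 5, 2, 1],
  [5, 8, 3, 2, 5, 3, 8, 5, 8, 3, 5, 2, 3, 8],
  [5, 8, 7, 5, 8, 5, 4, 2, 4, 7, 5, 4, 2, 4],
  [7, 1, 2, 7, 8, 1, 8, 7, 4, 3, 1, 3, 2, 1],
  [3, 8, 6, 2, 3, 1, 3, 2, 6, 3, 1, 3, 8, 3, 1],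
  [3, 8, 5, 7, 5, 3, 2, 3, 7, 5, 8, 3, 7, 2],
  [1, 5, 7, 8, 7, 8, 5, 1, 7, 8, 4, 8, 4, 7],
  [8, 1, 5, 6, 1, 8, 4, 2, 1, 2, 6, 8, 6, 5, 1],
  [2, 1, 2, 1, 5, 3, 6, 2, 3, 1, 3, 2, 6, 5, 3],
  [3, 1, 2, 1, 2, 3, 1, 3, 6, 2, 1, 2, 6, 3, 1],
  [1, 5, 2, 1, 7, 4, 5, 8, 1, 4, 8, 5, 4, 7],
  [4, 2, 1, 5, 2, 4, 2, 1, 2, 5, 4, 2, 1, 2, 5],
  [4, 8, 3, 2, 3, 8, 4, 8, 4, 3, 2, 3, 4, 8],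
  [1, 7, 5, 8, 5, 7, 4, 5, 8, 5, 1, 2, 4, 2],
  [3, 5, 2, 1, 2, 3, 4, 8, 3, 4, 1, 3, 5, 8],
  [1, 3, 6, 2, 1, 2, 6, 3, 1, 3, 2, 1, 2, 1, 3],
  [1, 4, 8, 5, 4, 7, 1, 5, 2, 1, 7, 4, 5, 8],
  [5, 3, 8, 5, 3, 5, 7, 4, 3, 8, 4, 7, 5, 3],
  [5, 4, 1, 7, 3, 1, 7, 5, 4, 7, 1, 3, 2, 4, 2, 1],
  [1, 5, 7, 1, 7, 1, 7, 1, 7, 1, 7, 5, 1, 7],
  [5, 4, 7, 1, 2, 1, 7, 4, 5, 6, 2, 4, 1, 2, 6],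
  [8, 5, 1, 5, 8, 6, 1, 5, 2, 1, 2, 5, 6],
  [1, 4, 5, 8, 6, 8, 6, 8, 6, 5, 4, 1, 2],
  [3, 1, 3, 6, 2, 1, 2, 6, 3, 1, 3, 2, 1, 2, 1],
  [7, 4, 5, 6, 2, 4, 1, 2, 6, 5, 4, 7, 1, 2, 1],
  [1, 5, 6, 2, 1, 2, 3, 6, 2, 5, 3, 1, 3, 2, 3],
  [4, 5, 4, 8, 1, 8, 5, 1, 3, 8, 4, 5, 8, 1, 3],
  [2, 5, 8, 4, 6, 8, 1, 8, 6, 4, 8, 5, 1, 2, 1],
  [5, 4, 7, 4, 2, 3, 5, 4, 7, 4, 5, 3, 5, 2],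
  [4, 3, 1, 2, 1, 3, 2, 1, 2, 3, 1, 2, 4, 5, 3, 5],
  [7, 1, 3, 1, 2, 4, 2, 1, 8, 7, 4, 8, 3, 1],
  [8, 1, 8, 7, 1, 5, 7, 1, 7, 4, 3, 1, 3, 5],
  [5, 4, 7, 5, 8, 5, 7, 1, 2, 4, 2, 1, 5, 8],
  [8, 7, 2, 1, 7, 1, 2, 3, 1, 3, 4, 7, 8, 1],
  [2, 4, 7, 6, 1, 2, 4, 2, 1, 6, 7, 4],
  [4, 7, 5, 1, 8, 4, 1, 8, 4, 8, 5, 7, 4, 8],
  [5, 1, 3, 2, 3, 1, 3, 5, 2, 6, 3, 2, 1, 2, 6],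
  [5, 8, 7, 8, 2, 5, 8, 7, 8, 5, 8, 7, 8],
  [5, 1, 8, 1, 5, 6, 1, 8, 4, 2, 1, 2, 6, 8, 6],
  [2, 1, 7, 5, 8, 5, 7, 4, 5, 8, 5, 1, 2, 4],
  [5, 1, 7, 8, 7, 1, 5, 7, 4, 1, 8, 1, 4, 7],
  [5, 1, 5, 8, 5, 3, 2, 3, 1, 3, 2, 5, 3, 8],
  [1, 3, 5, 4, 3, 1, 8, 1, 3, 4, 5, 3, 1, 8],
  [2, 1, 3, 8, 1, 8, 3, 2, 3, 8, 1, 8, 3, 1],
  [1, 7, 8, 2, 1, 5, 1, 8, 7, 1, 2, 8, 5, 8],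
  [1, 7, 3, 1, 5, 7, 1, 7, 3, 1, 8, 4, 5, 8],
  [5, 8, 6, 5, 8, 1, 5, 6, 8, 6, 4, 5, 2, 1, 2],
  [1, 3, 8, 4, 7, 8, 1, 2, 4, 2, 1, 3, 1, 7],
  [1, 7, 3, 2, 3, 1, 4, 8, 3, 7, 2, 3, 8, 4],
  [4, 2, 1, 7, 5, 8, 5, 7, 4, 5, 8, 5, 1, 2],
  [8, 7, 8, 1, 8, 1, 7, 4, 2, 1, 8, 1, 4],
  [1, 8, 1, 4, 8, 7, 8, 1, 8, 1, 7, 4, 2],
  [3, 1, 7, 5, 8, 1, 3, 1, 8, 5, 7, 1, 3, 8],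
  [6, 2, 1, 2, 4, 8, 1, 6, 5, 1, 8, 1, 5, 6, 8],
  [7, 1, 7, 4, 5, 7, 4, 5, 1, 7, 5, 1, 7, 4, 5],
  [5, 8, 1, 7, 8, 2, 1, 5, 1, 8, 7, 1, 2, 8],
  [7, 5, 1, 7, 5, 1, 7, 1, 7, 5, 1, 5, 7, 5, 1],
  [2, 1, 2, 3, 6, 2, 5, 3, 1, 3, 2, 3, 1, 5, 6],
  [8, 4, 5, 8, 1, 5, 8, 4, 2, 1, 2, 5, 8, 1, 5],
  [1, 7, 5, 1, 3, 7, 1, 8, 5, 4, 8, 1, 3, 7],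
  [8, 5, 3, 1, 3, 4, 7, 1, 7, 5, 1, 7, 8, 1],
  [7, 1, 5, 7, 4, 1, 8, 1, 4, 7, 5, 1, 7, 8],
  [7, 5, 4, 2, 4, 5, 8, 7, 5, 8, 5, 4, 2, 4],
  [3, 8, 3, 5, 4, 3, 8, 1, 4, 8, 1, 8, 3, 5],
  [4, 5, 8, 1, 4, 8, 5, 4, 7, 1, 5, 2, 1, 7],
  [3, 5, 7, 1, 2, 4, 2, 1, 7, 5, 3, 2, 1, 7, 1, 2],
  [5, 2, 3, 2, 5, 7, 1, 2, 7, 5, 3, 5, 7, 2, 1, 7],
  [4, 2, 5, 3, 5, 7, 4, 1, 7, 5, 3, 5, 2, 1],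
  [8, 4, 1, 8, 7, 8, 7, 2, 1, 4, 2, 7, 8, 7],
  [7, 1, 6, 7, 6, 1, 7, 6, 1, 7, 6, 1],
  [7, 1, 2, 1, 4, 2, 1, 7, 3, 1, 2, 4, 1, 2, 1, 3],
  [4, 1, 2, 1, 4, 5, 8, 6, 8, 6, 8, 6, 5],
  [1, 7, 5, 4, 7, 5, 1, 5, 7, 4, 1, 7, 5, 4, 7],
  [7, 1, 2, 1, 5, 7, 5, 1, 2, 1, 7, 1, 2, 1, 2, 5],
  [1, 2, 7, 1, 2, 4, 3, 1, 3, 2, 1, 2, 1, 7, 1, 7],
  [5, 2, 1, 2, 1, 7, 1, 2, 1, 5, 7, 5, 1, 2, 1, 7],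
  [1, 7, 4, 5, 7, 1, 4, 7, 5, 1, 5, 7, 4, 5, 7],
  [2, 3, 5, 8, 5, 1, 5, 8, 3, 5, 2, 3, 1, 3],
  [5, 1, 4, 5, 7, 5, 4, 1, 5, 7, 5, 1, 4, 5, 7],
  [5, 1, 2, 1, 7, 1, 2, 1, 2, 5, 7, 1, 2, 1, 5, 7],
  [7, 1, 3, 2, 8, 4, 2, 7, 4, 8, 2, 3, 1],
  [2, 1, 3, 1, 2, 7, 4, 5, 1, 2, 3, 2, 1, 5, 4, 7],
  [5, 3, 4, 2, 8, 3, 4, 5, 4, 3, 8, 2, 4, 2, 3],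
  [4, 5, 1, 7, 5, 1, 7, 4, 5, 7, 1, 7, 4, 5, 7],
  [1, 7, 2, 1, 7, 1, 7, 1, 2, 1, 2, 3, 1, 3, 4, 2],
  [4, 1, 2, 4, 1, 2, 1, 4, 2, 1, 4, 2],
  [8, 5, 4, 8, 1, 3, 7, 1, 7, 5, 1, 3, 7, 1],
  [2, 1, 7, 5, 2, 3, 2, 5, 7, 1, 2, 7, 5, 3, 5, 7],
  [2, 5, 3, 5, 8, 3, 1, 8, 3, 2, 8, 1],
  [6, 1, 7, 6, 1, 7, 6, 1, 7, 1, 6, 7],
  [5, 3, 1, 4, 8, 5, 1, 5, 3, 4, 5, 3, 8, 1, 3],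
  [2, 4, 1, 2, 6, 5, 4, 7, 1, 2, 1, 7, 4, 5, 6],
  [4, 8, 4, 8, 3, 2, 3, 8, 4, 8, 4, 3, 2, 3],
  [1, 5, 8, 5, 3, 2, 3, 1, 3, 2, 5, 3, 8, 5],
  [8, 1, 6, 2, 4, 2, 1, 8, 6, 5, 8, 5, 4, 6],
  [3, 4, 8, 3, 4, 1, 3, 5, 8, 3, 5, 2, 1, 2],
  [5, 7, 6, 3, 2, 3, 2, 6, 7, 5, 3],
  [3, 1, 2, 1, 2, 5, 3, 4, 5, 8, 4, 5, 8, 4],
  [8, 3, 5, 8, 5, 4, 8, 4, 1, 3, 8, 2, 1, 2],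
  [4, 8, 7, 8, 4, 7, 8, 5, 8, 5, 4, 7],
  [4, 3, 8, 1, 4, 8, 1, 8, 3, 5, 3, 8, 3, 5],
  [1, 3, 8, 2, 1, 2, 3, 2, 1, 2, 8, 3, 1, 8],
  [6, 1, 8, 6, 4, 5, 8, 5, 6, 8, 1, 2, 4, 2],
  [1, 3, 1, 8, 5, 7, 1, 3, 8, 3, 1, 7, 5, 8],
  [3, 8, 5, 8, 3, 2, 5, 3, 8, 5, 8, 3, 5, 2],
  [8, 1, 4, 8, 4, 1, 8, 4, 1, 8, 4, 1],
  [8, 4, 5, 8, 5, 1, 8, 4, 5, 8, 5, 1],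
  [4, 5, 3, 1, 8, 1, 3, 5, 4, 3, 1, 8, 1, 3],
  [8, 3, 1, 7, 5, 8, 1, 3, 1, 8, 5, 7, 1, 3],
  [1, 4, 7, 4, 1, 3, 1, 7, 3, 1, 3, 1, 4, 7, 1, 3],
  [5, 3, 1, 7, 2, 1, 4, 2, 3, 2, 4, 5, 1, 2, 7, 1],
  [2, 8, 3, 4, 5, 4, 3, 8, 2, 4, 3, 5, 3, 2, 4],
  [2, 6, 3, 1, 3, 8, 3, 1, 3, 8, 6, 2, 3, 1, 3],
  [8, 5, 4, 2, 4, 5, 8, 1, 5, 4, 2, 4, 5, 1],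
  [6, 5, 6, 2, 3, 2, 6, 3, 5, 6, 3, 2, 3, 2],
  [8, 6, 8, 6, 4, 8, 6, 1, 8, 5, 8, 5, 1],
  [5, 7, 4, 1, 8, 1, 4, 7, 5, 1, 7, 8, 7, 1],
  [7, 5, 2, 1, 2, 1, 7, 1, 2, 1, 5, 7, 5, 1, 2, 1],
  [4, 1, 8, 5, 4, 7, 1, 2, 5, 1, 7, 4, 5, 8],
  [5, 3, 2, 1, 7, 1, 2, 3, 5, 7, 1, 2, 4, 2, 1, 7],
  [5, 7, 1, 5, 7, 1, 5, 7, 5, 1, 5, 7, 1, 7, 1],
  [7, 8, 7, 4, 2, 8, 1, 7, 8, 7, 4, 8, 2, 1],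
  [1, 4, 8, 3, 5, 8, 4, 1, 5, 8, 4, 1, 3, 8, 5],
  [1, 8, 4, 5, 8, 5, 1, 8, 4, 5, 8, 5],
  [7, 8, 4, 5, 8, 5, 7, 3, 1, 7, 1, 3],
  [8, 1, 8, 6, 3, 1, 3, 1, 8, 1, 8, 3, 1, 3, 6],
  [3, 2, 4, 1, 2, 1, 7, 1, 2, 1, 4, 2, 3, 1, 7, 1],
  [1, 2, 4, 2, 1, 5, 8, 5, 4, 7, 5, 8, 5, 7],
  [5, 8, 5, 6, 8, 1, 2, 4, 2, 6, 1, 8, 6, 4],
  [1, 8, 1, 7, 1, 8, 1, 5, 7, 8, 5, 8, 7, 5],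
  [7, 1, 4, 5, 1, 2, 4, 2, 3, 1, 7, 4, 5, 7, 1, 3],
  [7, 4, 2, 4, 5, 8, 5, 7, 8, 5, 4, 2, 4, 5],
  [4, 7, 5, 3, 5, 8, 3, 5, 3, 5, 7, 4, 8, 3],
  [1, 3, 8, 1, 3, 1, 8, 3, 1, 7, 4, 8, 4, 7],
  [8, 7, 8, 4, 3, 1, 3, 8, 7, 8, 4, 3, 1, 3],
  [4, 5, 3, 8, 3, 5, 3, 8, 1, 8, 4, 1, 8, 3],
  [1, 3, 4, 7, 1, 7, 5, 1, 7, 8, 1, 8, 5, 3],
  [6, 8, 1, 8, 6, 5, 6, 8, 6, 4, 8, 6, 5, 8],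
  [1, 3, 1, 8, 3, 5, 4, 1, 8, 4, 1, 5, 3, 8],
  [8, 1, 2, 5, 3, 5, 8, 3, 1, 8, 3, 2],
  [4, 8, 1, 8, 4, 3, 2, 3, 1, 3, 2, 5, 3, 5],
  [2, 1, 5, 2, 1, 8, 1, 8, 5, 8, 1, 8],
  [5, 1, 5, 4, 8, 1, 5, 4, 2, 1, 2, 4, 5, 8, 4],
  [5, 1, 8, 5, 1, 8, 5, 8, 1, 5, 8, 1],
  [1, 3, 8, 3, 1, 3, 7, 5, 1, 8, 1, 5, 7, 3],
  [5, 4, 6, 8, 6, 5, 1, 8, 5, 6, 8, 5, 2, 1, 2],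
  [4, 8, 2, 1, 2, 8, 4, 2, 8, 1, 8, 2],
  [5, 2, 4, 1, 2, 5, 3, 5, 7, 1, 4, 7, 5, 3],
  [1, 4, 3, 8, 4, 3, 2, 1, 2, 5, 3, 8, 5, 3],
  [8, 4, 5, 8, 1, 7, 3, 1, 5, 7, 1, 7, 3, 1],
  [5, 2, 1, 8, 2, 3, 8, 1, 3, 8, 5, 3],
  [5, 4, 1, 2, 1, 4, 5, 6, 8, 6, 8, 6, 8],
  [1, 5, 3, 1, 7, 2, 1, 4, 2, 3, 2, 4, 5, 1, 2, 7],
  [7, 8, 1, 8, 1, 7, 4, 2, 1, 8, 1, 4, 8],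
  [5, 8, 1, 3, 4, 5, 4, 8, 1, 8, 5, 1, 3, 8, 4],
  [7, 8, 7, 2, 1, 4, 2, 7, 8, 7, 8, 4, 1, 8],
  [5, 6, 5, 4, 2, 3, 4, 5, 6, 5, 4, 3, 2, 4],
  [1, 5, 8, 6, 1, 5, 2, 1, 2, 5, 6, 8, 5],
  [5, 7, 4, 1, 7, 5, 4, 7, 1, 7, 5, 4, 7, 5, 1],
  [3, 5, 3, 1, 8, 3, 5, 4, 3, 5, 1, 5, 8, 4, 1],
  [5, 7, 1, 7, 3, 1, 8, 4, 5, 8, 1, 7, 3, 1],
  [6, 1, 7, 1, 6, 7, 6, 1, 7, 6, 1, 7],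
  [3, 1, 8, 3, 5, 4, 1, 8, 4, 1, 5, 3, 8, 1],
  [1, 3, 1, 2, 8, 3, 1, 7, 8, 7, 1, 3, 2, 8],
  [5, 8, 3, 5, 4, 8, 1, 3, 1, 8, 4, 1, 2, 1, 2, 3],
  [3, 8, 1, 3, 5, 3, 1, 4, 8, 5, 1, 5, 3, 4, 5],
  [7, 3, 1, 7, 1, 3, 2, 3, 1, 7, 1, 3, 7, 4, 2, 4],
  [7, 8, 1, 8, 5, 3, 1, 3, 4, 7, 1, 7, 5, 1],
  [2, 8, 1, 7, 8, 7, 4, 8, 2, 1, 7, 8, 7, 4],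
  [6, 8, 6, 5, 1, 8, 1, 5, 6, 1, 8, 4, 2, 1, 2],
  [8, 3, 5, 4, 1, 8, 4, 1, 5, 3, 8, 1, 3, 1],
  [2, 6, 5, 7, 5, 6, 2, 4, 2, 6, 5, 7, 5, 6, 2, 4],
  [6, 2, 1, 2, 3, 6, 2, 5, 3, 1, 3, 2, 3, 1, 5],
  [2, 7, 4, 5, 1, 2, 3, 2, 1, 5, 4, 7, 2, 1, 3, 1],
  [7, 8, 7, 1, 8, 2, 4, 7, 8, 7, 1, 2, 8, 4],
  [3, 5, 4, 3, 5, 1, 5, 8, 4, 1, 3, 5, 3, 1, 8],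
  [7, 8, 7, 1, 3, 8, 2, 1, 3, 1, 8, 2, 3, 1],
  [2, 3, 2, 6, 5, 6, 2, 3, 2, 6, 3, 5, 6, 3],
  [3, 2, 3, 7, 5, 8, 3, 7, 2, 3, 8, 5, 7, 5],
  [3, 4, 2, 8, 3, 4, 5, 4, 3, 8, 2, 4, 2, 3, 5],
  [8, 5, 3, 2, 1, 2, 1, 4, 8, 1, 3, 1, 8, 4, 5, 3],
  [7, 3, 1, 8, 4, 5, 8, 1, 7, 3, 1, 5, 7, 1],
  [4, 2, 1, 2, 5, 4, 2, 1, 5, 2, 4, 2, 1, 2, 5],
  [6, 8, 1, 8, 6, 3, 1, 3, 1, 8, 1, 8, 3, 1, 3],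
  [1, 8, 2, 3, 8, 1, 3, 8, 5, 3, 5, 2],
  [8, 2, 3, 1, 7, 1, 3, 2, 8, 4, 7, 2, 4],
  [3, 8, 3, 1, 7, 5, 8, 1, 3, 1, 8, 5, 7, 1],
  [4, 5, 3, 8, 1, 3, 5, 3, 1, 4, 8, 5, 1, 5, 3],
  [2, 4, 2, 6, 5, 7, 5, 6, 2, 4, 2, 6, 5, 7, 5, 6],
  [1, 8, 5, 7, 1, 3, 8, 3, 1, 7, 5, 8, 1, 3],
  [2, 3, 2, 1, 2, 8, 3, 1, 8, 1, 3, 8, 2, 1],
  [1, 2, 3, 5, 6, 2, 3, 1, 3, 2, 6, 3, 5, 1, 2],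
  [5, 8, 5, 8, 1, 6, 8, 4, 6, 8, 6, 8, 1],
  [2, 3, 1, 3, 2, 6, 3, 1, 3, 8, 3, 1, 3, 8, 6],
  [4, 5, 8, 4, 5, 1, 5, 4, 8, 1, 5, 4, 2, 1, 2],
  [1, 3, 2, 4, 1, 4, 2, 5, 3, 1, 2, 3, 1, 5, 3, 2],
  [8, 1, 3, 5, 4, 3, 1, 8, 1, 3, 4, 5, 3, 1],
  [2, 6, 3, 5, 6, 3, 2, 3, 2, 6, 5, 6, 2, 3],
  [1, 5, 2, 1, 2, 5, 6, 8, 5, 1, 5, 8, 6],
  [8, 6, 4, 5, 2, 1, 2, 5, 8, 6, 5, 8, 1, 5, 6],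
  [6, 1, 7, 6, 1, 7, 1, 6, 7, 6, 1, 7],
  [1, 5, 3, 5, 3, 1, 3, 5, 3, 5],
  [4, 5, 4, 3, 8, 2, 4, 3, 5, 3, 2, 4, 2, 8, 3],
  [4, 1, 8, 4, 8, 5, 7, 4, 8, 4, 7, 5, 1, 8],
  [7, 3, 1, 7, 5, 4, 7, 1, 3, 2, 4, 2, 1, 5, 4, 1],
  [5, 2, 5, 4, 7, 4, 2, 3, 5, 4, 7, 4, 5, 3],
  [2, 1, 2, 8, 4, 2, 8, 1, 8, 2, 4, 8],
  [2, 3, 1, 3, 2, 5, 3, 5, 4, 8, 1, 8, 4, 3],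
  [3, 7, 1, 4, 8, 3, 2, 7, 3, 8, 4, 1, 3, 2],
  [8, 5, 3, 2, 3, 1, 3, 2, 5, 3, 8, 5, 1, 5],
  [4, 1, 2, 3, 2, 1, 2, 7, 1, 4, 7, 2, 1, 2, 3, 2],
  [5, 3, 8, 5, 1, 5, 8, 5, 3, 2, 3, 1, 3, 2],
  [6, 3, 1, 3, 1, 8, 1, 8, 3, 1, 3, 6, 8, 1, 8],
  [3, 5, 2, 3, 8, 5, 8, 3, 2, 5, 3, 8, 5, 8],
  [4, 7, 4, 2, 5, 1, 4, 5, 3, 5, 1, 7, 4, 5, 3, 2],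
  [1, 3, 8, 3, 1, 7, 5, 8, 1, 3, 1, 8, 5, 7],
  [8, 2, 3, 1, 7, 8, 7, 1, 3, 8, 2, 1, 3, 1],
  [2, 6, 5, 6, 2, 3, 1, 3, 4, 2, 6, 5, 6, 2, 4],
  [1, 2, 5, 3, 5, 8, 3, 1, 8, 3, 2, 8],
  [3, 1, 7, 8, 7, 1, 3, 2, 8, 1, 3, 1, 2, 8],
  [1, 2, 3, 4, 8, 3, 4, 1, 3, 5, 8, 3, 5, 2],
  [2, 3, 1, 4, 3, 1, 2, 6, 4, 7, 1, 2, 1, 7, 4, 6],
  [3, 4, 5, 4, 3, 8, 2, 4, 3, 5, 3, 2, 4, 2, 8],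
  [7, 1, 4, 8, 3, 2, 7, 3, 8, 4, 1, 3, 2, 3],
  [6, 4, 5, 2, 1, 2, 5, 8, 6, 5, 8, 1, 5, 6, 8],
  [5, 3, 5, 2, 3, 1, 3, 2, 3, 4, 8, 1, 8, 4],
  [3, 2, 3, 2, 6, 7, 5, 3, 5, 7, 6],
  [4, 5, 6, 5, 4, 2, 3, 4, 5, 6, 5, 4, 3, 2],
  [8, 6, 5, 6, 8, 1, 8, 6, 8, 5, 6, 8, 4, 6],
  [2, 3, 1, 2, 3, 1, 3, 2, 1, 5, 3, 5, 2, 1],
  [2, 1, 4, 2, 3, 2, 1, 2, 7, 4, 1, 7, 2, 1, 2, 3],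
  [7, 5, 1, 5, 7, 1, 7, 1, 5, 7, 1, 5, 7, 1, 5],
  [4, 1, 3, 1, 7, 4, 1, 3, 1, 3, 7, 1, 3, 1, 4, 7],
  [1, 3, 2, 1, 2, 5, 3, 5, 1, 2, 3, 1, 3, 2],
  [2, 3, 1, 3, 4, 2, 6, 5, 6, 2, 4, 2, 6, 5, 6]]
def Wn : List (List ℕ) := [[1, 9],
  [2, 11],
  [3, 13],
  [4, 15],
  [5, 17],
  [6, 19],
  [7, 21],
  [3, 8, 3, 8, 3, 8],
  [1, 3, 8, 1, 2, 3, 1, 3, 2, 1, 8, 3],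
  [8, 4, 5, 8, 1, 3, 8, 1, 8, 5, 3, 4],
  [8, 4, 7, 1, 3, 8, 1, 3, 1, 8, 3, 1, 7, 4],
  [2, 3, 2, 8, 3, 7, 8, 7, 3, 8],
  [8, 8],
  [2, 8, 2, 8],
  [2, 7, 2, 7],
  [4, 2, 7, 4, 8, 2, 3, 1, 7, 1, 3, 2, 8],
  [6, 8, 4, 8, 6, 4, 2, 4, 2],
  [2, 2],
  [7, 3, 8, 2, 3, 2, 8, 3, 7, 8],
  [7, 7],
  [8, 7, 8, 7, 8, 7, 8, 7],
  [6, 7, 6, 7, 6, 7],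
  [2, 1, 4, 2, 6, 7, 6, 2, 4, 1, 2, 6, 7, 6],
  [2, 4, 8, 2, 3, 1, 7, 1, 3, 2, 8, 4, 7],
  [4, 3, 4, 3],
  [5, 6, 5, 3, 5, 6, 5, 3],
  [4, 6, 4, 6],
  [5, 6, 5, 6, 5, 6, 5, 6],
  [3, 4, 3, 4],
  [5, 3, 5, 2, 3, 1, 3, 2, 3, 4, 8, 1, 8, 4],
  [3, 6, 3, 6],
  [2, 6, 2, 6, 2, 6],
  [7, 5, 3, 5, 7, 6, 3, 2, 3, 2, 6],
  [4, 4],
  [5, 5],
  [6, 6],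
  [3, 3],
  [6, 5, 3, 5, 6, 5, 3, 5],
  [4, 7, 4, 7, 4, 7],
  [1, 7, 5, 3, 5, 2, 1, 4, 2, 5, 3, 5, 7, 4],
  [1, 5, 3, 5, 4, 1, 5, 3, 5, 4],
  [4, 7, 3, 2, 4, 3, 1, 3, 2, 3, 7, 1],
  [1, 1],
  [1, 4, 1, 4],
  [1, 2, 1, 2, 1, 2, 1, 2],
  [1, 7, 3, 2, 3, 1, 4, 8, 3, 7, 2, 3, 8, 4],
  [1, 7, 2, 1, 2, 3, 2, 1, 4, 2, 3, 2, 1, 2, 7, 4],
  [3, 7, 3, 7],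
  [4, 2, 7, 1, 3, 1, 7, 2, 4, 1, 2, 3, 2, 1],
  [4, 2, 4, 6, 8, 4, 8, 6, 2],
  [1, 8, 1, 8, 1, 8, 1, 8],
  [1, 4, 7, 5, 3, 5, 2, 4, 1, 2, 5, 3, 5, 7],
  [4, 1, 7, 5, 3, 5, 2, 1, 4, 2, 5, 3, 5, 7],
  [4, 8, 6, 2, 4, 2, 4, 6, 8],
  [6, 8, 1, 8, 6, 8, 6, 8, 1, 8, 6, 8],
  [2, 3, 2, 3, 2, 3, 2, 3],
  [5, 8, 1, 6, 8, 4, 6, 8, 6, 8, 1, 5, 8],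
  [8, 4, 3, 5, 8, 1, 8, 3, 1, 8, 5, 4],
  [1, 7, 1, 7, 4, 7, 1, 7, 1, 4, 7, 4],
  [7, 8, 4, 1, 8, 1, 2, 4, 7, 1, 8, 1, 8],
  [8, 2, 8, 2],
  [8, 7, 1, 2, 1, 7, 8, 7, 1, 2, 1, 7],
  [8, 3, 7, 8, 7, 3, 8, 2, 3, 2],
  [3, 2, 8, 3, 7, 8, 7, 3, 8, 2],
  [2, 1, 3, 1, 8, 2, 3, 1, 7, 8, 7, 1, 3, 8],
  [8, 1, 3, 1, 2, 8, 3, 1, 7, 8, 7, 1, 3, 2],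
  [8, 7, 3, 8, 2, 3, 2, 8, 3, 7],
  [7, 1, 3, 8, 2, 1, 3, 1, 8, 2, 3, 1, 7, 8],
  [3, 1, 7, 8, 7, 1, 3, 8, 2, 1, 3, 1, 8, 2],
  [3, 8, 4, 8, 4, 3, 2, 3, 4, 8, 4, 8, 3, 2],
  [4, 8, 4, 2, 4, 8, 4, 2],
  [6, 2, 4, 2, 4, 6, 8, 4, 8],
  [2, 1, 8, 1, 2, 1, 8, 1],
  [4, 7, 4, 2, 4, 7, 1, 8, 4, 8, 1],
  [7, 4, 2, 4, 7, 4, 1, 8, 4, 8, 1],
  [6, 1, 6, 1],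
  [5, 1, 3, 2, 3, 1, 3, 5, 2, 6, 3, 2, 1, 2, 6],
  [8, 5, 1, 5, 8, 6, 1, 5, 2, 1, 2, 5, 6],
  [1, 2, 4, 2, 1, 6, 7, 4, 2, 4, 7, 6],
  [8, 1, 2, 4, 2, 1, 3, 1, 7, 1, 3, 8, 4, 7],
  [7, 2, 7, 2],
  [8, 4, 7, 8, 5, 8, 5, 4, 7, 4, 8, 7],
  [8, 5, 6, 5, 8, 5, 4, 8, 6, 8, 4, 5],
  [6, 2, 6, 2, 6, 2],
  [6, 7, 6, 5, 6, 7, 6, 5, 6, 7, 6, 5],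
  [2, 5, 2, 5],
  [3, 1, 2, 3, 2, 1, 3, 1, 2, 3, 2, 1],
  [6, 2, 4, 3, 1, 3, 2, 6, 5, 6, 2, 4, 2, 6, 5],
  [6, 3, 6, 3],
  [2, 4, 8, 4, 2, 4, 8, 4],
  [4, 2, 4, 2, 4, 2, 4, 2],
  [8, 6, 8, 6, 8, 5, 4, 1, 2, 1, 4, 5, 6],
  [1, 8, 6, 8, 5, 6, 8, 4, 6, 8, 6, 5, 6, 8],
  [1, 6, 1, 6],
  [5, 7, 4, 2, 4, 7, 5, 6, 7, 2, 1, 7, 1, 2, 7, 6],
  [1, 7, 3, 2, 3, 1, 3, 4, 2, 3, 7, 4],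
  [7, 8, 7, 8, 7, 8, 7, 8],
  [8, 7, 4, 5, 2, 5, 4, 7, 8, 7, 4, 2, 4, 7],
  [8, 7, 4, 2, 8, 1, 7, 8, 7, 4, 8, 2, 1, 7],
  [3, 4, 5, 6, 5, 4, 3, 2, 4, 5, 6, 5, 4, 2],
  [7, 3, 2, 3, 1, 3, 4, 2, 3, 7, 4, 1],
  [8, 1, 3, 8, 5, 3, 5, 2, 1, 8, 2, 3],
  [2, 3, 1, 7, 8, 7, 1, 3, 8, 2, 1, 3, 1, 8],
  [4, 5, 4, 5, 4, 5],
  [6, 2, 8, 6, 2, 8, 6, 8, 2, 6, 8, 2],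
  [5, 6, 8, 1, 8, 6, 8, 5, 6, 8, 4, 6, 8, 6],
  [8, 7, 4, 8, 2, 1, 7, 8, 7, 4, 2, 8, 1, 7],
  [3, 2, 3, 2, 6, 7, 5, 3, 5, 7, 6],
  [2, 1, 7, 8, 4, 1, 3, 1, 3, 8, 7, 1, 7],
  [8, 7, 5, 1, 8, 1, 7, 1, 8, 1, 5, 7, 8, 5],
  [8, 6, 5, 4, 1, 2, 1, 4, 5, 8, 6, 8, 6],
  [2, 4, 2, 4, 6, 8, 4, 8, 6],
  [1, 8, 4, 2, 1, 2, 6, 8, 6, 5, 1, 8, 1, 5, 6],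
  [5, 4, 7, 1, 2, 1, 7, 4, 5, 6, 2, 4, 1, 2, 6],
  [1, 8, 5, 8, 5, 1, 8, 6, 8, 6, 4, 8, 6],
  [1, 8, 6, 4, 5, 8, 5, 6, 8, 1, 2, 4, 2, 6],
  [5, 8, 7, 8, 5, 8, 7, 8, 2, 5, 8, 7, 8],
  [4, 5, 8, 5, 8, 7, 4, 8, 7, 8, 4, 7],
  [8, 6, 2, 8, 1, 8, 2, 6, 8, 2, 1, 2],
  [1, 7, 4, 3, 1, 3, 5, 8, 1, 8, 7, 1, 5, 7],
  [8, 1, 5, 1, 8, 7, 8, 1, 5, 1, 8, 7],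
  [8, 5, 4, 2, 4, 5, 7, 4, 2, 4, 5, 8, 5, 7],
  [7, 6, 7, 6, 7, 6],
  [8, 2, 6, 2, 8, 6, 2, 8, 6, 8, 2, 6],
  [5, 4, 2, 4, 5, 6, 5, 4, 2, 4, 5, 6],
  [7, 3, 7, 3],
  [6, 3, 2, 3, 2, 6, 7, 5, 3, 5, 7],
  [6, 5, 8, 1, 8, 5, 6, 5, 8, 1, 8, 5],
  [5, 8, 5, 6, 8, 1, 2, 4, 2, 6, 1, 8, 6, 4]]
def cr : List (ℕ × ℕ × ℕ) := [(0, 0, 0), (1, 62, 2), (1, 16, 1), (0, 0, 0), (1, 43, 6), (1, 45, 0), (0, 0, 0), (1, 79, 7), (1, 59, 2), (1, 46, 1), (1, 9, 0), (1, 62, 4), (1, 15, 0), (1, 21, 0), (1, 11, 1), (0, 0, 0), (1, 13, 1), (0, 0, 0), (0, 0, 0), (1, 85, 6), (1, 12, 1), (1, 49, 1), (1, 43, 1), (1, 18, 0), (1, 16, 0), (1, 32, 3), (0, 0, 0), (1, 73, 1), (0, 0, 0), (1, 22, 1), (1,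 51, 1), (1, 27, 0), (1, 40, 2), (1, 15, 1), (1, 46, 5), (1, 24, 3), (1, 10, 1), (1, 26, 0), (1, 87, 12), (1, 14, 1), (1, 114, 5), (1, 8, 1), (1, 48, 2), (1, 17, 0), (1, 33, 1), (1, 89, 8), (2, 55, 4), (1, 11, 0), (1, 56, 10), (1, 49, 7), (1, 79, 1), (1, 62, 10), (1, 41, 0), (1, 9, 1), (1, 88, 1), (1, 55, 2), (1, 31, 1), (1, 29, 1), (1, 36, 1), (1, 23, 0), (1, 50, 1), (1, 65, 4), (2, 50, 4), (1, 35, 2), (1, 39, 0), (1, 112, 2), (1, 53, 5), (1, 10, 0), (1, 74, 3), (1, 111, 0), (1, 104, 7), (1, 34, 0), (1, 50, 4), (1, 42, 5), (1, 116, 7), (1, 17, 1), (1, 32, 1), (1, 20, 0), (1, 24, 0), (1, 34, 2), (1, 60, 4), (1, 19, 0), (1, 62, 7), (1, 22, 0), (1, 52, 4), (1, 55, 3),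 (1, 50, 8), (1, 28, 2), (1, 77, 3), (2, 49, 9), (1, 85, 7), (1, 25, 0), (1, 26, 2), (2, 63, 5), (1, 147, 8), (1, 146, 4), (1, 55, 1), (1, 55, 7), (1, 54, 1), (1, 33, 0), (1, 109, 6), (1, 24, 2), (1, 59, 6), (1, 42, 2), (1, 45, 2), (1, 98, 5), (1, 59, 4), (1, 77, 10), (1, 62, 9), (2, 50, 2), (1, 44, 2), (1, 45, 4), (1, 35, 3), (1, 67, 2), (2, 62, 3), (1, 87, 3), (2, 48, 2), (1, 36, 3), (1, 8, 0), (1, 30, 0), (1, 151, 8), (1, 14, 0), (1, 92, 1), (1, 76, 3), (1, 40, 1), (1, 12, 0), (1, 73, 3), (1, 50, 10), (2, 90, 6), (1, 57, 1), (1, 29, 0), (1, 45, 3), (1, 36, 2), (1, 39, 1), (1, 99, 13), (1, 84, 10), (1, 55, 6), (1, 66, 2), (2, 96, 8), (1, 149, 1), (1, 85, 1), (1,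 163, 3), (1, 37, 0), (1, 103, 4), (1, 114, 11), (1, 89, 9), (1, 95, 5), (1, 50, 5), (1, 67, 0), (1, 120, 10), (2, 128, 9), (1, 41, 1), (1, 89, 7), (1, 111, 1), (1, 125, 7), (1, 62, 5), (1, 106, 8), (1, 63, 6), (1, 111, 9), (2, 79, 10), (1, 37, 1), (1, 145, 2), (1, 13, 0), (1, 103, 1), (1, 34, 3), (1, 19, 1), (1, 77, 2), (1, 113, 7), (1, 65, 3), (2, 50, 8), (1, 112, 3), (1, 54, 5), (1, 48, 9), (2, 55, 3), (1, 81, 1), (1, 42, 6), (1, 20, 1), (1, 78, 3), (2, 161, 9), (1, 81, 2), (2, 95, 7), (1, 38, 0), (1, 51, 5), (1, 27, 1), (1, 18, 1), (1, 69, 2), (1, 88, 6), (2, 131, 8), (2, 88, 11), (1, 125, 6), (1, 88, 3), (1, 40, 0), (1, 80, 4), (2, 77, 8), (1, 26, 3), (1, 91,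 1), (1, 76, 1), (2, 143, 2), (1, 87, 0), (1, 46, 9), (1, 55, 8), (1, 23, 1), (1, 71, 2), (1, 38, 1), (1, 51, 2), (1, 52, 3), (1, 40, 3), (1, 69, 7), (1, 91, 3), (1, 45, 1), (2, 196, 7), (1, 198, 4), (2, 153, 3), (1, 48, 6), (1, 59, 8), (1, 86, 7), (1, 131, 5), (1, 187, 1), (1, 50, 6), (1, 84, 2), (1, 65, 11), (2, 96, 4), (1, 84, 1), (1, 30, 1), (1, 51, 3), (1, 58, 0), (2, 47, 2), (1, 58, 9), (1, 87, 10), (2, 64, 0), (2, 118, 0), (1, 112, 9), (1, 55, 5), (1, 65, 5), (1, 146, 9), (1, 187, 3), (1, 66, 6), (1, 45, 9), (2, 77, 11), (2, 173, 0), (2, 50, 7), (2, 89, 5), (1, 24, 1), (2, 55, 1), (1, 65, 1), (1, 60, 5), (1, 140, 3), (1, 28, 3), (2, 43, 8), (1, 134, 7), (2,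 120, 6), (1, 119, 3), (2, 63, 7), (1, 120, 7), (2, 62, 6), (1, 45, 5), (1, 77, 7), (1, 49, 6), (1, 47, 2), (2, 102, 6), (1, 21, 1), (1, 44, 1), (1, 150, 12), (1, 66, 5), (1, 185, 3), (1, 65, 10), (1, 132, 3), (1, 60, 9), (1, 145, 3), (2, 113, 7), (1, 54, 2), (2, 149, 6), (1, 146, 8), (1, 35, 0), (1, 49, 10), (1, 28, 0), (2, 147, 9), (1, 108, 11), (1, 134, 2), (1, 98, 6), (1, 43, 7), (1, 81, 4), (1, 64, 5), (1, 119, 6), (1, 171, 6), (1, 90, 7), (2, 49, 6), (1, 46, 0), (2, 85, 4), (1, 82, 5), (1, 60, 6), (1, 26, 1), (1, 151, 7), (1, 47, 3), (2, 164, 2), (1, 187, 11), (1, 43, 5), (1, 145, 8), (1, 66, 1), (2, 88, 6), (1, 82, 1), (2, 107, 8), (1, 95, 9), (1, 45, 8), (1,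 120, 8), (1, 79, 10), (1, 75, 9), (1, 50, 3), (1, 32, 2), (1, 28, 1), (1, 49, 9), (1, 71, 5), (1, 73, 6), (1, 75, 7), (1, 60, 10), (2, 159, 14), (1, 95, 8), (1, 95, 1), (2, 118, 9), (1, 131, 3), (1, 110, 7), (2, 88, 2), (1, 87, 6), (2, 55, 10), (1, 59, 0), (1, 64, 0), (1, 79, 4), (1, 51, 0), (1, 25, 1), (1, 87, 5), (2, 87, 6), (1, 164, 11), (1, 114, 13), (1, 32, 0), (1, 43, 2), (1, 80, 2), (1, 188, 9), (1, 53, 0), (1, 55, 9), (1, 99, 6), (1, 81, 3), (2, 95, 5), (1, 70, 2), (1, 49, 4), (1, 75, 2), (2, 62, 4), (1, 50, 2), (1, 49, 5), (1, 164, 14), (1, 171, 0), (1, 103, 3), (1, 43, 0), (1, 54, 3), (1, 79, 6), (1, 86, 2), (2, 79, 9), (1, 51, 4), (2, 147, 8), (1, 63, 7),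 (1, 53, 2), (1, 73, 5), (2, 150, 6), (2, 86, 1), (1, 147, 6), (1, 34, 1), (1, 53, 3), (1, 50, 0), (1, 50, 9), (1, 77, 4), (1, 42, 1), (1, 31, 0), (1, 92, 9), (1, 72, 3), (1, 130, 11), (1, 50, 7), (1, 160, 3), (2, 79, 8), (1, 45, 7), (1, 57, 10), (2, 55, 2), (1, 61, 5), (1, 44, 7), (1, 73, 9), (2, 62, 7), (1, 169, 2), (1, 90, 4), (1, 83, 2), (1, 90, 6), (1, 78, 4), (1, 100, 6), (1, 60, 8), (1, 79, 5), (2, 50, 3), (2, 128, 3), (1, 119, 13), (1, 70, 4), (2, 48, 1), (1, 52, 5), (2, 50, 9), (2, 112, 9), (1, 95, 2), (1, 85, 8), (2, 129, 10), (1, 58, 4), (2, 43, 2), (2, 79, 4), (1, 118, 6), (1, 118, 2), (1, 70, 1), (1, 43, 8), (1, 98, 1), (1, 44, 8), (2, 88, 9), (2, 60,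 3), (1, 118, 13), (1, 111, 12), (2, 48, 0), (2, 63, 0), (1, 47, 0), (2, 62, 10), (1, 36, 0), (1, 46, 6), (1, 90, 5), (1, 61, 2), (2, 85, 8), (1, 70, 5), (1, 155, 10), (1, 187, 14), (1, 187, 15), (1, 114, 6), (1, 185, 15), (1, 93, 3), (1, 114, 4), (1, 69, 6), (1, 63, 5), (2, 118, 6), (1, 42, 4), (2, 43, 1), (1, 172, 12), (1, 147, 3), (1, 117, 4), (1, 155, 12), (1, 68, 9), (1, 148, 1), (1, 89, 6), (1, 59, 3), (1, 119, 2), (1, 79, 8), (1, 68, 8), (1, 87, 7), (1, 76, 0), (1, 44, 9), (1, 185, 4), (1, 68, 4), (1, 66, 8), (2, 129, 6), (2, 55, 5), (1, 131, 8), (2, 111, 6), (1, 76, 5), (1, 133, 9), (1, 59, 7), (1, 89, 4), (1, 69, 3), (1, 113, 8), (1, 56, 5), (1, 145, 7), (2,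 62, 2), (1, 83, 0), (1, 44, 6), (1, 68, 2), (2, 97, 8), (1, 59, 1), (1, 57, 2), (1, 60, 1), (1, 57, 9), (1, 66, 10), (1, 115, 4), (1, 56, 1), (1, 73, 2), (2, 155, 14), (1, 49, 8), (1, 73, 4), (2, 77, 5), (1, 81, 0), (2, 62, 0), (1, 58, 2), (1, 56, 9), (1, 117, 11), (1, 87, 4), (2, 42, 4), (1, 56, 3), (1, 128, 4), (2, 114, 1), (1, 114, 10), (2, 43, 4), (1, 76, 2), (1, 58, 3), (1, 55, 4), (1, 48, 10), (2, 64, 5), (1, 143, 4), (1, 64, 1), (1, 99, 8), (1, 104, 5), (1, 172, 13), (1, 89, 5), (1, 63, 11), (1, 66, 0), (1, 112, 4), (1, 35, 1), (1, 65, 9), (2, 77, 2), (1, 68, 5), (1, 62, 3), (1, 132, 1), (1, 99, 2), (1, 145, 9), (1, 146, 0), (1, 49, 2), (1, 152, 9), (1, 85,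 5), (2, 119, 8), (1, 157, 8), (2, 49, 10), (2, 152, 6), (1, 198, 5), (1, 67, 3), (1, 61, 0), (1, 80, 0), (1, 46, 4), (1, 196, 8), (2, 60, 2), (1, 48, 7), (2, 95, 6), (2, 181, 15), (2, 60, 1), (1, 115, 10), (1, 43, 4), (1, 63, 8), (1, 46, 8), (1, 164, 0), (1, 62, 8), (2, 79, 1), (1, 135, 12), (1, 135, 5), (1, 46, 3), (2, 89, 3), (1, 55, 11), (1, 134, 1), (1, 61, 4), (1, 46, 2), (2, 127, 3), (1, 83, 5), (1, 56, 4), (2, 120, 4), (2, 134, 12), (1, 68, 3), (1, 90, 0), (1, 97, 5), (1, 58, 1), (1, 77, 5), (1, 77, 11), (1, 124, 1), (2, 123, 11), (1, 60, 0), (1, 58, 6), (1, 68, 1), (1, 68, 7), (2, 48, 10), (1, 47, 1), (1, 48, 8), (2, 115, 9), (1, 83, 1), (1, 88, 8), (1, 112,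 1), (1, 72, 2), (1, 119, 5), (1, 59, 11), (2, 50, 0), (2, 199, 15), (2, 128, 2), (1, 139, 8), (1, 129, 7), (1, 161, 6), (1, 119, 4), (1, 73, 0), (1, 139, 3), (1, 67, 1), (1, 181, 0), (1, 188, 6), (1, 91, 0), (1, 155, 0), (1, 79, 2), (2, 102, 5), (2, 43, 7), (2, 115, 10), (2, 77, 10), (1, 49, 0), (1, 96, 7), (1, 96, 5), (1, 120, 9), (1, 72, 1), (1, 63, 9), (1, 115, 3), (1, 69, 1), (2, 127, 2), (1, 68, 10), (1, 58, 10), (1, 128, 11), (2, 42, 7), (2, 91, 11), (1, 155, 4), (1, 163, 8), (1, 188, 8), (1, 185, 0), (1, 161, 3), (1, 173, 6), (1, 79, 9), (2, 167, 12), (2, 115, 1), (1, 115, 8), (1, 185, 12), (2, 115, 11), (2, 115, 6), (1, 171, 5), (2, 127, 9), (2, 92, 8), (1,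 69, 8), (1, 136, 2), (1, 145, 5), (1, 46, 7), (1, 155, 13), (1, 92, 5), (1, 104, 6), (2, 120, 5), (2, 48, 4), (2, 114, 13), (1, 61, 6), (1, 191, 1), (1, 97, 6), (1, 134, 11), (2, 135, 0), (1, 141, 1), (1, 141, 2), (1, 77, 9), (1, 95, 3), (2, 79, 11), (2, 132, 12), (1, 177, 8), (1, 188, 7), (1, 141, 3), (1, 119, 7), (2, 60, 10), (2, 63, 3), (1, 82, 3), (1, 80, 1), (1, 160, 9), (2, 179, 8), (1, 43, 3), (1, 86, 10), (1, 44, 0), (2, 182, 11), (1, 135, 1), (1, 132, 2), (2, 113, 5), (1, 83, 3), (1, 88, 9), (1, 99, 7), (1, 83, 4), (1, 63, 4), (2, 79, 5), (1, 134, 12), (2, 87, 5), (1, 121, 4), (2, 60, 6), (1, 48, 3), (1, 77, 0), (2, 164, 3), (1, 91, 7), (1, 79, 11), (1, 104,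 9), (1, 49, 3), (1, 112, 8), (1, 72, 0), (1, 82, 0), (1, 61, 1), (1, 96, 3), (1, 187, 2), (1, 173, 12), (1, 182, 5), (2, 132, 8), (2, 90, 5), (2, 98, 9), (1, 146, 10), (1, 118, 10), (1, 103, 10), (2, 101, 5), (1, 42, 3), (2, 50, 1), (1, 100, 5), (1, 42, 8), (1, 113, 6), (1, 74, 4), (1, 89, 10), (1, 135, 8), (2, 118, 11), (2, 118, 4), (2, 135, 5), (1, 91, 4), (1, 66, 7), (2, 132, 11), (1, 131, 12), (2, 64, 2), (2, 50, 5), (1, 118, 5), (1, 52, 1), (1, 60, 11), (2, 134, 2), (1, 95, 4), (2, 95, 13), (1, 91, 2), (1, 86, 11), (2, 151, 4), (2, 63, 1), (1, 147, 14), (1, 110, 4), (1, 157, 10), (1, 130, 6), (1, 94, 11), (1, 65, 2), (2, 88, 1), (2, 86, 4), (2, 138, 2), (2, 134,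 13), (1, 62, 6), (1, 139, 9), (2, 118, 2), (1, 59, 10), (1, 104, 3), (1, 112, 10), (1, 128, 10), (1, 123, 8), (1, 122, 6), (1, 87, 2), (2, 92, 13), (2, 123, 6), (1, 185, 1), (2, 128, 7), (1, 71, 10), (1, 168, 1), (1, 184, 5), (1, 53, 4), (1, 94, 0), (1, 97, 1), (1, 103, 2), (1, 100, 1), (1, 102, 8), (1, 138, 3), (1, 174, 6), (2, 88, 8), (1, 175, 6), (1, 162, 7), (2, 138, 3), (1, 179, 7), (2, 79, 3), (2, 89, 4), (2, 112, 1), (2, 108, 2), (1, 90, 8), (1, 88, 5), (1, 127, 10), (2, 43, 3), (1, 84, 3), (2, 184, 10), (1, 85, 9), (2, 93, 10), (1, 93, 12), (1, 163, 7), (1, 90, 3), (1, 68, 0), (1, 122, 2), (1, 132, 7), (1, 53, 1), (2, 77, 3), (1, 142, 2), (1, 74, 0), (1, 93,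 9), (1, 84, 4), (2, 43, 0), (2, 113, 9), (2, 77, 1), (1, 146, 7), (1, 56, 2), (1, 94, 2), (2, 62, 8), (2, 119, 4), (1, 105, 2), (1, 191, 6), (1, 177, 5), (1, 184, 13), (1, 80, 3), (1, 56, 6), (2, 120, 3), (2, 89, 6), (2, 147, 6), (1, 185, 2), (1, 100, 12), (2, 109, 0), (2, 77, 7), (1, 56, 11), (1, 95, 11), (1, 91, 5), (1, 181, 5), (2, 118, 5), (1, 60, 3), (1, 88, 10), (2, 84, 5), (1, 78, 0), (2, 120, 2), (1, 179, 5), (1, 65, 0), (1, 128, 5), (1, 128, 1), (1, 72, 5), (1, 56, 0), (1, 77, 6), (1, 66, 11), (2, 84, 2), (2, 185, 3), (1, 103, 12), (2, 141, 10), (1, 111, 10), (1, 143, 5), (1, 100, 4), (2, 62, 1), (2, 102, 7), (1, 60, 7), (2, 119, 5), (1, 57, 5), (1, 82, 2),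 (1, 62, 1), (1, 118, 7), (1, 111, 13), (2, 50, 10), (2, 127, 11), (1, 170, 3), (1, 80, 5), (2, 50, 6), (2, 105, 9), (2, 174, 14), (2, 173, 15), (2, 87, 7), (2, 146, 10), (2, 114, 3), (1, 187, 8), (1, 57, 0), (1, 45, 6), (2, 64, 3), (2, 97, 4), (2, 88, 7), (2, 146, 11), (1, 121, 6), (2, 77, 9), (1, 44, 3), (1, 162, 3), (1, 179, 6), (1, 89, 1), (2, 131, 3), (1, 113, 9), (2, 49, 3), (2, 143, 6), (2, 87, 9), (1, 93, 10), (1, 103, 5), (2, 89, 11), (2, 119, 10), (2, 60, 5), (1, 185, 13), (1, 69, 10), (1, 54, 0), (1, 65, 6), (1, 75, 4), (2, 87, 4), (1, 127, 3), (1, 72, 4), (1, 79, 3), (1, 84, 7), (2, 49, 0), (1, 89, 11), (1, 66, 4), (1, 151, 11), (2, 85, 6), (1, 187, 9),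 (1, 69, 0), (1, 94, 4), (1, 136, 6), (1, 133, 13), (2, 60, 4), (1, 96, 4), (2, 55, 11), (1, 157, 7), (1, 187, 4), (1, 73, 11), (2, 79, 7), (1, 191, 3), (2, 132, 9), (1, 118, 12), (2, 63, 4), (1, 111, 5), (1, 105, 12), (1, 180, 2), (1, 110, 12), (2, 113, 6), (1, 84, 0), (1, 95, 6), (1, 120, 11), (1, 66, 3), (2, 85, 3), (2, 55, 7), (1, 59, 5), (1, 75, 6), (1, 88, 12), (1, 57, 3), (1, 102, 0), (2, 62, 11), (1, 118, 4), (2, 164, 4), (2, 128, 8), (1, 52, 0), (1, 73, 7), (1, 74, 2), (1, 94, 9), (1, 106, 7), (1, 99, 10), (1, 54, 4), (1, 149, 0), (2, 161, 12), (2, 47, 3), (1, 128, 12), (2, 63, 11), (1, 89, 2), (1, 131, 4), (1, 84, 5), (1, 133, 4), (1, 103, 7), (1, 97, 13),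 (1, 109, 12), (1, 48, 5), (1, 147, 11), (2, 91, 3), (2, 131, 10), (1, 47, 4), (1, 52, 2), (1, 129, 3), (2, 150, 10), (1, 146, 6), (2, 118, 12), (1, 181, 2), (2, 109, 3), (1, 109, 11), (1, 86, 12), (1, 86, 8), (1, 73, 8), (2, 48, 3), (1, 68, 6), (2, 102, 8), (1, 106, 1), (1, 99, 0), (2, 93, 2), (1, 161, 2), (1, 62, 0), (1, 109, 4), (1, 86, 6), (1, 147, 7), (1, 101, 9), (1, 153, 10), (2, 89, 7), (1, 121, 11), (2, 129, 4), (1, 96, 0), (1, 93, 5), (1, 114, 12), (1, 191, 7), (2, 143, 3), (2, 105, 5), (1, 132, 11), (2, 114, 6), (1, 180, 9), (2, 131, 9), (1, 168, 10), (1, 190, 14), (2, 96, 10), (1, 87, 1), (1, 63, 10), (1, 144, 4), (1, 177, 6), (2, 112, 3), (2, 88, 10),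 (2, 152, 4), (1, 59, 9), (2, 141, 12), (1, 164, 8), (1, 185, 8), (2, 172, 15), (1, 133, 5), (1, 122, 5), (2, 49, 2), (1, 135, 6), (1, 151, 6), (2, 87, 12), (1, 146, 5), (1, 125, 9), (1, 115, 13), (1, 94, 5), (2, 141, 11), (1, 70, 3), (1, 93, 8), (2, 161, 10), (2, 113, 4), (2, 159, 9), (1, 143, 0), (1, 107, 13), (1, 55, 0), (1, 145, 11), (1, 117, 3), (1, 74, 1), (1, 78, 1), (1, 87, 8), (2, 97, 9), (2, 92, 4), (1, 111, 11), (1, 109, 0), (1, 96, 6), (1, 94, 7), (1, 127, 1), (1, 107, 4), (1, 86, 4), (1, 157, 6), (2, 155, 2), (1, 55, 10), (1, 94, 1), (1, 85, 10), (1, 191, 0), (1, 104, 8), (2, 49, 8), (1, 93, 11), (2, 132, 10), (1, 149, 9), (2, 164, 5), (1, 95, 7), (2,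 89, 1), (1, 84, 6), (1, 101, 7), (1, 61, 9), (1, 99, 5), (1, 109, 2), (2, 105, 3), (1, 78, 5), (1, 130, 8), (1, 182, 14), (1, 127, 7), (2, 86, 8), (1, 107, 3), (1, 129, 1), (1, 147, 2), (1, 138, 12), (2, 93, 4), (2, 196, 5), (1, 164, 6), (2, 98, 10), (1, 102, 3), (1, 188, 5), (1, 119, 10), (1, 164, 13), (1, 101, 5), (1, 192, 4), (2, 84, 1), (2, 111, 0), (2, 49, 5), (1, 105, 3), (1, 198, 3), (1, 172, 6), (1, 167, 6), (1, 73, 10), (2, 144, 4), (2, 47, 4), (1, 87, 9), (2, 112, 5), (1, 127, 6), (1, 164, 12), (2, 119, 0), (1, 121, 3), (1, 136, 3), (2, 105, 6), (2, 89, 10), (2, 163, 2), (1, 138, 4), (2, 95, 8), (1, 177, 11), (1, 69, 9), (1, 111, 2), (1, 102, 6), (1, 104,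 1), (2, 179, 9), (1, 153, 11), (2, 96, 9), (1, 84, 12), (1, 135, 9), (2, 48, 7), (1, 172, 10), (2, 136, 4), (1, 130, 7), (1, 77, 1), (1, 108, 2), (1, 94, 10), (2, 55, 0), (2, 132, 7), (1, 108, 12), (1, 71, 1), (1, 120, 1), (1, 132, 0), (2, 66, 4), (1, 164, 1), (1, 91, 11), (1, 124, 3), (1, 91, 6), (2, 105, 10), (1, 189, 1), (1, 101, 10), (2, 111, 7), (1, 86, 5), (2, 91, 0), (1, 81, 5), (1, 125, 10), (1, 115, 6), (2, 102, 3), (1, 117, 12), (2, 127, 10), (1, 150, 3), (2, 149, 3), (1, 91, 10), (1, 93, 6), (1, 102, 7), (1, 82, 4), (1, 111, 6), (2, 77, 6), (1, 90, 1), (2, 60, 7), (2, 109, 2), (1, 127, 13), (2, 49, 1), (2, 48, 6), (2, 64, 4), (2, 135, 11), (1, 163, 14),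 (2, 153, 11), (1, 107, 5), (2, 43, 6), (1, 109, 3), (1, 58, 5), (1, 79, 0), (2, 141, 8), (1, 68, 11), (1, 94, 6), (2, 109, 7), (1, 187, 10), (1, 150, 5), (2, 113, 3), (1, 86, 1), (1, 116, 8), (1, 195, 11), (2, 113, 11), (2, 182, 7), (1, 110, 2), (1, 75, 3), (2, 134, 3), (2, 147, 12), (1, 161, 8), (1, 109, 10), (1, 85, 2), (2, 101, 4), (2, 86, 7), (1, 86, 9), (1, 138, 6), (2, 48, 9), (2, 138, 6), (2, 114, 9), (1, 123, 5), (1, 163, 11), (2, 96, 7), (2, 115, 0), (1, 188, 4), (1, 57, 8), (1, 102, 5), (1, 108, 5), (1, 123, 11), (1, 66, 9), (2, 88, 5), (2, 163, 1), (1, 140, 12), (2, 120, 8), (1, 74, 5), (2, 71, 2), (1, 84, 9), (1, 121, 12), (1, 91, 12), (2, 148, 14), (2,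 98, 8), (1, 95, 10), (2, 118, 3), (1, 109, 9), (1, 71, 3), (1, 138, 10), (1, 159, 6), (1, 106, 2), (1, 118, 0), (1, 92, 2), (2, 42, 6), (1, 86, 3), (1, 98, 4), (1, 146, 11), (1, 144, 5), (2, 86, 2), (2, 115, 4), (1, 122, 3), (1, 122, 11), (2, 71, 7), (1, 125, 8), (2, 95, 4), (1, 78, 2), (2, 71, 5), (2, 165, 1), (1, 108, 3), (2, 102, 2), (2, 145, 4), (1, 125, 12), (2, 132, 13), (1, 200, 1), (1, 42, 0), (2, 92, 2), (1, 108, 1), (2, 183, 13), (1, 191, 2), (2, 163, 3), (1, 106, 9), (2, 118, 1), (2, 105, 4), (2, 152, 3), (2, 138, 11), (1, 182, 4), (1, 141, 4), (1, 182, 9), (2, 144, 1), (2, 159, 10), (1, 110, 3), (1, 44, 5), (2, 119, 1), (1, 135, 4), (2, 109, 10), (1, 155,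 7), (2, 154, 4), (2, 152, 5), (2, 108, 9), (2, 92, 12), (2, 146, 1), (1, 88, 4), (1, 155, 1), (2, 107, 12), (1, 118, 1), (2, 96, 1), (1, 135, 7), (1, 86, 0), (1, 112, 5), (2, 112, 7), (2, 87, 2), (2, 172, 1), (1, 137, 3), (1, 149, 2), (2, 147, 7), (1, 155, 11), (2, 157, 2), (2, 60, 9), (1, 75, 0), (2, 127, 0), (2, 146, 4), (1, 159, 5), (1, 101, 6), (1, 60, 2), (2, 109, 13), (1, 102, 11), (2, 63, 2), (2, 115, 5), (1, 105, 7), (1, 117, 10), (1, 115, 9), (1, 189, 11), (2, 105, 1), (1, 149, 11), (2, 195, 3), (1, 193, 2), (2, 161, 13), (1, 193, 3), (2, 156, 12), (1, 61, 3), (2, 84, 12), (1, 174, 5), (2, 145, 9), (1, 164, 10), (1, 75, 1), (2, 147, 13), (1, 123, 7), (2,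 102, 13), (1, 107, 6), (1, 148, 7), (1, 102, 13), (1, 175, 13), (1, 93, 13), (1, 140, 5), (2, 111, 13), (1, 112, 7), (1, 147, 1), (1, 118, 3), (1, 62, 11), (1, 158, 0), (1, 106, 11), (1, 103, 6), (1, 153, 5), (1, 118, 11), (1, 89, 3), (2, 89, 2), (2, 119, 6), (1, 161, 11), (2, 79, 0), (1, 124, 11), (1, 136, 0), (2, 92, 9), (2, 84, 9), (1, 90, 11), (2, 95, 9), (1, 75, 8), (2, 196, 1), (1, 85, 4), (1, 112, 11), (2, 182, 10), (1, 71, 8), (1, 88, 2), (1, 134, 13), (2, 62, 5), (1, 109, 7), (2, 119, 7), (1, 149, 14), (2, 47, 0), (2, 161, 2), (1, 131, 10), (2, 182, 6), (2, 64, 1), (1, 92, 3), (1, 107, 10), (1, 134, 10), (1, 84, 8), (1, 152, 3), (2, 79, 6), (1, 149, 13),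 (2, 129, 3), (1, 116, 6), (2, 86, 11), (2, 101, 3), (1, 173, 14), (1, 196, 13), (2, 109, 8), (1, 116, 9), (1, 148, 8), (2, 43, 5), (2, 135, 9), (1, 151, 9), (1, 159, 7), (2, 48, 8), (1, 159, 12), (2, 62, 9), (1, 124, 13), (1, 105, 5), (1, 103, 13), (2, 93, 3), (1, 148, 14), (1, 101, 0), (1, 147, 12), (1, 172, 14), (1, 103, 8), (1, 140, 11), (2, 164, 13), (1, 75, 10), (1, 100, 7), (1, 125, 5), (2, 147, 1), (2, 114, 5), (1, 63, 3), (1, 130, 9), (2, 131, 6), (1, 77, 8), (2, 97, 2), (1, 196, 11), (1, 92, 7), (2, 188, 3), (1, 188, 12), (1, 93, 7), (2, 93, 8), (1, 56, 8), (1, 113, 5), (1, 100, 10), (1, 164, 2), (1, 94, 8), (2, 172, 6), (2, 77, 0), (1, 180, 14), (2, 105,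 12), (2, 179, 7), (1, 129, 0), (2, 95, 11), (1, 147, 0), (2, 42, 3), (2, 89, 9), (2, 102, 4), (1, 109, 5), (1, 149, 4), (2, 161, 6), (1, 164, 7), (1, 197, 2), (2, 159, 0), (1, 167, 12), (1, 71, 0), (1, 154, 1), (1, 127, 8), (1, 138, 11), (1, 156, 7), (1, 194, 13), (2, 127, 8), (1, 107, 2), (2, 84, 10), (1, 152, 7), (1, 183, 5), (1, 181, 7), (1, 152, 6), (2, 85, 5), (1, 184, 6), (2, 135, 7), (2, 161, 11), (2, 107, 0), (1, 61, 11), (2, 84, 11), (2, 167, 9), (1, 153, 4), (2, 158, 6), (1, 105, 1), (2, 150, 7), (1, 64, 4), (1, 99, 4), (2, 153, 1), (2, 111, 12), (1, 141, 10), (2, 164, 14), (1, 130, 10), (1, 163, 1), (1, 182, 8), (2, 118, 7), (1, 114, 3), (1, 111, 4), (1,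 94, 3), (2, 136, 5), (2, 63, 6), (1, 76, 4), (1, 106, 13), (2, 147, 0), (1, 135, 0), (1, 146, 12), (1, 65, 8), (1, 141, 12), (2, 89, 8), (1, 191, 15), (2, 107, 11), (1, 158, 7), (1, 194, 1), (1, 200, 2), (1, 96, 2), (1, 107, 1), (2, 143, 5), (2, 127, 13), (2, 108, 11), (1, 100, 3), (1, 167, 11), (1, 108, 13), (1, 110, 5), (1, 127, 2), (1, 160, 6), (2, 112, 13), (1, 182, 7), (1, 91, 8), (2, 193, 1), (1, 163, 0), (1, 166, 14), (2, 107, 7), (2, 109, 9), (1, 120, 6), (2, 87, 0), (1, 129, 6), (2, 66, 10), (1, 90, 10), (2, 145, 7), (2, 108, 12), (1, 112, 6), (2, 135, 6), (1, 162, 14), (2, 85, 1), (1, 69, 11), (1, 108, 10), (1, 97, 0), (2, 152, 8), (2, 147, 2), (2, 159,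 1), (1, 88, 7), (1, 139, 12), (2, 84, 3), (1, 150, 9), (2, 162, 8), (1, 193, 15), (1, 97, 3), (1, 106, 6), (1, 114, 9), (2, 164, 8), (1, 48, 4), (1, 159, 13), (2, 152, 7), (2, 172, 3), (1, 129, 4), (1, 127, 12), (2, 47, 1), (1, 127, 5), (2, 85, 7), (1, 108, 0), (1, 137, 0), (2, 141, 2), (1, 186, 14), (1, 167, 1), (1, 92, 4), (1, 93, 1), (2, 159, 2), (2, 172, 2), (1, 174, 7), (1, 140, 2), (2, 149, 4), (1, 180, 0), (1, 124, 0), (2, 108, 13), (1, 93, 4), (2, 149, 5), (1, 105, 4), (2, 92, 7), (1, 152, 11), (2, 127, 4), (2, 175, 3), (1, 178, 7), (1, 190, 4), (1, 71, 9), (1, 139, 1), (2, 114, 4), (2, 141, 1), (2, 128, 10), (1, 93, 2), (2, 93, 7), (2, 163, 4), (1, 140, 10),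 (2, 138, 1), (1, 189, 8), (2, 143, 1), (1, 111, 3), (1, 163, 13), (1, 105, 13), (1, 109, 13), (2, 145, 6), (1, 156, 8), (1, 149, 6), (2, 109, 11), (2, 98, 1), (2, 181, 6), (2, 193, 2), (1, 101, 13), (1, 145, 10), (2, 167, 3), (1, 152, 12), (1, 158, 13), (1, 103, 9), (2, 93, 5), (1, 152, 4), (1, 98, 2), (1, 75, 11), (2, 182, 12), (2, 183, 4), (2, 108, 3), (1, 109, 8), (1, 127, 9), (2, 128, 4), (1, 131, 7), (1, 155, 6), (2, 134, 7), (1, 48, 0), (1, 167, 7), (1, 136, 4), (1, 137, 8), (2, 55, 8), (1, 198, 6), (2, 167, 0), (1, 70, 0), (1, 155, 3), (2, 127, 1), (1, 102, 1), (1, 133, 10), (2, 109, 1), (2, 84, 0), (1, 48, 1), (1, 183, 12), (1, 113, 10), (2, 138, 7), (1, 71,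 11), (1, 114, 8), (2, 143, 0), (2, 63, 9), (1, 151, 3), (1, 146, 3), (1, 172, 9), (2, 90, 2), (1, 167, 5), (2, 66, 7), (1, 143, 1), (1, 188, 11), (2, 109, 6), (2, 136, 6), (1, 139, 4), (1, 140, 8), (1, 92, 11), (2, 85, 11), (2, 101, 7), (1, 98, 3), (2, 145, 3), (1, 103, 0), (2, 196, 2), (2, 87, 8), (1, 125, 13), (2, 157, 1), (1, 114, 2), (2, 102, 10), (1, 127, 0), (1, 138, 5), (1, 71, 4), (1, 143, 6), (2, 188, 13), (2, 109, 4), (1, 110, 6), (1, 149, 5), (1, 130, 12), (2, 185, 2), (2, 164, 10), (1, 153, 8), (1, 148, 0), (1, 138, 8), (2, 60, 11), (1, 113, 0), (1, 198, 2), (1, 140, 1), (1, 113, 13), (2, 93, 9), (2, 146, 0), (2, 112, 2), (2, 120, 7), (1, 137, 10), (1,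 96, 11), (2, 153, 12), (1, 147, 9), (1, 133, 1), (1, 189, 3), (1, 110, 0), (1, 84, 11), (1, 132, 4), (2, 141, 6), (2, 86, 10), (1, 173, 9), (1, 56, 7), (1, 188, 3), (1, 126, 5), (1, 177, 2), (1, 160, 8), (2, 97, 13), (1, 160, 10), (2, 195, 9), (1, 193, 11), (1, 157, 14), (1, 152, 8), (2, 86, 0), (1, 100, 2), (2, 131, 7), (2, 114, 2), (2, 155, 0), (2, 118, 8), (1, 141, 13), (2, 167, 6), (2, 159, 11), (1, 145, 14), (2, 111, 11), (2, 144, 7), (1, 99, 3), (2, 120, 1), (2, 105, 11), (2, 145, 1), (2, 111, 5), (2, 134, 6), (2, 193, 11), (1, 110, 1), (1, 149, 12), (2, 86, 3), (2, 85, 12), (2, 145, 0), (1, 149, 3), (2, 163, 9), (1, 154, 2), (2, 151, 0), (1, 95, 0), (2, 186,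 9), (1, 113, 12), (2, 132, 4), (1, 120, 5), (1, 114, 7), (1, 65, 7), (2, 135, 8), (1, 163, 4), (1, 91, 9), (2, 167, 4), (2, 120, 0), (1, 133, 2), (1, 97, 7), (1, 106, 5), (1, 124, 6), (1, 138, 9), (2, 129, 5), (2, 152, 1), (2, 113, 2), (2, 119, 11), (2, 120, 13), (2, 88, 3), (2, 88, 12), (1, 117, 8), (1, 167, 13), (2, 162, 13), (1, 138, 7), (2, 150, 9), (2, 163, 12), (1, 168, 6), (1, 129, 2), (1, 132, 9), (1, 133, 6), (2, 131, 2), (2, 107, 9), (2, 111, 2), (1, 180, 1), (1, 191, 14), (2, 96, 2), (2, 112, 6), (2, 66, 1), (1, 174, 3), (2, 85, 9), (2, 147, 4), (1, 173, 4), (2, 172, 4), (2, 173, 12), (1, 147, 10), (2, 97, 0), (1, 160, 4), (1, 173, 10), (1, 90, 12), (1,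 189, 14), (2, 148, 0), (2, 162, 4), (1, 172, 8), (1, 57, 7), (1, 129, 9), (1, 191, 11), (1, 63, 2), (2, 66, 5), (1, 158, 14), (1, 149, 7), (1, 99, 1), (1, 97, 8), (1, 127, 4), (2, 105, 2), (2, 49, 4), (2, 102, 11), (2, 123, 2), (2, 79, 2), (2, 107, 13), (1, 122, 9), (2, 127, 7), (1, 117, 13), (1, 100, 0), (2, 71, 1), (1, 64, 3), (1, 106, 0), (1, 117, 7), (2, 181, 5), (1, 196, 10), (1, 148, 3), (2, 155, 7), (1, 137, 2), (2, 93, 1), (2, 87, 3), (1, 133, 8), (2, 173, 11), (1, 111, 7), (1, 180, 10), (1, 150, 1), (2, 128, 1), (1, 156, 4), (1, 64, 2), (2, 77, 4), (2, 157, 5), (1, 176, 8), (1, 120, 12), (2, 127, 12), (1, 140, 7), (1, 193, 1), (1, 131, 11), (1, 134, 0), (1,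 116, 10), (2, 136, 3), (1, 107, 0), (1, 132, 12), (2, 109, 5), (1, 101, 1), (1, 63, 0), (2, 98, 6), (2, 60, 8), (1, 166, 6), (1, 75, 5), (1, 130, 13), (1, 152, 2), (1, 61, 8), (1, 96, 9), (1, 105, 6), (2, 129, 1), (2, 63, 8), (1, 85, 11), (1, 196, 9), (2, 88, 4), (1, 154, 13), (2, 112, 10), (1, 94, 13), (2, 86, 5), (2, 147, 11), (2, 158, 14), (2, 129, 9), (2, 66, 11), (1, 101, 2), (2, 115, 2), (2, 183, 3), (1, 158, 10), (1, 190, 9), (1, 132, 6), (2, 128, 5), (2, 167, 1), (1, 101, 4), (1, 198, 1), (2, 163, 11), (1, 189, 2), (1, 128, 3), (2, 158, 4), (1, 115, 2), (2, 93, 12), (2, 118, 13), (2, 148, 1), (1, 183, 11), (2, 129, 12), (2, 144, 2), (2, 157, 4), (2, 63, 10),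 (2, 90, 9), (1, 117, 6), (1, 158, 8), (1, 198, 7), (1, 117, 1), (1, 122, 0), (1, 159, 2), (1, 87, 11), (2, 155, 3), (1, 166, 2), (2, 195, 12), (1, 106, 4), (2, 93, 6), (2, 86, 9), (2, 152, 9), (2, 66, 8), (1, 44, 4), (1, 148, 6), (2, 135, 13), (2, 193, 14), (1, 95, 12), (1, 61, 10), (2, 98, 12), (1, 119, 0), (1, 97, 10), (1, 179, 14), (1, 97, 4), (2, 157, 8), (1, 100, 11), (1, 201, 0), (1, 117, 5), (1, 115, 12), (2, 146, 8), (1, 63, 1), (2, 115, 7), (2, 105, 0), (2, 185, 4), (1, 148, 5), (1, 119, 1), (2, 152, 10), (1, 98, 8), (2, 49, 7), (1, 94, 12), (1, 109, 1), (1, 92, 0), (2, 179, 15), (1, 150, 8), (1, 181, 9), (2, 92, 11), (2, 146, 12)]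
def cn : List (ℕ × ℕ × ℕ) := [(1, 202, 0), (1, 203, 0), (1, 204, 0), (1, 205, 0), (1, 206, 0), (1, 207, 0), (1, 208, 0), (1, 21, 1), (1, 59, 8), (1, 62, 7), (1, 116, 7), (1, 46, 9), (0, 0, 0), (1, 16, 1), (1, 14, 1), (1, 90, 4), (2, 43, 0), (0, 0, 0), (1, 46, 6), (0, 0, 0), (1, 41, 0), (1, 22, 1), (1, 103, 3), (2, 90, 7), (1, 9, 0), (1, 40, 3), (1, 13, 1), (1, 33, 1), (1, 9, 1), (1, 98, 8), (1, 12, 1), (1, 18, 1), (2, 49, 1), (0, 0, 0), (0, 0, 0), (0, 0, 0), (0, 0, 0), (1, 40, 0), (1, 19, 1), (2, 96, 9), (2, 47, 0), (2, 55, 4), (0, 0, 0), (1, 8, 1), (1, 23, 1), (2, 119, 11), (2, 179, 9), (1, 15, 1), (1, 104, 3), (1, 43, 1), (1, 37, 1), (1, 96, 4), (2, 96, 8), (1,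 43, 6), (1, 76, 1), (1, 27, 1), (1, 87, 0), (2, 62, 4), (1, 56, 7), (1, 88, 8), (1, 16, 0), (1, 82, 0), (1, 46, 2), (1, 46, 0), (1, 115, 8), (2, 115, 1), (1, 46, 5), (1, 115, 4), (1, 115, 0), (1, 99, 7), (1, 36, 0), (1, 43, 8), (1, 35, 0), (1, 50, 1), (2, 50, 4), (1, 11, 0), (1, 163, 4), (2, 86, 3), (1, 65, 11), (2, 113, 7), (1, 14, 0), (2, 79, 5), (1, 73, 1), (1, 18, 0), (1, 67, 3), (1, 10, 1), (1, 52, 4), (1, 146, 11), (1, 12, 0), (1, 36, 3), (1, 29, 0), (1, 85, 6), (1, 109, 6), (1, 11, 1), (1, 187, 3), (1, 55, 8), (1, 41, 1), (1, 139, 9), (2, 128, 2), (1, 94, 4), (1, 55, 9), (2, 63, 2), (1, 115, 13), (1, 17, 1), (1, 69, 0), (1, 109, 3), (2, 128, 9), (2, 49, 7),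 (1, 89, 8), (1, 140, 4), (2, 85, 6), (1, 43, 0), (2, 167, 10), (1, 149, 12), (2, 87, 10), (2, 127, 8), (1, 91, 5), (1, 79, 11), (1, 68, 1), (2, 132, 11), (1, 78, 4), (1, 131, 5), (1, 22, 0), (1, 69, 10), (1, 54, 3), (1, 15, 0), (2, 49, 6), (1, 74, 0), (2, 127, 12)]
noncomputable def rT : Tr := (.node (.node (.node (.node (.node (.node rT0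
 rT1)
 (.node rT2
 rT3))
 (.node (.node rT4
 rT5)
 (.node rT6
 rT7)))
 (.node (.node (.node rT8
 rT9)
 (.node rT10
 rT11))
 (.node (.node rT12
 rT13)
 (.node rT14
 rT15))))
 (.node (.node (.node (.node rT16
 rT17)
 (.node rT18
 rT19))
 (.node (.node rT20
 rT21)
 (.node rT22
 rT23)))
 (.node (.node (.node rT24
 rT25)
 (.node rT26
 rT27))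
 (.node (.node rT28
 rT29)
 (.node rT30
 rT31)))))
 (.node (.node (.node (.node (.node rT32
 rT33)
 (.node rT34
 rT35))
 (.node (.node rT36
 rT37)
 (.node rT38
 rT39)))
 (.node (.node (.node rT40
 rT41)
 (.node rT42
 rT43))
 (.node (.node rT44
 rT45)
 (.leaf (nat_lit 0)))))
 (.leaf (nat_lit 0))))
noncomputable def gT : Tr := gT0
noncomputable def rC (i : ℕ) : ℕ := rT.get (nat_lit 2048) i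
noncomputable def gC (i : ℕ) : ℕ := gT.get (nat_lit 4) i
noncomputable def row (p : ℕ) : ℕ := rec2 rC (nat_lit 4) (nat_lit 15) (nat_lit 216) (nat_lit 0xffffffffffffffffffffffffffffffffffffffffffffffffffffff) p
noncomputable def gf (p : ℕ) : ℕ := rec2 gC (nat_lit 7) (nat_lit 127) (nat_lit 45) (nat_lit 0x1fffffffffff) p
noncomputable def gw (c : ℕ) : List ℕ := nth [] Wr c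
noncomputable def wn (c : ℕ) : ℕ := pack (nat_lit 5) (nth [] Wn c) (nat_lit 0)
noncomputable def C : Cert :=
  { n := (nat_lit 46575), na := (nat_lit 129), M := (nat_lit 513), nc := (nat_lit 8), W := (nat_lit 16), EB := (nat_lit 24),
    LB := (nat_lit 5), nreg := (nat_lit 1931), ivT := (nat_lit 0x56d3a464f835cb62548398a418820), base := (nat_lit 0x2aaa00),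
    row := row, gf := gf, gw := gw, wn := wn }
theorem masks : Masks C (nat_lit 65535) (nat_lit 0xffffff) (nat_lit 31) (nat_lit 37) (nat_lit 0x1fffffffff) :=
  ⟨by decide +kernel, by decide +kernel, by decide +kernel, by decide +kernel, by decide +kernel⟩
noncomputable def rchk : ℕ → ℕ → ℕ → Bool :=
  rowChk row gf gw (nat_lit 46575) (nat_lit 513) (nat_lit 8) (nat_lit 16) (nat_lit 65535) (nat_lit 24) (nat_lit 0xffffff) (nat_lit 5) (nat_lit 31) (nat_lit 37) (nat_lit 0x1fffffffff) (nat_lit 1931) (nat_lit 0x56d3a464f835cb62548398a418820) (nat_lit 10) (nat_lit 1023) (nat_lit 12) (nat_lit 4095)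
noncomputable def fchk : ℕ → ℕ → ℕ → Bool :=
  auxRun row gf wn (nat_lit 46575) (nat_lit 129) (nat_lit 513) (nat_lit 8) (nat_lit 16) (nat_lit 65535) (nat_lit 24) (nat_lit 0xffffff) (nat_lit 5) (nat_lit 31) (nat_lit 37) (nat_lit 0x56d3a464f835cb62548398a418820) (nat_lit 0x2aaa00) (nat_lit 11) (nat_lit 2047)
theorem rows_of {lo hi : ℕ} {t : JL} (h : t.run rchk (nat_lit 96) hi lo = true) : C.RowsOK lo hi :=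
  rowsOK_of_run masks h
theorem facts_of {lo hi : ℕ} {t : JL} (h : t.run fchk (nat_lit 20) hi lo = true) : C.FactsOK lo hi :=
  factsOK_of_run masks h
theorem words_ok : wordsChk 46575 8 16 5 1931 28176883932974165028840478934665248 2796032 R S Wr Wn cr cn = true := by
  decide +kernel

end Cfsg.Agent.H48.RecT2

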