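import Cfsg.Agent.H80.CpQuot
import Cfsg.Agent.H46.TKit
import Cfsg.Agent.H52.FStar
import Cfsg.Agent.S2040
import Cfsg.Agent.S2078
import Cfsg.Agent.H28.OutCard
import Cfsg.Agent.H44.ON45
import Cfsg.Agent.H47.J2Model

/-! S3093: the case division. -/

set_option autoImplicit false
open Subgroup

namespace Cfsg.Agent.H48.S93
open Cfsg.Agent.H46.S94

universe u

variable {G : Type u} [Group G] [Finite G]

theorem as_of (hF : IsSimpleGroup (generalizedFittingSubgroup G))
    (hF' : ¬ IsMulCommutative (generalizedFittingSubgroup G)) :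
    AS (generalizedFittingSubgroup G) := by
  refine ⟨H52.fstar_normal, hF, hF', eq_bot_iff.2 fun c hc => ?_⟩
  rcases (inferInstance : (center (generalizedFittingSubgroup G)).Normal).eq_bot_or_eq_top
    with h | h
  · have : (⟨c, H52.centralizer_fstar_le hc⟩ : generalizedFittingSubgroup G) ∈ center _ :=
      Subgroup.mem_center_iff.2 fun g => Subtype.ext (hc g g.2)
    rw [h, mem_bot] at this
    exact congrArg Subtype.val this
  · exact (hF' ⟨⟨fun a b => Subgroup.mem_center_iff.1 (h ▸ mem_top b) a⟩⟩).elim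

omit [Finite G] in
theorem isoJ2 {K : Subgroup G} (hK : IsQuasisimple K) (e : Spor.IsoJ2 (K ⧸ center K))
    (ho : ¬ Even (Nat.card (center K))) : Spor.IsoJ2 K := by
  obtain ⟨e⟩ := e
  have := hK.1
  have h := H80.CpQ.center_dvd e S2040.result
  rw [Nat.card_eq_fintype_card (α := Multiplicative (ZMod 2)), Fintype.card_multiplicative,
    ZMod.card] at h
  rcases (Nat.dvd_prime Nat.prime_two).1 h with k | k
  · exact ⟨((QuotientGroup.quotientBot.symm.trans
      (QuotientGroup.quotientMulEquivOfEq (card_eq_one.1 k).symm))).trans e⟩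
  · exact (ho (k ▸ even_two)).elim

omit [Finite G] in
theorem notON {F K : Subgroup G} (hF : AS F) (e : Spor.IsoJ2 K) : ¬ Spor.IsoON F := by
  rintro ⟨i⟩
  obtain ⟨e⟩ := e
  have := hF.normal
  have k : Function.Injective (MulAut.conjNormal (H := F)) :=
    (injective_iff_map_eq_one _).2 fun g hg => mem_bot.1 (hF.cent.le fun x hx => by
      have := congrArg Subtype.val (DFunLike.congr_fun hg ⟨x, hx⟩)
      rw [MulAut.conjNormal_apply] at this
      exact (mul_inv_eq_iff_eq_mul.1 this).symm)
  have h := (card_subgroup_dvd_card K).trans (card_dvd_of_injective _ k)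
  rw [Nat.card_congr e.toEquiv, H47.card_J2, Nat.card_congr (MulAut.congr i).toEquiv,
    H28.card_mulAut_of_center H44.ON45.center_ON, S2078.result, H44.ONM.card] at h
  exact absurd h (by norm_num)

omit [Finite G] in
theorem fin {P : Prop} {K : Subgroup G} (hK : IsQuasisimple K)
    (m : Spor.IsoM12 (K ⧸ center K) → P) (j : Spor.IsoJ2 K → P)
    (c : Spor.IsoCo3 (K ⧸ center K) → False)
    (ev : Spor.IsoJ2 (K ⧸ center K) ∨ Spor.IsoSuz (K ⧸ center K) → Even (Nat.card (center K)) →
      False)
    (od : Spor.IsoSuz (K ⧸ center K) → Odd (Nat.card (center K)) → False)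
    (h : Spor.IsoM12 (K ⧸ center K) ∨ Spor.IsoJ2 (K ⧸ center K) ∨ Spor.IsoCo3 (K ⧸ center K) ∨
      Spor.IsoSuz (K ⧸ center K)) : P := by
  rcases h with h | h | h | h
  · exact m h
  · exact j (isoJ2 hK h (ev (Or.inl h)))
  · exact (c h).elim
  · exact (od h (Nat.not_even_iff_odd.1 (ev (Or.inr h)))).elim

end Cfsg.Agent.H48.S93
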